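import Mathlib
import Cfsg.Agent.F4Q.Defs
import Cfsg.Agent.F42S.Rig

/-! Normal forms for a family with the relations `Rel` (blueprint for `q = 2`: `F42S/Bas`, `UU_*`).
All root facts by `decide +kernel` on the tables. -/

set_option autoImplicit false

namespace Cfsg.Agent.F4Q

open Cfsg.Lie Cfsg.Agent.Chev Subgroup Cfsg.Agent.PLocal.Amb
open Cfsg.Agent.F42S (lg ip ad gm sm sr Mo aw)
open Cfsg.Agent.FinS (Rt Rg Uf)
open scoped commutatorElement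


variable {E : Type*} [CommRing E] {G : Type*} [Group G] {ρ : E ≃+* E} {Y : ℕ → E → G}

/-- the ordered product -/
def pr (Y : ℕ → E → G) (l : List ℕ) (c : ℕ → E) : G := (l.map fun r => Y r (c r)).prod

/-- `S` is closed under sums with elements of `T` -/
def Idl (T S : Set ℕ) : Prop := ∀ r ∈ T, ∀ s ∈ S, r < 48 ∧ s < 48 ∧ s ≠ 47 - r ∧ (ad r s < 48 → ad r s ∈ S)

/-- the same when orthogonal short roots commute (`ρ = 1`) -/
def Idl0 (T S : Set ℕ) : Prop :=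
  ∀ r ∈ T, ∀ s ∈ S, r < 48 ∧ s < 48 ∧ s ≠ 47 - r ∧ ∀ k ∈ F42S.cm r s, k ∈ S

/-- the commutator of `X_r`, `X_s` has a nonzero component in `X_{r+s}` for every `ρ` -/
def Nz (r s : ℕ) : Prop := ad r s < 48 ∧ ¬ (lg r = false ∧ lg s = false ∧ ip r s = 8)

instance (r s : ℕ) : Decidable (Nz r s) := inferInstanceAs (Decidable (_ ∧ _))

/-- the Weyl word -/
def ww (Y : ℕ → E → G) (w : List ℕ) : G := (w.map fun i => nY Y (sm i)).prod

/-- its action on the parameters -/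
def tp (ρ : E ≃+* E) (w : List ℕ) (e : E) : E := if w.countP (· < 2) % 2 = 1 then ρ e else e

/-- the second root in the commutator of root groups of different lengths -/
def k2 (r s : ℕ) : ℕ := ad (ad r s) (if lg r then s else r)

set_option synthInstance.maxSize 4000 in
theorem nf_t0 : ∀ r < 48, ∀ s < 48, s ≠ 47 - r → ¬ ad r s < 48 →
    Mo r s ∨ (lg r = true ∧ lg s = true ∧ ip r s = 8) := by decide +kernel

set_option synthInstance.maxSize 4000 in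
theorem nf_t1 : ∀ r < 48, ∀ s < 48, ad r s < 48 → ad s r = ad r s ∧ ip s r = ip r s ∧
    ((lg r = false ∧ lg s = false ∧ ip r s = 8 ∧ lg (ad r s) = true) ∨
    (lg r = false ∧ lg s = false ∧ ip r s = 6 ∧ lg (ad r s) = false) ∨
    (lg r = true ∧ lg s = true ∧ ip r s = 4) ∨
    (lg r ≠ lg s ∧ ip r s = 4 ∧ lg (ad r s) = false ∧ k2 r s < 48 ∧ Mo (ad r s) (k2 r s))) := by
  decide +kernel

set_option synthInstance.maxSize 4000 in
theorem nf_t2 : ∀ r < 48, ∀ s < 48, (Nz r s → ad r s ∈ F42S.cm r s) ∧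
    (ad r s < 48 → lg r ≠ lg s → k2 r s ∈ F42S.cm r s) ∧ (24 ≤ r → 24 ≤ s → r < ad r s ∧ s < ad r s ∧
      (ad r s < 48 → ad r s < k2 r s) ∧ ∀ k < 48, r < k → ad r s < 48 → ad r s < ad k s) ∧
    ∀ k ∈ F42S.cm r s, s ≠ 47 - r → ad r s < 48 ∧ k < 48 ∧ (k = ad r s ∨ k = ad r (ad r s) ∨ k = ad s (ad r s)) := by
  decide +kernel

set_option synthInstance.maxSize 4000 in
theorem nf_t3 : ∀ r < 47, 24 ≤ r → r ≠ 44 → ∃ s < 48, 24 ≤ s ∧ Nz r s := by decide +kernel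

set_option synthInstance.maxSize 4000 in
theorem nf_t4 : ∀ r < 24, r ≠ 0 → r ≠ 3 → ∃ s < 48, 24 ≤ s ∧ Nz r s ∧ 24 ≤ ad r s ∧ ad r s ≤ s ∧
    s ≠ 47 - r ∧ (lg r ≠ lg s → ad r s < k2 r s) := by decide +kernel

set_option synthInstance.maxSize 4000 in
theorem nf_t5 : ∀ i < 4, 24 ≤ sm i ∧ sr i (sm i) = 47 - sm i ∧ ∀ r < 48, 24 ≤ r →
    (r ≠ sm i → 24 ≤ sr i r) ∧ ∀ s < 48, 24 ≤ s → ad r s ≠ sm i := by decide +kernel

set_option synthInstance.maxSize 4000 in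
theorem nf_t6 : ∀ r < 48, ∃ a < 48, ∃ b < 48, lg a = lg r ∧ lg b = lg r ∧
    ip a b = (if lg r then 4 else 6) ∧ ad a b = r := by decide +kernel

theorem nf_norm_of {a : G} (aa : a * a = 1) {T : Set G} (h : ∀ b ∈ T, a * b * a⁻¹ ∈ closure T) :
    a ∈ 𝐍[closure T] := by
  have k : cj(a, closure T) ≤ closure T := map_le_iff_le_comap.2 ((closure_le _).2 h)
  refine cj_eq_iff.1 (le_antisymm k ?_)
  rw [le_cj_iff, inv_eq_of_mul_eq_one_right aa]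
  exact k

theorem idl_up {T : Set ℕ} {k : ℕ} (hT : ∀ r ∈ T, 24 ≤ r ∧ r < 48) (hk : 24 ≤ k) :
    Idl T {r | k ≤ r ∧ r < 48} := fun r hr s hs => by
  obtain ⟨h1, h2⟩ := hT r hr
  obtain ⟨h3, h4⟩ := hs
  exact ⟨h2, h4, by omega, fun h5 => ⟨h3.trans ((F4Q.nf_t2 r h2 s h4).2.2.1 h1 (by omega)).2.1.le, h5⟩⟩

theorem idl_cm {T S S' : Set ℕ} (h1 : Idl T S') (h2 : Idl S S') {r s : ℕ} (hr : r ∈ T) (hs : s ∈ S)
    (h4 : r < 48 ∧ s < 48 ∧ s ≠ 47 - r ∧ (ad r s < 48 → ad r s ∈ S')) : ∀ k ∈ F42S.cm r s, k ∈ S' := by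
  intro k hk
  obtain ⟨a, b, c⟩ := (nf_t2 r h4.1 s h4.2.1).2.2.2 k hk h4.2.2.1
  rcases c with rfl | rfl | rfl
  · exact h4.2.2.2 a
  · exact (h1 r hr _ (h4.2.2.2 a)).2.2.2 b
  · exact (h2 s hs _ (h4.2.2.2 a)).2.2.2 b

theorem pr_cons (Y : ℕ → E → G) (a : ℕ) (l : List ℕ) (c : ℕ → E) :
    pr Y (a :: l) c = Y a (c a) * pr Y l c := by simp [pr]

theorem ww_cons (Y : ℕ → E → G) (a : ℕ) (l : List ℕ) : ww Y (a :: l) = nY Y (sm a) * ww Y l := by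
  simp [ww]

theorem tp_cons (hρ : ∀ e, ρ (ρ e) = e) (i : ℕ) (w : List ℕ) (e : E) :
    tp ρ (i :: w) e = if i < 2 then ρ (tp ρ w e) else tp ρ w e := by
  simp only [tp, List.countP_cons, decide_eq_true_eq]
  split_ifs <;> first | rfl | exact (hρ e).symm | omega

theorem ok_tp {r s : ℕ} (h : lg s = lg r) (w : List ℕ) {e : E} (he : Ok ρ r e) : Ok ρ s (tp ρ w e) :=
  fun k => by
    have := he (h ▸ k)
    unfold tp
    split_ifs <;> simp only [this]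

theorem tp_tp (hρ : ∀ e, ρ (ρ e) = e) (w : List ℕ) (e : E) : tp ρ w (tp ρ w e) = e := by
  unfold tp
  split_ifs
  · exact hρ e
  · rfl

theorem mem_YS {S : Set ℕ} {r : ℕ} (hr : r ∈ S) {e : E} (he : Ok ρ r e) : Y r e ∈ YS ρ Y S := subset_closure ⟨r, hr, e, he, rfl⟩
theorem YS_le {S : Set ℕ} {H : Subgroup G} :
    YS ρ Y S ≤ H ↔ ∀ r ∈ S, ∀ e, Ok ρ r e → Y r e ∈ H := by
  rw [YS, closure_le]
  exact ⟨fun h r hr e he => h ⟨r, hr, e, he, rfl⟩, by rintro h _ ⟨r, hr, e, he, rfl⟩; exact h r hr e he⟩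
theorem YS_mono {S T : Set ℕ} (h : S ⊆ T) : YS ρ Y S ≤ YS ρ Y T := YS_le.2 fun _ hr _ he => mem_YS (h hr) he
theorem YS_union (S T : Set ℕ) : YS ρ Y (S ∪ T) = YS ρ Y S ⊔ YS ρ Y T := le_antisymm
  (YS_le.2 fun _ hr _ he => hr.elim (fun k => mem_sup_left (mem_YS k he)) fun k => mem_sup_right (mem_YS k he))
  (sup_le (YS_mono Set.subset_union_left) (YS_mono Set.subset_union_right))
theorem mem_SK {k r : ℕ} (h1 : k ≤ r) (h2 : r < 48) {e : E} (he : Ok ρ r e) : Y r e ∈ SK ρ Y k := mem_YS (And.intro h1 h2) he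
theorem SK_mono {k m : ℕ} (h : k ≤ m) : SK ρ Y m ≤ SK ρ Y k := YS_mono fun _ hr => And.intro (h.trans hr.1) hr.2
theorem SK_top {k : ℕ} (h : 48 ≤ k) : SK ρ Y k = ⊥ := eq_bot_iff.2 (YS_le.2 fun r hr => absurd (h.trans hr.1) (not_le.2 hr.2))
theorem YS_comm {S : Set ℕ} {g a : G} (h : ∀ r ∈ S, ∀ e, Ok ρ r e → Commute a (Y r e))
    (hg : g ∈ YS ρ Y S) : Commute a g :=
  (mem_centralizer_singleton_iff.1 (YS_le (H := centralizer {a}).2
    (fun r hr e he => mem_centralizer_singleton_iff.2 (h r hr e he).symm) hg)).symm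
theorem ok_one (r : ℕ) : Ok ρ r 1 := fun _ => map_one ρ
theorem ok_zero (r : ℕ) : Ok ρ r 0 := fun _ => map_zero ρ
theorem ok_short {r : ℕ} (h : lg r = false) (e : E) : Ok ρ r e := fun k => by simp [h] at k
theorem ok_refl (r : ℕ) (e : E) : Ok (RingEquiv.refl E) r e := fun _ => rfl
theorem Ty.ok {r : ℕ} {e : E} (h : Ty ρ r e) : Ok ρ r e := h.2.1
theorem YS_map {G' : Type*} [Group G'] (f : G →* G') (S : Set ℕ) :
    (YS ρ Y S).map f = YS ρ (fun r e => f (Y r e)) S := by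
  rw [YS, YS, MonoidHom.map_closure]
  congr 1
  ext g
  exact ⟨by rintro ⟨_, ⟨r, hr, e, he, rfl⟩, rfl⟩; exact ⟨r, hr, e, he, rfl⟩,
    by rintro ⟨r, hr, e, he, rfl⟩; exact ⟨_, ⟨r, hr, e, he, rfl⟩, rfl⟩⟩
theorem Rel.map (h : Rel ρ Y) {G' : Type*} [Group G'] (f : G →* G') (hf : Function.Injective f) :
    Rel ρ fun r e => f (Y r e) :=
  ⟨h.two, h.ρρ, fun r hr e e' a b => by rw [← map_mul, h.add r hr e e' a b],
    fun r hr e a b => h.inj r hr e a (hf (b.trans (map_one f).symm)),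
    fun r hr s hs a e e' b c => (h.com r hr s hs a e e' b c).map f,
    fun r hr s hs a b c e e' d d' => (h.ll r hr s hs a b c e e' d d').map f,
    fun r hr s hs a b c e e' => by simpa only [map_mul] using congrArg f (h.c90 r hr s hs a b c e e'),
    fun r hr s hs a b c e e' => by simpa only [map_mul] using congrArg f (h.cs r hr s hs a b c e e'),
    fun r hr s hs a b c e e' d d' => by simpa only [map_mul] using congrArg f (h.cl r hr s hs a b c e e' d d'),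
    fun r hr s hs a b c e e' d => by simpa only [map_mul] using congrArg f (h.cm r hr s hs a b c e e' d),
    fun i hi r hr e he => by simpa only [nY, map_mul, map_inv] using congrArg f (h.wn i hi r hr e he)⟩

namespace Rel
variable (h : Rel ρ Y)
include h

theorem zero {r : ℕ} (hr : r < 48) : Y r 0 = 1 := by
  have := h.add r hr 0 0 (ok_zero r) (ok_zero r)
  rwa [add_zero, mul_eq_left] at this
theorem sq {r : ℕ} (hr : r < 48) {e : E} (he : Ok ρ r e) : Y r e * Y r e = 1 := by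
  rw [h.add r hr e e he he, h.two, h.zero hr]
theorem inv {r : ℕ} (hr : r < 48) {e : E} (he : Ok ρ r e) : (Y r e)⁻¹ = Y r e :=
  inv_eq_of_mul_eq_one_right (h.sq hr he)
omit h in
theorem ok_add {r : ℕ} {e f : E} (he : Ok ρ r e) (hf : Ok ρ r f) : Ok ρ r (e + f) := fun k => by
  rw [map_add, he k, hf k]
theorem eq_of_add {e f : E} (h1 : e + f = 0) : e = f := by
  rw [← add_zero e, ← h.two f, ← add_assoc, h1, zero_add]
theorem eq {r : ℕ} (hr : r < 48) {e f : E} (he : Ok ρ r e) (hf : Ok ρ r f) (h1 : Y r e = Y r f) :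
    e = f :=
  h.eq_of_add (h.inj r hr _ (ok_add he hf) (by rw [← h.add r hr e f he hf, h1, h.sq hr hf]))
theorem mem_one {r : ℕ} (hr : r < 48) {g : G} : g ∈ YS ρ Y {r} ↔ ∃ e, Ok ρ r e ∧ g = Y r e := by
  refine ⟨fun hg => ?_, by rintro ⟨e, he, rfl⟩; exact mem_YS (Set.mem_singleton r) he⟩
  induction hg using closure_induction with
  | mem g hg =>
    obtain ⟨s, rfl, e, he, rfl⟩ := hg
    exact ⟨e, he, rfl⟩
  | one => exact ⟨0, ok_zero r, (h.zero hr).symm⟩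
  | mul a b _ _ h1 h2 =>
    obtain ⟨e, he, rfl⟩ := h1
    obtain ⟨f, hf, rfl⟩ := h2
    exact ⟨_, ok_add he hf, h.add r hr e f he hf⟩
  | inv a _ h1 =>
    obtain ⟨e, he, rfl⟩ := h1
    exact ⟨e, he, h.inv hr he⟩
theorem mem_A {g : G} : g ∈ SK ρ Y 47 ↔ ∃ e, ρ e = e ∧ g = Y 47 e := by
  rw [SK, show {r | 47 ≤ r ∧ r < 48} = {47} by ext; simp only [Set.mem_setOf_eq, Set.mem_singleton_iff]; omega,
    h.mem_one (by omega)]
  exact exists_congr fun e => and_congr_left' ⟨fun k => k (by decide +kernel), fun k _ => k⟩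
/-- roots whose sum is not a root commute -/
theorem comm {r s : ℕ} (hr : r < 48) (hs : s < 48) (n : s ≠ 47 - r) (h1 : ¬ ad r s < 48) {e f : E}
    (he : Ok ρ r e) (hf : Ok ρ s f) : Commute (Y r e) (Y s f) :=
  (nf_t0 r hr s hs n h1).elim (fun k => h.com r hr s hs k e f he hf) fun k =>
    h.ll r hr s hs k.1 k.2.1 k.2.2 e f (he k.1) (hf k.2.1)
/-- the commutator formula -/
theorem cf {r s : ℕ} (hr : r < 48) (hs : s < 48) (h1 : ad r s < 48) {e f : E} (he : Ok ρ r e)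
    (hf : Ok ρ s f) : ∃ a w, Ok ρ (ad r s) a ∧ ⁅Y r e, Y s f⁆ = Y (ad r s) a * w ∧
      (w = 1 ∨ lg r ≠ lg s ∧ k2 r s < 48 ∧ ∃ b, Ok ρ (k2 r s) b ∧ w = Y (k2 r s) b) ∧
      (Nz r s → f = 1 → a = 0 → e = 0) ∧ (¬ Nz r s → (∀ e, ρ e = e) → a = 0) := by
  have q : ∀ {u}, Y s f * Y r e = Y r e * Y s f * u → ⁅Y r e, Y s f⁆ = u⁻¹ := fun {u} k => by
    rw [commutatorElement_def, h.inv hr he, h.inv hs hf, eq_inv_iff_mul_eq_one, mul_assoc (Y r e * Y s f),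
      mul_assoc, ← k, mul_assoc, ← mul_assoc (Y s f), h.sq hs hf, one_mul, h.sq hr he]
  obtain ⟨t1, t2, t | t | t | t⟩ := nf_t1 r hr s hs h1
  · have o : Ok ρ (ad r s) (e * ρ f + ρ e * f) := fun _ => by
      rw [map_add, map_mul, map_mul, h.ρρ, h.ρρ, add_comm]
    refine ⟨_, 1, o, by rw [q (h.c90 r hr s hs t.1 t.2.1 t.2.2.1 e f), h.inv h1 o, mul_one], .inl rfl,
      fun k => absurd ⟨t.1, t.2.1, t.2.2.1⟩ k.2, fun _ k => by rw [k, k, h.two]⟩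
  · have o : Ok ρ (ad r s) (ρ (e * f)) := ok_short t.2.2.2 _
    exact ⟨_, 1, o, by rw [q (h.cs r hr s hs t.1 t.2.1 t.2.2.1 e f), h.inv h1 o, mul_one], .inl rfl,
      fun _ k k' => by simpa [k] using k', fun k => absurd ⟨h1, fun k' => by omega⟩ k⟩
  · have o : Ok ρ (ad r s) (e * f) := fun _ => by rw [map_mul, he t.1, hf t.2.1]
    exact ⟨_, 1, o, by rw [q (h.cl r hr s hs t.1 t.2.1 t.2.2 e f (he t.1) (hf t.2.1)), h.inv h1 o, mul_one],
      .inl rfl, fun _ k k' => by simpa [k] using k', fun k => absurd ⟨h1, fun k' => by omega⟩ k⟩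
  obtain ⟨t3, t4, t5, t6, t7⟩ := t
  cases hl : lg r
  · have hl' : lg s = true := by simpa [hl] using t3.symm
    have e1 : k2 r s = ad (ad r s) r := by simp [k2, hl]
    have o : Ok ρ (k2 r s) (f * (e * ρ e)) := fun _ => by rw [map_mul, map_mul, hf hl', h.ρρ, mul_comm (ρ e)]
    have c := h.cm s hs r hr hl' hl (t2.trans t4) f e (hf hl')
    rw [t1, ← e1] at c
    refine ⟨f * e, _, ok_short t5 _, ?_, .inr ⟨by simp [hl'], t6, _, o, rfl⟩, fun _ k k' => by simpa [k] using k',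
      fun k => absurd ⟨h1, fun k' => by omega⟩ k⟩
    rw [commutatorElement_def, h.inv hr he, h.inv hs hf, mul_assoc (Y r e * Y s f)]
    nth_rw 2 [c]
    rw [← mul_assoc, mul_assoc (Y r e), ← mul_assoc (Y s f), h.sq hs hf, one_mul, h.sq hr he, one_mul]
  · have hl' : lg s = false := by simpa [hl] using t3.symm
    have e1 : k2 r s = ad (ad r s) s := by simp [k2, hl]
    have o : Ok ρ (k2 r s) (e * (f * ρ f)) := fun _ => by rw [map_mul, map_mul, he hl, h.ρρ, mul_comm (ρ f)]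
    have c := h.cm r hr s hs hl hl' t4 e f (he hl)
    rw [← e1] at c
    refine ⟨e * f, _, ok_short t5 _, ?_, .inr ⟨by simp [hl'], t6, _, o, rfl⟩, fun _ k k' => by simpa [k] using k',
      fun k => absurd ⟨h1, fun k' => by omega⟩ k⟩
    rw [q c, mul_inv_rev, h.inv t6 o, h.inv h1 (ok_short t5 _), h.com _ h1 _ t6 t7 _ _ (ok_short t5 _) o]
/-- ... and orthogonal short roots if `ρ = 1` -/
theorem comm0 (h0 : ∀ e, ρ e = e) {r s : ℕ} (hr : r < 48) (hs : s < 48) (n : s ≠ 47 - r)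
    (h1 : ¬ Nz r s) (e f : E) : Commute (Y r e) (Y s f) := by
  have he : Ok ρ r e := fun _ => h0 e
  have hf : Ok ρ s f := fun _ => h0 f
  by_cases h2 : ad r s < 48
  · obtain ⟨a, w, -, e1, k | k, -, e2⟩ := h.cf hr hs h2 he hf
    · rw [← commutatorElement_eq_one_iff_commute, e1, k, e2 h1 h0, h.zero h2, mul_one]
    · exact absurd ⟨h2, fun k' => k.1 (k'.1.trans k'.2.1.symm)⟩ h1
  · exact h.comm hr hs n h2 he hf
/-- `cm` with the roles exchanged -/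
theorem cm' {r s : ℕ} (hr : r < 48) (hs : s < 48) (h1 : lg r = true) (h2 : lg s = false)
    (h3 : ip r s = 4) {c : E} (hc : ρ c = c) (f : E) :
    Y r c * Y s f * Y r c = Y s f * (Y (ad r s) (c * f) * Y (ad (ad r s) s) (c * (f * ρ f))) := by
  rw [mul_assoc, h.cm r hr s hs h1 h2 h3 c f hc, ← mul_assoc (Y r c), ← mul_assoc (Y r c),
    h.sq hr fun _ => hc, one_mul]
theorem cmem {H : Subgroup G} {r s : ℕ} (hr : r < 48) (hs : s < 48) (n : s ≠ 47 - r) {e f : E}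
    (he : Ok ρ r e) (hf : Ok ρ s f) (h1 : ∀ k ∈ F42S.cm r s, ∀ c, Ok ρ k c → Y k c ∈ H)
    (h2 : (∀ e, ρ e = e) ∨ (ad r s < 48 → ∀ c, Ok ρ (ad r s) c → Y (ad r s) c ∈ H)) :
    ⁅Y r e, Y s f⁆ ∈ H := by
  by_cases h3 : ad r s < 48
  swap
  · rw [commutatorElement_eq_one_iff_commute.2 (h.comm hr hs n h3 he hf)]; exact one_mem H
  obtain ⟨a, w, o, e1, k, -, e2⟩ := h.cf hr hs h3 he hf
  have t := nf_t2 r hr s hs
  refine e1 ▸ mul_mem ?_ ?_
  · by_cases z : Nz r s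
    · exact h1 _ (t.1 z) a o
    · rcases h2 with h2 | h2
      · rw [e2 z h2, h.zero h3]; exact one_mem H
      · exact h2 h3 a o
  · obtain rfl | ⟨k1, -, b, k2, rfl⟩ := k
    · exact one_mem H
    · exact h1 _ (t.2.1 h3 k1) b k2
theorem norm_of {T S : Set ℕ} (h1 : ∀ r ∈ T, ∀ s ∈ S, r < 48 ∧ ∀ e f, Ok ρ r e → Ok ρ s f →
    ⁅Y r e, Y s f⁆ ∈ YS ρ Y S) : YS ρ Y T ≤ 𝐍[YS ρ Y S] := YS_le.2 fun r hr e he => by
  rcases S.eq_empty_or_nonempty with rfl | ⟨s, hs⟩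
  · rw [show YS ρ Y ∅ = ⊥ from eq_bot_iff.2 (YS_le.2 fun _ k => k.elim), ← cj_eq_iff, cj_bot]
  refine nf_norm_of (h.sq (h1 r hr s hs).1 he) ?_
  rintro _ ⟨s, hs, f, hf, rfl⟩
  have := mul_mem ((h1 r hr s hs).2 e f he hf) (mem_YS hs hf)
  rwa [commutatorElement_def, inv_mul_cancel_right] at this
theorem norm {T S : Set ℕ} (h1 : Idl T S) (h2 : Idl S S) : YS ρ Y T ≤ 𝐍[YS ρ Y S] :=
  h.norm_of fun r hr s hs => have k := h1 r hr s hs; ⟨k.1, fun _ _ he hf => h.cmem k.1 k.2.1 k.2.2.1 he hf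
    (fun a ha _ => mem_YS (idl_cm h1 h2 hr hs k a ha)) (.inr fun a _ => mem_YS (k.2.2.2 a))⟩
theorem norm0 (h0 : ∀ e, ρ e = e) {T S : Set ℕ} (h1 : Idl0 T S) (h2 : Idl0 S S) :
    YS ρ Y T ≤ 𝐍[YS ρ Y S] :=
  h.norm_of fun r hr s hs => have k := h1 r hr s hs; ⟨k.1, fun _ _ he hf => h.cmem k.1 k.2.1 k.2.2.1 he hf
    (fun a ha _ => mem_YS (k.2.2.2 a ha)) (.inl h0)⟩
/-- if `S'` contains all `i r + j s` (`r ∈ T`, `s ∈ S`) and is normalized by both groups -/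
theorem comm_le {T S S' : Set ℕ} (h1 : Idl T S') (h2 : Idl S S') (h3 : Idl S' S')
    (h4 : ∀ r ∈ T, ∀ s ∈ S, r < 48 ∧ s < 48 ∧ s ≠ 47 - r ∧ (ad r s < 48 → ad r s ∈ S')) :
    ⁅YS ρ Y T, YS ρ Y S⁆ ≤ YS ρ Y S' := by
  refine commutator_le.2 fun a ha b hb => F42S.comm_mem (K := 𝐍[YS ρ Y S']) le_rfl
    ((closure_le _).1 (h.norm h1 h3)) ((closure_le _).1 (h.norm h2 h3)) ?_ ha hb
  rintro _ ⟨r, hr, e, he, rfl⟩ _ ⟨s, hs, f, hf, rfl⟩
  have k := h4 r hr s hs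
  exact h.cmem k.1 k.2.1 k.2.2.1 he hf (fun a ha _ => mem_YS (idl_cm h1 h2 hr hs k a ha))
    (.inr fun a _ => mem_YS (k.2.2.2 a))
theorem SK_norm {k : ℕ} (hk : 24 ≤ k) : SK ρ Y 24 ≤ 𝐍[SK ρ Y k] :=
  h.norm (idl_up (fun _ k => k) hk) (idl_up (fun _ a => ⟨hk.trans a.1, a.2⟩) hk)
theorem SK_comm {k : ℕ} (hk : 24 ≤ k) : ⁅SK ρ Y 24, SK ρ Y k⁆ ≤ SK ρ Y (k + 1) :=
  h.comm_le (idl_up (fun _ k => k) (by omega)) (idl_up (fun _ a => ⟨hk.trans a.1, a.2⟩) (by omega))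
    (idl_up (fun _ a => ⟨by have := a.1; omega, a.2⟩) (by omega)) fun r hr s hs => by
      obtain ⟨h1, h2⟩ := hr
      obtain ⟨h3, h4⟩ := hs
      have := ((nf_t2 r h2 s h4).2.2.1 h1 (by omega)).2.1
      exact ⟨h2, h4, by omega, fun h5 => ⟨by omega, h5⟩⟩
theorem step {S S' : Set ℕ} {k : ℕ} (hk : k < 48) (h1 : S ⊆ {k} ∪ S')
    (hn : YS ρ Y {k} ≤ 𝐍[YS ρ Y S']) {g : G} (hg : g ∈ YS ρ Y S) : ∃ e, Ok ρ k e ∧ Y k e * g ∈ YS ρ Y S' := by
  have := YS_mono h1 hg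
  rw [YS_union, mem_sup_of_le_normalizer_right hn] at this
  obtain ⟨a, ha, b, hb, rfl⟩ := this
  obtain ⟨e, he, rfl⟩ := (h.mem_one hk).1 ha
  exact ⟨e, he, by rwa [← mul_assoc, h.sq hk he, one_mul]⟩
theorem SK_step {k : ℕ} (hk : 24 ≤ k) (hk' : k < 48) {g : G} (hg : g ∈ SK ρ Y k) :
    ∃ e, Ok ρ k e ∧ Y k e * g ∈ SK ρ Y (k + 1) :=
  h.step hk' (fun r hr => hr.1.eq_or_lt.imp Eq.symm fun a => ⟨a, hr.2⟩)
    ((YS_mono (by rintro _ rfl; exact ⟨hk, hk'⟩)).trans (h.SK_norm (by omega))) hg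
theorem two_SK : IsPGroup 2 (SK ρ Y 24) := by
  have key : ∀ n, ∀ g ∈ SK ρ Y 24, g ^ 2 ^ n ∈ SK ρ Y (24 + n) := fun n g hg => by
    induction n with
    | zero => simpa using hg
    | succ n ih =>
      by_cases hn : 24 + n < 48
      swap
      · rw [SK_top (not_lt.1 hn), mem_bot] at ih
        rw [pow_succ, pow_mul, ih, one_pow]; exact one_mem _
      obtain ⟨e, he, k⟩ := h.SK_step (by omega) hn ih
      have := mul_mem (PLocal.Amb.conj_mem_of_mem_normalizer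
        (h.SK_norm (k := 24 + n + 1) (by omega) (mem_SK (by omega) hn he)) k) k
      rw [← mul_assoc (Y _ e), h.sq hn he, one_mul, mul_assoc, inv_mul_cancel_left] at this
      rwa [pow_succ, pow_mul, pow_two]
  exact isPGroup_iff.2 fun g hg => ⟨24, mem_bot.1 (SK_top (ρ := ρ) (Y := Y) le_rfl ▸ key 24 g hg)⟩
/-- `k > r` gives `k + s > r + s` -/
theorem comm_lead {r s : ℕ} (hr : 24 ≤ r) (hr' : r < 48) (hs : 24 ≤ s) (hs' : s < 48)
    (h1 : ad r s < 48) {g : G} (hg : g ∈ SK ρ Y (r + 1)) {f : E} (hf : Ok ρ s f) :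
    ⁅g, Y s f⁆ ∈ SK ρ Y (ad r s + 1) := by
  have t := ((nf_t2 r hr' s hs').2.2.1 hr hs)
  have : 24 ≤ ad r s + 1 := by omega
  refine h.comm_le (S := {s}) (idl_up (fun _ a => ⟨by have := a.1; omega, a.2⟩) this)
    (idl_up (by rintro _ rfl; exact ⟨hs, hs'⟩) this) (idl_up (fun _ a => ⟨this.trans a.1, a.2⟩) this) ?_
    (commutator_mem_commutator hg (mem_YS (Set.mem_singleton s) hf))
  rintro k ⟨k1, k2⟩ _ rfl
  exact ⟨k2, hs', by omega, fun a => ⟨Nat.succ_le_of_lt (t.2.2.2 k k2 k1 h1), a⟩⟩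
theorem comm_nz' {r s : ℕ} (hr' : r < 48) (hs' : s < 48) (h1 : Nz r s)
    (h2 : lg r ≠ lg s → ad r s < k2 r s) {e : E} (he : Ok ρ r e) (e0 : e ≠ 0) :
    ∃ e', e' ≠ 0 ∧ Ok ρ (ad r s) e' ∧ Y (ad r s) e' * ⁅Y r e, Y s 1⁆ ∈ SK ρ Y (ad r s + 1) := by
  obtain ⟨a, w, o, e1, k, e2, -⟩ := h.cf hr' hs' h1.1 he (ok_one s)
  refine ⟨a, fun a0 => e0 (e2 h1 rfl a0), o, ?_⟩
  rw [e1, ← mul_assoc, h.sq h1.1 o, one_mul]
  obtain rfl | ⟨k1, k2, b, k3, rfl⟩ := k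
  · exact one_mem _
  · exact mem_SK (h2 k1) k2 k3
/-- the leading term of `⁅Y r e, Y s 1⁆` -/
theorem comm_nz {r s : ℕ} (hr : 24 ≤ r) (hr' : r < 48) (hs : 24 ≤ s) (hs' : s < 48)
    (h1 : Nz r s) {e : E} (he : Ok ρ r e) (e0 : e ≠ 0) :
    ∃ e', e' ≠ 0 ∧ Ok ρ (ad r s) e' ∧ Y (ad r s) e' * ⁅Y r e, Y s 1⁆ ∈ SK ρ Y (ad r s + 1) :=
  h.comm_nz' hr' hs' h1 (fun _ => ((nf_t2 r hr' s hs').2.2.1 hr hs).2.2.1 h1.1) he e0
omit h in
theorem comm_mul (a g y : G) : ⁅a * g, y⁆ = a * ⁅g, y⁆ * a⁻¹ * ⁅a, y⁆ := by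
  simp only [commutatorElement_def]; group
theorem peel0 {r s : ℕ} (hr : 24 ≤ r) (hr' : r < 48) (hs : 24 ≤ s) (hs' : s < 48) (h1 : Nz r s)
    (L : ∀ e, Ok ρ (ad r s) e → Y (ad r s) e ∈ SK ρ Y (ad r s + 1) → e = 0) {g : G}
    (hg : ⁅g, Y s 1⁆ ∈ SK ρ Y (ad r s + 1)) {e : E} (he : Ok ρ r e) (h2 : Y r e * g ∈ SK ρ Y (r + 1)) :
    e = 0 := by
  by_contra e0
  obtain ⟨a, a0, o, k⟩ := h.comm_nz hr hr' hs hs' h1 he e0
  have k1 := h.comm_lead hr hr' hs hs' h1.1 h2 (ok_one s)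
  have t := ((nf_t2 r hr' s hs').2.2.1 hr hs).1
  rw [comm_mul, mul_mem_cancel_left (PLocal.Amb.conj_mem_of_mem_normalizer
    (h.SK_norm (by omega) (mem_SK hr hr' he)) hg)] at k1
  exact a0 (L a o ((mul_mem_cancel_right k1).1 k))
/-- Downward induction on `r` with `comm_lead`, `comm_nz` (choose `s` with `Nz r s` and `r + s ≠ 44`,
or `r + s = 44` once `44` is done).  `r = 44` first: `Y 44 e = Y 45 a Y 46 b Y 47 c`; commute with
`Y 26 1`, `Y 24 1`: `a = b = 0`; then `Y 47 c` commutes with `Y 14 1` (`14 = -33` is orthogonal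
to `47` and at `120°` to `44`), `cs` gives `e = 0`. -/
theorem lead {r : ℕ} (hr : 24 ≤ r) (hr' : r < 48) {e : E} (he : Ok ρ r e)
    (h1 : Y r e ∈ SK ρ Y (r + 1)) : e = 0 := by
  have L47 : ∀ e, Ok ρ 47 e → Y 47 e ∈ SK ρ Y (47 + 1) → e = 0 := fun e he k =>
    h.inj 47 (by omega) e he (mem_bot.1 (SK_top (ρ := ρ) (Y := Y) le_rfl ▸ k))
  induction hn : 48 - r using Nat.strong_induction_on generalizing r e with
  | _ n ih =>
    by_cases h47 : r = 47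
    · subst h47; exact L47 e he h1
    by_cases h44 : r = 44
    swap
    · obtain ⟨s, hs, hs', z⟩ := nf_t3 r (by omega) hr h44
      have t := ((nf_t2 r hr' s hs).2.2.1 hr hs').1
      refine h.peel0 hr hr' hs' hs z (fun e he k => ih _ (by have := z.1; omega) (by omega) z.1 he k rfl)
        (g := 1) (by simp) he (by simpa using h1)
    subst h44
    have c : ∀ s < 48, Mo 44 s → ⁅Y 44 e, Y s 1⁆ = 1 := fun s hs k =>
      commutatorElement_eq_one_iff_commute.2 (h.com 44 hr' s hs k e 1 he (ok_one s))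
    have a1 : ad 45 26 = 47 := by decide +kernel
    have a2 : ad 46 24 = 47 := by decide +kernel
    obtain ⟨a, ha, k1⟩ := h.SK_step (k := 45) (by omega) (by omega) h1
    obtain rfl := h.peel0 (s := 26) (by omega) (by omega) (by omega) (by omega) (by decide +kernel) (a1 ▸ L47)
      (c 26 (by omega) (by decide +kernel) ▸ one_mem _) ha k1
    rw [h.zero (by omega), one_mul] at k1
    obtain ⟨a, ha, k2⟩ := h.SK_step (k := 46) (by omega) (by omega) k1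
    obtain rfl := h.peel0 (s := 24) (by omega) (by omega) (by omega) (by omega) (by decide +kernel) (a2 ▸ L47)
      (c 24 (by omega) (by decide +kernel) ▸ one_mem _) ha k2
    rw [h.zero (by omega), one_mul] at k2
    obtain ⟨a, ha, k3⟩ := h.mem_A.1 k2
    obtain ⟨b, w, o, e1, k, e2, -⟩ := h.cf (r := 44) (s := 14) hr' (by omega) (by decide +kernel) he (ok_one 14)
    obtain rfl := k.resolve_right fun k => k.1 (by decide +kernel)
    rw [k3, commutatorElement_eq_one_iff_commute.2 (h.com 47 (by omega) 14 (by omega) (by decide +kernel) a 1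
      (fun _ => ha) (ok_one 14)), mul_one] at e1
    exact e2 (by decide +kernel) rfl (h.inj _ (by decide +kernel) b o e1.symm)
theorem exists_lead {g : G} (hg : g ∈ SK ρ Y 24) (g1 : g ≠ 1) :
    ∃ r e, 24 ≤ r ∧ r < 48 ∧ Ok ρ r e ∧ e ≠ 0 ∧ Y r e * g ∈ SK ρ Y (r + 1) := by
  by_contra! k
  have key : ∀ n ≤ 24, g ∈ SK ρ Y (24 + n) := fun n hn => by
    induction n with
    | zero => exact hg
    | succ n ih =>
      obtain ⟨e, he, k1⟩ := h.SK_step (by omega) (by omega) (ih (by omega))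
      by_cases e0 : e = 0
      · rwa [e0, h.zero (by omega), one_mul] at k1
      · exact absurd k1 (k _ e (by omega) (by omega) he e0)
  exact g1 (mem_bot.1 (SK_top (ρ := ρ) (Y := Y) le_rfl ▸ key 24 le_rfl))
theorem lead_eq {g : G} {r r' : ℕ} {e e' : E} (hr : 24 ≤ r) (h1 : r < 48) (hr' : 24 ≤ r')
    (h1' : r' < 48) (he : Ok ρ r e) (he' : Ok ρ r' e') (e0 : e ≠ 0) (e0' : e' ≠ 0)
    (h2 : Y r e * g ∈ SK ρ Y (r + 1)) (h2' : Y r' e' * g ∈ SK ρ Y (r' + 1)) : r = r' ∧ e = e' := by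
  have key : ∀ {r r' : ℕ} {e e' : E}, 24 ≤ r → r' < 48 → Ok ρ r e → Ok ρ r' e' → Y r e * g ∈ SK ρ Y (r + 1) →
      Y r' e' * g ∈ SK ρ Y (r' + 1) → r < r' → e = 0 := fun a b c d k k' l =>
    h.lead a (by omega) c ((mul_mem_cancel_right ((mul_mem_cancel_left (mem_SK l b d)).1
      (SK_mono (by omega) k'))).1 k)
  obtain rfl : r = r' := le_antisymm (not_lt.1 fun l => e0' (key hr' h1 he' he h2' h2 l))
    (not_lt.1 fun l => e0 (key hr h1' he he' h2 h2' l))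
  refine ⟨rfl, h.eq_of_add (h.lead hr h1 (ok_add he he') ?_)⟩
  simpa [mul_assoc, h.inv h1 he', h.add r h1 e e' he he'] using mul_mem h2 (inv_mem h2')
/-- If `Y r e ∈ S₀` with `r < 24`, `e ≠ 0`: take `s ≥ 24` with `Nz r s`, `24 ≤ r + s < s`, and not
(`r` short, `s` long); `⁅Y r e, Y s 1⁆ ∈ SK (s + 1)` has the leading term in `r + s`.  For `r = 3`
first pass to `r + 33 = 7` (`cs`), for `r = 0` to `r + 24 = 1` (`cl`). -/
theorem neg {r : ℕ} (hr : r < 24) {e : E} (he : Ok ρ r e) (h1 : Y r e ∈ SK ρ Y 24) : e = 0 := by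
  have key : ∀ r < 24, r ≠ 0 → r ≠ 3 → ∀ e, Ok ρ r e → Y r e ∈ SK ρ Y 24 → e = 0 := fun r hr a b e he k => by
    by_contra e0
    obtain ⟨s, hs, hs', z, t1, t2, -, t3⟩ := nf_t4 r hr a b
    obtain ⟨c, c0, o, k1⟩ := h.comm_nz' (by omega) hs z t3 he e0
    exact c0 (h.lead t1 z.1 o ((mul_mem_cancel_right (SK_mono (by omega)
      (h.SK_comm hs' (commutator_mem_commutator k (mem_SK le_rfl hs (ok_one s)))))).1 k1))
  have key2 : ∀ s < 48, 24 ≤ s → Nz r s → lg r = lg s → ad r s < 24 → ad r s ≠ 0 → ad r s ≠ 3 → e = 0 :=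
    fun s hs hs' z l a b c => by
      obtain ⟨d, w, o, e1, k, e2, -⟩ := h.cf (r := r) (by omega) hs z.1 he (ok_one s)
      obtain rfl := k.resolve_right fun k => k.1 l
      refine e2 z rfl (key _ a b c d o ?_)
      rw [← mul_one (Y _ d), ← e1]
      exact SK_mono (by omega) (h.SK_comm hs' (commutator_mem_commutator h1 (mem_SK le_rfl hs (ok_one s))))
  by_cases a : r = 0
  · subst a
    refine key2 24 ?_ ?_ ?_ ?_ ?_ ?_ ?_ <;> decide +kernel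
  by_cases b : r = 3
  · subst b
    refine key2 33 ?_ ?_ ?_ ?_ ?_ ?_ ?_ <;> decide +kernel
  exact key r hr a b e he h1
theorem stp {S : Set ℕ} (h1 : Idl S S ∨ (∀ e, ρ e = e) ∧ Idl0 S S) (h2 : ∀ r ∈ S, 24 ≤ r) {k : ℕ}
    (hk : k < 48) {g : G} (hg : g ∈ YS ρ Y {r | r ∈ S ∧ k ≤ r}) :
    ∃ e, Ok ρ k e ∧ (k ∉ S → e = 0) ∧ Y k e * g ∈ YS ρ Y {r | r ∈ S ∧ k + 1 ≤ r} := by
  by_cases kS : k ∈ S
  swap
  · refine ⟨0, ok_zero k, fun _ => rfl, ?_⟩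
    rw [h.zero hk, one_mul]
    exact YS_mono (fun r hr => And.intro hr.1 (hr.2.lt_of_ne fun e => kS (e ▸ hr.1))) hg
  have n : YS ρ Y S ≤ 𝐍[YS ρ Y {r | r ∈ S ∧ k + 1 ≤ r}] := by
    rcases h1 with h1 | ⟨h0, h1⟩
    · have : Idl S {r | r ∈ S ∧ k + 1 ≤ r} := fun r hr s hs => have a := h1 r hr s hs.1
        ⟨a.1, a.2.1, a.2.2.1, fun b => ⟨a.2.2.2 b,
          hs.2.trans ((nf_t2 r a.1 s a.2.1).2.2.1 (h2 r hr) (h2 s hs.1)).2.1.le⟩⟩
      exact h.norm this fun r hr => this r hr.1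
    · have : Idl0 S {r | r ∈ S ∧ k + 1 ≤ r} := fun r hr s hs => have a := h1 r hr s hs.1
        ⟨a.1, a.2.1, a.2.2.1, fun b hb => ⟨a.2.2.2 b hb,
          hs.2.trans ((F42S.tab_cm r a.1 s a.2.1 a.2.2.1 b hb).2 (h2 r hr) (h2 s hs.1)).2.le⟩⟩
      exact h.norm0 h0 this fun r hr => this r hr.1
  obtain ⟨e, he, a⟩ := h.step hk (fun r hr => hr.2.eq_or_lt.imp Eq.symm fun a => ⟨hr.1, a⟩)
    ((YS_mono (by rintro _ rfl; exact kS)).trans n) hg
  exact ⟨e, he, fun b => absurd kS b, a⟩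
theorem nf' {S : Set ℕ} (h1 : Idl S S ∨ (∀ e, ρ e = e) ∧ Idl0 S S) (h2 : ∀ r ∈ S, 24 ≤ r) {g : G}
    (hg : g ∈ YS ρ Y S) :
    ∃ c : ℕ → E, (∀ r, Ok ρ r (c r)) ∧ (∀ r, r ∉ S → c r = 0) ∧ g = pr Y (List.range' 24 24) c := by
  have key : ∀ n k, k + n = 48 → ∀ g ∈ YS ρ Y {r | r ∈ S ∧ k ≤ r}, ∃ c : ℕ → E, (∀ r, Ok ρ r (c r)) ∧
      (∀ r, r ∉ S → c r = 0) ∧ g = pr Y (List.range' k n) c := fun n => by
    induction n with
    | zero =>
      refine fun k hk g hg => ⟨0, fun r => ok_zero r, fun _ _ => rfl, mem_bot.1 (YS_le.2 (fun r hr => ?_) hg)⟩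
      have := hr.2
      have := h1.elim (fun a => (a r hr.1 r hr.1).1) fun a => (a.2 r hr.1 r hr.1).1
      omega
    | succ n ih =>
      intro k hk g hg
      obtain ⟨e, he, e0, a⟩ := h.stp h1 h2 (by omega) hg
      obtain ⟨c, c1, c2, c3⟩ := ih (k + 1) (by omega) _ a
      refine ⟨fun r => if r = k then e else c r, fun r => ?_, fun r hr => ?_, ?_⟩
      · beta_reduce
        split_ifs with b
        · exact b ▸ he
        · exact c1 r
      · beta_reduce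
        split_ifs with b
        · exact e0 (b ▸ hr)
        · exact c2 r hr
      rw [List.range'_succ, pr_cons, if_pos rfl, ← inv_mul_eq_iff_eq_mul, h.inv (by omega) he, c3, pr, pr]
      refine congrArg _ (List.map_congr_left fun r hr => ?_)
      rw [if_neg (by have := (List.mem_range'_1.1 hr).1; omega)]
  exact key 24 24 rfl g (YS_mono (fun r hr => And.intro hr (h2 r hr)) hg)
/-- normal form in a closed set of positive roots -/
theorem nf {S : Set ℕ} (h1 : Idl S S) (h2 : ∀ r ∈ S, 24 ≤ r) {g : G} (hg : g ∈ YS ρ Y S) :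
    ∃ c : ℕ → E, (∀ r, Ok ρ r (c r)) ∧ (∀ r, r ∉ S → c r = 0) ∧ g = pr Y (List.range' 24 24) c :=
  h.nf' (.inl h1) h2 hg
theorem nf0 (h0 : ∀ e, ρ e = e) {S : Set ℕ} (h1 : Idl0 S S) (h2 : ∀ r ∈ S, 24 ≤ r) {g : G}
    (hg : g ∈ YS ρ Y S) :
    ∃ c : ℕ → E, (∀ r, r ∉ S → c r = 0) ∧ g = pr Y (List.range' 24 24) c :=
  (h.nf' (.inr ⟨h0, h1⟩) h2 hg).imp fun _ k => k.2
omit h in
theorem pr_mem {H : Subgroup G} {l : List ℕ} {c : ℕ → E} (h1 : ∀ r ∈ l, Y r (c r) ∈ H) : pr Y l c ∈ H :=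
  list_prod_mem (by simpa using h1)
theorem nf_inj {c c' : ℕ → E} (h1 : ∀ r, Ok ρ r (c r)) (h2 : ∀ r, Ok ρ r (c' r))
    (e : pr Y (List.range' 24 24) c = pr Y (List.range' 24 24) c') {r : ℕ} (hr : 24 ≤ r)
    (hr' : r < 48) : c r = c' r := by
  have key : ∀ n k, k + n = 48 → 24 ≤ k → pr Y (List.range' k n) c = pr Y (List.range' k n) c' →
      k ≤ r → c r = c' r := fun n => by
    induction n with
    | zero => intro k a _ _ _; omega
    | succ n ih =>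
      intro k a b e d
      have m : ∀ {c : ℕ → E}, (∀ r, Ok ρ r (c r)) → pr Y (List.range' (k + 1) n) c ∈ SK ρ Y (k + 1) :=
        fun h1 => pr_mem fun s hs => by
          rw [List.mem_range'_1] at hs
          exact mem_SK hs.1 (by omega) (h1 s)
      rw [List.range'_succ, pr_cons, pr_cons] at e
      have e1 : c' k = c k := by
        refine h.eq_of_add (h.lead b (by omega) (ok_add (h2 k) (h1 k)) ?_)
        rw [← h.add k (by omega) _ _ (h2 k) (h1 k), ← mul_mem_cancel_right (m h1), mul_assoc, e, ← mul_assoc,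
          h.sq (by omega) (h2 k), one_mul]
        exact m h2
      rcases d.eq_or_lt with rfl | d
      · exact e1.symm
      · exact ih (k + 1) (by omega) (by omega) (by rwa [e1, mul_right_inj] at e) d
  exact key 24 24 rfl le_rfl e hr
/-- the leading root of an element of `YS S` lies in `S`, and it can be removed inside `YS S` -/
theorem lead_mem {S : Set ℕ} (h1 : Idl S S ∨ (∀ e, ρ e = e) ∧ Idl0 S S) (h2 : ∀ r ∈ S, 24 ≤ r)
    {g : G} (hg : g ∈ YS ρ Y S) {r : ℕ} {e : E} (hr : 24 ≤ r) (hr' : r < 48) (he : Ok ρ r e)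
    (e0 : e ≠ 0) (h3 : Y r e * g ∈ SK ρ Y (r + 1)) : r ∈ S := by
  have gr : g ∈ SK ρ Y r := (mul_mem_cancel_left (mem_SK le_rfl hr' he)).1 (SK_mono (by omega) h3)
  have le : ∀ k, YS ρ Y {r | r ∈ S ∧ k ≤ r} ≤ SK ρ Y k := fun k => YS_mono fun s hs =>
    ⟨hs.2, h1.elim (fun a => (a s hs.1 s hs.1).1) fun a => (a.2 s hs.1 s hs.1).1⟩
  have key : ∀ k, 24 ≤ k → k ≤ r → g ∈ YS ρ Y {r | r ∈ S ∧ k ≤ r} := fun k a => by
    induction a with
    | refl => exact fun _ => YS_mono (fun r hr => And.intro hr (h2 r hr)) hg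
    | @step k a ih =>
      intro b
      obtain ⟨c, hc, -, d⟩ := h.stp h1 h2 (k := k) (by omega) (ih (by omega))
      rwa [h.lead a (by omega) hc ((mul_mem_cancel_right (SK_mono b gr)).1 (le _ d)), h.zero (by omega),
        one_mul] at d
  by_contra n
  obtain ⟨c, -, c0, d⟩ := h.stp h1 h2 hr' (key r hr le_rfl)
  rw [c0 n, h.zero hr', one_mul] at d
  exact e0 (h.lead hr hr' he ((mul_mem_cancel_right (le _ d)).1 h3))
theorem mem_of_mem {S : Set ℕ} (h1 : Idl S S ∨ (∀ e, ρ e = e) ∧ Idl0 S S) (h2 : ∀ r ∈ S, 24 ≤ r)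
    {r : ℕ} (hr : r < 48) {e : E} (he : Ok ρ r e) (e0 : e ≠ 0) (h3 : Y r e ∈ YS ρ Y S) : r ∈ S :=
  h.lead_mem h1 h2 h3 (not_lt.1 fun k => e0 (h.neg k he (YS_mono (fun s hs =>
    And.intro (h2 s hs) (h1.elim (fun a => (a s hs s hs).1) fun a => (a.2 s hs s hs).1)) h3))) hr he e0
    (by rw [h.sq hr he]; exact one_mem _)
theorem kill0 {Ψ T : Set ℕ} {k : ℕ} (hk : 24 ≤ k) {g : G} (hg : g ∈ SK ρ Y 24)
    (h1 : ∀ s ∈ Ψ, ⁅g, Y s 1⁆ ∈ SK ρ Y k) (h0 : ∀ s ∈ Ψ, 24 ≤ s ∧ s < 48)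
    (h2 : ∀ r ∈ T, 24 ≤ r → r < 48 → ∀ s ∈ Ψ, ∀ e, Ok ρ r e → ⁅Y r e, Y s 1⁆ ∈ SK ρ Y k)
    (h3 : ∀ r, 24 ≤ r → r < 48 → r ∈ T ∨ ∃ s ∈ Ψ, Nz r s ∧ ad r s < k) : g ∈ YS ρ Y T := by
  have key : ∀ n m, m + n = 48 → 24 ≤ m → ∀ g ∈ SK ρ Y m, (∀ s ∈ Ψ, ⁅g, Y s 1⁆ ∈ SK ρ Y k) →
      g ∈ YS ρ Y T := fun n => by
    induction n with
    | zero =>
      intro m a _ g hg _
      rw [SK_top (by omega), mem_bot] at hg
      exact hg ▸ one_mem _
    | succ n ih =>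
      intro m a b g hg h1
      have c : m < 48 := by omega
      obtain ⟨e, he, d⟩ := h.SK_step b c hg
      rcases h3 m b c with t | ⟨s, hs, z, t⟩
      · refine (mul_mem_cancel_left (mem_YS t he)).1 (ih _ (by omega) (by omega) _ d fun s hs => ?_)
        rw [comm_mul]
        exact mul_mem (PLocal.Amb.conj_mem_of_mem_normalizer (h.SK_norm hk (mem_SK b c he)) (h1 s hs))
          (h2 m t b c s hs e he)
      · have := ((nf_t2 m c s (h0 s hs).2).2.2.1 b (h0 s hs).1).1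
        rw [h.peel0 b c (h0 s hs).1 (h0 s hs).2 z (fun _ => h.lead (by omega) z.1) (SK_mono t (h1 s hs)) he d,
          h.zero c, one_mul] at d
        exact ih _ (by omega) (by omega) _ d h1
  exact key 24 24 rfl le_rfl g hg h1
/-- Peel off leading terms. `Ψ` : roots with `g` commuting with `Y s 1`. -/
theorem kill {Ψ T : Set ℕ} {g : G} (hg : g ∈ SK ρ Y 24) (h1 : ∀ s ∈ Ψ, Commute g (Y s 1))
    (h2 : ∀ r ∈ T, ∀ s ∈ Ψ, ∀ e, Ok ρ r e → Commute (Y r e) (Y s 1))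
    (h3 : ∀ r, 24 ≤ r → r < 48 → r ∈ T ∨ ∃ s ∈ Ψ, 24 ≤ s ∧ s < 48 ∧ Nz r s) : g ∈ YS ρ Y T :=
  h.kill0 (Ψ := {s | s ∈ Ψ ∧ 24 ≤ s ∧ s < 48}) (k := 48) (by omega) hg
    (fun s hs => commutatorElement_eq_one_iff_commute.2 (h1 s hs.1) ▸ one_mem _) (fun _ hs => hs.2)
    (fun r hr _ _ s hs e he => commutatorElement_eq_one_iff_commute.2 (h2 r hr s hs.1 e he) ▸ one_mem _)
    fun r a b => (h3 r a b).imp_right fun ⟨s, hs, c, d, z⟩ => ⟨s, ⟨hs, c, d⟩, z, z.1⟩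
/-- the same modulo `SK k` -/
theorem kill' {Ψ T : Set ℕ} {k : ℕ} (hk : 24 ≤ k) {g : G} (hg : g ∈ SK ρ Y 24)
    (h1 : ∀ s ∈ Ψ, ⁅g, Y s 1⁆ ∈ SK ρ Y k) (h0 : ∀ s ∈ Ψ, 24 ≤ s ∧ s < 48)
    (h2 : ∀ r ∈ T, 24 ≤ r ∧ r < 48 ∧ ∀ s ∈ Ψ, ∀ e, Ok ρ r e → ⁅Y r e, Y s 1⁆ ∈ SK ρ Y k)
    (h3 : ∀ r, 24 ≤ r → r < 48 → r ∈ T ∨ ∃ s ∈ Ψ, Nz r s ∧ ad r s < k) : g ∈ YS ρ Y T :=
  h.kill0 hk hg h1 h0 (fun r hr _ _ => (h2 r hr).2.2) h3
theorem nY_mem {r : ℕ} (hr : r < 48) : nY Y r ∈ SK ρ Y 0 :=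
  mul_mem (mul_mem (mem_SK (Nat.zero_le _) hr (ok_one _)) (mem_SK (Nat.zero_le _) (by omega) (ok_one _)))
    (mem_SK (Nat.zero_le _) hr (ok_one _))
theorem ww_mem {w : List ℕ} (hw : ∀ i ∈ w, i < 4) : ww Y w ∈ SK ρ Y 0 :=
  list_prod_mem (by simpa using fun i hi => h.nY_mem (F42S.tab_sm i (hw i hi)).1)
theorem ww_conj {w : List ℕ} (hw : ∀ i ∈ w, i < 4) {r : ℕ} (hr : r < 48) {e : E} (he : Ok ρ r e) :
    ww Y w * Y r e * (ww Y w)⁻¹ = Y (aw w r) (tp ρ w e) := by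
  induction w with
  | nil => simp [ww, tp, F42S.aw_nil]
  | cons i w ih =>
    have h' : ∀ k ∈ w, k < 4 := fun k hk => hw k (by simp [hk])
    rw [ww_cons, F42S.aw_cons, tp_cons h.ρρ, ← h.wn i (hw i (by simp)) _ (F42S.aw_lt h' hr) _
      (ok_tp (F42S.aw_tab h' hr hr).1 w he), ← ih h']
    group
theorem ww_YS {w : List ℕ} (hw : ∀ i ∈ w, i < 4) {S S' : Set ℕ} (h1 : ∀ r ∈ S, r < 48)
    (h2 : ∀ r < 48, r ∈ S ↔ aw w r ∈ S') (h3 : ∀ r ∈ S', r < 48) :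
    cj(ww Y w, YS ρ Y S) = YS ρ Y S' := by
  refine le_antisymm (cj_le_iff.2 (YS_le.2 fun r hr e he => ?_)) (YS_le.2 fun s hs e he => ?_)
  · rw [mem_cj, inv_inv, h.ww_conj hw (h1 r hr) he]
    exact mem_YS ((h2 r (h1 r hr)).1 hr) (ok_tp (F42S.aw_tab hw (h1 r hr) (h1 r hr)).1 w he)
  · obtain ⟨r, hr, rfl⟩ := F42S.aw_surj hw (h3 s hs)
    have o := ok_tp (F42S.aw_tab hw hr hr).1.symm w he
    rw [← tp_tp h.ρρ w e, ← h.ww_conj hw hr o]
    exact conj_mem_cj _ (mem_YS ((h2 r hr).2 hs) o)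
/-- an element of `S₀` kept in `S₀` by `n_i` has no component in the simple root -/
theorem simple_out {i : ℕ} (hi : i < 4) {g : G} (hg : g ∈ SK ρ Y 24)
    (h1 : nY Y (sm i) * g * (nY Y (sm i))⁻¹ ∈ SK ρ Y 24) :
    g ∈ YS ρ Y {r | 24 ≤ r ∧ r < 48 ∧ r ≠ sm i} := by
  obtain ⟨t1, t2, t3⟩ := nf_t5 i hi
  have t4 := (F42S.tab_sm i hi).1
  have id : Idl {r | 24 ≤ r ∧ r < 48} {r | 24 ≤ r ∧ r < 48 ∧ r ≠ sm i} := fun r ⟨a, b⟩ s ⟨c, d, _⟩ =>
    ⟨b, d, by omega, fun k => ⟨a.trans ((nf_t2 r b s d).2.2.1 a c).1.le, k, (t3 r b a).2 s d c⟩⟩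
  obtain ⟨e, he, k⟩ := h.step (S' := {r | 24 ≤ r ∧ r < 48 ∧ r ≠ sm i}) t4
    (fun r hr => (em (r = sm i)).imp_right fun a => ⟨hr.1, hr.2, a⟩)
    ((YS_mono (by rintro _ rfl; exact ⟨t1, t4⟩)).trans (h.norm id fun r hr => id r ⟨hr.1, hr.2.1⟩)) hg
  have o : ∀ {r e}, r < 48 → Ok ρ r e → Ok ρ (sr i r) (if i < 2 then ρ e else e) := fun hr he a => by
    rw [(F42S.tab_sr i hi _ hr).2.2.1] at a
    split_ifs <;> simp only [he a]
  have k1 : YS ρ Y {r | 24 ≤ r ∧ r < 48 ∧ r ≠ sm i} ≤ cj((nY Y (sm i))⁻¹, SK ρ Y 24) :=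
    YS_le.2 fun r ⟨a, b, c⟩ f hf => by
      rw [mem_cj, inv_inv, h.wn i hi r b f hf]
      exact mem_SK ((t3 r b a).1 c) (F42S.tab_sr i hi r b).1 (o b hf)
  have k2 := k1 k
  rw [mem_cj, inv_inv, ← conj_mul, mul_mem_cancel_right h1, h.wn i hi _ t4 e he] at k2
  have k3 := h.neg (by omega) (o t4 he) k2
  have : e = 0 := by split_ifs at k3 <;> simpa using k3
  rwa [this, h.zero t4, one_mul] at k
/-- from `wn` for `r = sm 3 = 24` or `sm 0 = 33`, transported by `ww_conj` (`orb2`) -/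
theorem three {r : ℕ} (hr : r < 48) : (Y r 1 * Y (47 - r) 1) ^ 3 = 1 := by
  have b : ∀ i < 4, (Y (sm i) 1 * Y (47 - sm i) 1) ^ 3 = 1 := fun i hi => by
    have t := (F42S.tab_sm i hi).1
    have k := h.wn i hi _ t 1 (ok_one _)
    have a := h.sq t (ok_one (ρ := ρ) _)
    have c := h.sq (r := 47 - sm i) (by omega) (ok_one (ρ := ρ) _)
    rw [(nf_t5 i hi).2.1, map_one, ite_self, nY, mul_inv_eq_iff_eq_mul, mul_assoc _ (Y (sm i) 1), a, mul_one] at k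
    rw [pow_succ, pow_two]
    nth_rw 1 [k]
    calc _ = Y (47 - sm i) 1 * (Y (sm i) 1 * (Y (47 - sm i) 1 * (Y (sm i) 1 * Y (sm i) 1) * Y (47 - sm i) 1) *
        Y (sm i) 1) * Y (47 - sm i) 1 := by simp only [mul_assoc]
      _ = 1 := by rw [a, mul_one, c, mul_one, a, mul_one, c]
  have s : ∀ i < 4, ∀ r < 48, (Y r 1 * Y (47 - r) 1) ^ 3 = 1 → (Y (sr i r) 1 * Y (47 - sr i r) 1) ^ 3 = 1 :=
    fun i hi r hr k => by
      have a := h.wn i hi r hr 1 (ok_one _)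
      have c := h.wn i hi (47 - r) (by omega) 1 (ok_one _)
      rw [map_one, ite_self] at a c
      rw [← (F42S.tab_sr i hi r hr).2.2.2.1, ← a, ← c, conj_mul, conj_pow, k, mul_one, mul_inv_cancel]
  cases hl : lg r
  · exact F42S.ind1 s (F42S.tab_sm 0 (by omega)).1 hr (by rw [hl]; decide +kernel) (b 0 (by omega))
  · exact F42S.ind1 s (F42S.tab_sm 3 (by omega)).1 hr (by rw [hl]; decide +kernel) (b 3 (by omega))
/-- every `Y r e` is a commutator (`cl`, `cs`) -/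
theorem perf : ⁅SK ρ Y 0, SK ρ Y 0⁆ = SK ρ Y 0 := by
  refine le_antisymm (commutator_le.2 fun a ha b hb =>
    mul_mem (mul_mem (mul_mem ha hb) (inv_mem ha)) (inv_mem hb)) (YS_le.2 fun r hr e he => ?_)
  obtain ⟨a, ha, b, hb, t1, t2, t3, rfl⟩ := nf_t6 r hr.2
  have q : ∀ {x y u : G}, x ∈ SK ρ Y 0 → y ∈ SK ρ Y 0 → y * x = x * y * u → u ∈ ⁅SK ρ Y 0, SK ρ Y 0⁆ :=
    fun {x y u} hx hy k => by
      have := commutator_mem_commutator (inv_mem hy) (inv_mem hx)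
      rwa [commutatorElement_def, inv_inv, inv_inv, mul_assoc, k, ← mul_inv_rev, inv_mul_cancel_left] at this
  cases hl : lg (ad a b) <;> rw [hl] at t1 t2 t3
  · have k := h.cs a ha b hb t1 t2 t3 (ρ e) 1
    rw [mul_one, h.ρρ] at k
    exact q (mem_SK (Nat.zero_le _) ha (ok_short t1 _)) (mem_SK (Nat.zero_le _) hb (ok_one _)) k
  · have k := h.cl a ha b hb t1 t2 t3 e 1 (he hl) (map_one ρ)
    rw [mul_one] at k
    exact q (mem_SK (Nat.zero_le _) ha fun _ => he hl) (mem_SK (Nat.zero_le _) hb (ok_one _)) k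
theorem finite [Finite G] : Finite E :=
  have o : ∀ e, Ok ρ 44 e := ok_short (by decide +kernel)
  Finite.of_injective (Y 44) fun e f => h.eq (by omega) (o e) (o f)

end Rel

end Cfsg.Agent.F4Q
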