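import Mathlib
import Cfsg.Agent.F4Q.Nf
import Cfsg.Agent.Chev.AutThm
import Cfsg.Agent.Chev.SL2Hom

/-! Root tables for the model `F₄(F)` in characteristic two, and the commutator formula. -/

set_option autoImplicit false

namespace Cfsg.Agent.F4Q

open Cfsg.Lie Cfsg.Agent.Chev Subgroup
open Cfsg.Agent.F42S (lg ip ad gm sm sr Mo aw)
open scoped MatrixGroups

/-- The terms of the commutator formula in characteristic `2`. -/
def tm (r s : ℕ) : List (ℕ × ℕ × ℕ) :=
  if lg r = lg s then (if ip r s = (if lg r then 4 else 6) then [(ad r s, 1, 1)] else [])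
  else if ip r s = 4 then
    [(ad r s, 1, 1), if lg r then (ad (ad r s) s, 1, 2) else (ad (ad r s) r, 2, 1)] else []

theorem md_tm : ∀ r < 48, ∀ s < 48,
    ((chevF4.commTerms r s).filter fun c => c.2.1 % 2 = 1).map (fun c => (c.1, c.2.2)) = tm r s := by
  decide +kernel

theorem md_ip : ∀ r < 48, ip r r = (if lg r then 16 else 12) ∧ ip r (47 - r) = (if lg r then 0 else 4) ∧
    lg (47 - r) = lg r := by decide +kernel

theorem md_mo : ∀ r < 48, ∀ s < 48, Mo r s → s ≠ 47 - r ∧ tm r s = [] := by decide +kernel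

set_option synthInstance.maxSize 2000 in
theorem md_cl : ∀ r < 48, ∀ s < 48, s ≠ 47 - r → (¬ Nz r s ∧ tm r s = []) ∨
    (lg r = false ∧ lg s = false ∧ ip r s = 6) ∨ (lg r = true ∧ lg s = true ∧ ip r s = 4) ∨
    (lg r = true ∧ lg s = false ∧ ip r s = 4) ∨
    (lg r = false ∧ lg s = true ∧ ip r s = 4 ∧ ip s r = 4 ∧ ad s r = ad r s ∧ ad r s < 48 ∧
      ad (ad r s) r < 48 ∧ ad (ad r s) r ≠ 47 - ad r s ∧ ¬ Nz (ad r s) (ad (ad r s) r)) := by
  decide +kernel

theorem md_sr : ∀ i < 4, chevF4.simple i = sm i ∧ chevF4.neg (sm i) = 47 - sm i ∧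
    ∀ r < 48, chevF4.reflectRoot i r = sr i r := by decide +kernel

theorem md_ad : ∀ r < 48, ∀ s < 48, ad r s < 48 → chevF4.chainRoot r s 1 = some (ad r s) := by
  decide +kernel

theorem md_ct : ∀ i < 4, ∀ j < 4, chevF4.pairing (sm i) (sm j) =
    ([[2, -1, 0, 0], [-1, 2, -2, 0], [0, -1, 2, -1], [0, 0, -1, 2]].getD i []).getD j 0 := by
  decide +kernel

set_option synthInstance.maxSize 2000 in
theorem md_sym : ∀ π : Fin chevF4.rank → Fin chevF4.rank, Function.Injective π →
    (∀ i j : Fin chevF4.rank, i ≠ j → chevF4.bonds (π i) (π j) = chevF4.bonds i j) → (∀ i, π i = i) ∨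
    ∀ i : Fin chevF4.rank, (π i : ℕ) = 3 - i ∧
      chevF4.graphExp 2 i (π i) = if lg (sm i) = true then 1 else 2 := by decide +kernel

/-- representatives of the pairs of independent roots -/
def reps : List (ℕ × ℕ) := [(33, 27), (33, 20), (27, 28), (24, 25), (24, 22), (25, 30), (27, 25), (27, 22),
  (33, 25), (25, 27), (22, 27), (25, 33)]

set_option synthInstance.maxSize 2000 in
theorem md_reps : ∀ r < 48, ∀ s < 48, s ≠ r → s ≠ 47 - r →
    ∃ p ∈ reps, lg r = lg p.1 ∧ lg s = lg p.2 ∧ ip r s = ip p.1 p.2 := by decide +kernel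

set_option synthInstance.maxSize 2000 in
theorem md_same : ∀ r < 48, ∀ s < 48, lg s = lg r → tm r s = [] ∨ (tm r s = [(ad r s, 1, 1)] ∧ ad r s < 48) := by
  decide +kernel

variable {F : Type*} [Field F] [CharP F 2] {G : Type*} [Group G]

theorem word_tm {y : ℕ → F → G} (h : ∀ r < 48, y r 0 = 1) (a b : F) (l : List (ℕ × ℤ × ℕ × ℕ))
    (hl : ∀ c ∈ l, c.1 < 48) :
    word y (l.map fun c => (c.1, (c.2.1 : F) * (-a) ^ c.2.2.1 * b ^ c.2.2.2)) =
      (((l.filter fun c => c.2.1 % 2 = 1).map fun c => (c.1, c.2.2)).map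
        fun c => y c.1 (a ^ c.2.1 * b ^ c.2.2)).prod := by
  induction l with
  | nil => rfl
  | cons c l ih =>
    have e := CharP.intCast_eq_intCast_mod F 2 (a := c.2.1)
    rw [List.forall_mem_cons] at hl
    rw [List.map_cons, word_cons, ih hl.2, List.filter_cons, e]
    rcases Int.emod_two_eq_zero_or_one c.2.1 with h0 | h0
    · simp [h0, h _ hl.1]
    · simp [h0, CharTwo.neg_eq]

theorem commWord_tm {y : ℕ → F → G} (h : ∀ r < 48, y r 0 = 1) {r s : ℕ} (hr : r < 48) (hs : s < 48)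
    (a b : F) : word y (chevF4.commWord F r s a b) =
      ((tm r s).map fun c => y c.1 (a ^ c.2.1 * b ^ c.2.2)).prod := by
  have hN := F42S.TN
  rw [ChevalleyDatum.commWord, word_tm h a b _ fun c hc => by
    have := (rootTableF4.commTerms_spec (r := r) (s := s) (by omega) (by omega) hc).1
    omega, md_tm r hr s hs]

/-- an element of `SL₂(F)` of nonzero trace has odd order -/
theorem sl2_odd [Finite F] {a : F} (ha : a ≠ 0) :
    Odd (orderOf (RootSub.xx (1 : F) * RootSub.yy a)) := by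
  generalize hM : RootSub.xx (1 : F) * RootSub.yy a = M
  have k : ∀ P : SL(2, F), P * P = 1 → P * M = M * P → P = 1 := fun P h1 h2 => by
    have two : (2 : F) = 0 := CharTwo.two_eq_zero
    have a1 := congrFun₂ (congrArg Subtype.val h1) 0 0
    have a2 := congrFun₂ (congrArg Subtype.val h1) 1 1
    have b1 := congrFun₂ (congrArg Subtype.val h2) 0 0
    have b2 := congrFun₂ (congrArg Subtype.val h2) 0 1
    subst hM
    simp [Matrix.mul_apply, Fin.sum_univ_two] at a1 a2 b1 b2
    have c1 : P 0 0 = P 1 1 := sub_eq_zero.1 (pow_eq_zero_iff two_ne_zero |>.1 (by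
      linear_combination a1 - a2 + (P 1 1 ^ 2 - P 0 0 * P 1 1) * two))
    have c2 : P 0 1 = 0 := (mul_eq_zero.1 (by linear_combination c1 - b2 : a * P 0 1 = 0)).resolve_left ha
    have c3 : P 1 0 = 0 := by linear_combination -b1 + a * c2
    have c4 : P 0 0 = 1 := sub_eq_zero.1 (pow_eq_zero_iff two_ne_zero |>.1 (by
      linear_combination a1 - P 1 0 * c2 + (1 - P 0 0) * two))
    ext i j
    fin_cases i <;> fin_cases j <;> simp [c2, c3, c4, ← c1]
  refine Nat.not_even_iff_odd.1 fun ⟨n, hn⟩ => ?_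
  have h0 := orderOf_pos M
  exact pow_ne_one_of_lt_orderOf (by omega) (by omega : n < orderOf M)
    (k _ (by rw [← pow_add, ← hn, pow_orderOf_eq_one]) ((Commute.refl M).pow_left n).eq)

end Cfsg.Agent.F4Q
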