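import Mathlib
import Cfsg.Agent.F4Q.Mod0
import Cfsg.Agent.Chev.AutThm
import Cfsg.Agent.S2F.F4a
import Cfsg.Agent.S1098
import Cfsg.Agent.S2174
import Cfsg.Agent.S2178
import Cfsg.Agent.S2179

/-! The model `Γ F = F₄(F)`, `F` finite of characteristic two (blueprint for `q = 2`: `F42S/Bas`; use
`isSt_xC`, `isND_xC`, `rootTableF4`, `F42S.tab_tm` (Id02) or a new `decide +kernel` table for the
commutator terms, `Chev/StBN`, `Chev/StN.hh_conj`, `Chev/AutThm.exists_aut_decomp`). -/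

set_option autoImplicit false
set_option linter.unusedSectionVars false

namespace Cfsg.Agent.F4Q

open Cfsg.Lie Cfsg.Agent.Chev Subgroup Cfsg.Agent.PLocal.Amb
open Cfsg.Agent.F42S (lg ip ad gm sm sr Mo aw)
open Cfsg.Agent.FinS (Rt Rg Uf)
open scoped commutatorElement

attribute [local instance] goodF4

variable {F : Type*} [Field F] [Finite F] [CharP F 2] {G : Type*} [Group G]

/-- `h` is a diagonal element with character `χ` -/
structure Tor (h : Γ F) (χ : ℕ → F) : Prop where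
  ne : ∀ r < 48, χ r ≠ 0
  neg : ∀ r < 48, χ (47 - r) = (χ r)⁻¹
  mul : ∀ r < 48, ∀ s < 48, ad r s < 48 → χ (ad r s) = χ r * χ s
  conj : ∀ r < 48, ∀ a, h * xx r a * h⁻¹ = xx r (χ r * a)

/-- `φ` is the field automorphism `σ` -/
def Fa (σ : F ≃+* F) (φ : Γ F ≃* Γ F) : Prop := ∀ r < 48, ∀ a, φ (xx r a) = xx r (σ a)

instance finΓ : Finite (Γ F) := inferInstance
instance simpleΓ : IsSimpleGroup (Γ F) := (isSimpleGroup_group F42S.memF4 (by
  rintro (h | h) <;> exact absurd (congrArg ChevalleyDatum.rank h) (by decide))).1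

theorem xx_zero (r : ℕ) : (xx r 0 : Γ F) = 1 := by
  by_cases hr : r < chevF4.nroots
  · exact isSt_xC.toIsSt0.x_zero hr
  · exact xC_of_not_lt hr 0

theorem xx_cm {r s : ℕ} (hr : r < 48) (hs : s < 48) (n1 : s ≠ r) (n2 : s ≠ 47 - r) (t u : F) :
    (xx s u * xx r t : Γ F) = xx r t * xx s u *
      ((tm r s).map fun c => xx c.1 (t ^ c.2.1 * u ^ c.2.2)).prod := by
  rw [← commWord_tm (fun r _ => xx_zero r) hr hs]
  exact isSt_xC.comm r s hr hs n1 (by rwa [F42S.neg_eq hr]) t u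

theorem nY_eq {i : ℕ} (hi : i < 4) : nY (xx (F := F)) (sm i) = nn chevF4 (xC chevF4 F) (chevF4.simple i) 1 := by
  rw [nn, (md_sr i hi).1, (md_sr i hi).2.1, inv_one, CharTwo.neg_eq]
  rfl

theorem md_ne {r s : ℕ} (hr : r < 48) (h : lg s ≠ lg r ∨ (ip r s ≠ if lg r then 16 else 12) ∧
    ip r s ≠ if lg r then 0 else 4) : s ≠ r ∧ s ≠ 47 - r := by
  obtain ⟨h1, h2, h3⟩ := md_ip r hr
  constructor <;> rintro rfl <;> simp_all
theorem relΓ : Rel (I0 F) (xx (F := F)) := by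
  have hN := F42S.TN
  have add : ∀ r < 48, ∀ e f : F, (xx r e * xx r f : Γ F) = xx r (e + f) := (isSt_xC (D := chevF4) (F := F)).add
  refine ⟨CharTwo.add_self_eq_zero, fun _ => rfl, fun r hr e f _ _ => add r hr e f,
    fun r hr e _ h => (isND_xC rootTableF4).eq_zero_of_x_eq_one (by omega) h,
    fun r hr s hs h e f _ _ => ?_, fun r hr s hs h1 h2 h3 e f _ _ => ?_,
    fun r hr s hs h1 h2 h3 e f => ?_, fun r hr s hs h1 h2 h3 e f => ?_,
    fun r hr s hs h1 h2 h3 e f _ _ => ?_, fun r hr s hs h1 h2 h3 e f _ => ?_, fun i hi r hr e _ => ?_⟩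
  · by_cases k : s = r
    · rw [k, Commute, SemiconjBy, add r hr, add r hr, add_comm]
    · have := xx_cm hr hs k (md_mo r hr s hs h).1 e f
      rw [(md_mo r hr s hs h).2, List.map_nil, List.prod_nil, mul_one] at this
      exact this.symm
  · have n := md_ne (s := s) hr (by simp [h1, h3])
    have := xx_cm hr hs n.1 n.2 e f
    simp only [tm, h1, h2, h3] at this
    simpa [Commute, SemiconjBy] using this.symm
  · have n := md_ne (s := s) hr (by simp [h1, h3])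
    have := xx_cm hr hs n.1 n.2 e f
    simp only [tm, h1, h2, h3] at this
    simpa [CharTwo.add_self_eq_zero, xx_zero] using this
  · have n := md_ne (s := s) hr (by simp [h1, h3])
    have := xx_cm hr hs n.1 n.2 e f
    simp only [tm, h1, h2, h3] at this
    simpa using this
  · have n := md_ne (s := s) hr (by simp [h1, h3])
    have := xx_cm hr hs n.1 n.2 e f
    simp only [tm, h1, h2, h3] at this
    simpa using this
  · have n := md_ne (s := s) hr (by simp [h1, h2])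
    have := xx_cm hr hs n.1 n.2 e f
    simp only [tm, h1, h2, h3] at this
    simpa [pow_two] using this
  · obtain ⟨η, hη⟩ := (isSt_xC (D := chevF4) (F := F)).nconj' rootTableF4 ⟨i, hi⟩
    obtain ⟨h1, -, h2⟩ := hη r (by omega)
    have h3 : η r = 1 := h1.elim id fun k => k.trans (CharTwo.neg_eq 1)
    rw [nY_eq hi, RingEquiv.refl_apply, ite_self, ← (md_sr i hi).2.2 r hr]
    exact (h2 e).trans (by rw [h3, one_mul]; rfl)
theorem fldΓ : Fld (I0 F) := ⟨one_ne_zero, fun e _ h => ⟨e⁻¹, rfl, mul_inv_cancel₀ h⟩, .inl fun _ => rfl⟩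
theorem XL_eq' (S : Set ℕ) : XL F S = XS (xC chevF4 F) S :=
  le_antisymm (YS_le.2 fun _ hr e _ => mem_XS hr e) (XS_le.2 fun r hr e => mem_YS hr (ok_refl r e))
theorem top_eq : UU F 0 = ⊤ := by
  rw [← Gs_xC (D := chevF4)]
  exact (XL_eq' _).trans (congrArg _ (Set.ext fun r => ⟨fun h => h.2, fun h => ⟨Nat.zero_le r, h⟩⟩))
theorem XL_eq (S : Set ℕ) : XL F S = XS (xC chevF4 F) S := XL_eq' S
theorem U_eq : UU F 24 = Us chevF4 (xC chevF4 F) := by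
  rw [rootTableF4.Us_eq, F42S.TN]
  exact XL_eq _
theorem hom_ext {f g : Γ F →* G} (h : ∀ r < 48, ∀ a, f (xx r a) = g (xx r a)) : f = g := hom_ext_roots h
theorem eq_one_of_comm {g : Γ F} (h : ∀ r < 48, ∀ a, Commute g (xx r a)) : g = 1 := by
  have h2 : g ∈ center (Γ F) := mem_center_iff.2 fun a =>
    (YS_comm (fun r hr e _ => h r hr.2 e) (top_eq.ge (mem_top a))).eq.symm
  rwa [center_group_eq_bot rootTableF4] at h2
theorem perfΓ : _root_.commutator (Γ F) = ⊤ := by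
  have := (relΓ (F := F)).perf
  rw [show SK (I0 F) xx 0 = ⊤ from top_eq] at this
  exact this
theorem Rel.isSt0 {Y : ℕ → F → G} (h : Rel (I0 F) Y) : IsSt0 chevF4 Y := by
  refine ⟨fun r hr a b => h.add r hr a b (ok_refl _ _) (ok_refl _ _), fun r s hr hs n1 n2 t u => ?_⟩
  rw [F42S.neg_eq hr] at n2
  rw [commWord_tm (fun r hr => h.zero hr) hr hs]
  rcases md_cl r hr s hs n2 with ⟨k1, k2⟩ | ⟨k1, k2, k3⟩ | ⟨k1, k2, k3⟩ | ⟨k1, k2, k3⟩ |
    ⟨k1, k2, k3, k4, k5, k6, k7, k8, k9⟩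
  · rw [k2, List.map_nil, List.prod_nil, mul_one]
    exact (h.comm0 (fun _ => rfl) hr hs n2 k1 t u).eq.symm
  · simpa [tm, k1, k2, k3] using h.cs r hr s hs k1 k2 k3 t u
  · simpa [tm, k1, k2, k3] using h.cl r hr s hs k1 k2 k3 t u rfl rfl
  · simpa [tm, k1, k2, k3, pow_two] using h.cm r hr s hs k1 k2 k3 t u rfl
  · have e := h.cm s hs r hr k2 k1 k4 u t rfl
    rw [k5, RingEquiv.refl_apply] at e
    have c := (h.comm0 (fun _ => rfl) k6 k7 k8 k9 (u * t) (u * (t * t))).eq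
    have e' : Y s u * Y r t = Y r t * Y s u * (Y (ad r s) (u * t) * Y (ad (ad r s) r) (u * (t * t))) := by
      rw [← mul_inv_eq_iff_eq_mul, mul_inv_rev, h.inv k6 (ok_refl _ _), h.inv k7 (ok_refl _ _), ← c, ← e]
    simpa [tm, k1, k2, k3, pow_two, mul_comm u] using e'

/-- `Rel` gives `IsSt0 chevF4 Y`; `exists_hom0`; injective by simplicity -/
theorem exists_hom {Y : ℕ → F → G} (h : Rel (I0 F) Y) :
    ∃ φ : Γ F →* G, Function.Injective φ ∧ ∀ r < 48, ∀ a, φ (xx r a) = Y r a := by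
  have hD := F42S.memF4
  obtain ⟨ψ, hψ⟩ := h.isSt0.exists_lift3 (Mult.isR3_of_finite hD h.isSt0) rootTableF4
  obtain ⟨π, hπ⟩ := (isSt_xC (D := chevF4) (F := F)).toIsSt0.exists_lift3 isR3_xC rootTableF4
  have h1 : π.ker = ⊥ := ((isSt0_stGen.isSt hD).ker_eq_center rootTableF4 π hπ Gs_stGen).trans
    (S1078.result chevF4 (by simp))
  let e := MulEquiv.ofBijective π ⟨(MonoidHom.ker_eq_bot_iff π).1 h1, surjective_of_hom π hπ⟩
  have k : ∀ r < 48, ∀ a, (ψ.comp e.symm.toMonoidHom) (xx r a) = Y r a := fun r hr s => by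
    rw [← hψ r hr, xx, ← hπ r hr]
    exact congrArg ψ (e.symm_apply_apply _)
  refine ⟨_, ?_, k⟩
  generalize ψ.comp e.symm.toMonoidHom = φ at k
  rcases φ.normal_ker.eq_bot_or_eq_top with c | c
  · exact (MonoidHom.ker_eq_bot_iff φ).1 c
  · exact absurd (h.inj 0 (by omega) 1 (ok_refl _ _) ((k 0 (by omega) 1).symm.trans (c.ge (mem_top _))))
      one_ne_zero

theorem xx_wn {i r : ℕ} (hi : i < 4) (hr : r < 48) (a : F) :
    nY xx (sm i) * xx r a * (nY xx (sm i))⁻¹ = xx (sr i r) a := by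
  rw [relΓ.wn i hi r hr a (ok_refl _ _), RingEquiv.refl_apply, ite_self]

theorem xx_ww {w : List ℕ} (hw : ∀ i ∈ w, i < 4) {r : ℕ} (hr : r < 48) (a : F) :
    ww xx w * xx r a * (ww xx w)⁻¹ = xx (aw w r) a := by
  rw [relΓ.ww_conj hw hr (ok_refl _ _), tp, RingEquiv.refl_apply, ite_self]
theorem exists_gam : ∃ γ : Γ F ≃* Γ F, Gam γ := by
  obtain ⟨γ, h⟩ := S1098.result (K := F) (bijective_frobenius F 2).2
    (chevF4, [(3, 2), (2, 2), (1, 1), (0, 1)]) (by simp)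
  have k : ∀ i < 4, ∀ t : F, γ (xx (sm i) t) = xx (sm (3 - i)) (t ^ if i < 2 then 2 else 1) ∧
      γ (xx (47 - sm i) t) = xx (47 - sm (3 - i)) (t ^ if i < 2 then 2 else 1) := fun i hi t => by
    have e : ([(3, 2), (2, 2), (1, 1), (0, 1)].getD i (0, 1)) = (3 - i, if i < 2 then 2 else 1) := by
      interval_cases i <;> rfl
    have h1 := fun g => h g i t hi
    simp only [e, (md_sr i hi).1, (md_sr i hi).2.1, (md_sr (3 - i) (by omega)).1,
      (md_sr (3 - i) (by omega)).2.1] at h1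
    exact ⟨eq_xC_iff.1 ((h1 _).1 rfl), eq_xC_iff.1 ((h1 _).2 rfl)⟩
  have kn : ∀ i < 4, γ (nY xx (sm i)) = nY xx (sm (3 - i)) := fun i hi => by
    simp only [nY, map_mul, k i hi, one_pow]
  have st : ∀ i < 4, ∀ r < 48, (∀ a : F, γ (xx r a) = xx (gm r) (if lg r = true then a else a ^ 2)) →
      ∀ a : F, γ (xx (sr i r) a) = xx (gm (sr i r)) (if lg (sr i r) = true then a else a ^ 2) :=
    fun i hi r hr p a => by
      rw [← xx_wn hi hr, map_mul, map_mul, map_inv, kn i hi, p, xx_wn (by omega) (F42S.tab_gm r hr).1,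
        (F42S.tab_gm r hr).2.2.2.2.2 i hi, (F42S.tab_sr i hi r hr).2.2.1]
  refine ⟨γ, fun r hr => ?_⟩
  cases e : lg r
  · exact e ▸ F42S.ind1 st (r := 33) (by omega) hr (e ▸ by decide) fun a => (k 0 (by omega) a).1
  · exact e ▸ F42S.ind1 st (r := 24) (by omega) hr (e ▸ by decide) fun a =>
      (k 3 (by omega) a).1.trans (congrArg _ (pow_one a))
theorem exists_fa (σ : F ≃+* F) : ∃ φ : Γ F ≃* Γ F, Fa σ φ := ⟨fieldAut chevF4 F σ, fun r _ a => fieldAut_xC σ r a⟩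
theorem Gam.sq {γ : Γ F ≃* Γ F} (h : Gam γ) {r : ℕ} (hr : r < 48) (a : F) :
    γ (γ (xx r a)) = xx r (a ^ 2) := by
  obtain ⟨h1, h2, h3, -⟩ := F42S.tab_gm r hr
  rw [h r hr, h _ h1, h2, h3]
  cases lg r <;> rfl

theorem aut_XL (φ : Γ F ≃* Γ F) {S S' : Set ℕ} (h1 : ∀ r ∈ S, ∀ a, φ (xx r a) ∈ XL F S')
    (h2 : ∀ s ∈ S', ∀ a, ∃ r ∈ S, ∃ b, φ (xx r b) = xx s a) (g : Γ F) : φ g ∈ XL F S' ↔ g ∈ XL F S := by
  refine ⟨fun k => ?_, fun k => YS_le (H := (XL F S').comap φ.toMonoidHom).2 (fun r hr a _ => h1 r hr a) k⟩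
  obtain ⟨g', hg, e⟩ := YS_le (H := (XL F S).map φ.toMonoidHom).2 (fun s hs a _ => by
    obtain ⟨r, hr, b, e⟩ := h2 s hs a
    exact ⟨_, mem_YS hr (ok_refl r b), e⟩) k
  exact φ.injective e ▸ hg
theorem Gam.XL {γ : Γ F ≃* Γ F} (h : Gam γ) {S S' : Set ℕ} (h1 : ∀ r ∈ S, r < 48)
    (h2 : ∀ r < 48, r ∈ S ↔ gm r ∈ S') (h3 : ∀ r ∈ S', r < 48) (g : Γ F) :
    γ g ∈ XL F S' ↔ g ∈ XL F S := by
  refine aut_XL γ (fun r hr a => ?_) (fun s hs a => ?_) g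
  · rw [h r (h1 r hr)]
    exact mem_YS ((h2 r (h1 r hr)).1 hr) (ok_refl _ _)
  · obtain ⟨k1, k2, -⟩ := F42S.tab_gm s (h3 s hs)
    obtain ⟨b, hb⟩ := (bijective_frobenius F 2).2 a
    refine ⟨gm s, (h2 _ k1).2 (k2.symm ▸ hs), if lg (gm s) = true then a else b, ?_⟩
    rw [h _ k1, k2]
    cases lg (gm s)
    · exact congrArg _ hb
    · rfl
theorem Fa.XL {σ : F ≃+* F} {φ : Γ F ≃* Γ F} (h : Fa σ φ) {S : Set ℕ} (h1 : ∀ r ∈ S, r < 48)
    (g : Γ F) : φ g ∈ XL F S ↔ g ∈ XL F S :=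
  aut_XL φ (fun r hr a => by rw [h r (h1 r hr)]; exact mem_YS hr (ok_refl _ _))
    (fun s hs a => ⟨s, hs, σ.symm a, by rw [h s (h1 s hs), σ.apply_symm_apply]⟩) g
theorem Tor.one : Tor (1 : Γ F) fun _ => 1 :=
  ⟨fun _ _ => one_ne_zero, fun _ _ => inv_one.symm, fun _ _ _ _ _ => (mul_one _).symm, fun _ _ _ => by simp⟩
theorem Tor.mul' {h h' : Γ F} {χ χ' : ℕ → F} (a : Tor h χ) (b : Tor h' χ') :
    Tor (h * h') fun r => χ r * χ' r :=
  ⟨fun r hr => mul_ne_zero (a.ne r hr) (b.ne r hr), fun r hr => by rw [a.neg r hr, b.neg r hr, mul_inv],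
    fun r hr s hs k => by rw [a.mul r hr s hs k, b.mul r hr s hs k]; ring,
    fun r hr c => by rw [mul_assoc (χ r), ← a.conj r hr, ← b.conj r hr]; group⟩
theorem Tor.inv {h : Γ F} {χ : ℕ → F} (a : Tor h χ) : Tor h⁻¹ fun r => (χ r)⁻¹ :=
  ⟨fun r hr => inv_ne_zero (a.ne r hr), fun r hr => by rw [a.neg r hr],
    fun r hr s hs k => by rw [a.mul r hr s hs k, mul_inv], fun r hr c => by
      have := a.conj r hr ((χ r)⁻¹ * c)
      rw [mul_inv_cancel_left₀ (a.ne r hr)] at this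
      rw [← this]; group⟩
theorem Tor.eq_one {h : Γ F} {χ : ℕ → F} (a : Tor h χ) (e : ∀ r < 48, χ r = 1) : h = 1 :=
  eq_one_of_comm fun r hr c => by
    have := a.conj r hr c
    rwa [e r hr, one_mul, mul_inv_eq_iff_eq_mul] at this
theorem Tor.pow {h : Γ F} {χ : ℕ → F} (a : Tor h χ) (n : ℕ) : Tor (h ^ n) fun r => χ r ^ n := by
  induction n with
  | zero => simpa using Tor.one
  | succ n ih => simpa only [pow_succ] using ih.mul' a
theorem Tor.odd {h : Γ F} {χ : ℕ → F} (a : Tor h χ) : Odd (orderOf h) := by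
  have := Fintype.ofFinite F
  obtain ⟨n, -, hn⟩ := FiniteField.card F 2
  have h1 := (a.pow (Fintype.card F - 1)).eq_one fun r hr =>
    FiniteField.pow_card_sub_one_eq_one _ (a.ne r hr)
  refine Odd.of_dvd_nat ?_ (orderOf_dvd_of_pow_eq_one h1)
  rw [hn]
  exact Nat.Even.sub_odd Nat.one_le_two_pow (Nat.even_pow.2 ⟨even_two, n.ne_zero⟩) odd_one
theorem Tor.comm {h h' : Γ F} {χ χ' : ℕ → F} (a : Tor h χ) (b : Tor h' χ') : Commute h h' := by
  have := (((a.mul' b).mul' a.inv).mul' b.inv).eq_one fun r hr => by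
    have := a.ne r hr
    have := b.ne r hr
    field_simp
  exact commutatorElement_eq_one_iff_commute.1 this
theorem Tor.norm {h : Γ F} {χ : ℕ → F} (a : Tor h χ) {S : Set ℕ} (h1 : ∀ r ∈ S, r < 48) :
    h ∈ 𝐍[XL F S] :=
  mem_normalizer_iff.2 fun g => (aut_XL (MulAut.conj h)
    (fun r hr c => by rw [MulAut.conj_apply, a.conj r (h1 r hr)]; exact mem_YS hr (ok_refl _ _))
    (fun s hs c => ⟨s, hs, (χ s)⁻¹ * c, by
      rw [MulAut.conj_apply, a.conj s (h1 s hs), mul_inv_cancel_left₀ (a.ne s (h1 s hs))]⟩) g).symm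
theorem aw_neg {w : List ℕ} (hw : ∀ i ∈ w, i < 4) {r : ℕ} (hr : r < 48) :
    aw w (47 - r) = 47 - aw w r := by
  induction w with
  | nil => rfl
  | cons i w ih =>
    rw [List.forall_mem_cons] at hw
    rw [F42S.aw_cons, F42S.aw_cons, ih hw.2, (F42S.tab_sr i hw.1 _ (F42S.aw_lt hw.2 hr)).2.2.2.1]
theorem Tor.ww {h : Γ F} {χ : ℕ → F} (a : Tor h χ) {w : List ℕ} (hw : ∀ i ∈ w, i < 4) :
    Tor ((ww xx w)⁻¹ * h * ww xx w) fun r => χ (aw w r) := by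
  refine ⟨fun r hr => a.ne _ (F42S.aw_lt hw hr), fun r hr => by rw [aw_neg hw hr, a.neg _ (F42S.aw_lt hw hr)],
    fun r hr s hs k => ?_, fun r hr c => ?_⟩
  · have e := (F42S.aw_tab hw hr hs).2.2 k
    rw [← e]
    exact a.mul _ (F42S.aw_lt hw hr) _ (F42S.aw_lt hw hs) (e ▸ F42S.aw_lt hw k)
  · have e := a.conj _ (F42S.aw_lt hw hr) c
    rw [← xx_ww hw hr, ← xx_ww hw hr] at e
    calc _ = (F4Q.ww xx w)⁻¹ * (h * (F4Q.ww xx w * xx r c * (F4Q.ww xx w)⁻¹) * h⁻¹) * F4Q.ww xx w := by group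
      _ = _ := by rw [e]; group
theorem tor_of_Hs {h : Γ F} (hh : h ∈ Hs chevF4 (xC chevF4 F)) : ∃ χ, Tor h χ := by
  obtain ⟨c, hc⟩ := conj_eq_diagAut hh
  obtain ⟨h1, h2⟩ := isRootCharacter_rootChar' (D := chevF4) c
  refine ⟨fun r => rootChar' c r, fun r _ => Units.ne_zero _, fun r hr => ?_, fun r hr s hs k => ?_,
    fun r hr a => ?_⟩
  · rw [← F42S.neg_eq hr, h1 r hr, Units.val_inv_eq_inv_val]
  · rw [h2 r s _ hr hs (md_ad r hr s hs k), Units.val_mul]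
  · rw [← MulAut.conj_apply, hc, rootChar'_eq c ⟨r, hr⟩]
    exact diagAut_xC c ⟨r, hr⟩ a
theorem tor_hh {i : ℕ} (hi : i < 4) {c : F} (hc : c ≠ 0) : ∃ h χ, Tor h χ ∧ ∀ j < 4, χ (sm j) =
    c ^ (([[2, -1, 0, 0], [-1, 2, -2, 0], [0, -1, 2, -1], [0, 0, -1, 2]].getD i []).getD j 0 : ℤ) := by
  have hN := F42S.TN
  have l := fun j hj => (F42S.tab_sm j hj).1
  obtain ⟨χ, h⟩ := tor_of_Hs (hh_mem_Hs (D := chevF4) (l i hi) hc)
  refine ⟨_, χ, h, fun j hj => ?_⟩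
  have := l i hi
  have := l j hj
  have e := (h.conj _ (l j hj) 1).symm.trans
    (isSt_xC.hh_conj rootTableF4 (r := sm i) (by omega) (s := sm j) (by omega) hc 1)
  rw [← md_ct i hi j hj]
  simpa using relΓ.eq (l j hj) (ok_refl _ _) (ok_refl _ _) e
/-- the Cartan matrix has determinant one -/
theorem exists_tor (a b c d : F) (ha : a ≠ 0) (hb : b ≠ 0) (hc : c ≠ 0) (hd : d ≠ 0) :
    ∃ h χ, Tor h χ ∧ χ 24 = a ∧ χ 25 = b ∧ χ 27 = c ∧ χ 33 = d := by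
  obtain ⟨_, χ0, t0, e0⟩ := tor_hh (i := 0) (by omega) (c := d ^ 2 * c ^ 3 * b ^ 2 * a) (by positivity)
  obtain ⟨_, χ1, t1, e1⟩ := tor_hh (i := 1) (by omega) (c := d ^ 3 * c ^ 6 * b ^ 4 * a ^ 2) (by positivity)
  obtain ⟨_, χ2, t2, e2⟩ := tor_hh (i := 2) (by omega) (c := d ^ 4 * c ^ 8 * b ^ 6 * a ^ 3) (by positivity)
  obtain ⟨_, χ3, t3, e3⟩ := tor_hh (i := 3) (by omega) (c := d ^ 2 * c ^ 4 * b ^ 3 * a ^ 2) (by positivity)
  refine ⟨_, _, ((t0.mul' t1).mul' t2).mul' t3, ?_, ?_, ?_, ?_⟩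
  · rw [show χ0 24 = _ from e0 3 (by omega), show χ1 24 = _ from e1 3 (by omega),
      show χ2 24 = _ from e2 3 (by omega), show χ3 24 = _ from e3 3 (by omega)]
    simp [zpow_ofNat]
    field_simp
  · rw [show χ0 25 = _ from e0 2 (by omega), show χ1 25 = _ from e1 2 (by omega),
      show χ2 25 = _ from e2 2 (by omega), show χ3 25 = _ from e3 2 (by omega)]
    simp [zpow_ofNat]
    field_simp
  · rw [show χ0 27 = _ from e0 1 (by omega), show χ1 27 = _ from e1 1 (by omega),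
      show χ2 27 = _ from e2 1 (by omega), show χ3 27 = _ from e3 1 (by omega)]
    simp [zpow_ofNat]
    field_simp
  · rw [show χ0 33 = _ from e0 0 (by omega), show χ1 33 = _ from e1 0 (by omega),
      show χ2 33 = _ from e2 0 (by omega), show χ3 33 = _ from e3 0 (by omega)]
    simp [zpow_ofNat]
    field_simp
/-- diagonal automorphisms are inner (`exists_tor`) -/
theorem aut {γ : Γ F ≃* Γ F} (h : Gam γ) (α : Γ F ≃* Γ F) : ∃ l σ φ, Fa σ φ ∧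
    ((∀ b, α b = l * φ b * l⁻¹) ∨ ∀ b, α b = l * γ (φ b) * l⁻¹) := by
  obtain ⟨g, c, π, γ', σ, h1, h2, e⟩ := exists_aut_decomp F42S.memF4 α
  obtain ⟨k, χ, t, e3, e2, e1, e0⟩ := exists_tor (c ⟨3, by decide⟩ : F) (c ⟨2, by decide⟩) (c ⟨1, by decide⟩)
    (c ⟨0, by decide⟩) (Units.ne_zero _) (Units.ne_zero _) (Units.ne_zero _) (Units.ne_zero _)
  have l : ∀ i : Fin chevF4.rank, chevF4.simple i = sm i ∧ chevF4.neg (sm i) = 47 - sm i ∧ sm i < 48 :=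
    fun i => ⟨(md_sr i i.2).1, (md_sr i i.2).2.1, (F42S.tab_sm i i.2).1⟩
  have ec : ∀ i : Fin chevF4.rank, χ (sm i) = c i := fun ⟨i, hi⟩ => by
    have : i < 4 := hi
    interval_cases i
    exacts [(congrArg χ (by decide : sm 0 = 33)).trans e0, (congrArg χ (by decide : sm 1 = 27)).trans e1,
      (congrArg χ (by decide : sm 2 = 25)).trans e2, (congrArg χ (by decide : sm 3 = 24)).trans e3]
  have e4 : diagAut chevF4 F c = MulAut.conj k := aut_ext_simple rootTableF4 (fun i a => by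
      rw [diagAut_simple, (l i).1, ← ec]
      exact (t.conj _ (l i).2.2 a).symm) fun i a => by
    rw [diagAut_neg_simple, (l i).1, (l i).2.1, Units.val_inv_eq_inv_val, ← ec, ← t.neg _ (l i).2.2]
    exact (t.conj _ (by omega) a).symm
  have e5 : ∀ b, α b = g * k * γ' (fieldAut chevF4 F σ b) * (g * k)⁻¹ := fun b => by
    rw [e, e4, ← mul_assoc, ← mul_assoc, ← map_mul]
    rfl
  refine ⟨g * k, σ, fieldAut chevF4 F σ, fun r _ a => fieldAut_xC σ r a, ?_⟩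
  rcases md_sym π π.injective h1 with p | p
  · obtain rfl : π = 1 := Equiv.ext p
    rw [h2.unique rootTableF4 isGraph_one] at e5
    exact .inl e5
  · have : IsGraph chevF4 π γ := fun i a => by
      have hi : (i : ℕ) < 4 := i.2
      rw [ringChar.eq F 2, (p i).2, (l i).1, (l (π i)).1, (l i).2.1, (l (π i)).2.1, (p i).1,
        ← (F42S.tab_sm i hi).2.1, ← (F42S.tab_gm _ (l i).2.2).2.2.2.1]
      refine ⟨(h _ (l i).2.2 a).trans ?_, (h _ (by omega) a).trans ?_⟩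
      · cases lg (sm i) <;> simp [xx]
      · rw [(md_ip _ (l i).2.2).2.2]
        cases lg (sm i) <;> simp [xx]
    rw [h2.unique rootTableF4 this] at e5
    exact .inr e5
/-- two independent roots (`orb2` reduces to the pairs of `F42S.dom`; square roots exist) -/
theorem tor2 {r s : ℕ} (hr : r < 48) (hs : s < 48) (n1 : s ≠ r) (n2 : s ≠ 47 - r) {a b : F}
    (ha : a ≠ 0) (hb : b ≠ 0) : ∃ h χ, Tor h χ ∧ χ r = a ∧ χ s = b := by
  obtain ⟨p, hp, k1, k2, k3⟩ := md_reps r hr s hs n1 n2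
  suffices k : (p.1 < 48 ∧ p.2 < 48) ∧ ∃ h χ, Tor h χ ∧ χ p.1 = a ∧ χ p.2 = b by
    obtain ⟨⟨l1, l2⟩, h, χ, t, e1, e2⟩ := k
    obtain ⟨w, hw, w1, w2⟩ := F42S.orb2 hr hs l1 l2 k1 k2 k3
    exact ⟨_, _, t.ww hw, by rw [w1, e1], by rw [w2, e2]⟩
  have o := one_ne_zero (α := F)
  have ia := inv_ne_zero ha
  have ib := inv_ne_zero hb
  have m28 : ∀ {h : Γ F} {χ : ℕ → F}, Tor h χ → χ 28 = χ 25 * χ 27 := fun t =>
    t.mul 25 (by omega) 27 (by omega) (by decide)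
  have m30 : ∀ {h : Γ F} {χ : ℕ → F}, Tor h χ → χ 30 = χ 28 * χ 27 := fun t =>
    t.mul 28 (by omega) 27 (by omega) (by decide)
  clear k1 k2 k3
  simp only [reps, List.mem_cons, List.not_mem_nil, or_false] at hp
  rcases hp with rfl | rfl | rfl | rfl | rfl | rfl | rfl | rfl | rfl | rfl | rfl | rfl <;>
    refine ⟨by decide, ?_⟩
  · obtain ⟨h, χ, t, -, -, e1, e2⟩ := exists_tor 1 1 b a o o hb ha
    exact ⟨h, χ, t, e2, e1⟩
  · obtain ⟨h, χ, t, -, -, e1, e2⟩ := exists_tor 1 1 b⁻¹ a o o ib ha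
    exact ⟨h, χ, t, e2, (t.neg 27 (by omega)).trans (by rw [e1, inv_inv])⟩
  · obtain ⟨h, χ, t, -, e1, e2, -⟩ := exists_tor 1 (b * a⁻¹) a 1 o (mul_ne_zero hb ia) ha o
    exact ⟨h, χ, t, e2, by rw [m28 t, e1, e2, inv_mul_cancel_right₀ ha]⟩
  · obtain ⟨h, χ, t, e1, e2, -⟩ := exists_tor a b 1 1 ha hb o o
    exact ⟨h, χ, t, e1, e2⟩
  · obtain ⟨h, χ, t, e1, e2, -⟩ := exists_tor a b⁻¹ 1 1 ha ib o o
    exact ⟨h, χ, t, e1, (t.neg 25 (by omega)).trans (by rw [e2, inv_inv])⟩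
  · obtain ⟨c, hc⟩ := (bijective_frobenius F 2).2 (b * a⁻¹)
    rw [frobenius_def] at hc
    obtain ⟨h, χ, t, -, e1, e2, -⟩ := exists_tor 1 a c 1 o ha
      (fun k => mul_ne_zero hb ia (by rw [← hc, k, zero_pow two_ne_zero])) o
    exact ⟨h, χ, t, e1, by rw [m30 t, m28 t, e1, e2, mul_assoc, ← pow_two, hc, mul_comm,
      inv_mul_cancel_right₀ ha]⟩
  · obtain ⟨h, χ, t, -, e1, e2, -⟩ := exists_tor 1 b a 1 o hb ha o
    exact ⟨h, χ, t, e2, e1⟩
  · obtain ⟨h, χ, t, -, e1, e2, -⟩ := exists_tor 1 b⁻¹ a 1 o ib ha o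
    exact ⟨h, χ, t, e2, (t.neg 25 (by omega)).trans (by rw [e1, inv_inv])⟩
  · obtain ⟨h, χ, t, -, e1, -, e2⟩ := exists_tor 1 b 1 a o hb o ha
    exact ⟨h, χ, t, e2, e1⟩
  · obtain ⟨h, χ, t, -, e1, e2, -⟩ := exists_tor 1 a b 1 o ha hb o
    exact ⟨h, χ, t, e1, e2⟩
  · obtain ⟨h, χ, t, -, e1, e2, -⟩ := exists_tor 1 a⁻¹ b 1 o ia hb o
    exact ⟨h, χ, t, (t.neg 25 (by omega)).trans (by rw [e1, inv_inv]), e2⟩
  · obtain ⟨h, χ, t, -, e1, -, e2⟩ := exists_tor 1 a 1 b o ha o hb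
    exact ⟨h, χ, t, e1, e2⟩
theorem nw_eq (l : List (Fin chevF4.rank)) :
    nw chevF4 (xC chevF4 F) l = ww xx (l.map Fin.val) := by
  induction l with
  | nil => rfl
  | cons i l ih => rw [nw_cons, ih, ← nY_eq i.2]; rfl
theorem bruhat (g : Γ F) : ∃ u ∈ UU F 24, ∃ h χ, Tor h χ ∧ ∃ w : List ℕ, (∀ i ∈ w, i < 4) ∧
    ∃ u' ∈ UU F 24, g = u * h * ww xx w * u' := by
  have st := isSt_xC (D := chevF4) (F := F)
  obtain ⟨b, hb, n, hn, c, hc, rfl⟩ := st.exists_BNB rootTableF4 (g := g) (by rw [Gs_xC]; trivial)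
  obtain ⟨u, hu, k, hk, rfl⟩ := (st.mem_Bs_iff rootTableF4).1 hb
  obtain ⟨k', hk', u', hu', rfl⟩ := (st.mem_Bs_iff' rootTableF4).1 hc
  obtain ⟨h, hh, l, e⟩ := st.exists_nw rootTableF4 (mul_mem (mul_mem (Hs_le_Ns hk) hn) (Hs_le_Ns hk'))
  obtain ⟨χ, t⟩ := tor_of_Hs hh
  refine ⟨u, U_eq.ge hu, h, χ, t, l.map Fin.val, fun i hi => ?_, u', U_eq.ge hu', ?_⟩
  · obtain ⟨j, -, rfl⟩ := List.mem_map.1 hi
    exact j.2
  · rw [← nw_eq, mul_assoc u h, ← e]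
    group
/-- if `h * ww w` lies in `B` then `w` fixes all roots -/
theorem aw_id {w : List ℕ} (hw : ∀ i ∈ w, i < 4) (h : ∀ r, 24 ≤ r → r < 48 → 24 ≤ aw w r) :
    ∀ r < 48, aw w r = r := by
  have hN := F42S.TN
  obtain ⟨v, hv⟩ : ∃ v : rootTableF4.W, ∀ r < 48, aw w r = rootTableF4.act v r := by
    clear h
    induction w with
    | nil => exact ⟨1, fun r _ => (rootTableF4.act_one r).symm⟩
    | cons i w ih =>
      rw [List.forall_mem_cons] at hw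
      obtain ⟨v, hv⟩ := ih hw.2
      refine ⟨rootTableF4.cs.simple ⟨i, hw.1⟩ * v, fun r hr => ?_⟩
      have := F42S.aw_lt hw.2 hr
      rw [F42S.aw_cons, rootTableF4.act_mul, ← hv r hr, rootTableF4.act_simple _ (by omega)]
      exact ((md_sr i hw.1).2.2 _ this).symm
  have v1 : v = 1 := rootTableF4.eq_one_of_act_pos fun i => by
    have h1 := rootTableF4.N_le_simple i
    have h2 := rootTableF4.simple_lt i
    rw [← hv _ (by omega), hN]
    exact h _ (by omega) (by omega)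
  intro r hr
  rw [hv r hr, v1, rootTableF4.act_one]
theorem xx_comm {r s : ℕ} (hr : r < 48) (hs : s < 48) (n : s ≠ 47 - r ∧ ¬ Nz r s) (a b : F) :
    Commute (xx r a : Γ F) (xx s b) := relΓ.comm0 (fun _ => rfl) hr hs n.1 n.2 a b
theorem U_comm {r : ℕ} (hr : r = 44 ∨ r = 47) {u : Γ F} (hu : u ∈ UU F 24) (a : F) : Commute (xx r a) u := by
  have : ∀ r ∈ [44, 47], ∀ s < 48, 24 ≤ s → s ≠ 47 - r ∧ ¬ Nz r s := by decide +kernel
  exact YS_comm (fun s hs e _ => xx_comm (by omega) hs.2 (this r (by simpa using hr) s hs.2 hs.1) a e) hu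
theorem pairΓ {r : ℕ} (hr : r = 44 ∨ r = 47) (k : Γ F) : ∃ u ∈ UU F 24, ∃ s < 48, lg s = lg r ∧
    ∃ e ≠ 0, ∀ a, k * xx r a * k⁻¹ = u * xx s (a * e) * u⁻¹ := by
  obtain ⟨u, hu, h, χ, t, w, hw, u', hu', rfl⟩ := bruhat k
  have l : r < 48 := by omega
  have l' := F42S.aw_lt hw l
  refine ⟨u, hu, aw w r, l', (F42S.aw_tab hw l l).1, χ (aw w r), t.ne _ l', fun a => ?_⟩
  rw [mul_comm a, ← t.conj _ l', ← xx_ww hw l]
  calc _ = u * h * ww xx w * (u' * xx r a) * u'⁻¹ * (u * h * ww xx w)⁻¹ := by group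
    _ = _ := by rw [← (U_comm hr hu' a).eq]; group
theorem sylΓ : IsSyl 2 (UU F 24) ⊤ := by
  refine isSyl_of_not_dvd_relIndex relΓ.two_SK le_top ?_
  rw [relIndex_top_right, U_eq]
  exact (isND_xC rootTableF4).not_dvd_index_Us isSt_xC Gs_xC 2 (not_dvd_card_Hs 2)
theorem card_UU {k : ℕ} (hk : 24 ≤ k) (hk' : k ≤ 48) : Nat.card (UU F k) = Nat.card F ^ (48 - k) := by
  rw [show UU F k = _ from XL_eq _, (isND_xC rootTableF4).card_XS isSt_xC.toIsSt0 (F42S.nil_up hk),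
    show {r | k ≤ r ∧ r < 48} = (Finset.Ico k 48 : Set ℕ) by ext; simp, Set.ncard_coe_finset,
    Nat.card_Ico]
theorem norm_U {g : Γ F} (hg : g ∈ 𝐍[UU F 24]) : ∃ u ∈ UU F 24, ∃ h χ, Tor h χ ∧ g = u * h := by
  rw [U_eq, (isND_xC rootTableF4).normalizer_Us isSt_xC Gs_xC] at hg
  obtain ⟨u, hu, k, hk, e⟩ := (isSt_xC.mem_Bs_iff rootTableF4).1 hg
  obtain ⟨χ, t⟩ := tor_of_Hs hk
  exact ⟨u, U_eq.ge hu, k, χ, t, e⟩
theorem sl2_root {r : ℕ} (hr : r < 48) (a : F) (h : (xx r 1 * xx (47 - r) a : Γ F) ^ 6 = 1) :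
    (xx r 1 * xx (47 - r) a : Γ F) ^ 3 = 1 ∨ (xx r 1 * xx (47 - r) a : Γ F) ^ 2 = 1 := by
  by_cases ha : a = 0
  · rw [ha, xx_zero, mul_one, pow_two]
    exact .inr (relΓ.sq hr (ok_refl _ _))
  obtain ⟨φ, -, h1, h2⟩ := (isSt_xC (D := chevF4) (F := F)).toIsSt0.exists_sl2_hom F42S.memF4 isR3_xC
    (r := r) hr
  rw [F42S.neg_eq hr] at h2
  have o := (sl2_odd ha).of_dvd_nat (orderOf_map_dvd φ _)
  rw [map_mul, h1, h2] at o
  exact .inl (orderOf_dvd_iff_pow_eq_one.1 ((Nat.coprime_two_right.2 o).dvd_of_dvd_mul_right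
    (orderOf_dvd_of_pow_eq_one (n := 3 * 2) h)))
/-- rank one: `n_r(a)` relations or the homomorphism from `SL₂` -/
theorem sl2Γ (a : F) (h : (xx 47 1 * xx 0 a : Γ F) ^ 6 = 1) :
    (xx 47 1 * xx 0 a : Γ F) ^ 3 = 1 ∨ (xx 47 1 * xx 0 a : Γ F) ^ 2 = 1 := sl2_root (r := 47) (by omega) a h
theorem cls {a : Γ F} (h2 : a * a = 1) (h1 : a ≠ 1) : IsConj (xx 47 1) a ∨ IsConj (xx 44 1) a ∨
    IsConj (xx 47 1 * xx 44 1) a ∨ IsConj (xx 39 1 * xx 45 1) a := by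
  have := Fintype.ofFinite F
  obtain ⟨y, hy, h3, g, hg, e⟩ := (S2174.result (F := F)).2.1 a a.2 (by
    rw [Subgroup.orderOf_coe]; exact orderOf_eq_prime (by rw [pow_two, h2]) h1)
  have k : ∀ b : Γ F, y.1 = b.1.1 → IsConj b a :=
    fun b hb => (F42S.conj_sub.2 ⟨g, hg, e.trans (Units.ext hb)⟩).symm
  simp only [List.mem_cons, List.not_mem_nil, or_false] at h3
  exact h3.imp (k _) (Or.imp (k _) (Or.imp (fun h => k _ (by simpa [xx] using h))
    fun h => k _ (by simpa [xx] using h)))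
theorem exists_two' : ∃ θ : F42S.L0 →* Γ F, Function.Injective θ ∧ ∀ r, θ (F42S.xx r) = xx r 1 :=
  ⟨fieldHom chevF4 (ZMod.castHom (dvd_refl 2) F), fieldHom_injective _, fun r => by
    rw [F42S.xx, fieldHom_xC, map_one]; rfl⟩
theorem ncls : ¬ IsConj (xx 47 1 : Γ F) (xx 44 1) ∧ ¬ IsConj (xx 47 1 : Γ F) (xx 47 1 * xx 44 1) ∧
    ¬ IsConj (xx 47 1 : Γ F) (xx 39 1 * xx 45 1) ∧ ¬ IsConj (xx 44 1 : Γ F) (xx 47 1 * xx 44 1) ∧
    ¬ IsConj (xx 44 1 : Γ F) (xx 39 1 * xx 45 1) ∧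
    ¬ IsConj (xx 47 1 * xx 44 1 : Γ F) (xx 39 1 * xx 45 1) := by
  have := Fintype.ofFinite F
  obtain ⟨θ, hθ, e⟩ := exists_two' (F := F)
  have k : ∀ u ∈ [[47], [44], [47, 44], [39, 45]], ∀ v ∈ [[47], [44], [47, 44], [39, 45]],
      F42S.Q u v = false → ¬ IsConj (θ (WG.el F42S.xx u)) (θ (WG.el F42S.xx v)) := fun u hu v hv hq hc => by
    have m : ∀ u ∈ [[47], [44], [47, 44], [39, 45]], (θ (WG.el F42S.xx u)).1.1 ∈
        [chevF4.x F 47 1, chevF4.x F 44 1, chevF4.x F 47 1 * chevF4.x F 44 1,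
          chevF4.x F 39 1 * chevF4.x F 45 1] := by simp [e, xx]
    exact F42S.Q_ne hq (hθ (Subtype.ext (Units.ext ((S2174.result (F := F)).2.2 _ (θ _).2 _ (θ _).2
      (m u hu) (m v hv) (F42S.conj_sub.1 hc)))))
  refine ⟨?_, ?_, ?_, ?_, ?_, ?_⟩
  · simpa [e] using k [47] (by simp) [44] (by simp) (by decide +kernel)
  · simpa [e] using k [47] (by simp) [47, 44] (by simp) (by decide +kernel)
  · simpa [e] using k [47] (by simp) [39, 45] (by simp) (by decide +kernel)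
  · simpa [e] using k [44] (by simp) [47, 44] (by simp) (by decide +kernel)
  · simpa [e] using k [44] (by simp) [39, 45] (by simp) (by decide +kernel)
  · simpa [e] using k [47, 44] (by simp) [39, 45] (by simp) (by decide +kernel)
theorem tor_z {a b : F} (ha : a ≠ 0) (hb : b ≠ 0) : ∃ (h : Γ F) (χ : ℕ → F), Tor h χ ∧
    h * xx 47 1 * h⁻¹ = xx 47 a ∧ h * xx 44 1 * h⁻¹ = xx 44 b := by
  obtain ⟨h, χ, t, e1, e2⟩ := tor2 (r := 47) (s := 44) (by omega) (by omega) (by omega) (by omega) ha hb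
  exact ⟨h, χ, t, by rw [t.conj _ (by omega), e1, mul_one], by rw [t.conj _ (by omega), e2, mul_one]⟩
theorem conj_long {r : ℕ} (hr : r < 48) (h : lg r = true) {a : F} (ha : a ≠ 0) :
    IsConj (xx 47 1 : Γ F) (xx r a) := by
  obtain ⟨k, χ, -, e, -⟩ := tor_z ha ha
  exact F42S.ind1 (P := fun r => IsConj (xx 47 1 : Γ F) (xx r a))
    (fun _ hi _ hs p => p.trans (isConj_iff.2 ⟨_, xx_wn hi hs a⟩)) (by omega) hr (h ▸ by decide)
    (isConj_iff.2 ⟨k, e⟩)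
theorem conj_short {r : ℕ} (hr : r < 48) (h : lg r = false) {a : F} (ha : a ≠ 0) :
    IsConj (xx 44 1 : Γ F) (xx r a) := by
  obtain ⟨k, χ, -, -, e⟩ := tor_z ha ha
  exact F42S.ind1 (P := fun r => IsConj (xx 44 1 : Γ F) (xx r a))
    (fun _ hi _ hs p => p.trans (isConj_iff.2 ⟨_, xx_wn hi hs a⟩)) (by omega) hr (h ▸ by decide)
    (isConj_iff.2 ⟨k, e⟩)
theorem conj_m {a b : F} (ha : a ≠ 0) (hb : b ≠ 0) :
    IsConj (xx 47 1 * xx 44 1 : Γ F) (xx 47 a * xx 44 b) := by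
  obtain ⟨k, χ, -, e, e'⟩ := tor_z ha hb
  exact isConj_iff.2 ⟨k, by rw [← e, ← e']; group⟩
theorem cen_of {S : Set ℕ} {x y g h : Γ F} {χ : ℕ → F} (t : Tor h χ) (e : h * x * h⁻¹ = y)
    (h0 : ∀ r ∈ S, r < 48) (h1 : ∀ r, 24 ≤ r → r < 48 → r ∈ S)
    (h2 : ∀ K : Subgroup (GL chevF4.Idx F), chevF4.posUnipotent F ≤ K →
      (∀ r ∈ S, chevF4.rootSubgroup F r ≤ K) → chevF4.group F ⊓ centralizer {x.1} ≤ K)
    (c : Commute g y) : g ∈ XL F S := by
  have k : ∀ r ∈ S, ∀ a, xG chevF4 F r a ∈ (XL F S).map (chevF4.group F).subtype :=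
    fun r hr a => mem_map_of_mem (chevF4.group F).subtype (mem_YS hr (ok_refl r a))
  have c' : h⁻¹ * g * h * x = x * (h⁻¹ * g * h) := by
    calc _ = h⁻¹ * (g * (h * x * h⁻¹)) * h := by group
      _ = _ := by rw [e, c.eq, ← e]; group
  obtain ⟨a, ha, e'⟩ := h2 ((XL F S).map (chevF4.group F).subtype) (by
      rw [posUnipotent_eq, rootTableF4.Us_eq, F42S.TN]
      exact XS_le.2 fun r hr => k r (h1 r hr.1 hr.2))
    (fun r hr => by rw [rootSubgroup_eq]; exact XS_le.2 fun s hs => hs ▸ k r hr)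
    (x := (h⁻¹ * g * h : Γ F)) (mem_inf.2 ⟨(h⁻¹ * g * h).2, mem_centralizer_singleton_iff.2 (by
      rw [← coe_mul, ← coe_mul, c'])⟩)
  have := PLocal.Amb.conj_mem_of_mem_normalizer (t.norm h0) ha
  rwa [show a = _ from Subtype.ext e', show h * (h⁻¹ * g * h) * h⁻¹ = g by group] at this
theorem md_cen : ∀ s < 48, (8 ≤ ip 47 s → s ≠ 47 - 47 ∧ ¬ Nz 47 s) ∧
    (8 ≤ ip 44 s ∨ 15 ≤ s → s ≠ 47 - 44 ∧ ¬ Nz 44 s) ∧ (24 ≤ s → 8 ≤ ip 47 s ∧ 8 ≤ ip 44 s) := by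
  decide +kernel
theorem c47 {a : F} (ha : a ≠ 0) {g : Γ F} :
    Commute g (xx 47 a) ↔ g ∈ XL F {r | r < 48 ∧ 8 ≤ ip 47 r} := by
  have := Fintype.ofFinite F
  obtain ⟨h, χ, t, e, -⟩ := tor_z ha ha
  refine ⟨cen_of t e (fun _ k => k.1) (fun r h1 h2 => ⟨h2, ((md_cen r h2).2.2 h1).1⟩) fun K k1 k2 => ?_,
    fun k => (YS_comm (fun s hs b _ => xx_comm (by omega) hs.1 ((md_cen s hs.1).1 hs.2) a b) k).symm⟩
  rw [(S2178.result (F := F) _ (xG _ _ 44 1) rfl rfl).1]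
  exact sup_le (sup_le (sup_le k1 (k2 14 (by decide))) (k2 20 (by decide))) (k2 22 (by decide))
theorem c44 {a : F} (ha : a ≠ 0) {g : Γ F} : Commute g (xx 44 a) ↔ g ∈ UU F 15 := by
  have := Fintype.ofFinite F
  obtain ⟨h, χ, t, -, e⟩ := tor_z ha ha
  refine ⟨cen_of t e (fun _ k => k.2) (fun r h1 h2 => ⟨by omega, h2⟩) fun K k1 k2 => ?_,
    fun k => (YS_comm (fun s hs b _ => xx_comm (by omega) hs.2 ((md_cen s hs.2).2.1 (.inr hs.1)) a b) k).symm⟩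
  rw [(S2178.result (F := F) (xG _ _ 47 1) _ rfl rfl).2]
  exact sup_le (sup_le (sup_le k1 (k2 20 (by decide))) (k2 22 (by decide))) (k2 23 (by decide))
theorem cm' {a b : F} (ha : a ≠ 0) (hb : b ≠ 0) {g : Γ F} : Commute g (xx 47 a * xx 44 b) ↔
    g ∈ XL F {r | r < 48 ∧ 8 ≤ ip 47 r ∧ 8 ≤ ip 44 r} := by
  have := Fintype.ofFinite F
  obtain ⟨h, χ, t, e, e'⟩ := tor_z ha hb
  refine ⟨cen_of (x := xx 47 1 * xx 44 1) t (by rw [← e, ← e']; group) (fun _ k => k.1)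
    (fun r h1 h2 => ⟨h2, (md_cen r h2).2.2 h1⟩) fun K k1 k2 => ?_,
    fun k => (YS_comm (fun s hs c _ => (xx_comm (by omega) hs.1 ((md_cen s hs.1).1 hs.2.1) a c).mul_left
      (xx_comm (by omega) hs.1 ((md_cen s hs.1).2.1 (.inl hs.2.2)) b c)) k).symm⟩
  rw [(S2179.result (F := F) _ (xG _ _ 39 1 * xG _ _ 45 1) (by simp [xx]) (by simp)).1]
  exact sup_le (sup_le k1 (k2 20 (by decide))) (k2 22 (by decide))
/-- products of two root elements of the same length do not have order six (`pairΓ`, `sl2Γ`, `γ`) -/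
theorem ord6 {r : ℕ} (hr : r = 44 ∨ r = 47) {a b : Γ F} (ha : IsConj (xx r 1) a)
    (hb : IsConj (xx r 1) b) (h : (a * b) ^ 6 = 1) : (a * b) ^ 3 = 1 ∨ (a * b) ^ 2 = 1 := by
  obtain ⟨c, rfl⟩ := isConj_iff.1 ha
  obtain ⟨d, rfl⟩ := isConj_iff.1 hb
  obtain ⟨u, hu, s, hs, l, e, -, k⟩ := pairΓ hr (c⁻¹ * d)
  have r48 : r < 48 := by omega
  have e1 : c * xx r 1 * c⁻¹ * (d * xx r 1 * d⁻¹) = c * u * (xx r 1 * xx s (1 * e)) * (c * u)⁻¹ := by
    calc _ = c * (xx r 1 * (c⁻¹ * d * xx r 1 * (c⁻¹ * d)⁻¹)) * c⁻¹ := by group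
      _ = c * (xx r 1 * u) * xx s (1 * e) * (c * u)⁻¹ := by rw [k]; group
      _ = _ := by rw [(U_comm hr hu 1).eq]; group
  simp only [e1, conj_pow, mul_inv_eq_one, mul_eq_left] at h ⊢
  generalize 1 * e = b at h
  by_cases n2 : s = 47 - r
  · subst n2
    exact sl2_root r48 b h
  have sq := fun {r : ℕ} (hr : r < 48) (a : F) => relΓ.sq hr (ok_refl r a)
  obtain ⟨z, z1, z2⟩ : ∃ z : Γ F, z * z = 1 ∧ xx s b * xx r 1 = xx r 1 * xx s b * z := by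
    by_cases n1 : s = r
    · exact ⟨1, mul_one _, by rw [n1, mul_one, (xx_comm r48 r48 (by
        rcases hr with rfl | rfl <;> decide) 1 b).eq]⟩
    refine ⟨_, ?_, xx_cm r48 hs n1 n2 1 b⟩
    rcases md_same r r48 s hs l with p | ⟨p, q⟩ <;> simp [p, sq]
    exact sq q _
  have e2 : (xx r 1 * xx s b : Γ F) ^ 2 = xx s b * z * (xx s b)⁻¹ := by
    rw [pow_two, mul_assoc, ← mul_assoc (xx s b), z2, relΓ.inv hs (ok_refl _ _), ← mul_assoc, ← mul_assoc,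
      ← mul_assoc, sq r48, one_mul]
  have e4 : (xx r 1 * xx s b : Γ F) ^ 4 = 1 := by
    rw [show 4 = 2 * 2 from rfl, pow_mul, e2, conj_pow, pow_two, z1, mul_one, mul_inv_cancel]
  rw [show 6 = 4 + 2 from rfl, pow_add, e4, one_mul] at h
  exact .inr h
/-- the homomorphism from `F₄(2)` (`F42S.hom_of`) -/
theorem exists_two : ∃ θ : F42S.L0 →* Γ F, ∀ r < 48, θ (F42S.xx r) = xx r 1 :=
  let ⟨θ, _, h⟩ := exists_two' (F := F); ⟨θ, fun r _ => h r⟩

end Cfsg.Agent.F4Q
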