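import Mathlib
import Cfsg.Agent.F4Q.Mod

/-! Part of `F4Q/Rig`: the upper central terms of `U` in `F₄(q)` (blueprint for `q = 2`: `F42S/Fa`).  Method:
`Rel.kill`, `Rel.kill'`, `Rel.nf0`, `Rel.lead`, `Rel.lead_eq`, `Rel.comm_lead`, `Rel.comm_nz` of `F4Q/Nf`. -/

set_option autoImplicit false

namespace Cfsg.Agent.F4Q

open Cfsg.Lie Cfsg.Agent.Chev Subgroup Cfsg.Agent.PLocal.Amb
open Cfsg.Agent.F42S (lg ip ad gm sm sr Mo aw)
open Cfsg.Agent.FinS (Rt Rg Uf)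
open scoped commutatorElement


variable {F : Type*} [Field F] [Finite F] [CharP F 2]

namespace RZ

/-- `{u ∈ K | ⁅x, u⁆ ∈ T}` -/
def Hc {G : Type*} [Group G] {K T : Subgroup G} (hT : K ≤ 𝐍[T]) (x : G) : Subgroup G where
  carrier := {u | u ∈ K ∧ ⁅x, u⁆ ∈ T}
  one_mem' := ⟨one_mem _, by rw [commutatorElement_one_right]; exact one_mem _⟩
  mul_mem' := fun {u v} hu hv => ⟨mul_mem hu.1 hv.1, by
    rw [show ⁅x, u * v⁆ = ⁅x, u⁆ * (u * ⁅x, v⁆ * u⁻¹) by simp only [commutatorElement_def]; group]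
    exact mul_mem hu.2 (PLocal.Amb.conj_mem_of_mem_normalizer (hT hu.1) hv.2)⟩
  inv_mem' := fun {u} hu => ⟨inv_mem hu.1, by
    rw [show ⁅x, u⁻¹⁆ = u⁻¹ * ⁅x, u⁆⁻¹ * u by simp only [commutatorElement_def]; group]
    exact inv_conj_mem_of_mem_normalizer (hT hu.1) (inv_mem hu.2)⟩

section Grp

variable {G : Type*} [Group G]

theorem hc_of {K T : Subgroup G} {hT : K ≤ 𝐍[T]} {x u : G} (hu : u ∈ K) (h : Commute x u) : u ∈ Hc hT x :=
  ⟨hu, by rw [h.commutator_eq]; exact one_mem _⟩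

theorem swap {T : Subgroup G} {x u : G} (h : ⁅x, u⁆ ∈ T) : ⁅u, x⁆ ∈ T :=
  commutatorElement_inv x u ▸ inv_mem h

theorem of_rel {a b z : G} (h : a * b = b * a * z) (ha : Commute z a) (hb : Commute z b) : ⁅a, b⁆ = z := by
  rw [commutatorElement_def, h, mul_assoc b, ← ha.eq, ← mul_assoc, ← hb.eq]
  group

theorem of_rel' {a b z : G} (h : a * b * a = b * z) (h2 : a⁻¹ = a) (hb : Commute z b) : ⁅a, b⁆ = z := by
  rw [commutatorElement_def, h2, h, ← hb.eq, mul_inv_cancel_right]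

theorem cmul (x g l : G) : ⁅x, g * l⁆ = ⁅x, g⁆ * (g * ⁅x, l⁆ * g⁻¹) := by
  simp only [commutatorElement_def]; group

theorem peel {x g l t : G} (h : ⁅x, l⁆ = t) (h1 : Commute x g) (h2 : Commute g t) : ⁅x, g * l⁆ = t := by
  rw [cmul, h, h1.commutator_eq, h2.eq, one_mul, mul_inv_cancel_right]

theorem peel' {x g l t : G} (h : ⁅x, l⁆ = t) (h1 : Commute x g) : ⁅x, l * g⁆ = t := by
  rw [cmul, h, h1.commutator_eq, mul_one, mul_inv_cancel, mul_one]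

end Grp

omit [Finite F] [CharP F 2] in
theorem mU {k r : ℕ} (h : k ≤ r ∧ r < 48) (e : F) : xx r e ∈ UU F k := mem_SK h.1 h.2 (ok_refl _ _)

omit [Finite F] [CharP F 2] in
theorem mX {S : Set ℕ} {r : ℕ} (h : r ∈ S) (e : F) : xx r e ∈ XL F S := mem_YS h (ok_refl _ _)

theorem c0 {r s : ℕ} (h : 24 ≤ r ∧ r < 48 ∧ 24 ≤ s ∧ s < 48 ∧ ¬ Nz r s) (e f : F) :
    Commute (xx r e) (xx s f) :=
  relΓ.comm0 (fun _ => rfl) h.2.1 h.2.2.2.1 (by omega) h.2.2.2.2 e f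

theorem cU {r k : ℕ} (h : 24 ≤ k ∧ 24 ≤ r ∧ r < 48 ∧ ∀ s < 48, k ≤ s → ¬ Nz r s) (e : F) {u : Γ F}
    (hu : u ∈ UU F k) : Commute (xx r e) u :=
  YS_comm (fun s hs f _ => c0 ⟨h.2.1, h.2.2.1, h.1.trans hs.1, hs.2, h.2.2.2 s hs.2 hs.1⟩ e f) hu

theorem ld {r : ℕ} (h : 24 ≤ r ∧ r < 48) {e : F} (h1 : xx r e ∈ UU F (r + 1)) : e = 0 :=
  relΓ.lead h.1 h.2 (ok_refl _ _) h1

theorem nm {l : List ℕ} {S : Set ℕ} (hS : ∀ r ∈ S, r ∈ l)
    (h : ∀ r ∈ l, ∀ s ∈ l, 24 ≤ r ∧ r < 48 ∧ ¬ ad r s < 48) {r : ℕ} (hr : r < 48) (h1 : r ∉ S) {e : F}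
    (h2 : xx r e ∈ XL F S) : e = 0 := by
  by_contra e0
  refine h1 (relΓ.mem_of_mem (.inl fun a ha b hb => ?_) (fun a ha => (h a (hS a ha) a (hS a ha)).1) hr
    (ok_refl _ _) e0 h2)
  have k1 := h a (hS a ha) b (hS b hb)
  have k2 := h b (hS b hb) a (hS a ha)
  exact ⟨k1.2.1, k2.2.1, by omega, fun k => absurd k k1.2.2⟩

theorem pr_filter {E G : Type*} [Group G] {Y : ℕ → E → G} (p : ℕ → Bool) (c : ℕ → E) {l : List ℕ}
    (h : ∀ r ∈ l, p r = false → Y r (c r) = 1) : pr Y l c = pr Y (l.filter p) c := by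
  induction l with
  | nil => rfl
  | cons a l ih =>
    have := ih fun r hr => h r (List.mem_cons_of_mem _ hr)
    simp only [pr, List.map_cons, List.prod_cons] at this ⊢
    cases e : p a
    · rw [List.filter_cons_of_neg (by simp [e]), h a List.mem_cons_self e, one_mul, this]
    · rw [List.filter_cons_of_pos e, List.map_cons, List.prod_cons, this]

theorem nfl (l : List ℕ) {S : Set ℕ} (hS : ∀ r ∈ S, r ∈ l)
    (h : (∀ r ∈ l, ∀ s ∈ l, r < 48 ∧ s < 48 ∧ s ≠ 47 - r ∧ ∀ k ∈ F42S.cm r s, k ∈ l) ∧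
      (∀ r ∈ l, 24 ≤ r) ∧ (List.range' 24 24).filter (· ∈ l) = l) {g : Γ F} (hg : g ∈ XL F S) :
    ∃ c, g = pr xx l c := by
  obtain ⟨c, h1, rfl⟩ := relΓ.nf0 (fun _ => rfl) (S := {r | r ∈ l}) h.1 h.2.1 (YS_mono hS hg)
  refine ⟨c, (pr_filter (· ∈ l) c fun r hr e => ?_).trans (by rw [h.2.2])⟩
  rw [h1 r (by simpa using e)]
  exact relΓ.zero (by have := List.mem_range'_1.1 hr; omega)

theorem cZ {z u : Γ F} (hz : z ∈ XL F {44, 47}) (hu : u ∈ UU F 24) : Commute z u :=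
  (YS_comm (fun r hr e _ => by
    rcases hr with rfl | rfl
    exacts [(cU (by decide +kernel) e hu).symm, (cU (by decide +kernel) e hu).symm]) hz).symm

theorem nZ {S : Set ℕ} (h : S ⊆ {44, 47}) : UU F 24 ≤ 𝐍[XL F S] :=
  le_trans (fun _ hu => mem_centralizer_iff.2 fun _ hz => cZ (YS_mono h hz) hu) (centralizer_le_normalizer' _)

theorem k40 (a m : F) : ⁅xx 40 a, xx 33 m⁆ = (xx 44 (m * a) : Γ F) := by
  have := (relΓ (F := F)).cs 33 (by omega) 40 (by omega) (by decide +kernel) (by decide +kernel)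
    (by decide +kernel) m a
  rw [show ad 33 40 = 44 by decide +kernel] at this
  exact of_rel this (c0 (by decide +kernel) _ _) (c0 (by decide +kernel) _ _)

theorem kl (r s t : ℕ) (h : r < 48 ∧ s < 48 ∧ lg r = true ∧ lg s = true ∧ ip r s = 4 ∧ ad r s = t ∧
    (24 ≤ t ∧ t < 48 ∧ 24 ≤ r ∧ r < 48 ∧ ¬ Nz t r) ∧ 24 ≤ t ∧ t < 48 ∧ 24 ≤ s ∧ s < 48 ∧ ¬ Nz t s) (a m : F) :
    ⁅xx s a, xx r m⁆ = (xx t (m * a) : Γ F) := by
  obtain ⟨h1, h2, h3, h4, h5, rfl, h7, h8⟩ := h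
  exact of_rel (relΓ.cl r h1 s h2 h3 h4 h5 m a rfl rfl) (c0 h8 _ _) (c0 h7 _ _)

theorem km (r s t w : ℕ) (h : r < 48 ∧ s < 48 ∧ lg r = true ∧ lg s = false ∧ ip r s = 4 ∧ ad r s = t ∧
    ad t s = w ∧ (24 ≤ t ∧ t < 48 ∧ 24 ≤ s ∧ s < 48 ∧ ¬ Nz t s) ∧ 24 ≤ w ∧ w < 48 ∧ 24 ≤ s ∧ s < 48 ∧ ¬ Nz w s)
    (c f : F) : ⁅xx r c, xx s f⁆ = (xx t (c * f) * xx w (c * (f * f)) : Γ F) := by
  obtain ⟨h1, h2, h3, h4, h5, rfl, rfl, h7, h8⟩ := h
  exact of_rel' (relΓ.cm' h1 h2 h3 h4 h5 rfl f) (relΓ.inv h1 (ok_refl _ _)) ((c0 h7 _ _).mul_left (c0 h8 _ _))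

theorem comm3 {S S' : Set ℕ} (hS : S ⊆ {40, 44, 46, 47}) (hS' : S' ⊆ {44, 47}) (h1 : 40 ∈ S → 44 ∈ S')
    (h2 : 46 ∈ S → 47 ∈ S') {y u : Γ F} (hy : y ∈ XL F S) (hu : u ∈ UU F 24) : ⁅y, u⁆ ∈ XL F S' := by
  have t : ∀ r ∈ [40, 44, 46, 47], (24 ≤ r ∧ r < 48) ∧ ∀ s < 48, 24 ≤ s →
      ¬ Nz r s ∨ (r = 40 ∧ s = 33) ∨ (r = 46 ∧ s = 24) := by decide +kernel
  refine swap (YS_le (H := Hc (nZ hS') u).2 (fun r hr e _ => ?_) hy).2
  obtain ⟨t1, t2⟩ := t r (by simpa using hS hr)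
  refine ⟨mU t1 e, swap (YS_le (H := Hc (nZ hS') (xx r e)).2 (fun s hs f _ => ?_) hu).2⟩
  rcases t2 s hs.2 hs.1 with k | ⟨rfl, rfl⟩ | ⟨rfl, rfl⟩
  · exact hc_of (mU hs f) (c0 ⟨t1.1, t1.2, hs.1, hs.2, k⟩ e f)
  · exact ⟨mU hs f, k40 e f ▸ mX (h1 hr) _⟩
  · exact ⟨mU hs f, kl 24 46 47 (by decide +kernel) e f ▸ mX (h2 hr) _⟩

end RZ

open RZ

/-- `l = x₂₉ x₃₃(μ) ⋯ x₃₆(λ) ⋯` (`x₂₉` commutes with `x₃₀`); `⁅l, x₃₀(c)⁆` has the leading term `x₃₇(μ c)`, so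
`μ c = 0`; then it is `x₄₀(λ c) x₄₅(·) x₄₆(·) x₄₇(λ² c)`. -/
theorem no40' {l : Γ F} {a : F} (h : xx 29 a * l ∈ UU F 33) {c d : F}
    (e : l * xx 30 c * l⁻¹ = xx 30 c * xx 40 d) : d = 0 := by
  have e1 : ⁅xx 30 c, l⁆ = xx 40 d := by
    rw [commutatorElement_def, relΓ.inv (by omega) (ok_refl _ _), mul_assoc, mul_assoc, ← mul_assoc l, e,
      ← mul_assoc, relΓ.sq (by omega) (ok_refl _ _), one_mul]
  by_cases hc : c = 0
  · rw [hc, relΓ.zero (by omega), commutatorElement_one_left] at e1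
    exact relΓ.inj 40 (by omega) d (ok_refl _ _) e1.symm
  have e2 := peel (g := xx 29 a) e1 (c0 (by decide +kernel) _ _) (c0 (by decide +kernel) _ _)
  generalize xx 29 a * l = u at h e2
  obtain ⟨m, -, h1⟩ := relΓ.SK_step (by omega) (by omega) h
  have h2 : c * m = 0 := by
    have k := swap (relΓ.comm_lead (r := 33) (s := 30) (by omega) (by omega) (by omega) (by omega)
      (by decide +kernel) h1 (ok_refl _ c))
    rw [show ad 33 30 = 37 by decide +kernel, cmul, e2, km 30 33 37 41 (by decide +kernel),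
      mul_mem_cancel_right (PLocal.Amb.conj_mem_of_mem_normalizer (relΓ.SK_norm (k := 37 + 1) (by omega)
        (mU (r := 33) (by omega) m)) (mU (r := 40) (by omega) d)),
      mul_mem_cancel_right (mU (k := 37 + 1) (r := 41) (by omega) _)] at k
    exact ld (by omega) k
  rw [(mul_eq_zero.1 h2).resolve_left hc, relΓ.zero (by omega), one_mul] at h1
  obtain ⟨m1, -, h3⟩ := relΓ.SK_step (by omega) (by omega) h1
  obtain ⟨m2, -, h4⟩ := relΓ.SK_step (by omega) (by omega) h3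
  obtain ⟨m3, -, h5⟩ := relΓ.SK_step (by omega) (by omega) h4
  have e3 := peel (g := xx 35 m2) (peel (g := xx 34 m1) e2 (c0 (by decide +kernel) _ _)
    (c0 (by decide +kernel) _ _)) (c0 (by decide +kernel) _ _) (c0 (by decide +kernel) _ _)
  have n : UU F 37 ≤ 𝐍[XL F {45, 46}] := le_trans (fun _ hu => mem_centralizer_iff.2 fun _ hz =>
    (YS_comm (fun r hr e _ => by
      rcases hr with rfl | rfl
      exacts [(cU (by decide +kernel) e hu).symm, (cU (by decide +kernel) e hu).symm]) hz).symm)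
    (centralizer_le_normalizer' _)
  have t : ∀ s < 48, 37 ≤ s → ¬ Nz 30 s ∨ s = 42 ∨ s = 43 := by decide +kernel
  have k := (YS_le (H := Hc n (xx 30 c)).2 (fun s hs f _ => by
    rcases t s hs.2 hs.1 with k | rfl | rfl
    · exact hc_of (mU hs f) (c0 ⟨by omega, by omega, le_trans (by omega) hs.1, hs.2, k⟩ c f)
    · exact ⟨mU hs f, kl 42 30 45 (by decide +kernel) c f ▸ mX (by simp) _⟩
    · exact ⟨mU hs f, kl 43 30 46 (by decide +kernel) c f ▸ mX (by simp) _⟩) h5).2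
  rw [cmul, e3, km 30 36 40 47 (by decide +kernel), (c0 (r := 36) (s := 40) (by decide +kernel) _ _).eq,
    mul_inv_cancel_right, mul_assoc, (c0 (r := 47) (s := 40) (by decide +kernel) _ _).eq, ← mul_assoc,
    relΓ.add 40 (by omega) _ _ (ok_refl _ _) (ok_refl _ _)] at k
  have h6 : c * m3 + d = 0 := ld (r := 40) (by omega) ((mul_mem_cancel_right (mU (by omega) _)).1
    (YS_mono (T := {r | 41 ≤ r ∧ r < 48}) (by rintro r (rfl | rfl) <;> simp) k))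
  rw [h6, relΓ.zero (by omega), one_mul] at k
  have h7 := nm (l := [45, 46]) (by simp) (by decide +kernel) (by omega) (by simp) k
  simpa [mul_self_eq_zero.1 ((mul_eq_zero.1 h7).resolve_left hc)] using h6
/-- the second centre of `U` -/
theorem z2 {y : Γ F} (hy : y ∈ UU F 24) :
    (∀ u ∈ UU F 24, ⁅y, u⁆ ∈ XL F {44, 47}) ↔ y ∈ XL F {40, 44, 46, 47} := by
  refine ⟨fun h => ?_, fun h u hu => comm3 le_rfl le_rfl (by simp) (by simp) h hu⟩
  have z : XL F {44, 47} ≤ UU F 44 := YS_mono (by rintro r (rfl | rfl) <;> simp)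
  have t : ∀ r < 48, 24 ≤ r → r ∈ [40, 43, 44, 45, 46, 47] ∨ ∃ s < 48, 24 ≤ s ∧ Nz r s ∧ ad r s < 44 := by
    decide +kernel
  have h1 := relΓ.kill' (Ψ := {s | 24 ≤ s ∧ s < 48}) (T := {r | r ∈ [40, 43, 44, 45, 46, 47]}) (k := 44)
    (by omega) hy (fun s hs => z (h _ (mU hs 1))) (fun _ hs => hs) (fun r hr => by
      have : r = 40 ∨ 43 ≤ r ∧ r < 48 := by simp at hr; omega
      refine ⟨by omega, by omega, fun s hs e _ => ?_⟩
      rcases this with rfl | k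
      · exact z (comm3 le_rfl le_rfl (by simp) (by simp) (mX (by simp) e) (mU hs 1))
      · exact swap (relΓ.SK_comm (k := 43) (by omega) (commutator_mem_commutator (mU hs 1) (mU k e))))
    fun r h1 h2 => (t r h2 h1).imp_right fun ⟨s, a, b, c⟩ => ⟨s, ⟨b, a⟩, c⟩
  obtain ⟨c, rfl⟩ := nfl _ (fun _ k => k) (by decide +kernel) h1
  have k1 : pr xx _ c ∈ Hc (nZ le_rfl) (xx 25 1) := ⟨hy, swap (h _ (mU (by omega) 1))⟩
  have k2 : pr xx _ c ∈ Hc (nZ le_rfl) (xx 30 1) := ⟨hy, swap (h _ (mU (by omega) 1))⟩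
  simp only [pr, List.map_cons, List.map_nil, List.prod_cons, List.prod_nil, mul_one] at k1 k2 ⊢
  have f : ∀ r s : ℕ, 24 ≤ r ∧ r < 48 ∧ 24 ≤ s ∧ s < 48 ∧ ¬ Nz r s →
      xx s (c s) ∈ Hc (nZ le_rfl) (xx r (1 : F)) := fun r s k => hc_of (mU (by omega) _) (c0 k _ _)
  rw [mul_mem_cancel_left (f 25 40 (by decide +kernel)), mul_mem_cancel_left (f 25 43 (by decide +kernel)),
    mul_mem_cancel_left (f 25 44 (by decide +kernel)), mul_mem_cancel_right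
      (mul_mem (f 25 46 (by decide +kernel)) (f 25 47 (by decide +kernel)))] at k1
  rw [mul_mem_cancel_left (f 30 40 (by decide +kernel)), mul_mem_cancel_right
    (mul_mem (f 30 44 (by decide +kernel)) (mul_mem (f 30 45 (by decide +kernel))
      (mul_mem (f 30 46 (by decide +kernel)) (f 30 47 (by decide +kernel)))))] at k2
  have k3 := nm (l := [44, 47]) (by simp) (by decide +kernel) (by omega) (by simp)
    (kl 45 25 46 (by decide +kernel) 1 (c 45) ▸ k1.2)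
  have k4 := nm (l := [44, 47]) (by simp) (by decide +kernel) (by omega) (by simp)
    (kl 43 30 46 (by decide +kernel) 1 (c 43) ▸ k2.2)
  rw [mul_one] at k3 k4
  rw [k3, k4, relΓ.zero (r := 43) (by omega), relΓ.zero (r := 45) (by omega), one_mul, one_mul]
  exact mul_mem (mX (by simp) _) (mul_mem (mX (by simp) _) (mul_mem (mX (by simp) _) (mX (by simp) _)))
/-- `Rel.kill` with `Ψ` = all positive roots, `T = {44, 47}` -/
theorem zU0 {y : Γ F} (hy : y ∈ UU F 24) :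
    (∀ u ∈ UU F 24, Commute y u) ↔ ∃ a b, y = xx 44 a * xx 47 b := by
  refine ⟨fun h => ?_, fun ⟨a, b, e⟩ u hu => cZ (e ▸ mul_mem (mX (by simp) a) (mX (by simp) b)) hu⟩
  have t : ∀ r < 48, 24 ≤ r → r ∈ [44, 47] ∨ ∃ s < 48, 24 ≤ s ∧ Nz r s := by decide +kernel
  have h1 := relΓ.kill (Ψ := {s | 24 ≤ s ∧ s < 48}) (T := {44, 47}) hy (fun s hs => h _ (mU hs 1))
    (fun r hr s hs e _ => cZ (mX hr e) (mU hs 1))
    fun r h1 h2 => (t r h2 h1).imp (by simp) fun ⟨s, a, b, c⟩ => ⟨s, ⟨b, a⟩, b, a, c⟩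
  obtain ⟨c, rfl⟩ := nfl [44, 47] (by simp) (by decide +kernel) h1
  exact ⟨c 44, c 47, by simp [pr]⟩
namespace RZ

theorem zz (θ : UU F 24 ≃* UU F 24) (y : UU F 24) (hy : y.1 ∈ XL F {44, 47}) :
    (θ y).1 ∈ XL F {44, 47} := by
  obtain ⟨a, b, e⟩ := (zU0 (θ y).2).1 fun u hu => by
    have : Commute y (θ.symm ⟨u, hu⟩) := Subtype.ext (cZ hy (θ.symm ⟨u, hu⟩).2)
    have := (this.map θ).map (UU F 24).subtype
    rwa [θ.apply_symm_apply] at this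
  exact e ▸ mul_mem (mX (by simp) a) (mX (by simp) b)

theorem cc {G : Type*} [Group G] {U : Subgroup G} (θ : U ≃* U) (y u : U) :
    (θ ⁅y, u⁆).1 = ⁅(θ y).1, (θ u).1⁆ := by
  rw [map_commutatorElement]; rfl

theorem n44 : xx 44 (1 : F) ∉ XL F {47} := fun k => one_ne_zero
  (nm (l := [44, 47]) (by simp) (by decide +kernel) (by omega) (by simp) k)

theorem n47 : xx 47 (1 : F) ∉ XL F {44} := fun k => one_ne_zero
  (nm (l := [44, 47]) (by simp) (by decide +kernel) (by omega) (by simp) k)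

theorem tri {y : Γ F} (hy : y ∈ XL F {40, 44, 46, 47}) : (∀ u ∈ UU F 24, ⁅y, u⁆ ∈ XL F {44}) ∨
    (∀ u ∈ UU F 24, ⁅y, u⁆ ∈ XL F {47}) ∨ ∀ a b, ∃ u ∈ UU F 24, ⁅y, u⁆ = xx 44 a * xx 47 b := by
  obtain ⟨c, e⟩ := nfl [40, 44, 46, 47] (by simp) (by decide +kernel) hy
  simp only [pr, List.map_cons, List.map_nil, List.prod_cons, List.prod_nil, mul_one] at e
  by_cases a0 : c 46 = 0
  · refine .inl fun u hu => comm3 (S := {40, 44, 47}) (by rintro r (rfl | rfl | rfl) <;> simp)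
      (by simp) (by simp) (by simp) ?_ hu
    rw [e, a0, relΓ.zero (r := 46) (by omega), one_mul]
    exact mul_mem (mX (by simp) _) (mul_mem (mX (by simp) _) (mX (by simp) _))
  by_cases b0 : c 40 = 0
  · refine .inr (.inl fun u hu => comm3 (S := {44, 46, 47}) (by rintro r (rfl | rfl | rfl) <;> simp)
      (by simp) (by simp) (by simp) ?_ hu)
    rw [e, b0, relΓ.zero (r := 40) (by omega), one_mul]
    exact mul_mem (mX (by simp) _) (mul_mem (mX (by simp) _) (mX (by simp) _))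
  refine .inr (.inr fun a b => ⟨xx 33 (a / c 40) * xx 24 (b / c 46),
    mul_mem (mU (by omega) _) (mU (by omega) _), ?_⟩)
  have k1 : ⁅y, xx 33 (a / c 40)⁆ = xx 44 a := by
    rw [← inv_inj, commutatorElement_inv, e]
    refine peel' ?_ ((c0 (by decide +kernel) _ _).mul_right ((c0 (by decide +kernel) _ _).mul_right
      (c0 (by decide +kernel) _ _)))
    rw [← commutatorElement_inv, k40, div_mul_cancel₀ _ b0]
  have k2 : ⁅y, xx 24 (b / c 46)⁆ = xx 47 b := by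
    rw [← inv_inj, commutatorElement_inv, e]
    refine peel (peel (peel' ?_ (c0 (by decide +kernel) _ _)) (c0 (by decide +kernel) _ _)
      (c0 (by decide +kernel) _ _).inv_right) (c0 (by decide +kernel) _ _)
      (c0 (by decide +kernel) _ _).inv_right
    rw [← commutatorElement_inv, kl 24 46 47 (by decide +kernel), div_mul_cancel₀ _ a0]
  rw [cmul, k1, k2, (c0 (r := 33) (s := 47) (by decide +kernel) _ _).eq, mul_inv_cancel_right]

theorem key (θ : UU F 24 ≃* UU F 24) {x : Γ F} (hx : x ∈ UU F 24) (S : Set ℕ) (hS : S ⊆ {44, 47})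
    (h1 : ∀ u ∈ UU F 24, ⁅x, u⁆ ∈ XL F S) (h2 : ∀ z ∈ XL F S, ∃ u ∈ UU F 24, z = ⁅x, u⁆)
    {z : Γ F} (hz : z ∈ XL F {44, 47}) (hz' : z ∉ XL F S) :
    (∀ y : UU F 24, y.1 ∈ XL F S → (θ y).1 ∈ XL F {44}) ∨
      ∀ y : UU F 24, y.1 ∈ XL F S → (θ y).1 ∈ XL F {47} := by
  obtain ⟨y, rfl⟩ : ∃ y : UU F 24, y.1 = x := ⟨⟨x, hx⟩, rfl⟩
  have h3 := (z2 (θ y).2).1 fun u hu => by
    have := zz θ ⁅y, θ.symm ⟨u, hu⟩⁆ (YS_mono hS (h1 _ (θ.symm ⟨u, hu⟩).2))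
    rwa [cc, θ.apply_symm_apply] at this
  have h4 : ∀ T : Subgroup (Γ F), (∀ u ∈ UU F 24, ⁅(θ y).1, u⁆ ∈ T) →
      ∀ w : UU F 24, w.1 ∈ XL F S → (θ w).1 ∈ T := fun T k w hw => by
    obtain ⟨u, hu, e⟩ := h2 _ hw
    rw [show w = ⁅y, ⟨u, hu⟩⁆ from Subtype.ext e, cc]
    exact k _ (θ _).2
  refine (tri h3).imp (h4 _) fun k => k.elim (h4 _) fun k => ?_
  have zU : z ∈ UU F 24 := YS_mono (by rintro r (rfl | rfl) <;> simp) hz
  obtain ⟨a, b, e1⟩ := (zU0 (θ ⟨z, zU⟩).2).1 fun u hu => cZ (zz θ ⟨z, zU⟩ hz) hu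
  obtain ⟨u, m, k⟩ := k a b
  have k3 : θ ⁅y, θ.symm ⟨u, m⟩⁆ = θ ⟨z, zU⟩ := Subtype.ext (by rw [cc, θ.apply_symm_apply, e1, k])
  have k4 : z = ⁅y.1, (θ.symm ⟨u, m⟩).1⁆ := (congrArg Subtype.val (θ.injective k3)).symm
  exact absurd (k4 ▸ h1 _ (θ.symm ⟨u, m⟩).2) hz'

theorem both0 {G : Type*} [Group G] {U A B T : Subgroup G} (θ : U ≃* U)
    (h1 : ∀ y : U, y.1 ∈ A → (θ y).1 ∈ T) (h2 : ∀ y : U, y.1 ∈ B → (θ y).1 ∈ T) {x a b : G} (m : x ∈ U)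
    (ha : a ∈ A) (hb : b ∈ B) (ha' : a ∈ U) (hb' : b ∈ U) (e : (θ.symm ⟨x, m⟩).1 = a * b) : x ∈ T := by
  have e' : θ.symm ⟨_, m⟩ = ⟨a, ha'⟩ * ⟨b, hb'⟩ := Subtype.ext e
  have := mul_mem (h1 ⟨a, ha'⟩ ha) (h2 ⟨b, hb'⟩ hb)
  rwa [← coe_mul, ← map_mul, ← e', θ.apply_symm_apply] at this

theorem both (θ : UU F 24 ≃* UU F 24) (T : Subgroup (Γ F))
    (h1 : ∀ y : UU F 24, y.1 ∈ XL F {44} → (θ y).1 ∈ T) (h2 : ∀ y : UU F 24, y.1 ∈ XL F {47} → (θ y).1 ∈ T)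
    {r : ℕ} (hr : r ∈ ({44, 47} : Set ℕ)) : xx r 1 ∈ T := by
  have m : xx r (1 : F) ∈ UU F 24 := mU (by rcases hr with rfl | rfl <;> omega) 1
  have m' : xx r (1 : F) ∈ XL F {44, 47} := mX hr 1
  generalize xx r (1 : F) = x at m m'
  obtain ⟨a, b, e⟩ := (zU0 (θ.symm ⟨_, m⟩).2).1 fun u hu => cZ (zz θ.symm ⟨_, m⟩ m') hu
  exact both0 θ h1 h2 m (mX (Set.mem_singleton 44) a) (mX (Set.mem_singleton 47) b) (mU (by omega) a) (mU (by omega) b) e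

end RZ

/-- An automorphism of `U` permutes `X₄₄`, `X₄₇`: for `y = x₄₀(a) x₄₆(b) z` in the second centre the set
`{⁅y, u⁆}` is `1`, `X₄₄` (`b = 0`), `X₄₇` (`a = 0`) or `Z(U)`. -/
theorem autU (θ : UU F 24 ≃* UU F 24) :
    ((∀ y : UU F 24, y.1 ∈ XL F {44} → (θ y).1 ∈ XL F {44}) ∧
      ∀ y : UU F 24, y.1 ∈ XL F {47} → (θ y).1 ∈ XL F {47}) ∨
    ((∀ y : UU F 24, y.1 ∈ XL F {44} → (θ y).1 ∈ XL F {47}) ∧
      ∀ y : UU F 24, y.1 ∈ XL F {47} → (θ y).1 ∈ XL F {44}) := by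
  have A := key θ (mU (r := 40) (by omega) 1) {44} (by simp) (fun u hu => comm3 (S := {40}) (by simp) (by simp)
    (by simp) (by simp) (mX (Set.mem_singleton 40) 1) hu) (fun z hz => by
      obtain ⟨e, -, rfl⟩ := (relΓ.mem_one (by omega)).1 hz
      exact ⟨xx 33 e, mU (by omega) e, by rw [k40, mul_one]⟩) (mX (by simp) 1) n47
  have B := key θ (mU (r := 46) (by omega) 1) {47} (by simp) (fun u hu => comm3 (S := {46}) (by simp) (by simp)
    (by simp) (by simp) (mX (Set.mem_singleton 46) 1) hu) (fun z hz => by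
      obtain ⟨e, -, rfl⟩ := (relΓ.mem_one (by omega)).1 hz
      exact ⟨xx 24 e, mU (by omega) e, by rw [kl 24 46 47 (by decide +kernel), mul_one]⟩)
    (mX (by simp) 1) n44
  rcases A with A | A <;> rcases B with B | B
  exacts [absurd (both θ _ A B (by simp)) n47, .inl ⟨A, B⟩, .inr ⟨A, B⟩, absurd (both θ _ A B (by simp)) n44]

end Cfsg.Agent.F4Q
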