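import Mathlib
import Cfsg.Agent.F4Q.Mod
import Cfsg.Agent.F4Q.RigZ

/-! Rigidity in `F₄(q)` (blueprint for `q = 2`: `F42S/Fa`).  Method: `mem_U`, then `Rel.kill` with the
positive roots of the list, then `Rel.simple_out` / `ww_YS` + `lead_mem` for the negative ones
(if `α` fixes `X_s`, `X_{-s}` then `l` commutes with `n_s`); other configurations by `ww_conj`
(`F42S.orb2`, `aw_tab`) and `γ`. -/

set_option autoImplicit false

namespace Cfsg.Agent.F4Q

open Cfsg.Lie Cfsg.Agent.Chev Subgroup Cfsg.Agent.PLocal.Amb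
open Cfsg.Agent.F42S (lg ip ad gm sm sr Mo aw)
open Cfsg.Agent.FinS (Rt Rg Uf)
open scoped commutatorElement


variable {F : Type*} [Field F] [Finite F] [CharP F 2]

section RgKit

theorem rg_ok (r : ℕ) (e : F) : Ok (I0 F) r e := ok_refl r e

theorem rg_conj {w : List ℕ} (hw : ∀ i ∈ w, i < 4) {r : ℕ} (hr : r < 48) (e : F) :
    ww xx w * xx r e * (ww xx w)⁻¹ = xx (aw w r) e := by
  rw [relΓ.ww_conj hw hr (rg_ok r e), tp]
  split_ifs <;> rfl

theorem rg_sq {r : ℕ} (hr : r < 48) (e : F) : xx r e * xx r e = 1 := relΓ.sq hr (rg_ok r e)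

/-- peeling leading terms inside a closed set of positive roots -/
theorem rg_kill0 {T T0 Ψ : List ℕ}
    (hd : (∀ r ∈ T, r < 48 ∧ 24 ≤ r ∧ (∀ s ∈ T, ∀ k ∈ F42S.cm r s, k ∈ T) ∧
      (r ∈ T0 ∨ ∃ s ∈ Ψ, Nz r s ∧ 24 ≤ ad r s)) ∧
      ∀ s ∈ Ψ, s < 48 ∧ 24 ≤ s ∧ ∀ r ∈ T, r ∈ T0 → ¬ Nz r s)
    {g : Γ F} (hg : g ∈ XL F {r | r ∈ T}) (h : ∀ s ∈ Ψ, Commute g (xx s 1)) :
    g ∈ XL F {r | r ∈ T0} := by
  have id : Idl0 {r | r ∈ T} {r | r ∈ T} := fun r hr s hs => by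
    have a := hd.1 r hr
    have b := hd.1 s hs
    exact ⟨a.1, b.1, by omega, a.2.2.1 s hs⟩
  have key : ∀ n ≤ 24, ∀ g ∈ XL F {r | r ∈ T}, g ∈ UU F (48 - n) → (∀ s ∈ Ψ, Commute g (xx s 1)) →
      g ∈ XL F {r | r ∈ T0} := by
    intro n
    induction n with
    | zero =>
      intro _ g _ h1 _
      rw [UU, SK_top le_rfl, mem_bot] at h1
      exact h1 ▸ one_mem _
    | succ n ih =>
      intro hn g hg h1 h
      obtain ⟨k, hk⟩ : ∃ k, 48 - (n + 1) = k := ⟨_, rfl⟩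
      have k1 : 24 ≤ k := by omega
      have k2 : k < 48 := by omega
      rw [hk] at h1
      obtain ⟨e, -, h2⟩ := relΓ.SK_step k1 k2 h1
      have ih' := ih (by omega)
      rw [show 48 - n = k + 1 by omega] at ih'
      by_cases e0 : e = 0
      · rw [e0, relΓ.zero k2, one_mul] at h2
        exact ih' g hg h2 h
      have kT : k ∈ T := relΓ.lead_mem (.inr ⟨fun _ => rfl, id⟩) (fun r hr => (hd.1 r hr).2.1) hg k1 k2
        (rg_ok _ _) e0 h2
      rcases (hd.1 k kT).2.2.2 with k0 | ⟨s, hs, nz, p⟩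
      · refine (mul_mem_cancel_left (mem_YS k0 (rg_ok k e))).1
          (ih' _ (mul_mem (mem_YS kT (rg_ok k e)) hg) h2 fun s hs => Commute.mul_left ?_ (h s hs))
        have b := hd.2 s hs
        exact relΓ.comm0 (fun _ => rfl) k2 b.1 (by omega) (b.2.2 k kT k0) _ _
      · have b := hd.2 s hs
        have c1 := relΓ.comm_lead k1 k2 b.2.1 b.1 nz.1 h2 (rg_ok s 1)
        obtain ⟨e', e1, -, c2⟩ := relΓ.comm_nz k1 k2 b.2.1 b.1 nz (rg_ok k e) e0
        rw [show ⁅xx k e * g, xx s 1⁆ = ⁅xx k e, xx s (1 : F)⁆ by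
          rw [commutatorElement_def, commutatorElement_def, mul_assoc _ g, (h s hs).eq]; group] at c1
        exact absurd (relΓ.lead p nz.1 (rg_ok _ _) ((mul_mem_cancel_right c1).1 c2)) e1
  exact key 24 le_rfl g hg (YS_mono (T := {r | 24 ≤ r ∧ r < 48})
    (fun r hr => ⟨(hd.1 r hr).2.1, (hd.1 r hr).1⟩) hg) h

theorem rg_map {w : List ℕ} (hw : ∀ i ∈ w, i < 4) {T : List ℕ} (hT : ∀ r ∈ T, r < 48) {g : Γ F}
    (hg : g ∈ XL F {r | r ∈ T}) : ww xx w * g * (ww xx w)⁻¹ ∈ XL F {r | r ∈ T.map (aw w)} := by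
  have : XL F {r | r ∈ T} ≤ (XL F {r | r ∈ T.map (aw w)}).comap (MulAut.conj (ww xx w)).toMonoidHom :=
    YS_le.2 fun r hr e _ => by
      change ww xx w * xx r e * (ww xx w)⁻¹ ∈ XL F _
      rw [rg_conj hw (hT r hr)]
      exact mem_YS (List.mem_map_of_mem hr) (rg_ok _ _)
  exact this hg

theorem rg_unmap {w : List ℕ} (hw : ∀ i ∈ w, i < 4) {T : List ℕ} (hT : ∀ r ∈ T, r < 48) {g : Γ F}
    (hg : ww xx w * g * (ww xx w)⁻¹ ∈ XL F {r | r ∈ T.map (aw w)}) : g ∈ XL F {r | r ∈ T} := by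
  have : XL F {r | r ∈ T.map (aw w)} ≤ (XL F {r | r ∈ T}).comap (MulAut.conj (ww xx w)⁻¹).toMonoidHom :=
    YS_le.2 fun r hr e _ => by
      obtain ⟨s, hs, rfl⟩ := List.mem_map.1 hr
      change (ww xx w)⁻¹ * xx (aw w s) e * (ww xx w)⁻¹⁻¹ ∈ XL F _
      rw [← rg_conj hw (hT s hs), show ∀ a b : Γ F, a⁻¹ * (a * b * a⁻¹) * a⁻¹⁻¹ = b from fun a b => by group]
      exact mem_YS hs (rg_ok _ _)
  have k : (ww xx w)⁻¹ * (ww xx w * g * (ww xx w)⁻¹) * (ww xx w)⁻¹⁻¹ ∈ XL F _ := this hg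
  rwa [show ∀ a b : Γ F, a⁻¹ * (a * b * a⁻¹) * a⁻¹⁻¹ = b from fun a b => by group] at k

/-- the same in another positive system -/
theorem rg_kill (w : List ℕ) {T : List ℕ} (T0 Ψ : List ℕ)
    (hw : (∀ i ∈ w, i < 4) ∧ (∀ r ∈ T, r < 48) ∧ (∀ r ∈ T0, r < 48) ∧ ∀ r ∈ Ψ, r < 48)
    (hd : (∀ r ∈ T.map (aw w), r < 48 ∧ 24 ≤ r ∧ (∀ s ∈ T.map (aw w), ∀ k ∈ F42S.cm r s, k ∈ T.map (aw w)) ∧
      (r ∈ T0.map (aw w) ∨ ∃ s ∈ Ψ.map (aw w), Nz r s ∧ 24 ≤ ad r s)) ∧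
      ∀ s ∈ Ψ.map (aw w), s < 48 ∧ 24 ≤ s ∧ ∀ r ∈ T.map (aw w), r ∈ T0.map (aw w) → ¬ Nz r s)
    {g : Γ F} (hg : g ∈ XL F {r | r ∈ T}) (h : ∀ s ∈ Ψ, Commute g (xx s 1)) :
    g ∈ XL F {r | r ∈ T0} := by
  refine rg_unmap hw.1 hw.2.2.1 (rg_kill0 hd (rg_map hw.1 hw.2.1 hg) fun s hs => ?_)
  obtain ⟨s, hs', rfl⟩ := List.mem_map.1 hs
  rw [← rg_conj hw.1 (hw.2.2.2 s hs')]
  exact (h s hs').map (MulAut.conj (ww xx w))

theorem rg_U {g : Γ F} (hg : g ∈ UU F 24) : g ∈ XL F {r | r ∈ List.range' 24 24} :=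
  YS_mono (fun r hr => by simpa [List.mem_range'_1] using hr) hg

theorem rg_UU {k : ℕ} (hk : k ≤ 48) {g : Γ F} (hg : g ∈ XL F {r | r ∈ List.range' k (48 - k)}) :
    g ∈ UU F k :=
  YS_mono (fun r hr => by
    rw [Set.mem_setOf_eq, List.mem_range'_1] at hr
    exact ⟨hr.1, by omega⟩) hg

/-- normal form along a sorted list -/
theorem rg_nf {T : List ℕ} (hd : (∀ r ∈ T, r < 48 ∧ 24 ≤ r ∧ ∀ s ∈ T, ∀ k ∈ F42S.cm r s, k ∈ T) ∧
    (List.range' 24 24).filter (· ∈ T) = T) {g : Γ F} (hg : g ∈ XL F {r | r ∈ T}) :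
    ∃ c : ℕ → F, g = pr xx T c := by
  obtain ⟨c, h1, rfl⟩ := relΓ.nf0 (fun _ => rfl) (fun r hr s hs => by
    have a := hd.1 r hr
    have b := hd.1 s hs
    exact ⟨a.1, b.1, by omega, a.2.2 s hs⟩) (fun r hr => (hd.1 r hr).2.1) hg
  have key : ∀ l : List ℕ, (∀ r ∈ l, r < 48) → pr xx l c = pr xx (l.filter (· ∈ T)) c := fun l hl => by
    induction l with
    | nil => rfl
    | cons a l ih =>
      have := ih fun r hr => hl r (List.mem_cons_of_mem _ hr)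
      rw [pr] at this
      by_cases k : a ∈ T
      · simp [pr, k, this]
      · simp [pr, k, this, h1 a k, relΓ.zero (hl a (by simp))]
  exact ⟨c, by rw [key _ (by decide), hd.2]⟩

/-- transport of a centraliser along the Weyl group -/
theorem rg_tr {w : List ℕ} (hw : ∀ i ∈ w, i < 4) {l : Γ F} {s : ℕ} (hs : s < 48) {c : F}
    (h : Commute l (xx (aw w s) c)) : Commute ((ww xx w)⁻¹ * l * ww xx w) (xx s c) := by
  rw [← rg_conj hw hs] at h
  simpa [mul_assoc] using h.map (MulAut.conj (ww xx w)⁻¹)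

theorem rg_Mo {w : List ℕ} (hw : ∀ i ∈ w, i < 4) {r s : ℕ} (hr : r < 48) (hs : s < 48) (h : Mo r s) :
    aw w s < 48 ∧ Mo (aw w r) (aw w s) := by
  refine ⟨F42S.aw_lt hw hs, ?_⟩
  rwa [Mo, (F42S.aw_tab hw hr hs).2.1, (F42S.aw_tab hw hr hs).1, (F42S.aw_tab hw hs hr).1]

theorem rg_back {n l y : Γ F} (h : n⁻¹ * l * n = y) : l = n * y * n⁻¹ := by rw [← h]; group

theorem rg_lead {r s : ℕ} (hr : 24 ≤ r) (hr' : r < 48) (hs : s < 48) {a b : F} (a0 : a ≠ 0) (b0 : b ≠ 0)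
    (h : xx r a * xx s b ∈ UU F (r + 1)) : s = r ∧ b = a := by
  have h1 : xx s b ∈ UU F 24 := (mul_mem_cancel_left (mem_SK hr hr' (rg_ok r a))).1 (SK_mono (by omega) h)
  have h2 : 24 ≤ s := by_contra fun k => b0 (relΓ.neg (by omega) (rg_ok s b) h1)
  exact relΓ.lead_eq h2 hs hr hr' (rg_ok _ _) (rg_ok _ _) b0 a0 (by rw [rg_sq hs]; exact one_mem _) h

theorem rg_cj {r : ℕ} (hr : 24 ≤ r) (hr' : r < 48) {u : Γ F} (hu : u ∈ UU F 24) (a : F) :
    xx r a * (u * xx r a * u⁻¹) ∈ UU F (r + 1) := by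
  have := inv_mem (relΓ.SK_comm hr (commutator_mem_commutator hu (mem_SK le_rfl hr' (rg_ok r a))))
  rwa [commutatorElement_inv, commutatorElement_def, relΓ.inv hr' (rg_ok r a), mul_assoc, mul_assoc,
    ← mul_assoc u] at this

theorem rg_id {G : Type*} [Group G] {u t n v x : G} (i : x⁻¹ = x) (h : u * t * n * v * x = x * (u * t * n * v)) :
    t⁻¹ * x * t⁻¹⁻¹ * (n * x * n⁻¹) =
      t⁻¹ * (x * (u⁻¹ * x * u⁻¹⁻¹)) * t⁻¹⁻¹ * (n * (x * (v * x * v⁻¹)) * n⁻¹)⁻¹ :=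
  calc _ = t⁻¹ * x * u⁻¹ * (u * t * n * v * x) * x⁻¹ * v⁻¹ * x⁻¹ * n⁻¹ := by
        nth_rw 2 [← i]
        group
    _ = _ := by rw [h]; group

end RgKit

/-- `α` fixes the root groups of `S` elementwise -/
def Fx (α : Γ F ≃* Γ F) (S : Set ℕ) : Prop := ∀ s ∈ S, ∀ c, α (xx s c) = xx s c

/-- `α` is conjugation by `l` -/
def Inr (α : Γ F ≃* Γ F) (l : Γ F) : Prop := ∀ b, α b = l * b * l⁻¹

variable {α : Γ F ≃* Γ F}

theorem rg_cm {S : Set ℕ} {l : Γ F} (h : Fx α S) (hl : Inr α l) {s : ℕ} (hs : s ∈ S) (c : F) :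
    Commute l (xx s c) := mul_inv_eq_iff_eq_mul.1 ((hl _).symm.trans (h s hs c))

/-- `aut`; no graph part by `ncls`; `pairΓ` for `l` and `lead_eq` give `σ = 1`. -/
theorem inr_of {r : ℕ} (hr : r < 48) (h : Fx α {r}) : ∃ l, Inr α l := by
  obtain ⟨γ, hγ⟩ := exists_gam (F := F)
  obtain ⟨l, σ, φ, hφ, k | k⟩ := aut hγ α
  · obtain ⟨r0, h0, h1, h2⟩ := (by decide +kernel : ∀ r < 48, ∃ r0 ∈ [44, 47], lg r0 = lg r ∧ ip r0 r0 = ip r r)
      r hr
    have h0' : r0 = 44 ∨ r0 = 47 := by simpa using h0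
    have r1 : r0 < 48 := by omega
    obtain ⟨w, hw, e, -⟩ := F42S.orb2 r1 r1 hr hr h1 h1 h2
    obtain ⟨u, hu, s, hs, -, e, e0, hk⟩ := pairΓ h0' ((ww xx w)⁻¹ * l * ww xx w)
    subst_vars
    have key : ∀ c : F, c ≠ 0 → σ c * e = c := fun c c0 => by
      have h3 := h _ rfl c
      rw [k, hφ _ hr, ← rg_conj hw r1, ← rg_conj hw r1] at h3
      have h4 : xx s (σ c * e) = u⁻¹ * xx r0 c * u⁻¹⁻¹ := by
        rw [eq_mul_inv_iff_mul_eq, eq_inv_mul_iff_mul_eq, ← mul_assoc, ← hk]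
        calc _ = (ww xx w)⁻¹ * (l * (ww xx w * xx r0 (σ c) * (ww xx w)⁻¹) * l⁻¹) * ww xx w := by group
          _ = _ := by rw [h3]; group
      exact (rg_lead (by omega) r1 hs c0 (mul_ne_zero ((map_ne_zero σ).2 c0) e0)
        (h4 ▸ rg_cj (by omega) r1 (inv_mem hu) c)).2
    have e1 := key 1 one_ne_zero
    rw [map_one, one_mul] at e1
    have h5 : φ.toMonoidHom = MonoidHom.id _ := hom_ext fun r hr a => (hφ r hr a).trans (by
      by_cases a0 : a = 0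
      · rw [a0, map_zero]; rfl
      · have := key a a0
        rw [e1, mul_one] at this
        rw [this]; rfl)
    exact ⟨l, fun b => by rw [k, show φ b = b from DFunLike.congr_fun h5 b]⟩
  · have h3 := h r rfl 1
    rw [k, hφ r hr, map_one, hγ r hr, one_pow, ite_self] at h3
    have h4 : IsConj (xx (gm r) (1 : F)) (xx r 1) := isConj_iff.2 ⟨l, h3⟩
    have t := F42S.tab_gm r hr
    refine absurd ?_ (ncls (F := F)).1
    cases e : lg r
    · exact ((conj_long t.1 (by rw [t.2.2.1, e]; rfl) one_ne_zero).trans h4).trans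
        (conj_short hr e one_ne_zero).symm
    · exact ((conj_long hr e one_ne_zero).trans h4.symm).trans
        (conj_short t.1 (by rw [t.2.2.1, e]; rfl) one_ne_zero).symm

/-- `bruhat`: `w` fixes `47, 46, …, 42` in turn (leading terms), so is trivial; `χ = 1` on these roots
gives `χ = 1`. -/
theorem mem_U {l : Γ F} (h : ∀ s, 42 ≤ s → s < 48 → ∀ c, Commute l (xx s c)) : l ∈ UU F 24 := by
  obtain ⟨u, hu, t, χ, ht, w, hw, u', hu', rfl⟩ := bruhat l
  have key : ∀ n ≤ 6, ∀ s, 48 - n ≤ s → s < 48 → aw w s = s ∧ χ s = 1 := by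
    intro n
    induction n with
    | zero => intro _ s h1 h2; omega
    | succ n ih =>
      intro hn s h1 h2
      by_cases hs : 48 - n ≤ s
      · exact ih (by omega) s hs h2
      have nm : ∀ g ∈ UU F (s + 1), ww xx w * g * (ww xx w)⁻¹ ∈ UU F (s + 1) := fun g hg => by
        have : UU F (s + 1) ≤ (UU F (s + 1)).comap (MulAut.conj (ww xx w)).toMonoidHom :=
          YS_le.2 fun r hr e _ => by
            change ww xx w * xx r e * (ww xx w)⁻¹ ∈ UU F _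
            rw [rg_conj hw hr.2, (ih (by omega) r (by have := hr.1; omega) hr.2).1]
            exact mem_YS hr (rg_ok _ _)
        exact this hg
      have a1 := nm _ (rg_cj (r := s) (by omega) h2 hu' 1)
      have a2 : _ ∈ UU F (s + 1) := PLocal.Amb.conj_mem_of_mem_normalizer (ht.inv.norm (S := {r | s + 1 ≤ r ∧ r < 48}) fun r hr => hr.2)
        (rg_cj (r := s) (by omega) h2 (inv_mem hu) 1)
      have a3 := (h s (by omega) h2 1).eq
      have a4 := ht.inv.conj s h2 1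
      have a5 := rg_conj hw h2 (1 : F)
      have a6 : xx s ((χ s)⁻¹ * 1) * xx (aw w s) 1 ∈ UU F (s + 1) := by
        rw [← a4, ← a5, rg_id ((relΓ (F := F)).inv h2 (rg_ok s 1)) a3]
        exact mul_mem a2 (inv_mem a1)
      have a7 := rg_lead (by omega) h2 (F42S.aw_lt hw h2) (by simpa using ht.ne s h2) one_ne_zero a6
      exact ⟨a7.1, by simpa using a7.2.symm⟩
  have k := key 6 le_rfl
  have w1 : ww (xx (F := F)) w = 1 := eq_one_of_comm fun r hr a => mul_inv_eq_iff_eq_mul.1 (by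
    rw [rg_conj hw hr, (by decide +kernel : ∀ r < 48, ∀ r' < 48, (∀ s ∈ [42, 43, 44, 47], ip s r' = ip s r) → r' = r)
      r hr _ (F42S.aw_lt hw hr) fun s hs => by
        have : 42 ≤ s ∧ s < 48 := by revert s; decide
        rw [← (F42S.aw_tab hw this.2 hr).2.1, (k s this.1 this.2).1]])
  have m : ∀ {r s x : ℕ}, (r < 48 ∧ s < 48 ∧ ad r s = x ∧ x < 48) → χ x = χ r * χ s := fun e => by
    rw [← e.2.2.1]; exact ht.mul _ e.1 _ e.2.1 (by omega)
  have c44 := (k 44 (by omega) (by omega)).2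
  have c27 := m (r := 44) (s := 27) (x := 45) (by decide +kernel)
  have c28 := m (r := 44) (s := 28) (x := 46) (by decide +kernel)
  have c29 := m (r := 44) (s := 29) (x := 47) (by decide +kernel)
  rw [c44, one_mul, (k _ (by omega) (by omega)).2] at c27 c28 c29
  have c24 := m (r := 24) (s := 28) (x := 29) (by decide +kernel)
  have c25 := m (r := 25) (s := 27) (x := 28) (by decide +kernel)
  have c34 := m (r := 33) (s := 27) (x := 34) (by decide +kernel)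
  have c37 := m (r := 34) (s := 28) (x := 37) (by decide +kernel)
  have c40 := m (r := 37) (s := 29) (x := 40) (by decide +kernel)
  have c33 := m (r := 33) (s := 40) (x := 44) (by decide +kernel)
  simp only [← c27, ← c28, ← c29, mul_one] at c24 c25 c34 c37 c40
  rw [c44, c40, c37, c34, eq_comm, mul_self_eq_one_iff, CharTwo.neg_eq, or_self] at c33
  have pos : ∀ r, 24 ≤ r → r < 48 → χ r = 1 := fun r => by
    induction r using Nat.strong_induction_on with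
    | _ r ih =>
      intro h1 h2
      rcases (by decide +kernel : ∀ r < 48, 24 ≤ r → r = 24 ∨ r = 25 ∨ r = 27 ∨ r = 33 ∨
        ∃ s < r, ∃ x < r, 24 ≤ s ∧ 24 ≤ x ∧ ad s x = r) r h2 h1 with rfl | rfl | rfl | rfl | ⟨s, s1, x, x1, s2, x2, e⟩
      exacts [c24.symm, c25.symm, c27.symm, c33, by
        rw [m ⟨by omega, by omega, e, h2⟩, ih s s1 s2 (by omega), ih x x1 x2 (by omega), mul_one]]
  have t1 : t = 1 := eq_one_of_comm fun r hr a => mul_inv_eq_iff_eq_mul.1 (by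
    rw [ht.conj r hr]
    by_cases p : 24 ≤ r
    · rw [pos r p hr, one_mul]
    · have := ht.neg (47 - r) (by omega)
      rw [show 47 - (47 - r) = r by omega, pos (47 - r) (by omega) (by omega), inv_one] at this
      rw [this, one_mul])
  rw [w1, t1, mul_one, mul_one]
  exact mul_mem hu hu'

theorem cV0 {l : Γ F} (h : ∀ s, 42 ≤ s → s < 48 → ∀ c, Commute l (xx s c)) :
    ∃ a, xx 29 a * l ∈ UU F 33 := by
  obtain ⟨c, rfl⟩ := rg_nf (T := 29 :: List.range' 33 15) (by decide +kernel) (rg_kill0 (Ψ := List.range' 42 6)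
    (by decide +kernel) (rg_U (mem_U h)) fun s hs => by
      rw [List.mem_range'_1] at hs; exact h s hs.1 hs.2 1)
  refine ⟨c 29, ?_⟩
  rw [pr, List.map_cons, List.prod_cons, ← mul_assoc, rg_sq (by omega), one_mul]
  refine list_prod_mem fun x hx => ?_
  obtain ⟨r, hr, rfl⟩ := List.mem_map.1 hx
  rw [List.mem_range'_1] at hr
  exact mem_SK hr.1 hr.2 (rg_ok _ _)

theorem cV {l : Γ F} (h : ∀ s, 41 ≤ s → s < 48 → ∀ c, Commute l (xx s c)) : l ∈ UU F 33 :=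
  rg_UU (by omega) (rg_kill0 (Ψ := List.range' 41 7) (by decide +kernel)
    (rg_U (mem_U fun s h1 => h s (by omega))) fun s hs => by
      rw [List.mem_range'_1] at hs; exact h s hs.1 hs.2 1)

theorem cQ {l : Γ F} (h : ∀ s, 33 ≤ s → s < 48 → ∀ c, Commute l (xx s c)) : l ∈ UU F 41 :=
  rg_UU (by omega) (rg_kill0 (Ψ := List.range' 33 15) (by decide +kernel)
    (rg_U (mem_U fun s h1 => h s (by omega))) fun s hs => by
      rw [List.mem_range'_1] at hs; exact h s hs.1 hs.2 1)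

/-- `mem_U` and the positive roots of the list -/
theorem rg_base {l : Γ F} {P : ℕ → Prop} [DecidablePred P] (h : ∀ s < 48, P s → ∀ c, Commute l (xx s c))
    (h1 : ∀ s < 48, 42 ≤ s → P s) {T : List ℕ}
    (hd : (∀ r ∈ List.range' 24 24, r < 48 ∧ 24 ≤ r ∧
      (∀ s ∈ List.range' 24 24, ∀ k ∈ F42S.cm r s, k ∈ List.range' 24 24) ∧
      (r ∈ T ∨ ∃ s ∈ (List.range' 24 24).filter P, Nz r s ∧ 24 ≤ ad r s)) ∧
      ∀ s ∈ (List.range' 24 24).filter P, s < 48 ∧ 24 ≤ s ∧ ∀ r ∈ List.range' 24 24, r ∈ T → ¬ Nz r s) :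
    l ∈ XL F {r | r ∈ T} :=
  rg_kill0 hd (rg_U (mem_U fun s a b => h s b (h1 s b a))) fun s hs =>
    h s (hd.2 s hs).1 (by simpa using (List.mem_filter.1 hs).2) 1

theorem rg_1 {r : ℕ} (hr : r ∈ [44, 47]) {l : Γ F} (h : ∀ s < 48, Mo r s → ∀ c, Commute l (xx s c)) :
    ∃ a, l = xx r a := by
  obtain rfl | rfl : r = 44 ∨ r = 47 := by simpa using hr
  · obtain ⟨c, e⟩ := rg_nf (T := [44]) (by decide +kernel)
      (rg_kill [3] (T := [44, 47]) _ [23] (by decide) (by decide +kernel)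
        (rg_base h (by decide +kernel) (by decide +kernel)) fun s hs => h s (by revert s; decide)
          (by revert s; decide +kernel) 1)
    exact ⟨c 44, by simpa [pr] using e⟩
  · obtain ⟨c, e⟩ := rg_nf (T := [47]) (by decide +kernel)
      (rg_kill [0] (T := [44, 47]) _ [14] (by decide) (by decide +kernel)
        (rg_base h (by decide +kernel) (by decide +kernel)) fun s hs => h s (by revert s; decide)
          (by revert s; decide +kernel) 1)
    exact ⟨c 47, by simpa [pr] using e⟩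

theorem rg_2 {c k : ℕ} (hc : c < 48) (hk : k < 48) (h1 : lg c = false) (h2 : lg k = false) (h3 : ip c k = 10)
    {l : Γ F} (h : ∀ s < 48, Mo c s → Mo k s → ∀ a, Commute l (xx s a)) : ∃ a b, l = xx c a * xx k b := by
  obtain ⟨w, hw, rfl, rfl⟩ := F42S.orb2 (r := 40) (s := 44) (by omega) (by omega) hc hk
    (h1.symm ▸ by decide) (h2.symm ▸ by decide) (h3.symm ▸ by decide +kernel)
  have hm : ∀ s < 48, Mo 40 s ∧ Mo 44 s → ∀ c, Commute ((ww xx w)⁻¹ * l * ww xx w) (xx s c) :=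
    fun s hs m c => rg_tr hw hs (h _ (F42S.aw_lt hw hs) (rg_Mo hw (by omega) hs m.1).2
      (rg_Mo hw (by omega) hs m.2).2 c)
  obtain ⟨c, e⟩ := rg_nf (T := [40, 44]) (by decide +kernel)
    (rg_kill [3, 2] (T := [39, 40, 44, 47]) _ [21] (by decide) (by decide +kernel)
      (rg_base hm (by decide +kernel) (by decide +kernel)) fun s hs => hm s (by revert s; decide)
        (by revert s; decide +kernel) 1)
  refine ⟨c 40, c 44, ?_⟩
  rw [← rg_conj hw (by omega), ← rg_conj hw (by omega), conj_mul, rg_back e]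
  simp [pr]

theorem rig1 {r : ℕ} (hr : r < 48) (h : Fx α {s | s < 48 ∧ Mo r s}) : ∃ a, Inr α (xx r a) := by
  obtain ⟨l, hl⟩ := inr_of hr fun s hs => h s (by
    obtain rfl : s = r := hs
    exact ⟨hr, (by decide +kernel : ∀ r < 48, Mo r r) s hr⟩)
  obtain ⟨r0, h0, h1, h2⟩ := (by decide +kernel : ∀ r < 48, ∃ r0 ∈ [44, 47], lg r0 = lg r ∧ ip r0 r0 = ip r r)
    r hr
  have r1 : r0 < 48 := (by decide : ∀ r ∈ [44, 47], r < 48) r0 h0
  obtain ⟨w, hw, rfl, -⟩ := F42S.orb2 r1 r1 hr hr h1 h1 h2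
  obtain ⟨a, e⟩ := rg_1 h0 fun s hs m c => rg_tr hw hs (rg_cm h hl (rg_Mo hw r1 hs m) c)
  exact ⟨a, by rwa [rg_back e, rg_conj hw r1] at hl⟩

/-- base cases `(44, 40)`, `(47, 46)` -/
theorem rig2 {c k : ℕ} (hc : c < 48) (hk : k < 48) (h1 : lg c = lg k)
    (h2 : ip c k = if lg c = true then 12 else 10) (h : Fx α {s | s < 48 ∧ Mo c s ∧ Mo k s}) :
    ∃ a b, Inr α (xx c a * xx k b) := by
  obtain ⟨l, hl⟩ := inr_of hc fun s hs => h s (by
    obtain rfl : s = c := hs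
    refine ⟨hc, (by decide +kernel : ∀ r < 48, Mo r r) s hc, .inl ?_⟩
    rw [(by decide +kernel : ∀ r < 48, ∀ s < 48, ip r s = ip s r) k hk s hc, h2]
    split_ifs <;> omega)
  have hm := fun s hs m1 m2 a => rg_cm h hl (s := s) ⟨hs, m1, m2⟩ a
  cases e : lg c
  · rw [e] at h1 h2
    obtain ⟨a, b, rfl⟩ := rg_2 hc hk e h1.symm h2 hm
    exact ⟨a, b, hl⟩
  · rw [e] at h1 h2
    obtain ⟨γ, hγ⟩ := exists_gam (F := F)
    have t := (by decide +kernel : ∀ c < 48, ∀ k < 48, (lg c = true → lg k = true → ip c k = 12 →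
      ip (gm c) (gm k) = 10) ∧ (Mo (gm c) k → Mo c (gm k)))
    have tc := F42S.tab_gm c hc
    have tk := F42S.tab_gm k hk
    obtain ⟨a, b, e1⟩ := rg_2 (l := γ l) tc.1 tk.1 (by rw [tc.2.2.1, e]; rfl) (by rw [tk.2.2.1, ← h1]; rfl)
      ((t c hc k hk).1 e h1.symm h2) fun s hs m1 m2 a => by
        have ts := F42S.tab_gm s hs
        obtain ⟨b, hb⟩ : ∃ b : F, (if lg (gm s) = true then b else b ^ 2) = a := by
          split_ifs
          exacts [⟨a, rfl⟩, (frobeniusEquiv F 2).surjective a]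
        have := (hm _ ts.1 ((t c hc s hs).2 m1) ((t k hk s hs).2 m2) b).map γ
        rwa [hγ _ ts.1, ts.2.1, hb] at this
    have e2 : l = xx c a * xx k b := γ.injective (by
      rw [e1, map_mul, hγ c hc, hγ k hk, if_pos e, if_pos h1.symm])
    exact ⟨a, b, e2 ▸ hl⟩

/-- base case `(40, 33)`: the list is `21..26, 41..47` -/
theorem rigA {a b : ℕ} (ha : a < 48) (hb : b < 48) (h1 : lg a = false) (h2 : lg b = false)
    (h3 : ip a b = 6) (h : Fx α {s | s < 48 ∧ Mo a s ∧ Mo b s}) :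
    ∃ u v w, Inr α (xx b u * xx a v * xx (ad a b) w) := by
  obtain ⟨l, hl⟩ := inr_of (r := ad a b) ((by decide +kernel : ∀ a < 48, ∀ b < 48, ip a b = 6 → ad a b < 48)
    a ha b hb h3) fun s hs => h s (by
      obtain rfl : s = ad a b := hs
      exact (by decide +kernel : ∀ a < 48, ∀ b < 48, ip a b = 6 → ad a b < 48 ∧ Mo a (ad a b) ∧ Mo b (ad a b))
        a ha b hb h3)
  obtain ⟨w, hw, rfl, rfl⟩ := F42S.orb2 (r := 40) (s := 33) (by omega) (by omega) ha hb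
    (h1.symm ▸ by decide) (h2.symm ▸ by decide) (h3.symm ▸ by decide +kernel)
  have hm : ∀ s < 48, Mo 40 s ∧ Mo 33 s → ∀ c, Commute ((ww xx w)⁻¹ * l * ww xx w) (xx s c) :=
    fun s hs m c => rg_tr hw hs (rg_cm h hl ⟨F42S.aw_lt hw hs, (rg_Mo hw (by omega) hs m.1).2,
      (rg_Mo hw (by omega) hs m.2).2⟩ c)
  obtain ⟨c, e⟩ := rg_nf (T := [33, 40, 44]) (by decide +kernel)
    (rg_kill [3, 2] (T := [33, 36, 39, 40, 43, 44, 47]) _ [21] (by decide) (by decide +kernel)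
      (rg_base hm (by decide +kernel) (by decide +kernel)) fun s hs => hm s (by revert s; decide)
        (by revert s; decide +kernel) 1)
  refine ⟨c 33, c 40, c 44, ?_⟩
  rw [(F42S.aw_tab hw (r := 40) (s := 33) (by omega) (by omega)).2.2 (by decide +kernel),
    show ad 40 33 = 44 by decide +kernel, ← rg_conj hw (by omega), ← rg_conj hw (by omega),
    ← rg_conj hw (by omega), conj_mul, conj_mul]
  rw [rg_back e] at hl
  simpa [pr, mul_assoc] using hl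

theorem rigU (h : Fx α {17, 22, 25, 30, 42, 43, 44, 45, 46, 47}) :
    ∃ u v w y, Inr α (xx 29 u * xx 41 v * xx 44 w * xx 47 y) := by
  obtain ⟨l, hl⟩ := inr_of (r := 47) (by omega) fun s hs => h s (by
    obtain rfl : s = 47 := hs
    simp)
  have hm : ∀ s < 48, s ∈ [17, 22, 25, 30, 42, 43, 44, 45, 46, 47] → ∀ c, Commute l (xx s c) :=
    fun s _ m c => rg_cm h hl (by simpa using m) c
  obtain ⟨c, e⟩ := rg_nf (T := [29, 41, 44, 47]) (by decide +kernel)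
    (rg_kill [2, 1, 2] (T := [29, 35, 37, 39, 40, 41, 44, 46, 47]) _ [17, 22] (by decide) (by decide +kernel)
      (rg_base hm (by decide +kernel) (by decide +kernel)) fun s hs => hm s (by revert s; decide)
        (by revert s; decide) 1)
  exact ⟨c 29, c 41, c 44, c 47, by simpa [e, pr, mul_assoc] using hl⟩

/-- base case `(44, 47)` -/
theorem rig45 {a l : ℕ} (ha : a < 48) (hl : l < 48) (h1 : lg a = false) (h2 : lg l = true)
    (h3 : ip a l = 12) (h : Fx α {s | s < 48 ∧ Mo a s ∧ Mo l s}) :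
    ∃ u v, Inr α (xx a u * xx l v) := by
  obtain ⟨g, hg⟩ := inr_of ha fun s hs => h s (by
    obtain rfl : s = a := hs
    refine ⟨ha, (by decide +kernel : ∀ r < 48, Mo r r) s ha, .inl ?_⟩
    rw [(by decide +kernel : ∀ r < 48, ∀ s < 48, ip r s = ip s r) l hl s ha, h3]
    omega)
  obtain ⟨w, hw, rfl, rfl⟩ := F42S.orb2 (r := 44) (s := 47) (by omega) (by omega) ha hl
    (h1.symm ▸ by decide) (h2.symm ▸ by decide) (h3.symm ▸ by decide +kernel)
  have hm : ∀ s < 48, Mo 44 s ∧ Mo 47 s → ∀ c, Commute ((ww xx w)⁻¹ * g * ww xx w) (xx s c) :=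
    fun s hs m c => rg_tr hw hs (rg_cm h hg ⟨F42S.aw_lt hw hs, (rg_Mo hw (by omega) hs m.1).2,
      (rg_Mo hw (by omega) hs m.2).2⟩ c)
  obtain ⟨c, e⟩ := rg_nf (T := [44, 47]) (by decide +kernel)
    (rg_base hm (by decide +kernel) (by decide +kernel))
  refine ⟨c 44, c 47, ?_⟩
  rw [← rg_conj hw (by omega), ← rg_conj hw (by omega), conj_mul]
  rw [rg_back e] at hg
  simpa [pr, mul_assoc] using hg

theorem rigZ (h : Fx α {s | 24 ≤ s ∧ s < 48}) : ∃ u v, Inr α (xx 44 u * xx 47 v) := by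
  obtain ⟨l, hl⟩ := inr_of (r := 47) (by omega) fun s hs => h s (by
    obtain rfl : s = 47 := hs
    exact ⟨by omega, by omega⟩)
  obtain ⟨c, e⟩ := rg_nf (T := [44, 47]) (by decide +kernel)
    (rg_base (P := (24 ≤ ·)) (fun s hs m c => rg_cm h hl ⟨m, hs⟩ c) (by decide +kernel) (by decide +kernel))
  exact ⟨c 44, c 47, by simpa [e, pr] using hl⟩

/-- `cV0`: `l = x₂₉ x₃₃(μ) ⋯ x₃₆(λ) ⋯`; `⁅l, x₃₀(c)⁆` has the leading term `x₃₇(μ c)`, so `μ = 0`; then it is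
`x₄₀(λ c) x₄₅(·) x₄₆(·) x₄₇(λ² c)`. -/
theorem no40 {l : Γ F} (h : ∀ s, 42 ≤ s → s < 48 → ∀ c, Commute l (xx s c)) {c d : F}
    (e : l * xx 30 c * l⁻¹ = xx 30 c * xx 40 d) : d = 0 :=
  let ⟨_, k⟩ := cV0 h
  no40' k e

theorem zU {y : Γ F} : (∀ u ∈ UU F 24, Commute y u) ↔ ∃ a b, y = xx 44 a * xx 47 b :=
  ⟨fun h => (zU0 (mem_U fun _ h1 h2 c => h _ (mem_SK (by omega) h2 (rg_ok _ c)))).1 h, fun ⟨a, b, e⟩ =>
    (zU0 (e ▸ mul_mem (mem_SK (by omega) (by omega) (rg_ok _ _)) (mem_SK (by omega) (by omega) (rg_ok _ _)))).2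
      ⟨a, b, e⟩⟩


end Cfsg.Agent.F4Q
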