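import Mathlib
import Cfsg.Agent.F4Q.Rig

/-! Perfect centralizers in `F₄(q)` (part of `F4Q/Cls`). -/

set_option autoImplicit false

namespace Cfsg.Agent.F4Q

open Cfsg.Lie Cfsg.Agent.Chev Subgroup Cfsg.Agent.PLocal.Amb
open Cfsg.Agent.F42S (lg ip ad gm sm sr Mo aw)
open Cfsg.Agent.FinS (Rt Rg Uf)
open scoped commutatorElement


variable {F : Type*} [Field F] [Finite F] [CharP F 2]

namespace CA

/-- `k` is a sum of two roots of `L` of the same length at `120°` -/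
def St1 (L : List ℕ) (k : ℕ) : Prop :=
  ∃ r ∈ L, ∃ s ∈ L, lg r = lg s ∧ ip r s = (if lg r = true then 4 else 6) ∧ ad r s = k

instance (L : List ℕ) (k : ℕ) : Decidable (St1 L k) := inferInstanceAs (Decidable (∃ r ∈ L, _))

/-- ... or one of the two terms of a commutator at `135°` -/
def St2 (b : Bool) (L : List ℕ) (k : ℕ) : Prop :=
  St1 L k ∨ ∃ r ∈ L, ∃ s ∈ L, lg r = true ∧ lg s = false ∧ ip r s = 4 ∧ (k = ad r s ∨ k = ad (ad r s) s) ∧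
    ad (ad r s) s < 48 ∧ (b = true ∨ St1 L (ad r s) ∨ St1 L (ad (ad r s) s))

instance (b : Bool) (L : List ℕ) (k : ℕ) : Decidable (St2 b L k) := inferInstanceAs (Decidable (_ ∨ _))

theorem cm_mem {G : Type*} [Group G] {H : Subgroup G} {a b w : G} (ha : a ∈ H) (hb : b ∈ H) (e : b * a = a * b * w) :
    w ∈ ⁅H, H⁆ := by
  have := commutator_mem_commutator (inv_mem hb) (inv_mem ha)
  rwa [commutatorElement_def, inv_inv, inv_inv, mul_assoc, e, ← mul_inv_rev, inv_mul_cancel_left] at this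

variable {H : Subgroup (Γ F)} {L : List ℕ} {k : ℕ}

theorem St1.mem (h : St1 L k) (hL : ∀ r ∈ L, r < 48 ∧ ∀ a, xx r a ∈ H) (a : F) : xx k a ∈ ⁅H, H⁆ := by
  obtain ⟨r, hr, s, hs, h1, h2, rfl⟩ := h
  cases e : lg r
  · rw [e] at h1 h2
    simpa using cm_mem ((hL r hr).2 a) ((hL s hs).2 1) (relΓ.cs r (hL r hr).1 s (hL s hs).1 e h1.symm h2 a 1)
  · rw [e] at h1 h2
    simpa using cm_mem ((hL r hr).2 a) ((hL s hs).2 1) (relΓ.cl r (hL r hr).1 s (hL s hs).1 e h1.symm h2 a 1 rfl rfl)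

theorem St2.mem {b : Bool} (h : St2 b L k) (hb : b = true → Nat.card F ≠ 2) (hL : ∀ r ∈ L, r < 48 ∧ ∀ a, xx r a ∈ H)
    (a : F) : xx k a ∈ ⁅H, H⁆ := by
  rcases h with h | ⟨r, hr, s, hs, h1, h2, h3, h4, h5, h6⟩
  · exact h.mem hL a
  have m : ∀ c f : F, xx (ad r s) (c * f) * xx (ad (ad r s) s) (c * (f * f)) ∈ ⁅H, H⁆ := fun c f =>
    cm_mem ((hL r hr).2 c) ((hL s hs).2 f) (relΓ.cm r (hL r hr).1 s (hL s hs).1 h1 h2 h3 c f rfl)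
  have m1 : ∀ c : F, xx (ad r s) c * xx (ad (ad r s) s) c ∈ ⁅H, H⁆ := fun c => by simpa using m c 1
  have m2 : xx (ad (ad r s) s) a ∈ ⁅H, H⁆ := by
    rcases h6 with h6 | h6 | h6
    · obtain ⟨f, f0, f1⟩ : ∃ f : F, f ≠ 0 ∧ f ≠ 1 := by
        by_contra! c
        refine hb h6 (Nat.card_eq_two_iff.2 ⟨0, 1, zero_ne_one, Set.eq_univ_of_forall fun f => ?_⟩)
        exact or_iff_not_imp_left.2 (c f)
      have f2 : 1 + f ≠ 0 := fun e => f1 (by rw [← CharTwo.add_eq_zero, add_comm, e])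
      have := mul_mem (inv_mem (m1 (a / (f * (1 + f)) * f))) (m (a / (f * (1 + f))) f)
      rwa [mul_inv_rev, mul_assoc, inv_mul_cancel_left, relΓ.inv h5 (ok_refl _ _),
        relΓ.add _ h5 _ _ (ok_refl _ _) (ok_refl _ _), show a / (f * (1 + f)) * f + _ = a by field_simp] at this
    · exact (mul_mem_cancel_left (h6.mem hL a)).1 (m1 a)
    · exact h6.mem hL a
  rcases h4 with rfl | rfl
  exacts [(mul_mem_cancel_right m2).1 (m1 a), m2]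

theorem perf {S : Set ℕ} (L : List ℕ) (b : Bool) (hb : b = true → Nat.card F ≠ 2) (h1 : ∀ r ∈ L, r < 48 ∧ r ∈ S)
    (h2 : ∀ k ∈ S, St2 b L k) : ⁅XL F S, XL F S⁆ = XL F S :=
  le_antisymm (commutator_le_self _) (YS_le.2 fun k hk a _ => (h2 k hk).mem hb
    (fun r hr => ⟨(h1 r hr).1, fun c => mem_YS (h1 r hr).2 (ok_refl r c)⟩) a)

theorem two {T L0 L1 L2 : List ℕ} (h0 : ∀ r ∈ L0, r < 48 ∧ ∀ t ∈ T, t < 48 ∧ t ≠ 47 - r ∧ ¬ Nz r t)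
    (h1 : ∀ k ∈ L1, k < 48 ∧ St2 false L0 k) (h2 : ∀ k ∈ L2, St1 L1 k) {g : Γ F}
    (hg : ∀ x, (∀ t ∈ T, Commute x (xx t 1)) → Commute x g) (hk : k ∈ L2) (a : F) :
    xx k a ∈ ⁅⁅centralizer ({g} : Set (Γ F)), centralizer ({g} : Set (Γ F))⁆,
      ⁅centralizer ({g} : Set (Γ F)), centralizer ({g} : Set (Γ F))⁆⁆ :=
  (h2 k hk).mem (fun r hr => ⟨(h1 r hr).1, (h1 r hr).2.mem (by simp) fun s hs => ⟨(h0 s hs).1, fun c =>
    mem_centralizer_singleton_iff.2 (hg _ fun t ht => relΓ.comm0 (fun _ => rfl) (h0 s hs).1 ((h0 s hs).2 t ht).1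
      ((h0 s hs).2 t ht).2.1 ((h0 s hs).2 t ht).2.2 c 1)⟩⟩) a

theorem tA {g : Γ F} (hg : ∀ x, (∀ t ∈ [44, 47], Commute x (xx t 1)) → Commute x g) (hk : k ∈ [44, 47]) (a : F) :
    xx k a ∈ ⁅⁅centralizer ({g} : Set (Γ F)), centralizer ({g} : Set (Γ F))⁆,
      ⁅centralizer ({g} : Set (Γ F)), centralizer ({g} : Set (Γ F))⁆⁆ :=
  two (L0 := [20, 22, 25, 26, 27, 34, 39, 45]) (L1 := [24, 33, 40, 46]) (by decide +kernel) (by decide +kernel)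
    (by decide +kernel) hg hk a

theorem tB (hk : k ∈ [39, 40, 44, 45, 46, 47]) (a : F) :
    xx k a ∈ ⁅⁅centralizer ({xx 39 1 * xx 45 1} : Set (Γ F)), centralizer ({xx 39 1 * xx 45 1} : Set (Γ F))⁆,
      ⁅centralizer ({xx 39 1 * xx 45 1} : Set (Γ F)), centralizer ({xx 39 1 * xx 45 1} : Set (Γ F))⁆⁆ :=
  two (T := [39, 45]) (L0 := [14, 23, 24, 28, 29, 30, 31, 32, 33, 35, 36, 37, 38, 39, 40, 41, 42, 43, 44, 45, 46, 47])
    (L1 := [28, 29, 30, 31, 32, 35, 36, 37, 38, 39, 40, 41, 42, 43, 44, 45, 46, 47]) (by decide +kernel)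
    (by decide +kernel) (by decide +kernel) (fun _ h => (h 39 (by simp)).mul_right (h 45 (by simp))) hk a

end CA

/-- every root element `x_r(c)`, `15 ≤ r`, is a product of commutators (`F42S.tabP`) -/
theorem perf44 : ⁅UU F 15, UU F 15⁆ = UU F 15 :=
  CA.perf (List.range' 15 33) false (by simp) (by decide +kernel) fun k hk =>
    (by decide +kernel : ∀ k < 48, 15 ≤ k → CA.St2 false (List.range' 15 33) k) k hk.2 hk.1
theorem perf47 : ⁅XL F {r | r < 48 ∧ 8 ≤ ip 47 r}, XL F {r | r < 48 ∧ 8 ≤ ip 47 r}⁆ =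
    XL F {r | r < 48 ∧ 8 ≤ ip 47 r} :=
  CA.perf ([6, 10, 12, 13, 14, 17, 19, 20, 22] ++ List.range' 24 24) false (by simp) (by decide +kernel) fun k hk =>
    (by decide +kernel : ∀ k < 48, 8 ≤ ip 47 k →
      CA.St2 false ([6, 10, 12, 13, 14, 17, 19, 20, 22] ++ List.range' 24 24) k) k hk.1 hk.2
/-- for `q > 2` use a torus element of `⟨X_{±25}, X_{±27}⟩` -/
theorem perf14 (hq : Nat.card F ≠ 2) :
    ⁅XL F {r | r < 48 ∧ 8 ≤ ip 47 r ∧ 8 ≤ ip 44 r}, XL F {r | r < 48 ∧ 8 ≤ ip 47 r ∧ 8 ≤ ip 44 r}⁆ =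
      XL F {r | r < 48 ∧ 8 ≤ ip 47 r ∧ 8 ≤ ip 44 r} :=
  CA.perf ([17, 19, 20, 22] ++ List.range' 24 24) true (fun _ => hq) (by decide +kernel) fun k hk =>
    (by decide +kernel : ∀ k < 48, 8 ≤ ip 47 k ∧ 8 ≤ ip 44 k →
      CA.St2 true ([17, 19, 20, 22] ++ List.range' 24 24) k) k hk.1 hk.2
/-- `cls`.  `x₄₇ = ⁅x₂₄, x₄₆⁆`, `x₂₄ = ⁅x₂₆, x₂₂⁆`, `x₄₆ = ⁅x₄₅, x₂₅⁆`; `x₄₄ = ⁅x₃₃, x₄₀⁆`, `x₃₃ = ⁅x₃₄, x₂₀⁆`,
`x₄₀ = ⁅x₃₉, x₂₇⁆`.  For `a₀ = x₃₉ x₄₅`: `x₄₅ = ⁅x₃₁, x₄₁⁆`, `x₃₁ = ⁅x₂₄, x₃₀⁆`, `x₄₁ = ⁅x₄₂, x₂₃⁆`, and `γ`. -/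
theorem h3 {a : Γ F} (h : a * a = 1) : a ∈ ⁅⁅centralizer ({a} : Set (Γ F)), centralizer ({a} : Set (Γ F))⁆,
    ⁅centralizer ({a} : Set (Γ F)), centralizer ({a} : Set (Γ F))⁆⁆ := by
  by_cases h1 : a = 1
  · rw [h1]; exact one_mem _
  have k : ∀ b : Γ F, IsConj b a → b ∈ ⁅⁅centralizer ({b} : Set (Γ F)), centralizer ({b} : Set (Γ F))⁆,
      ⁅centralizer ({b} : Set (Γ F)), centralizer ({b} : Set (Γ F))⁆⁆ → a ∈ ⁅⁅centralizer ({a} : Set (Γ F)),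
      centralizer ({a} : Set (Γ F))⁆, ⁅centralizer ({a} : Set (Γ F)), centralizer ({a} : Set (Γ F))⁆⁆ := fun b hb m => by
    obtain ⟨g, rfl⟩ := isConj_iff.1 hb
    rw [centralizer_singleton_conj, commutator_cj, commutator_cj]
    exact conj_mem_cj g m
  rcases cls h h1 with c | c | c | c <;> refine k _ c ?_
  · exact CA.tA (fun _ h => h 47 (by simp)) (by simp) 1
  · exact CA.tA (fun _ h => h 44 (by simp)) (by simp) 1
  · have t := fun k hk => CA.tA (k := k) (g := xx 47 1 * xx 44 1)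
      (fun _ h => (h 47 (by simp)).mul_right (h 44 (by simp))) hk (1 : F)
    exact mul_mem (t 47 (by simp)) (t 44 (by simp))
  · exact mul_mem (CA.tB (by simp) 1) (CA.tB (by simp) 1)
/-- `C = C(a₀)` contains the root groups commuting with `X₃₉`, `X₄₅`.  `x₄₇ = ⁅x₃₁, x₄₃⁆`,
`⁅x₃₂, x₃₃⁆ = x₃₉ x₄₃`, `x₃₉ = ⁅x₂₉, x₃₅⁆`; `x₄₆ = ⁅x₄₁, x₃₂⁆`, `⁅x₂₄, x₂₈⁆ = x₂₉ x₃₂`, `x₂₉ = ⁅x₃₆, x₁₄⁆`; `γ`. -/
theorem y0_le : XL F {40, 44, 46, 47} ≤ ⁅⁅centralizer ({xx 39 1 * xx 45 1} : Set (Γ F)),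
    centralizer ({xx 39 1 * xx 45 1} : Set (Γ F))⁆, ⁅centralizer ({xx 39 1 * xx 45 1} : Set (Γ F)),
    centralizer ({xx 39 1 * xx 45 1} : Set (Γ F))⁆⁆ :=
  YS_le.2 fun r hr a _ => CA.tB (by rcases hr with rfl | rfl | rfl | rfl <;> simp) a

end Cfsg.Agent.F4Q
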