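import Mathlib
import Cfsg.Agent.F4Q.Rig

/-! Involutory automorphisms of `F₄(q)`, Lang (part of `F4Q/Cls`). -/

set_option autoImplicit false

namespace Cfsg.Agent.F4Q

open Cfsg.Lie Cfsg.Agent.Chev Subgroup Cfsg.Agent.PLocal.Amb
open Cfsg.Agent.F42S (lg ip ad gm sm sr Mo aw)
open Cfsg.Agent.FinS (Rt Rg Uf)
open scoped commutatorElement


variable {F : Type*} [Field F] [Finite F] [CharP F 2]

open scoped Pointwise in
theorem clsC_syl {G : Type*} [Group G] [Finite G] {U : Subgroup G} (hU : IsSyl 2 U ⊤) (α : G ≃* G)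
    (h : ∀ b, α (α b) = b) : ∃ g, ∀ b ∈ U, g⁻¹ * α (g * b * g⁻¹) * g ∈ U := by
  classical
  obtain ⟨P, rfl⟩ := hU.exists_sylow_top
  have := Fintype.ofFinite (Sylow 2 G)
  obtain ⟨Q, hQ⟩ := Equiv.Perm.exists_fixed_point_of_prime (p := 2) (n := 1)
    (Nat.card_eq_fintype_card (α := Sylow 2 G) ▸ not_dvd_card_sylow 2 G)
    (σ := MulAction.toPermHom (MulAut G) (Sylow 2 G) α) (by
      rw [← map_pow, show (α : MulAut G) ^ 2 ^ 1 = 1 from MulEquiv.ext h, map_one])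
  obtain ⟨g, rfl⟩ := MulAction.exists_smul_eq G P Q
  refine ⟨g, fun b hb => ?_⟩
  have k : ∀ x, x ∈ ((g • P : Sylow 2 G) : Subgroup G) ↔ g⁻¹ * x * g ∈ (P : Subgroup G) := fun x => by
    rw [Sylow.coe_subgroup_smul, Subgroup.mem_pointwise_smul_iff_inv_smul_mem]
    simp
  refine (k _).1 ?_
  have e : (show MulAut G from α) • ((g • P : Sylow 2 G) : Subgroup G) = (g • P : Sylow 2 G) :=
    congrArg (fun R : Sylow 2 G => (R : Subgroup G)) hQ
  rw [← e]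
  exact Subgroup.smul_mem_pointwise_smul _ (show MulAut G from α) _ ((k _).2 (by simpa [mul_assoc] using hb))

theorem clsC_nrm {G : Type*} [Group G] [Finite G] {U : Subgroup G} {l : G} {ψ : G ≃* G}
    (h1 : ∀ b, ψ b ∈ U ↔ b ∈ U) (h2 : ∀ b ∈ U, l * ψ b * l⁻¹ ∈ U) : l ∈ 𝐍[U] :=
  Subgroup.mem_normalizer_fintype (S := (U : Set G)) fun n hn => by
    simpa using h2 (ψ.symm n) ((h1 _).1 (by simpa using hn))

theorem clsC_fa {σ : F ≃+* F} {φ : Γ F ≃* Γ F} (hφ : Fa σ φ) (k : ℕ) (b : Γ F) : φ b ∈ UU F k ↔ b ∈ UU F k :=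
  hφ.XL (fun _ h => h.2) b

theorem clsC_gm : ∀ r < 48, (24 ≤ r ∧ r < 48) ↔ (24 ≤ gm r ∧ gm r < 48) := by decide +kernel

theorem clsC_tab : ∀ r < 48, 24 ≤ r → r = 24 ∨ r = 25 ∨ r = 27 ∨ r = 33 ∨
    ∃ s < r, ∃ k < r, 24 ≤ s ∧ 24 ≤ k ∧ ad s k = r := by decide +kernel

theorem clsC_id {φ : Γ F ≃* Γ F} (h : ∀ r < 48, ∀ a, φ (xx r a) = xx r a) (b : Γ F) : φ b = b :=
  DFunLike.congr_fun (hom_ext (f := φ.toMonoidHom) (g := MonoidHom.id _) h) b

theorem clsC_tor1 {h : Γ F} {χ : ℕ → F} (a : Tor h χ) (h1 : χ 24 = 1) (h2 : χ 25 = 1) (h3 : χ 27 = 1)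
    (h4 : χ 33 = 1) : h = 1 := by
  have k : ∀ r < 48, 24 ≤ r → χ r = 1 := fun r => by
    induction r using Nat.strong_induction_on with
    | _ r ih =>
    intro b c
    rcases clsC_tab r b c with rfl | rfl | rfl | rfl | ⟨s, s1, k, k1, s2, k2, rfl⟩
    exacts [h1, h2, h3, h4, by
      rw [a.mul s (s1.trans b) k (k1.trans b) b, ih s s1 (s1.trans b) s2, ih k k1 (k1.trans b) k2, one_mul]]
  refine eq_one_of_comm fun r hr c => mul_inv_eq_iff_eq_mul.1 ?_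
  rw [a.conj r hr]
  by_cases e : 24 ≤ r
  · rw [k r hr e, one_mul]
  · have := a.neg (47 - r) (by omega)
    rw [k (47 - r) (by omega) (by omega), show 47 - (47 - r) = r by omega] at this
    rw [this, inv_one, one_mul]

theorem clsC_torφ {σ : F ≃+* F} {φ : Γ F ≃* Γ F} (hφ : Fa σ φ) {h : Γ F} {χ : ℕ → F} (a : Tor h χ) :
    Tor (φ h) fun r => σ (χ r) :=
  ⟨fun r hr => by simpa using a.ne r hr, fun r hr => by simp [a.neg r hr],
    fun r hr s hs e => by simp [a.mul r hr s hs e], fun r hr c => by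
    have := congrArg φ (a.conj r hr (σ.symm c))
    simpa [hφ r hr] using this⟩

theorem clsC_torU {h : Γ F} {χ : ℕ → F} (a : Tor h χ) (hU : h ∈ UU F 24) : h = 1 := by
  obtain ⟨n, hn⟩ := IsPGroup.iff_orderOf.1 (sylΓ (F := F)).pgrp ⟨h, hU⟩
  have o := a.odd
  rw [← Subgroup.orderOf_coe] at hn
  rw [← orderOf_eq_one_iff]
  cases n with
  | zero => exact hn
  | succ n => exact absurd (hn ▸ o : Odd (2 ^ (n + 1))) (by simp [Nat.odd_pow_iff])

theorem clsC_h90 {σ : F ≃+* F} (h1 : ∀ a, σ (σ a) = a) (h2 : ∃ a, σ a ≠ a) {c : F} (hc : c * σ c = 1) :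
    ∃ b, b ≠ 0 ∧ b⁻¹ * c * σ b = 1 := by
  have : ∃ θ, θ + c * σ θ ≠ 0 := by
    by_contra! k
    obtain ⟨a, ha⟩ := h2
    have k1 := k 1
    rw [map_one] at k1
    exact ha (by linear_combination σ a * k1 - k a)
  obtain ⟨θ, h⟩ := this
  refine ⟨_, h, ?_⟩
  rw [mul_assoc, inv_mul_eq_one₀ h, map_add, map_mul, h1]
  linear_combination (-θ) * hc

theorem clsC_good {φ : Γ F ≃* Γ F} {l : Γ F} (t : Γ F) (h : ∃ g, t⁻¹ * l * φ t = g * (φ g)⁻¹) :
    ∃ g, l = g * (φ g)⁻¹ := by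
  obtain ⟨g, e⟩ := h
  refine ⟨t * g, ?_⟩
  rw [map_mul, mul_inv_rev, mul_assoc, ← mul_assoc g, ← e]
  group

theorem clsC_coc {φ : Γ F ≃* Γ F} (h1 : ∀ b, φ (φ b) = b) {l : Γ F} (h : l * φ l = 1) (t : Γ F) :
    t⁻¹ * l * φ t * φ (t⁻¹ * l * φ t) = 1 := by
  rw [map_mul, map_mul, map_inv, h1]
  calc _ = t⁻¹ * (l * φ l) * t := by group
    _ = 1 := by rw [h]; group

theorem clsC_U {σ : F ≃+* F} (h1 : ∀ a, σ (σ a) = a) (h2 : ∃ a, σ a ≠ a) {φ : Γ F ≃* Γ F}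
    (hφ : Fa σ φ) (n : ℕ) : ∀ k, 24 ≤ k → k + n = 48 → ∀ l ∈ UU F k, l * φ l = 1 → ∃ g, l = g * (φ g)⁻¹ := by
  have R := relΓ (F := F)
  have two := CharTwo.two_eq_zero (R := F)
  have φφ : ∀ b, φ (φ b) = b := clsC_id (φ := φ.trans φ) fun r hr a => by simp [hφ r hr, h1]
  induction n with
  | zero =>
    intro k _ e l hl _
    rw [UU, SK_top (by omega)] at hl
    exact ⟨1, by simpa using hl⟩
  | succ n ih =>
    intro k hk e l hl h
    have hk' : k < 48 := by omega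
    obtain ⟨c, -, hc⟩ := R.SK_step hk hk' hl
    have nn : ∀ a, ∀ v ∈ UU F (k + 1), xx k a * v * xx k a ∈ UU F (k + 1) := fun a v hv => by
      have := (Subgroup.mem_normalizer_iff.1 (R.SK_norm (k := k + 1) (by omega)
        (mem_SK hk hk' (ok_refl k a))) v).1 hv
      rwa [R.inv hk' (ok_refl k a)] at this
    have ad : ∀ a b : F, (xx k a * xx k b : Γ F) = xx k (a + b) := fun a b =>
      R.add k hk' a b (ok_refl k a) (ok_refl k b)
    have e1 : σ c = c := by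
      have a := (clsC_fa hφ _ _).2 hc
      rw [map_mul, hφ k hk', eq_inv_of_mul_eq_one_right h] at a
      have b := mul_mem (nn c _ a) hc
      rw [show xx k c * (xx k (σ c) * l⁻¹) * xx k c * (xx k c * l) =
        xx k c * xx k (σ c) * (l⁻¹ * (xx k c * xx k c) * l) by group, R.sq hk' (ok_refl _ _), mul_one,
        inv_mul_cancel, mul_one, ad] at b
      linear_combination R.lead hk hk' (ok_refl _ _) b - c * two
    obtain ⟨θ, hθ⟩ := h2
    have t0 : θ + σ θ ≠ 0 := fun e => hθ (by linear_combination e - θ * two)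
    have e2 : c * θ / (θ + σ θ) + c = σ (c * θ / (θ + σ θ)) := by
      rw [map_div₀, map_mul, map_add, h1, e1, add_comm (σ θ)]
      field_simp
      linear_combination c * θ * two
    refine clsC_good (xx k (c * θ / (θ + σ θ))) (ih (k + 1) (by omega) (by omega) _ ?_ (clsC_coc φφ h _))
    have := nn (σ (c * θ / (θ + σ θ))) _ hc
    rw [← mul_assoc, ad, show σ (c * θ / (θ + σ θ)) + c = c * θ / (θ + σ θ) by
      linear_combination c * two - e2] at this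
    rwa [hφ k hk', R.inv hk' (ok_refl _ _)]


/-- An involutory automorphism normalizes a Sylow subgroup (their number is odd; or Frattini in
`Γ ⋊ ⟨α⟩`); `aut`, `norm_U`. -/
theorem aut_nf {γ : Γ F ≃* Γ F} (hγ : Gam γ) (α : Γ F ≃* Γ F) (h : ∀ b, α (α b) = b) :
    ∃ g u h χ σ φ, u ∈ UU F 24 ∧ Tor h χ ∧ Fa σ φ ∧
      ((∀ b, g⁻¹ * α (g * b * g⁻¹) * g = u * h * φ b * (u * h)⁻¹) ∨
        ∀ b, g⁻¹ * α (g * b * g⁻¹) * g = u * h * γ (φ b) * (u * h)⁻¹) := by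
  obtain ⟨g, hg⟩ := clsC_syl (sylΓ (F := F)) α h
  obtain ⟨l, σ, φ, hφ, e⟩ := aut hγ (((MulAut.conj g).trans α).trans (MulAut.conj g⁻¹))
  simp only [MulEquiv.trans_apply, MulAut.conj_apply, inv_inv] at e
  have : l ∈ 𝐍[UU F 24] := by
    rcases e with e | e
    · exact clsC_nrm (clsC_fa hφ 24) fun b hb => e b ▸ hg b hb
    · exact clsC_nrm (ψ := φ.trans γ) (fun b => (hγ.XL (fun _ h => h.2) clsC_gm (fun _ h => h.2) _).trans
        (clsC_fa hφ 24 b)) fun b hb => (e b ▸ hg b hb : l * γ (φ b) * l⁻¹ ∈ _)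
  obtain ⟨u, hu, t, χ, ht, rfl⟩ := norm_U this
  exact ⟨g, u, t, χ, σ, φ, hu, ht, hφ, e⟩
/-- Lang's theorem for the field involution.  `aut_nf`; Hilbert 90 on the four simple roots
(`TwE.Uf.h90` or directly, `exists_tor`) removes `h`; then peel `u ∈ UU k`: the leading coefficient
`a` satisfies `σ a = a`, so `a = b + σ b`, conjugate by `x_k(b)`. -/
theorem lang {σ : F ≃+* F} (h1 : ∀ a, σ (σ a) = a) (h2 : ∃ a, σ a ≠ a) {φ : Γ F ≃* Γ F}
    (hφ : Fa σ φ) {l : Γ F} (h : l * φ l = 1) : ∃ g, l = g * (φ g)⁻¹ := by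
  have φφ : ∀ b, φ (φ b) = b := clsC_id (φ := φ.trans φ) fun r hr a => by simp [hφ r hr, h1]
  obtain ⟨g, hg⟩ := clsC_syl (sylΓ (F := F)) (φ.trans (MulAut.conj l)) fun b => by
    simp only [MulEquiv.trans_apply, MulAut.conj_apply, map_mul, map_inv, φφ]
    calc _ = l * φ l * b * (l * φ l)⁻¹ := by group
      _ = b := by rw [h]; group
  refine clsC_good g ?_
  have n : g⁻¹ * l * φ g ∈ 𝐍[UU F 24] := clsC_nrm (clsC_fa hφ 24) fun b hb => by
    have := hg b hb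
    simp only [MulEquiv.trans_apply, MulAut.conj_apply, map_mul, map_inv] at this
    convert this using 1
    group
  have c := clsC_coc φφ h g
  obtain ⟨u, hu, t, χ, ht, e⟩ := norm_U n
  rw [e] at c ⊢
  have nU := fun {t : Γ F} {χ : ℕ → F} (a : Tor t χ) => a.norm (S := {r | 24 ≤ r ∧ r < 48}) fun _ h => h.2
  have T := ht.mul' (clsC_torφ hφ ht)
  have e1 : t * φ t = 1 := clsC_torU T (by
    have : t * φ t = (u * (t * φ u * t⁻¹))⁻¹ * (u * t * φ (u * t)) := by rw [map_mul]; group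
    rw [this, c, mul_one]
    exact inv_mem (mul_mem hu ((Subgroup.mem_normalizer_iff.1 (nU ht) _).1 ((clsC_fa hφ 24 u).2 hu))))
  have e2 : ∀ r < 48, ∃ b, b ≠ 0 ∧ b⁻¹ * χ r * σ b = 1 := fun r hr => clsC_h90 h1 h2 (by
    have := T.conj r hr 1
    rw [e1, one_mul, inv_one, mul_one, mul_one] at this
    exact ((relΓ (F := F)).eq hr (ok_refl _ _) (ok_refl _ _) this).symm)
  obtain ⟨b1, n1, f1⟩ := e2 24 (by norm_num)
  obtain ⟨b2, n2, f2⟩ := e2 25 (by norm_num)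
  obtain ⟨b3, n3, f3⟩ := e2 27 (by norm_num)
  obtain ⟨b4, n4, f4⟩ := e2 33 (by norm_num)
  obtain ⟨s, ψ, hs, rfl, rfl, rfl, rfl⟩ := exists_tor b1 b2 b3 b4 n1 n2 n3 n4
  have e3 := clsC_tor1 ((hs.inv.mul' ht).mul' (clsC_torφ hφ hs)) f1 f2 f3 f4
  refine clsC_good s (clsC_U h1 h2 hφ 24 24 le_rfl rfl _ ?_ (clsC_coc φφ c s))
  have : s⁻¹ * (u * t) * φ s = s⁻¹ * u * s⁻¹⁻¹ * (s⁻¹ * t * φ s) := by group
  rw [this, e3, mul_one]
  exact (Subgroup.mem_normalizer_iff.1 (nU hs.inv) _).1 hu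
/-- an involutory automorphism `l φ` which is not inner has `σ² = 1 ≠ σ` and `l φ(l) = 1` -/
theorem fa_inv {σ : F ≃+* F} {φ α : Γ F ≃* Γ F} (hφ : Fa σ φ) {l : Γ F}
    (e : ∀ b, α b = l * φ b * l⁻¹) (h : ∀ b, α (α b) = b) (hn : ∀ l, ¬ Inr α l) :
    (∀ a, σ (σ a) = a) ∧ (∃ a, σ a ≠ a) ∧ l * φ l = 1 := by
  have R := relΓ (F := F)
  have k : ∀ b, l * φ l * φ (φ b) * (l * φ l)⁻¹ = b := fun b => by
    conv_rhs => rw [← h b, e, e, map_mul, map_mul, map_inv]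
    group
  have n : l * φ l ∈ 𝐍[UU F 24] := clsC_nrm (ψ := φ.trans φ)
    (fun b => (clsC_fa hφ 24 _).trans (clsC_fa hφ 24 b)) fun b hb => ((k b).symm ▸ hb : _ * φ (φ b) * _ ∈ _)
  obtain ⟨u, hu, t, χ, ht, e1⟩ := norm_U n
  have k1 : ∀ a, χ 47 * σ (σ a) = a := fun a => by
    have := k (xx 47 a)
    rw [e1, hφ 47 (by norm_num), hφ 47 (by norm_num), mul_inv_rev, ← mul_assoc, mul_assoc u t, mul_assoc u,
      ht.conj 47 (by norm_num), ← (zU.2 ⟨0, _, by rw [R.zero (by norm_num), one_mul]⟩ u hu).eq,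
      mul_inv_cancel_right] at this
    exact R.eq (by norm_num) (ok_refl _ _) (ok_refl _ _) this
  have k2 : ∀ a, σ (σ a) = a := fun a => by
    have := k1 1
    rw [map_one, map_one, mul_one] at this
    simpa [this] using k1 a
  have φφ : ∀ b, φ (φ b) = b := clsC_id (φ := φ.trans φ) fun r hr a => by simp [hφ r hr, k2]
  refine ⟨k2, ?_, eq_one_of_comm fun r _ a => mul_inv_eq_iff_eq_mul.1 (by simpa only [φφ] using k (xx r a))⟩
  by_contra! k3
  exact hn l fun b => by rw [e, clsC_id fun r hr a => by rw [hφ r hr, k3]]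

end Cfsg.Agent.F4Q
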