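import Mathlib
import Cfsg.Agent.F4Q.ClsC

/-! `Out F₄(q)` (part of `F4Q/Cls`). -/

set_option autoImplicit false
set_option linter.unusedSectionVars false

namespace Cfsg.Agent.F4Q

open Cfsg.Lie Cfsg.Agent.Chev Subgroup Cfsg.Agent.PLocal.Amb
open Cfsg.Agent.F42S (lg ip ad gm sm sr Mo aw)
open Cfsg.Agent.FinS (Rt Rg Uf)
open scoped commutatorElement


variable {F : Type*} [Field F] [Finite F] [CharP F 2]

theorem cd_frob (σ : F ≃+* F) : ∃ j : ℕ, ∀ c, σ c = c ^ 2 ^ j := by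
  let _ : Algebra (ZMod 2) F := ZMod.algebra F 2
  let τ : F →ₐ[ZMod 2] F :=
    { (σ : F →+* F) with
      commutes' := fun c => by
        have hc : c = 0 ∨ c = 1 := by revert c; decide
        rcases hc with rfl | rfl <;> simp }
  obtain ⟨n, hn⟩ := (FiniteField.bijective_frobeniusAlgHom_pow (ZMod 2) F).2 τ
  refine ⟨n, fun c => ?_⟩
  have h1 : (FiniteField.frobeniusAlgHom (ZMod 2) F ^ n.1) c = σ c := DFunLike.congr_fun hn c
  rw [← h1, AlgHom.coe_pow, FiniteField.coe_frobeniusAlgHom, pow_iterate, ZMod.card]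

theorem cd_x {S : Set ℕ} {r : ℕ} (hr : r ∈ S) (a : F) : xx r a ∈ XL F S := mem_YS hr (ok_refl r a)

theorem cd_U {k r : ℕ} (h1 : k ≤ r) (h2 : r < 48) (a : F) : xx r a ∈ UU F k := mem_SK h1 h2 (ok_refl r a)

theorem cd_nl {r : ℕ} (h1 : 24 ≤ r) (h2 : r < 48) {a : F} (ha : a ≠ 0) {g : Γ F} (hg : g ∈ UU F (r + 1)) :
    xx r a * g ∉ UU F (r + 1) := fun h => ha (relΓ.lead h1 h2 (ok_refl r a) ((mul_mem_cancel_right hg).1 h))

theorem cd_lt : ∀ r ∈ ({40, 44, 46, 47} : Set ℕ), r < 48 := by rintro _ (rfl | rfl | rfl | rfl) <;> decide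

theorem cd_com {a b : Γ F} (ha : a ∈ XL F {40, 44, 46, 47}) (hb : b ∈ XL F {40, 44, 46, 47}) : Commute a b :=
  YS_comm (fun r hr e _ => (YS_comm (fun s hs f _ => relΓ.comm0 (fun _ => rfl) (cd_lt r hr) (cd_lt s hs)
    (by rcases hr with rfl | rfl | rfl | rfl <;> rcases hs with rfl | rfl | rfl | rfl <;> decide)
    (by rcases hr with rfl | rfl | rfl | rfl <;> rcases hs with rfl | rfl | rfl | rfl <;> decide +kernel) e f) ha).symm) hb

theorem y0_card : 4 ≤ Nat.card (XL F {40, 44, 46, 47}) ∧ ∀ y ∈ XL F {40, 44, 46, 47}, y * y = 1 := by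
  constructor
  · have k : Function.Injective fun p : F × F => (⟨xx 44 p.1 * xx 47 p.2,
        mul_mem (cd_x (by simp) _) (cd_x (by simp) _)⟩ : XL F {40, 44, 46, 47}) := by
      rintro ⟨a, b⟩ ⟨c, d⟩ e
      have e : xx 44 a * xx 47 b = xx 44 c * xx 47 d := congrArg Subtype.val e
      obtain rfl : c = a := by
        by_contra n
        refine cd_nl (r := 44) (by decide) (by decide) (fun e => n (relΓ.eq_of_add e))
          (cd_U (r := 47) (by decide) (by decide) b) ?_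
        rw [← relΓ.add 44 (by decide) c a (ok_refl _ _) (ok_refl _ _), mul_assoc, e, ← mul_assoc,
          relΓ.sq (by decide) (ok_refl _ _), one_mul]
        exact cd_U (by decide) (by decide) d
      rw [relΓ.eq (by decide) (ok_refl _ _) (ok_refl _ _) (mul_left_cancel e)]
    have h1 := Nat.card_le_card_of_injective _ k
    have h2 : 2 ≤ Nat.card F := Finite.one_lt_card
    rw [Nat.card_prod] at h1
    exact (Nat.mul_le_mul h2 h2).trans h1
  · intro y hy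
    refine closure_induction (p := fun y _ => y * y = 1) ?_ (mul_one _) (fun a b ha hb h1 h2 => ?_) (fun a _ h => ?_) hy
    · rintro _ ⟨r, hr, e, he, rfl⟩
      exact relΓ.sq (cd_lt r hr) he
    · rw [mul_assoc, ← mul_assoc b, ← (cd_com ha hb).eq, mul_assoc, h2, mul_one, h1]
    · rw [← mul_inv_rev, h, inv_one]

theorem cd_YU : XL F {40, 44, 46, 47} ≤ UU F 24 :=
  YS_mono (by rintro _ (rfl | rfl | rfl | rfl) <;> exact ⟨by decide, by decide⟩)

theorem cd_ZU : XL F {44, 47} ≤ UU F 41 := YS_mono (by rintro _ (rfl | rfl) <;> exact ⟨by decide, by decide⟩)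

/-- `U` acts trivially on `Y₀ / Z(U)` -/
theorem cd_cj {u y : Γ F} (hu : u ∈ UU F 24) (hy : y ∈ XL F {40, 44, 46, 47}) :
    ∃ z ∈ XL F {44, 47}, u * y * u⁻¹ = y * z := by
  refine ⟨_, (z2 (cd_YU (inv_mem hy))).2 (inv_mem hy) u hu, ?_⟩
  rw [commutatorElement_def]; group

theorem cd_z {u : Γ F} (hu : u ∈ UU F 24) (a b : F) : u * xx 44 a * u⁻¹ = xx 44 a ∧ u * xx 47 b * u⁻¹ = xx 47 b := by
  have h1 := zU.2 ⟨a, 0, rfl⟩ u hu
  have h2 := zU.2 ⟨0, b, rfl⟩ u hu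
  rw [relΓ.zero (by decide), mul_one] at h1
  rw [relΓ.zero (by decide), one_mul] at h2
  exact ⟨by rw [← h1.eq, mul_inv_cancel_right], by rw [← h2.eq, mul_inv_cancel_right]⟩

theorem cd_out {g : Γ F} {α : Γ F ≃* Γ F} {β : Γ F → Γ F} (e : ∀ b, g⁻¹ * α (g * b * g⁻¹) * g = β b)
    (h1 : ∀ y ∈ XL F {40, 44, 46, 47}, β y ∈ XL F {40, 44, 46, 47}) {y₁ y₂ : Γ F} (m1 : y₁ ∈ XL F {40, 44, 46, 47})
    (m2 : y₂ ∈ XL F {40, 44, 46, 47}) (n1 : y₁ * β y₁ ≠ 1) (n2 : y₂ * β y₂ ≠ 1) (n3 : y₁ * β y₁ ≠ y₂ * β y₂) :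
    ∃ W : Subgroup (Γ F), (∀ y ∈ W, y * y = 1 ∧ α y ∈ W) ∧ ∃ y₁ ∈ W, ∃ y₂ ∈ W,
      y₁ * α y₁ ≠ 1 ∧ y₂ * α y₂ ≠ 1 ∧ y₁ * α y₁ ≠ y₂ * α y₂ := by
  have k : ∀ b, α (MulAut.conj g b) = MulAut.conj g (β b) := fun b => by
    rw [← e, MulAut.conj_apply, MulAut.conj_apply]; group
  refine ⟨(XL F {40, 44, 46, 47}).map (MulAut.conj g).toMonoidHom, ?_, _, ⟨y₁, m1, rfl⟩, _, ⟨y₂, m2, rfl⟩, ?_⟩
  · rintro _ ⟨y, hy, rfl⟩
    exact ⟨by rw [← map_mul, y0_card.2 y hy, map_one], _, h1 y hy, (k y).symm⟩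
  · simp only [MulEquiv.coe_toMonoidHom, k, ← map_mul, ne_eq, EmbeddingLike.apply_eq_iff_eq,
      EmbeddingLike.map_eq_one_iff]
    exact ⟨n1, n2, n3⟩

/-- `aut_nf`.  Graph type: `y₁ = x₄₄(1)`, `y₂ = x₄₀(1)`.  Field type `σ ≠ 1`: `y₁ = x₄₄(a)`, `y₂ = x₄₇(b)`.
All elements lie in a conjugate of the elementary abelian `Y₀`. -/
theorem outer4 (α : Γ F ≃* Γ F) (h : ∀ b, α (α b) = b) (hn : ∀ l, ¬ Inr α l) :
    ∃ W : Subgroup (Γ F), (∀ y ∈ W, y * y = 1 ∧ α y ∈ W) ∧ ∃ y₁ ∈ W, ∃ y₂ ∈ W,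
      y₁ * α y₁ ≠ 1 ∧ y₂ * α y₂ ≠ 1 ∧ y₁ * α y₁ ≠ y₂ * α y₂ := by
  obtain ⟨γ, hγ⟩ := exists_gam (F := F)
  obtain ⟨g, u, t, χ, σ, φ, hu, ht, hφ, e⟩ := aut_nf hγ α h
  have cj : ∀ b : Γ F, u * t * b * (u * t)⁻¹ = u * (t * b * t⁻¹) * u⁻¹ := fun b => by group
  have nr : ∀ y ∈ XL F {40, 44, 46, 47}, u * t * y * (u * t)⁻¹ ∈ XL F {40, 44, 46, 47} := fun y hy => by
    have h1 := (mem_normalizer_iff.1 (ht.norm cd_lt) y).1 hy
    obtain ⟨z, hz, e⟩ := cd_cj hu h1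
    rw [cj, e]
    exact mul_mem h1 (YS_mono (by rintro _ (rfl | rfl) <;> simp) hz)
  rcases e with e | e
  · have ex : ∀ c : F, ∃ a, a + c * σ a ≠ 0 := fun c => by
      by_contra! k
      obtain rfl : 1 = c := by simpa using relΓ.eq_of_add (k 1)
      have k1 : ∀ a, σ a = a := fun a => by simpa using (relΓ.eq_of_add (k a)).symm
      have k2 : ∀ b, φ b = b := DFunLike.congr_fun (hom_ext (f := φ.toMonoidHom) (g := MonoidHom.id _)
        fun r hr a => (hφ r hr a).trans (by rw [k1]; rfl))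
      refine hn (g * (u * t) * g⁻¹) fun b => ?_
      have := e (g⁻¹ * b * g)
      rw [k2, show g * (g⁻¹ * b * g) * g⁻¹ = b by group] at this
      calc α b = g * (g⁻¹ * α b * g) * g⁻¹ := by group
        _ = _ := by rw [this]; group
    obtain ⟨a, ha⟩ := ex (χ 44)
    obtain ⟨b, hb⟩ := ex (χ 47)
    have e1 : xx 44 a * (u * t * φ (xx 44 a) * (u * t)⁻¹) = xx 44 (a + χ 44 * σ a) * 1 := by
      rw [cj, hφ 44 (by decide), ht.conj 44 (by decide), (cd_z hu _ 0).1, mul_one,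
        relΓ.add 44 (by decide) _ _ (ok_refl _ _) (ok_refl _ _)]
    have e2 : xx 47 b * (u * t * φ (xx 47 b) * (u * t)⁻¹) = xx 47 (b + χ 47 * σ b) := by
      rw [cj, hφ 47 (by decide), ht.conj 47 (by decide), (cd_z hu 0 _).2,
        relΓ.add 47 (by decide) _ _ (ok_refl _ _) (ok_refl _ _)]
    have n := cd_nl (r := 44) (by decide) (by decide) ha (one_mem _)
    refine cd_out e (fun y hy => nr _ ((hφ.XL cd_lt y).2 hy)) (cd_x (r := 44) (by simp) a) (cd_x (r := 47) (by simp) b)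
      (fun k => n (e1 ▸ k ▸ one_mem _)) (fun k => hb (relΓ.inj 47 (by decide) _ (ok_refl _ _) (e2 ▸ k))) fun k => n ?_
    rw [← e1, k, e2]
    exact cd_U (by decide) (by decide) _
  · have e1 : xx 44 1 * (u * t * γ (φ (xx 44 1)) * (u * t)⁻¹) = xx 44 1 * xx 47 (χ 47 * σ 1 ^ 2) := by
      rw [cj, hφ 44 (by decide), hγ 44 (by decide), show gm 44 = 47 by decide +kernel, if_neg (by decide +kernel),
        ht.conj 47 (by decide), (cd_z hu 0 _).2]
    obtain ⟨z, hz, e2⟩ := cd_cj hu (cd_x (r := 46) (by simp) (χ 46 * σ 1 ^ 2))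
    have e3 : xx 40 1 * (u * t * γ (φ (xx 40 1)) * (u * t)⁻¹) = xx 40 1 * (xx 46 (χ 46 * σ 1 ^ 2) * z) := by
      rw [cj, hφ 40 (by decide), hγ 40 (by decide), show gm 40 = 46 by decide +kernel, if_neg (by decide +kernel),
        ht.conj 46 (by decide), e2]
    have n := cd_nl (r := 40) (by decide) (by decide) one_ne_zero
      (mul_mem (cd_U (r := 46) (by decide) (by decide) (χ 46 * σ 1 ^ 2)) (cd_ZU hz))
    refine cd_out e (fun y hy => nr _ ((hγ.XL cd_lt ?_ cd_lt _).2 ((hφ.XL cd_lt y).2 hy))) (cd_x (r := 44) (by simp) 1)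
      (cd_x (r := 40) (by simp) 1) (fun k => cd_nl (r := 44) (by decide) (by decide) one_ne_zero
        (cd_U (r := 47) (by decide) (by decide) (χ 47 * σ 1 ^ 2)) (e1 ▸ k ▸ one_mem _))
      (fun k => n (e3 ▸ k ▸ one_mem _)) fun k => n ?_
    · simp only [Set.mem_insert_iff, Set.mem_singleton_iff]
      decide +kernel
    · rw [← e3, ← k, e1]
      exact mul_mem (cd_U (by decide) (by decide) _) (cd_U (by decide) (by decide) _)

/-- the inner automorphisms -/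
abbrev cdI (F : Type*) [Field F] : Subgroup (MulAut (Γ F)) := MulAut.conj.range

instance cd_normal : (cdI F).Normal := ⟨by
  rintro _ ⟨l, rfl⟩ α
  exact ⟨α l, by ext b; simp⟩⟩

theorem cd_mem {α : MulAut (Γ F)} : (α : MulAut (Γ F) ⧸ cdI F) = 1 ↔ ∃ l, Inr α l :=
  (QuotientGroup.eq_one_iff α).trans (exists_congr fun _ =>
    ⟨fun e b => by rw [← e]; rfl, fun e => MulEquiv.ext fun b => (e b).symm⟩)

theorem cd_pow {γ : MulAut (Γ F)} (hγ : Gam γ) (k : ℕ) {r : ℕ} (hr : r < 48) (a : F) :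
    (γ ^ (2 * k)) (xx r a) = xx r (a ^ 2 ^ k) := by
  induction k with
  | zero => simp
  | succ k ih =>
    rw [mul_add, add_comm, pow_add, mul_one, pow_two, MulAut.mul_apply, MulAut.mul_apply, ih, hγ.sq hr, ← pow_mul,
      pow_succ]

theorem cd_gen {γ : MulAut (Γ F)} (hγ : Gam γ) (α : MulAut (Γ F)) : ∃ l n, α = MulAut.conj l * γ ^ (n : ℕ) := by
  obtain ⟨l, σ, φ, hφ, e⟩ := aut hγ α
  obtain ⟨k, hk⟩ := cd_frob σ
  have e0 := hom_ext (f := φ.toMonoidHom) (g := (γ ^ (2 * k)).toMonoidHom) fun r hr a =>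
    (hφ r hr a).trans (by rw [hk]; exact (cd_pow hγ k hr a).symm)
  have e1 : ∀ b, φ b = (γ ^ (2 * k)) b := fun b => DFunLike.congr_fun e0 b
  rcases e with e | e
  · exact ⟨l, 2 * k, MulEquiv.ext fun b => by rw [e, e1]; rfl⟩
  · exact ⟨l, 2 * k + 1, MulEquiv.ext fun b => by rw [e, e1, pow_succ']; rfl⟩

theorem cd_mk (l : Γ F) (α : MulAut (Γ F)) :
    ((MulAut.conj l * α : MulAut (Γ F)) : MulAut (Γ F) ⧸ cdI F) = α := by
  rw [QuotientGroup.mk_mul, cd_mem.2 ⟨l, fun _ => rfl⟩, one_mul]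

instance cd_cyc : IsCyclic (MulAut (Γ F) ⧸ cdI F) := by
  obtain ⟨γ, hγ⟩ := exists_gam (F := F)
  refine ⟨((γ : MulAut (Γ F)) : MulAut (Γ F) ⧸ cdI F), fun x => ?_⟩
  obtain ⟨α, rfl⟩ := QuotientGroup.mk_surjective x
  obtain ⟨l, n, rfl⟩ := cd_gen hγ α
  exact ⟨n, by simp only [cd_mk, zpow_natCast, QuotientGroup.mk_pow]⟩

/-- `Out` is cyclic, generated by `γ` (`γ²` is the Frobenius map, which generates `Aut F`). -/
theorem out_comm (α β : Γ F ≃* Γ F) : ∃ l, ∀ b, α (β b) = l * β (α b) * l⁻¹ := by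
  let a : MulAut (Γ F) := α
  let b : MulAut (Γ F) := β
  obtain ⟨l, e⟩ := (cd_mem (α := a * b * (b * a)⁻¹)).1 (by
    rw [QuotientGroup.mk_mul, QuotientGroup.mk_inv, QuotientGroup.mk_mul, QuotientGroup.mk_mul,
      IsCyclic.isMulCommutative.is_comm.comm (a : MulAut (Γ F) ⧸ cdI F), mul_inv_cancel])
  refine ⟨l, fun x => ?_⟩
  have := e ((b * a) x)
  rwa [← MulAut.mul_apply, inv_mul_cancel_right] at this
theorem out_two (α β : Γ F ≃* Γ F) (h1 : ∃ l, Inr (α.trans α) l) (h2 : ∃ l, Inr (β.trans β) l) :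
    (∃ l, Inr α l) ∨ (∃ l, Inr β l) ∨ ∃ l, Inr (α.trans β) l := by
  classical
  let a : MulAut (Γ F) := α
  let b : MulAut (Γ F) := β
  have h1 := (cd_mem (α := a * a)).2 h1
  have h2 := (cd_mem (α := b * b)).2 h2
  rw [QuotientGroup.mk_mul] at h1 h2
  change _ ∨ _ ∨ ∃ l, Inr (b * a) l
  rw [← cd_mem (α := a), ← cd_mem (α := b), ← cd_mem (α := b * a), QuotientGroup.mk_mul]
  generalize (a : MulAut (Γ F) ⧸ cdI F) = x at h1 ⊢
  generalize (b : MulAut (Γ F) ⧸ cdI F) = y at h2 ⊢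
  have : Finite (MulAut (Γ F)) := Finite.of_injective _ (DFunLike.coe_injective (F := MulAut (Γ F)))
  have := Fintype.ofFinite (MulAut (Γ F) ⧸ cdI F)
  by_contra! k
  have h3 := (Finset.card_le_card (show ({1, x, y} : Finset _) ⊆ _ from fun z hz => Finset.mem_filter.2
    ⟨Finset.mem_univ z, by
      simp only [Finset.mem_insert, Finset.mem_singleton] at hz
      rcases hz with rfl | rfl | rfl
      exacts [one_pow _, pow_two z ▸ h1, pow_two z ▸ h2]⟩)).trans (IsCyclic.card_pow_eq_one_le two_pos)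
  rw [Finset.card_eq_three.2 ⟨_, _, _, k.1.symm, k.2.1.symm, fun e => k.2.2 (e ▸ h1), rfl⟩] at h3
  omega
/-- an automorphism with an inner odd power does not swap the root lengths -/
theorem out_odd (α : Γ F ≃* Γ F) {n : ℕ} (h1 : Odd n) (h2 : ∃ l, Inr ((α : MulAut (Γ F)) ^ n) l) :
    IsConj (xx 47 1) (α (xx 47 1)) := by
  obtain ⟨γ, hγ⟩ := exists_gam (F := F)
  obtain ⟨l, m, e⟩ := cd_gen hγ α
  have k : ∀ j : ℕ, ((γ : MulAut (Γ F)) ^ (2 * j)) (xx 47 1) = xx 47 1 := fun j => by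
    rw [cd_pow hγ j (by decide), one_pow]
  obtain ⟨j, rfl⟩ | hm := Nat.even_or_odd m
  · rw [e, MulAut.mul_apply, ← two_mul, k]
    exact isConj_iff.2 ⟨l, rfl⟩
  · have h3 := cd_mem.2 h2
    rw [QuotientGroup.mk_pow, e, cd_mk, ← QuotientGroup.mk_pow, ← pow_mul] at h3
    obtain ⟨j, hj⟩ := hm.mul h1
    obtain ⟨l', e'⟩ := cd_mem.1 h3
    have := e' (xx 47 1)
    rw [hj, pow_succ', MulAut.mul_apply, k, hγ 47 (by decide), show gm 47 = 44 by decide +kernel,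
      if_pos (by decide +kernel)] at this
    exact absurd (isConj_iff.2 ⟨l', this.symm⟩) ncls.1

end Cfsg.Agent.F4Q
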