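import Mathlib
import Cfsg.Agent.F4Q.ClsA
import Cfsg.Agent.F4Q.ClsD
import Cfsg.Agent.Grp.PChain

/-! Facts on involutions and involutory automorphisms of `F₄(q)`. -/

set_option autoImplicit false

namespace Cfsg.Agent.F4Q

open Cfsg.Lie Cfsg.Agent.Chev Subgroup Cfsg.Agent.PLocal.Amb
open Cfsg.Agent.F42S (lg ip ad gm sm sr Mo aw)
open Cfsg.Agent.FinS (Rt Rg Uf)
open scoped commutatorElement

theorem cl_pair {F G : Type*} [Field F] [Group G] {X Y M : F → G} {P z : G}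
    (p1 : ∀ a, P * X a * P⁻¹ = X a * Y (a * 1)) (m1 : ∀ t a, Commute (M t) (X a))
    (m2 : ∀ t b, M t * Y b * (M t)⁻¹ = Y b * X (b * t)) (pz : Commute P z) (mz : ∀ t, Commute (M t) z)
    (c : ∀ a b, Commute (X a) (Y b)) (sq : ∀ a, X a * X a = 1) (X0 : X 0 = 1) (Y0 : Y 0 = 1) (a b : F) :
    ∃ b', IsConj (X a * Y b * z) (Y b' * z) := by
  have k : ∀ a b, b ≠ 0 → IsConj (X a * Y b * z) (Y b * z) := fun a b h => isConj_iff.2 ⟨M (b⁻¹ * a), by
    rw [← conj_mul, ← conj_mul, m2, (m1 _ a).mul_inv_cancel, (mz _).mul_inv_cancel, mul_inv_cancel_left₀ h,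
      ← (c a b).eq, ← mul_assoc, sq, one_mul]⟩
  by_cases hb : b = 0
  · by_cases ha : a = 0
    · exact ⟨b, by rw [ha, X0, one_mul]⟩
    · exact ⟨a, .trans (isConj_iff.2 ⟨P, by
        rw [hb, Y0, mul_one, ← conj_mul, p1, mul_one, pz.mul_inv_cancel]⟩) (k a a ha)⟩
  · exact ⟨b, k a b hb⟩

variable {F : Type*} [Field F] [Finite F] [CharP F 2]

theorem cl_c (r s : ℕ) (a b : F) (h : r < 48 ∧ s < 48 ∧ s ≠ 47 - r ∧ ¬ Nz r s := by decide +kernel) :
    Commute (xx r a : Γ F) (xx s b) := relΓ.comm0 (fun _ => rfl) h.1 h.2.1 h.2.2.1 h.2.2.2 a b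

theorem cl_j (r s k : ℕ) (b a : F) (h : r < 48 ∧ s < 48 ∧ ad r s = k ∧ lg s = lg r ∧
    ip r s = (if lg r then 4 else 6) ∧ s < 48 ∧ k < 48 ∧ k ≠ 47 - s ∧ ¬ Nz s k := by decide +kernel) :
    (xx s b : Γ F) * xx r a * (xx s b)⁻¹ = xx r a * xx k (a * b) := by
  obtain ⟨h1, h2, rfl, h3, h4, h5⟩ := h
  have : (xx s b : Γ F) * xx r a = xx r a * xx s b * xx (ad r s) (a * b) := by
    cases e : lg r <;> rw [e] at h3 h4
    exacts [relΓ.cs r h1 s h2 e h3 h4 a b, relΓ.cl r h1 s h2 e h3 h4 a b rfl rfl]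
  rw [this, mul_assoc, mul_assoc, ← mul_assoc (xx s b), (cl_c _ _ _ _ h5).mul_inv_cancel]

theorem cl_m {S : Set ℕ} {r : ℕ} (h : r ∈ S) (a : F) : xx r a ∈ XL F S := mem_YS h (ok_refl r a)

theorem cl_nf (l : List ℕ) {g : Γ F} (hg : g ∈ XL F {r | r ∈ l})
    (h : (∀ r ∈ l, 24 ≤ r ∧ ∀ s ∈ l, r < 48 ∧ s < 48 ∧ s ≠ 47 - r ∧ ∀ k ∈ F42S.cm r s, k ∈ l) ∧
      (List.range' 24 24).filter (· ∈ l) = l := by decide +kernel) : ∃ c, g = pr xx l c := by
  obtain ⟨c, h1, rfl⟩ := relΓ.nf0 (fun _ => rfl) (fun r hr => (h.1 r hr).2) (fun r hr => (h.1 r hr).1) hg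
  refine ⟨c, ?_⟩
  rw [← h.2]
  have : ∀ r ∈ List.range' 24 24, r < 48 := by decide
  generalize List.range' 24 24 = m at this
  induction m with
  | nil => rfl
  | cons r m ih =>
    rw [pr_cons, ih fun s hs => this s (by simp [hs]), List.filter_cons]
    split_ifs with e
    · rfl
    · rw [h1 r (fun k => e (decide_eq_true k)), relΓ.zero (this r (by simp)), one_mul]

theorem cl_y0 {y : Γ F} (hy : y ∈ XL F {40, 44, 46, 47}) :
    ∃ a b c d, y = xx 40 a * xx 44 b * (xx 46 c * xx 47 d) := by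
  obtain ⟨c, rfl⟩ := cl_nf [40, 44, 46, 47] (YS_mono (fun r hr => by simpa using hr) hy)
  exact ⟨c 40, c 44, c 46, c 47, by simp [pr, mul_assoc]⟩

theorem cl_inj {u v : F} (e : (xx 39 u * xx 45 v : Γ F) = 1) : u = 0 ∧ v = 0 := by
  have := relΓ.lead (r := 39) (by omega) (by omega) (ok_refl _ u) (eq_inv_of_mul_eq_one_left e ▸
    inv_mem (mem_SK (by omega) (by omega) (ok_refl _ _)))
  rw [this, relΓ.zero (by omega), one_mul] at e
  exact ⟨this, relΓ.inj 45 (by omega) v (ok_refl _ _) e⟩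

theorem a0_ne : (xx 39 1 * xx 45 1 : Γ F) ≠ 1 := fun e => one_ne_zero (cl_inj e).1

theorem y0_not {y : Γ F} (hy : y ∈ XL F {40, 44, 46, 47}) : ¬ IsConj (xx 39 1 * xx 45 1) y := fun h => by
  obtain ⟨a, b, c, d, rfl⟩ := cl_y0 hy
  have sq := fun r (hr : r < 48) (a : F) => relΓ.sq hr (ok_refl r a)
  obtain ⟨u, h1⟩ := cl_pair (cl_j 40 33 44 1) (cl_c 14 40) (cl_j 44 14 40)
    ((cl_c 33 46 _ c).mul_right (cl_c 33 47 _ d)) (fun t => (cl_c 14 46 t c).mul_right (cl_c 14 47 t d))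
    (cl_c 40 44) (sq 40 (by omega)) (relΓ.zero (by omega)) (relΓ.zero (by omega)) a b
  obtain ⟨v, h2⟩ := cl_pair (cl_j 46 24 47 1) (cl_c 23 46) (cl_j 47 23 46) (cl_c 24 44 _ u)
    (fun t => cl_c 23 44 t u) (cl_c 46 47) (sq 46 (by omega)) (relΓ.zero (by omega)) (relΓ.zero (by omega)) c d
  rw [((cl_c 44 46 u c).mul_right (cl_c 44 47 u d)).eq] at h1
  replace h := ((h.trans h1).trans h2).symm
  obtain ⟨-, -, n1, -, n2, n3⟩ := ncls (F := F)
  by_cases hu : u = 0 <;> by_cases hv : v = 0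
  · rw [hu, hv, relΓ.zero (by omega), relΓ.zero (by omega), one_mul] at h
    exact a0_ne (isConj_one_right.1 h)
  · rw [hu, relΓ.zero (by omega), mul_one] at h
    exact n1 ((conj_long (by omega) (by decide) hv).trans h)
  · rw [hv, relΓ.zero (by omega), one_mul] at h
    exact n2 ((conj_short (by omega) (by decide) hu).trans h)
  · exact n3 ((conj_m hv hu).trans h)

theorem y0_conj {y : Γ F} (hy : y ∈ XL F {40, 44, 46, 47}) :
    IsConj (xx 39 1 * xx 45 1) (xx 39 1 * xx 45 1 * y) := by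
  obtain ⟨a, b, c, d, rfl⟩ := cl_y0 hy
  have k : ∀ {a g z w : Γ F}, g * a * g⁻¹ = a * z → Commute g w → IsConj (a * w) (a * (z * w)) :=
    fun e c => isConj_iff.2 ⟨_, by rw [← conj_mul, e, c.mul_inv_cancel, mul_assoc]⟩
  have l : ∀ s t (e : F), (xx s e : Γ F) * xx 45 1 * (xx s e)⁻¹ = xx 45 1 * xx t (1 * e) →
      Commute (xx s e : Γ F) (xx 39 1) → xx s e * (xx 39 1 * xx 45 1) * (xx s e)⁻¹ =
        xx 39 1 * xx 45 1 * xx t e := fun s t e h c => by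
    rw [← conj_mul, h, c.mul_inv_cancel, one_mul, mul_assoc]
  have m : ∀ s t (e : F), (xx s e : Γ F) * xx 39 1 * (xx s e)⁻¹ = xx 39 1 * xx t (1 * e) →
      Commute (xx s e : Γ F) (xx 45 1) → Commute (xx t e : Γ F) (xx 45 1) →
      xx s e * (xx 39 1 * xx 45 1) * (xx s e)⁻¹ = xx 39 1 * xx 45 1 * xx t e := fun s t e h c c' => by
    rw [← conj_mul, h, c.mul_inv_cancel, one_mul, c'.right_comm]
  have := ((k (l 26 47 d (cl_j 45 26 47 d 1) (cl_c _ _ _ _)) (.one_right _)).trans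
    (k (l 25 46 c (cl_j 45 25 46 c 1) (cl_c _ _ _ _)) ((cl_c _ _ _ _).mul_right (.one_right _)))).trans
    ((k (m 34 44 b (cl_j 39 34 44 b 1) (cl_c _ _ _ _) (cl_c _ _ _ _)) ((cl_c _ _ _ _).mul_right
      ((cl_c _ _ _ _).mul_right (.one_right _)))).trans
    (k (m 27 40 a (cl_j 39 27 40 a 1) (cl_c _ _ _ _) (cl_c _ _ _ _)) ((cl_c _ _ _ _).mul_right
      ((cl_c _ _ _ _).mul_right ((cl_c _ _ _ _).mul_right (.one_right _))))))
  simpa only [mul_one, mul_assoc] using this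

/-- the positive roots of `C(a₀)` -/
def l1 : List ℕ := [24, 28, 29, 30, 31, 32, 33, 35, 36, 37, 38, 39, 40, 41, 42, 43, 44, 45, 46, 47]

theorem ca4 {g : Γ F} : Commute g (xx 39 1 * xx 45 1) ↔ g ∈ XL F {r | r ∈ 14 :: 23 :: l1} := by
  have t : ∀ r ∈ 14 :: 23 :: l1, (39 < 48 ∧ r < 48 ∧ r ≠ 47 - 39 ∧ ¬ Nz 39 r) ∧
    45 < 48 ∧ r < 48 ∧ r ≠ 47 - 45 ∧ ¬ Nz 45 r := by decide +kernel
  refine ⟨fun h => ?_, fun h => (YS_comm (fun r hr e _ =>
    (cl_c _ _ _ _ (t r hr).1).mul_left (cl_c _ _ _ _ (t r hr).2)) h).symm⟩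
  have := Fintype.ofFinite F
  have k : ∀ r ∈ 14 :: 23 :: l1, chevF4.rootSubgroup F r ≤
      (XL F {r | r ∈ 14 :: 23 :: l1}).map (chevF4.group F).subtype := fun r hr => by
    rw [rootSubgroup_eq]
    exact XS_le.2 fun s hs t => ⟨xx s t, cl_m (hs ▸ hr) t, rfl⟩
  have m : g.1 ∈ chevF4.group F ⊓ centralizer {xG chevF4 F 39 1 * xG chevF4 F 45 1} :=
    ⟨g.2, mem_centralizer_singleton_iff.2 (congrArg Subtype.val h.eq)⟩
  rw [(S2179.result (F := F) (xG _ _ 47 1 * xG _ _ 44 1) _ (by simp) (by simp)).2] at m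
  refine mem_map_subtype.1 ((sup_le (sup_le (sup_le (sup_le (k _ (by decide)) (k _ (by decide)))
    (k _ (by decide))) (k _ (by decide))) ((closure_le _).2 ?_)) m)
  rintro a ⟨r, c, h1, h2, e⟩
  rw [rootTableF4.pos_iff, F42S.TN] at h1
  refine k r ?_ (subset_closure ⟨c, e⟩)
  obtain ⟨h1, h3⟩ := h1
  revert h2
  interval_cases r <;> decide

theorem y0_aut (α : Γ F ≃* Γ F) (h : α (xx 39 1 * xx 45 1) = xx 39 1 * xx 45 1) {y : Γ F}
    (hy : y ∈ XL F {40, 44, 46, 47}) : α y ∈ XL F {40, 44, 46, 47} := by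
  obtain ⟨γ, hγ⟩ := exists_gam (F := F)
  obtain ⟨l, σ, φ, hφ, e⟩ := aut hγ α
  have i1 : Idl0 {r | r ∈ 14 :: 23 :: l1} {r | r ∈ [40, 44, 46, 47]} := by
    unfold Idl0; simp only [Set.mem_setOf_eq]; decide +kernel
  have i2 : Idl0 {r | r ∈ [40, 44, 46, 47]} {r | r ∈ [40, 44, 46, 47]} := by
    unfold Idl0; simp only [Set.mem_setOf_eq]; decide +kernel
  rw [show {r | r ∈ [40, 44, 46, 47]} = ({40, 44, 46, 47} : Set ℕ) by ext; simp] at i1 i2
  have n : ∀ {z}, l * (xx 39 1 * xx 45 1) * l⁻¹ = xx 39 1 * xx 45 1 → z ∈ XL F {40, 44, 46, 47} →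
      l * z * l⁻¹ ∈ XL F {40, 44, 46, 47} := fun c => PLocal.Amb.conj_mem_of_mem_normalizer
    (relΓ.norm0 (fun _ => rfl) i1 i2 (ca4.1 (mul_inv_eq_iff_eq_mul.1 c)))
  have f : φ (xx 39 1 * xx 45 1) = xx 39 1 * xx 45 1 := by
    rw [map_mul, hφ _ (by omega), hφ _ (by omega), map_one]
  have m := (hφ.XL (by simp) y).2 hy
  rcases e with e | e <;> rw [e, f] at h <;> rw [e]
  · exact n h m
  · refine n ?_ ((hγ.XL (by simp) (by decide +kernel) (by simp) _).2 m)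
    rwa [map_mul, hγ _ (by omega), hγ _ (by omega), if_neg (by decide), if_pos (by decide), one_pow,
      show gm 39 = 45 from rfl, show gm 45 = 39 from rfl, (cl_c 45 39 _ _).eq] at h

theorem pa_kill {g : Γ F} (h1 : ∀ s, 42 ≤ s → s < 48 → ∀ c, Commute g (xx s c))
    (h2 : ∀ s ∈ l1, ∃ c ≠ 0, Commute g (xx s c)) : g ∈ XL F {r | r ∈ [39, 44, 45, 47]} := by
  have t : ∀ r < 48, 24 ≤ r → (r ∈ [39, 44, 45, 47] ∧ ∀ s ∈ l1, r < 48 ∧ s < 48 ∧ s ≠ 47 - r ∧ ¬ Nz r s) ∨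
    ∃ s ∈ l1, Nz r s ∧ 24 ≤ s ∧ s < 48 ∧ r ≠ s ∧ 24 ≤ ad r s := by decide +kernel
  have key : ∀ n m, m + n = 48 → 24 ≤ m → ∀ g ∈ UU F m, (∀ s ∈ l1, ∃ c ≠ 0, Commute g (xx s c)) →
      g ∈ XL F {r | r ∈ [39, 44, 45, 47]} := fun n => by
    induction n with
    | zero =>
      intro m a _ g hg _
      rw [UU, SK_top (by omega), mem_bot] at hg
      exact hg ▸ one_mem _
    | succ n ih =>
      intro m a b g hg h1
      have c : m < 48 := by omega
      obtain ⟨e, he, d⟩ := relΓ.SK_step b c hg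
      rcases t m c b with ⟨t1, t2⟩ | ⟨s, hs, z, s1, s2, s3, s4⟩
      · exact (mul_mem_cancel_left (cl_m t1 e)).1 (ih _ (by omega) (by omega) _ d fun s hs =>
          (h1 s hs).imp fun c k => ⟨k.1, (cl_c _ _ _ _ (t2 s hs)).mul_left k.2⟩)
      · obtain ⟨u, u0, k⟩ := h1 s hs
        obtain ⟨h, χ, T, χ1, χ2⟩ := tor2 s2 c s3 (by omega) (inv_ne_zero u0) (one_ne_zero (α := F))
        have k1 := k.conj h
        have d1 := PLocal.Amb.conj_mem_of_mem_normalizer (T.norm fun r hr => hr.2) d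
        rw [T.conj s s2, χ1, inv_mul_cancel₀ u0] at k1
        rw [← conj_mul, T.conj m c, χ2, one_mul] at d1
        rw [relΓ.peel0 b c s1 s2 z (fun _ => relΓ.lead s4 z.1)
          (commutatorElement_eq_one_iff_commute.2 k1 ▸ one_mem _) he d1, relΓ.zero c, one_mul] at d
        exact ih _ (by omega) (by omega) _ d h1
  exact key 24 24 rfl le_rfl g (mem_U h1) h2

theorem pure_a {Y : Subgroup (Γ F)} (h1 : 4 ≤ Nat.card Y) (h2 : ∀ y ∈ Y, y * y = 1)
    (h3 : centralizer ({xx 39 1 * xx 45 1} : Set (Γ F)) ≤ 𝐍[Y])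
    (h4 : ∀ y ∈ Y, y ≠ 1 → IsConj (xx 39 1 * xx 45 1) y ∧
      ¬ IsConj (xx 39 1 * xx 45 1) (xx 39 1 * xx 45 1 * y)) : False := by
  have nY : XL F {r | r ∈ 14 :: 23 :: l1} ≤ 𝐍[Y] := fun g hg =>
    h3 (mem_centralizer_singleton_iff.2 (ca4.2 hg))
  have ex : ∀ y : Γ F, y * y = 1 → ¬ Y ≤ zpowers y := fun y e l => by
    have := (h1.trans (card_le_of_le l)).trans ((Nat.card_zpowers y).trans_le
      (orderOf_le_of_pow_eq_one two_pos ((pow_two y).trans e)))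
    omega
  have ad : ∀ a b c d : F, (xx 39 a * xx 45 b : Γ F) * (xx 39 c * xx 45 d) = xx 39 (a + c) * xx 45 (b + d) :=
    fun a b c d => by rw [(cl_c 45 39 b c).mul_mul_mul_comm, relΓ.add _ (by omega) _ _ (ok_refl _ _) (ok_refl _ _),
      relΓ.add _ (by omega) _ _ (ok_refl _ _) (ok_refl _ _)]
  have A : ∀ y ∈ Y, y ∈ XL F {r | r ∈ [39, 44, 45, 47]} → y ≠ 1 → ∃ a b : F, a ≠ 0 ∧ b ≠ 0 ∧
      (1 + a = 0 ↔ 1 + b ≠ 0) ∧ y = xx 39 a * xx 45 b := fun y hy m y1 => by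
    obtain ⟨c, e⟩ := cl_nf _ m
    replace e : y = xx 39 (c 39) * (xx 44 (c 44) * (xx 45 (c 45) * xx 47 (c 47))) := by simp [e, pr]
    have k : ∀ s ∈ 14 :: 23 :: l1, ∀ t ∈ ({40, 44, 46, 47} : Set ℕ), t < 48 → ∀ u : F,
        xx s 1 * y * (xx s 1)⁻¹ = y * xx t u → u = 0 := fun s hs t ht t1 u e =>
      relΓ.inj t t1 u (ok_refl _ _) (by_contra fun n => y0_not (cl_m ht u) (h4 _ ((mul_mem_cancel_left hy).1
        (e ▸ PLocal.Amb.conj_mem_of_mem_normalizer (nY (cl_m hs 1)) hy)) n).1)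
    have c1 := k 14 (by decide) 40 (by simp) (by omega) (c 44 * 1) (by
      rw [e, ← conj_mul, ← conj_mul, ← conj_mul, cl_j 44 14 40, (cl_c 14 39 _ _).mul_inv_cancel,
        (cl_c 14 45 _ _).mul_inv_cancel, (cl_c 14 47 _ _).mul_inv_cancel,
        ((cl_c 40 45 _ _).mul_right (cl_c 40 47 _ _)).right_comm]
      simp only [mul_assoc])
    have c2 := k 23 (by decide) 46 (by simp) (by omega) (c 47 * 1) (by
      rw [e, ← conj_mul, ← conj_mul, ← conj_mul, cl_j 47 23 46, (cl_c 23 39 _ _).mul_inv_cancel,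
        (cl_c 23 45 _ _).mul_inv_cancel, (cl_c 23 44 _ _).mul_inv_cancel]
      simp only [mul_assoc])
    rw [mul_one] at c1 c2
    rw [c1, c2, relΓ.zero (by omega), relΓ.zero (by omega), one_mul, mul_one] at e
    obtain ⟨k1, k2⟩ := h4 y hy y1
    obtain ⟨-, -, n1, -, n2, -⟩ := ncls (F := F)
    refine ⟨_, _, fun z => ?_, fun z => ?_, ⟨fun z1 z2 => ?_, fun z2 => by_contra fun z1 => ?_⟩, e⟩
    · rw [z, relΓ.zero (by omega), one_mul] at e
      exact n1 ((conj_long (by omega) (by decide) fun z => y1 (by rw [e, z, relΓ.zero (by omega)])).trans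
        (e ▸ k1).symm)
    · rw [z, relΓ.zero (by omega), mul_one] at e
      exact n2 ((conj_short (by omega) (by decide) fun z => y1 (by rw [e, z, relΓ.zero (by omega)])).trans
        (e ▸ k1).symm)
    · rw [← relΓ.eq_of_add z1, ← relΓ.eq_of_add z2] at e
      obtain ⟨w, w1, w2⟩ := SetLike.not_le_iff_exists.1 (ex y (h2 y hy))
      exact (h4 w w1 fun z => w2 (z ▸ one_mem _)).2 (e ▸ (h4 _ (mul_mem hy w1) fun z => w2
        (eq_inv_of_mul_eq_one_right z ▸ inv_mem (mem_zpowers y))).1)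
    · obtain ⟨h, χ, T, χ1, χ2⟩ := tor2 (r := 39) (s := 45) (by omega) (by omega) (by omega) (by omega) z1 z2
      exact k2 (isConj_iff.2 ⟨h, by
        rw [← conj_mul, T.conj _ (by omega), T.conj _ (by omega), χ1, χ2, mul_one, mul_one, e, ad]⟩)
  have T2 : IsPGroup 2 (XL F {r | r ∈ l1}) := relΓ.two_SK.to_le (YS_mono (show ∀ r ∈ l1, 24 ≤ r ∧ r < 48 by decide))
  have TY : XL F {r | r ∈ l1} ≤ 𝐍[Y] := (YS_mono fun r hr => by simp [show r ∈ l1 from hr]).trans nY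
  have Y2 : IsPGroup 2 Y := isPGroup_iff.2 fun y hy => ⟨1, (pow_two y).trans (h2 y hy)⟩
  obtain ⟨y, ⟨hy, cy⟩, y1⟩ := (bot_or_exists_ne_one _).resolve_left (inf_centralizer_ne_bot T2 Y2 TY
    fun e => ex 1 (one_mul 1) (e ▸ bot_le))
  have t42 : ∀ s, 42 ≤ s → s < 48 → s ∈ l1 := fun s a b => by interval_cases s <;> decide
  obtain ⟨a, b, a0, b0, ab, ey⟩ := A y hy (pa_kill (fun s h h' c => (cy _ (cl_m (t42 s h h') c)).symm)
    fun s hs => ⟨1, one_ne_zero, (cy _ (cl_m hs 1)).symm⟩) y1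
  obtain ⟨u, u0, u1⟩ : ∃ u : F, u ≠ 0 ∧ 1 + u ≠ 0 := by
    by_cases z : 1 + a = 0
    exacts [⟨b, b0, ab.1 z⟩, ⟨a, a0, z⟩]
  have ab2 : ∀ x ∈ Y, ∀ z ∈ Y, x * z = z * x := fun x hx z hz => by
    rw [← inv_eq_of_mul_eq_one_left (h2 _ (mul_mem hx hz)), mul_inv_rev, inv_eq_of_mul_eq_one_left (h2 x hx),
      inv_eq_of_mul_eq_one_left (h2 z hz)]
  have n1 := normal_subgroupOf' (sup_le TY le_normalizer)
  have n2 := normal_subgroupOf' (L := XL F {r | r ∈ l1} ⊔ Y) (A := zpowers y) (.trans (by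
    rw [centralizer_zpowers]
    exact sup_le (fun t ht => mem_centralizer_singleton_iff.2 (cy t ht))
      fun t ht => mem_centralizer_singleton_iff.2 (ab2 t ht y hy)) (centralizer_le_normalizer' _))
  obtain ⟨⟨w, _⟩, hw, wy, -, cw, -⟩ := Grp.PChain.exists_normal_step (isPGroup_sup T2 Y2 TY) (Y.subgroupOf _)
    ((zpowers y).subgroupOf _) fun e => ex y (h2 y hy) fun x hx => e (show (⟨x, mem_sup_right hx⟩ : (_ ⊔ _ : Subgroup _)) ∈ _ from hx)
  replace hw : w ∈ Y := hw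
  replace wy : w ∉ zpowers y := wy
  replace cw : ∀ t ∈ XL F {r | r ∈ l1}, t * w * t⁻¹ = w ∨ t * w * t⁻¹ = y * w := fun t ht => by
    obtain ⟨i, e⟩ := mem_powers_iff_mem_zpowers.2 (inv_mem (cw ⟨t, mem_sup_left ht⟩) : ⁅w, t⁆⁻¹ ∈ zpowers y)
    rw [commutatorElement_inv, commutatorElement_def, eq_mul_inv_iff_mul_eq] at e
    rw [← e]
    obtain ⟨j, rfl | rfl⟩ := Nat.even_or_odd' i <;> simp [pow_succ, pow_mul, h2 y hy]
  have tw : ∀ t ∈ XL F {r | r ∈ l1}, ∀ s, t * (s * w * s⁻¹) * t⁻¹ = t * s * w * (t * s)⁻¹ := fun t _ s => by group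
  have ty : ∀ t ∈ XL F {r | r ∈ l1}, t * (y * w) * t⁻¹ = y * (t * w * t⁻¹) := fun t ht => by
    rw [← mul_assoc, cy t ht]; group
  have cm : ∀ t ∈ XL F {r | r ∈ l1}, ∀ s ∈ XL F {r | r ∈ l1}, Commute w ⁅t, s⁆ := fun t ht s hs => by
    have : t⁻¹ * s⁻¹ * w * (t⁻¹ * s⁻¹)⁻¹ = s⁻¹ * t⁻¹ * w * (s⁻¹ * t⁻¹)⁻¹ := by
      rw [← tw _ (inv_mem ht), ← tw _ (inv_mem hs)]
      rcases cw _ (inv_mem ht) with e | e <;> rcases cw _ (inv_mem hs) with f | f <;>
        simp only [e, f, ty _ (inv_mem ht), ty _ (inv_mem hs)]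
    refine (mul_inv_eq_iff_eq_mul.1 ?_ : _ = _).symm
    calc _ = t * s * (t⁻¹ * s⁻¹ * w * (t⁻¹ * s⁻¹)⁻¹) * (t * s)⁻¹ := by rw [commutatorElement_def]; group
      _ = _ := by rw [this]; group
  have c1 : ∀ r s k (c : F) (h : r ∈ l1 ∧ s ∈ l1 ∧ k < 48 ∧ r < 48 ∧ s < 48 ∧ F42S.ad r s = k ∧ lg s = lg r ∧
      ip r s = (if lg r then 4 else 6) ∧ s < 48 ∧ k < 48 ∧ k ≠ 47 - s ∧ ¬ Nz s k := by decide +kernel),
      Commute w (xx k c) := fun r s k c h => by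
    have := cm _ (inv_mem (cl_m h.1 c)) _ (cl_m h.2.1 1)
    rwa [commutatorElement_def, inv_inv, mul_assoc, mul_assoc, ← mul_assoc (xx s 1), cl_j r s k 1 c h.2.2.2,
      inv_mul_cancel_left, mul_one] at this
  have pk : w ∈ XL F {r | r ∈ [39, 44, 45, 47]} := by
    refine pa_kill (fun s h h' c => ?_) fun s hs => ?_
    · interval_cases s
      · exact c1 41 24 42 c
      · have := cm _ (inv_mem (cl_m (r := 35) (by decide) 1)) _ (cl_m (r := 24) (by decide) c)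
        rw [commutatorElement_def, inv_inv, relΓ.inv (r := 24) (by omega) (ok_refl _ _), mul_assoc, mul_assoc,
          ← mul_assoc (xx 24 c), relΓ.cm' (r := 24) (s := 35) (by omega) (by omega) (by decide) (by decide)
            (by decide +kernel) rfl, inv_mul_cancel_left, map_one, mul_one, mul_one, mul_one] at this
        rw [show F42S.ad 24 35 = 36 by decide +kernel, show F42S.ad 36 35 = 43 by decide +kernel] at this
        simpa only [inv_mul_cancel_left] using (c1 33 29 36 c).inv_right.mul_right this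
      exacts [c1 33 40 44 c, c1 41 31 45 c, c1 41 32 46 c, c1 46 24 47 c]
    · by_contra! k
      have k1 : ∀ c ≠ 0, xx s c * w * (xx s c)⁻¹ = y * w := fun c c0 =>
        (cw _ (cl_m hs c)).resolve_left fun e => k c c0 (mul_inv_eq_iff_eq_mul.1 e).symm
      have := k1 _ u1
      rw [← relΓ.add s ((show ∀ r ∈ l1, r < 48 by decide) s hs) _ _ (ok_refl _ _) (ok_refl _ _),
        ← tw _ (cl_m hs 1), k1 u u0, ty _ (cl_m hs 1), k1 1 one_ne_zero, mul_left_cancel_iff, mul_eq_right] at this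
      exact y1 this
  obtain ⟨c, d, c0, d0, cd, ew⟩ := A w hw pk fun z => wy (z ▸ one_mem _)
  obtain ⟨e, f, e0, f0, ef, eq⟩ := A _ (mul_mem hy hw) (by
    rw [ey, ew, ad]; exact mul_mem (cl_m (by simp) _) (cl_m (by simp) _)) fun z => wy
      (eq_inv_of_mul_eq_one_right z ▸ inv_mem (mem_zpowers y))
  obtain ⟨z1, z2⟩ : a + c + e = 0 ∧ b + d + f = 0 := cl_inj (by
    rw [← ad, ← ad, ← ey, ← ew, ← eq, h2 _ (mul_mem hy hw)])
  have two : (2 : F) = 0 := CharTwo.two_eq_zero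
  by_cases z : 1 + a = 0
  · have zd : 1 + d = 0 := by_contra fun k => e0 (by linear_combination z1 - z - cd.2 k + two)
    have zf : 1 + f = 0 := by_contra fun k => c0 (by linear_combination z1 - z - ef.2 k + two)
    exact b0 (by linear_combination z2 - zd - zf + two)
  · have zb : 1 + b = 0 := by_contra fun k => z (ab.2 k)
    have zc : 1 + c = 0 := cd.2 fun k => f0 (by linear_combination z2 - zb - k + two)
    have zf : 1 + f = 0 := by_contra fun k => a0 (by linear_combination z1 - zc - ef.2 k + two)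
    exact d0 (by linear_combination z2 - zb - zf + two)

end Cfsg.Agent.F4Q
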