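import Mathlib
import Cfsg.Agent.F4Q.Cls

/-! The frame.  `K₀ = C(t) ⊓ C(L)` has cyclic Sylow `2`-subgroups, so a normal `2`-complement (see
`SLE.Au.solv`, Mathlib `IsCyclic.isComplement'`/`MonoidHom.ker_transferSylow_isComplement'`). -/

set_option autoImplicit false
set_option linter.unusedSectionVars false

namespace Cfsg.Agent.F4Q

open Cfsg.Lie Cfsg.Agent.Chev Subgroup Cfsg.Agent.PLocal.Amb
open Cfsg.Agent.F42S (lg ip ad gm sm sr Mo aw)
open Cfsg.Agent.FinS (Rt Rg Uf)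
open scoped commutatorElement

theorem frm_compl0 {K : Type*} [Group K] [Finite K] {t : K} (t1 : t ≠ 1) (tt : t * t = 1)
    (hc : ∀ P : Subgroup K, IsPGroup 2 P → IsCyclic P) :
    ∃ O : Subgroup K, (∀ o, o ∈ O ↔ Odd (orderOf o)) ∧ ∀ a b : K, ⁅a, b⁆ ∈ O := by
  obtain ⟨P⟩ : Nonempty (Sylow 2 K) := inferInstance
  have hP := hc P P.isPGroup'
  have h2 : (Nat.card K).minFac = 2 := (Nat.minFac_eq_two_iff _).2
    (orderOf_eq_prime (p := 2) (by rw [pow_two, tt]) t1 ▸ orderOf_dvd_natCard t)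
  have hn := IsCyclic.normalizer_le_centralizer h2 hP
  refine ⟨(MonoidHom.transferSylow P hn).ker, fun o => ⟨fun ho => ?_, fun ho => ?_⟩, fun a b => ?_⟩
  · exact Nat.not_even_iff_odd.1 fun e => MonoidHom.not_dvd_card_ker_transferSylow P hn
      (e.two_dvd.trans (Subgroup.orderOf_dvd_natCard _ ho))
  · obtain ⟨k, hk⟩ := P.isPGroup' (MonoidHom.transferSylow P hn o)
    exact orderOf_eq_one_iff.1 (Nat.eq_one_of_dvd_coprimes
      ((Nat.coprime_two_left.2 ho).pow_left k) (orderOf_dvd_of_pow_eq_one hk) (orderOf_map_dvd _ o))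
  · rw [MonoidHom.mem_ker, map_commutatorElement, commutatorElement_eq_one_iff_mul_comm]
    exact hP.isMulCommutative.is_comm.comm _ _

theorem frm_compl {G : Type*} [Group G] [Finite G] {K : Subgroup G} {t : G} (tK : t ∈ K) (t1 : t ≠ 1)
    (tt : t * t = 1) (hc : ∀ P ≤ K, IsPGroup 2 P → IsCyclic P) :
    ∃ O : Subgroup G, (∀ o, o ∈ O ↔ o ∈ K ∧ Odd (orderOf o)) ∧ ⁅K, K⁆ ≤ O := by
  obtain ⟨O, h1, h2⟩ := frm_compl0 (K := K) (t := ⟨t, tK⟩) (fun e => t1 (congrArg Subtype.val e))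
    (Subtype.ext tt) fun P hP =>
      (P.equivMapOfInjective K.subtype K.subtype_injective).isCyclic.2
        (hc _ (map_subtype_le P) (hP.map _))
  refine ⟨O.map K.subtype, fun o => ⟨?_, fun ho => ⟨⟨o, ho.1⟩, (h1 _).2 ?_, rfl⟩⟩,
    commutator_le.2 fun a ha b hb => ⟨_, h2 ⟨a, ha⟩ ⟨b, hb⟩, rfl⟩⟩
  · rintro ⟨o, ho, rfl⟩
    exact ⟨o.2, by simpa using (h1 o).1 ho⟩
  · simpa using ho.2

theorem frm_odd {G : Type*} [Group G] {x : G} {n : ℕ} (h : x * x = 1) (hn : Odd n) : x ^ n = x := by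
  obtain ⟨k, rfl⟩ := hn
  rw [pow_succ, pow_mul, pow_two, h, one_pow, one_mul]

theorem frm_comm {G : Type*} [Group G] {a b k l : G} (h1 : Commute k a) (h2 : Commute k b)
    (h3 : Commute l a) (h4 : Commute l b) : ⁅a * k, b * l⁆ = ⁅a, b⁆ * ⁅k, l⁆ := by
  rw [commutatorElement_def, h1.symm.mul_inv, h4.symm.mul_inv, h2.mul_mul_mul_comm,
    (h1.mul_left h3).inv_right.mul_mul_mul_comm,
    ((h2.mul_left h4).mul_left h2.inv_left).inv_right.mul_mul_mul_comm]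
  rfl

theorem frm_cyc {G : Type*} [Group G] [Finite G] [IsCyclic G] {a b : G} (ha : a * a = 1)
    (hb : b * b = 1) : a = 1 ∨ b = 1 ∨ a = b := by
  classical
  have := Fintype.ofFinite G
  by_contra! c
  have h1 := IsCyclic.card_pow_eq_one_le (α := G) (n := 2) (by norm_num)
  have h2 : 2 < (Finset.univ.filter fun x : G => x ^ 2 = 1).card :=
    Finset.two_lt_card_iff.2 ⟨1, a, b, by simp, by simp [pow_two, ha], by simp [pow_two, hb],
      c.1.symm, c.2.1.symm, c.2.2⟩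
  omega

variable {F : Type*} [Field F] [Finite F] [CharP F 2] {G : Type*} [Group G] [Finite G]
  {j : Γ F →* G} {t : G} {O X : Subgroup G}

/-- `C(t) ⊓ C(L)` -/
def K0 (j : Γ F →* G) (t : G) : Subgroup G := centralizer {t} ⊓ 𝐂[j.range]

theorem mem_K0 {g : G} : g ∈ K0 j t ↔ Commute g t ∧ ∀ a, Commute g (j a) := by
  rw [K0, mem_inf, mem_centralizer_singleton_iff, mem_centralizer_iff]
  refine and_congr Iff.rfl ⟨fun h a => (h _ ⟨a, rfl⟩).symm, ?_⟩
  rintro h _ ⟨a, rfl⟩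
  exact (h a).symm

theorem frm_range (α : Γ F ≃* Γ F) : (j.comp α.toMonoidHom).range = j.range :=
  Subgroup.ext fun _ => ⟨fun ⟨a, e⟩ => ⟨α a, e⟩, fun ⟨a, e⟩ => ⟨α.symm a, by simpa using e⟩⟩

theorem frm_sup {A₀ : Subgroup (Γ F)} {K : Subgroup G} (hK : K ≤ K0 j t) {x : G}
    (hx : x ∈ A₀.map j ⊔ K) : ∃ a ∈ A₀, ∃ k ∈ K, x = j a * k := by
  obtain ⟨_, ⟨a, ha, rfl⟩, k, hk, rfl⟩ := (mem_sup_of_le_normalizer_left
    (hK.trans (inf_le_right.trans ((centralizer_anti (map_le_range j A₀)).trans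
      (centralizer_le_normalizer' _))))).1 hx
  exact ⟨a, ha, k, hk, rfl⟩

namespace Fr
variable (h : Fr j t)
include h

theorem inv : t⁻¹ = t := inv_eq_of_mul_eq_one_right h.tt
theorem hom {g : G} (hg : Commute g t) : ∃ α : Γ F ≃* Γ F, ∀ a, g * j a * g⁻¹ = j (α a) := by
  choose f hf using h.nrm g hg
  have hm : ∀ a b, f (a * b) = f a * f b := fun a b => h.inj (by
    rw [map_mul, ← hf, ← hf, ← hf, map_mul, conj_mul])
  have hi : Function.Injective (MonoidHom.mk' f hm) := fun a b e => h.inj (by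
    have : g * j a * g⁻¹ = g * j b * g⁻¹ := by rw [hf, hf]; exact congrArg j e
    simpa using this)
  exact ⟨MulEquiv.ofBijective _ (Finite.injective_iff_bijective.1 hi), hf⟩
theorem comp (α : Γ F ≃* Γ F) : Fr (j.comp α.toMonoidHom) t :=
  ⟨h.tt, h.t1, fun a => h.tj _, h.inj.comp α.injective, fun g hg a =>
    (h.nrm g hg (α a)).elim fun b e => ⟨α.symm b, by simpa using e⟩, by rw [frm_range]; exact h.cyc⟩
theorem conj (g : G) : Fr ((MulAut.conj g).toMonoidHom.comp j) (g * t * g⁻¹) := by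
  refine ⟨by rw [conj_mul, h.tt, mul_one, mul_inv_cancel], by simpa using h.t1,
    fun a => (h.tj a).map (MulAut.conj g), (MulAut.conj g).injective.comp h.inj, fun x hx a => ?_,
    fun P h1 h2 => ?_⟩
  · obtain ⟨b, e⟩ := h.nrm (g⁻¹ * x * g) (by
      simpa [mul_assoc] using hx.map (MulAut.conj g⁻¹)) a
    refine ⟨b, ?_⟩
    change x * (g * j a * g⁻¹) * x⁻¹ = g * j b * g⁻¹
    rw [← e]
    group
  · rw [← MonoidHom.map_range, centralizer_cj, le_cj_iff] at h1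
    exact (P.equivMapOfInjective _ (MulAut.conj g⁻¹).injective).isCyclic.2
      (h.cyc _ h1 (isPGroup_cj _ h2))
theorem t_ne (a : Γ F) : t ≠ j a := fun e => h.t1 (by
  rw [e, eq_one_of_comm (g := a) fun r _ c => h.inj (by
    rw [map_mul, map_mul, ← e]; exact h.tj _), map_one])
theorem eq_one {a : Γ F} (ha : j a ∈ K0 j t) : a = 1 :=
  eq_one_of_comm fun r _ c => h.inj (by rw [map_mul, map_mul]; exact (mem_K0.1 ha).2 _)
theorem frm_t : t ∈ K0 j t := mem_K0.2 ⟨Commute.refl t, h.tj⟩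
theorem pin {g : G} (hg : Commute g t) {α : Γ F ≃* Γ F} (e : ∀ a, g * j a * g⁻¹ = j (α a)) {l : Γ F}
    (hl : Inr α l) : ∃ k ∈ K0 j t, g = j l * k := by
  refine ⟨(j l)⁻¹ * g, mem_K0.2 ⟨(h.tj l).symm.inv_left.mul_left hg, fun a => ?_⟩, by group⟩
  have := e a
  rw [hl, map_mul, map_mul, map_inv] at this
  calc (j l)⁻¹ * g * j a = (j l)⁻¹ * (g * j a * g⁻¹) * g := by group
    _ = _ := by rw [this]; group
/-- `⟨k, t⟩` is a cyclic `2`-group -/
theorem eq_t {k : G} (hk : k ∈ K0 j t) (h2 : k * k = 1) : k = 1 ∨ k = t := by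
  have hP : ∀ {x : G}, x * x = 1 → IsPGroup 2 (zpowers x) := fun e =>
    isPGroup_zpowers ⟨1, by rw [pow_one, pow_two, e]⟩
  have := h.cyc (zpowers k ⊔ zpowers t)
    (sup_le (zpowers_le.2 (mem_inf.1 hk).2) (zpowers_le.2 (mem_inf.1 h.frm_t).2))
    (isPGroup_sup (hP h2) (hP h.tt) (zpowers_le.2 (centralizer_le_normalizer' _ (by
      rw [centralizer_zpowers]; exact (mem_inf.1 hk).1))))
  rcases frm_cyc (G := ↥(zpowers k ⊔ zpowers t)) (a := ⟨k, mem_sup_left (mem_zpowers k)⟩)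
    (b := ⟨t, mem_sup_right (mem_zpowers t)⟩) (Subtype.ext h2) (Subtype.ext h.tt) with e | e | e
  · exact Or.inl (congrArg Subtype.val e)
  · exact (h.t1 (congrArg Subtype.val e)).elim
  · exact Or.inr (congrArg Subtype.val e)
theorem inv_inn {a : Γ F} {k : G} (hk : k ∈ K0 j t) (h2 : j a * k * (j a * k) = 1) :
    a * a = 1 ∧ (k = 1 ∨ k = t) := by
  rw [((mem_K0.1 hk).2 a).mul_mul_mul_comm, ← map_mul] at h2
  have e := h.eq_one (eq_inv_of_mul_eq_one_left h2 ▸ inv_mem (mul_mem hk hk) : j (a * a) ∈ K0 j t)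
  rw [e, map_one, one_mul] at h2
  exact ⟨e, h.eq_t hk h2⟩
theorem frm_O : ∃ O : Subgroup G, (∀ o, o ∈ O ↔ o ∈ K0 j t ∧ Odd (orderOf o)) ∧
    ⁅K0 j t, K0 j t⁆ ≤ O :=
  frm_compl h.frm_t h.t1 h.tt fun P hP => h.cyc P (hP.trans inf_le_right)
theorem frm_even : ¬ Odd (orderOf t) := by
  rw [orderOf_eq_prime (p := 2) (by rw [pow_two, h.tt]) h.t1]
  decide
/-- `C(t)' ≤ L K₀` (`out_comm`); `C(t) / L O(K₀)` has the normal cyclic `2`-subgroup `L K₀ / L O(K₀)`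
with abelian quotient..., so `C(t)'' ≤ L O(K₀)`: `C(t)'` maps into that cyclic group. -/
theorem dd {x : G} (hx : x ∈ ⁅⁅centralizer ({t} : Set G), centralizer {t}⁆,
    ⁅centralizer ({t} : Set G), centralizer {t}⁆⁆) (h2 : x * x = 1) : ∃ a, x = j a := by
  obtain ⟨O, h3, h4⟩ := h.frm_O
  have hO : O ≤ K0 j t := fun o ho => ((h3 o).1 ho).1
  have d1 : ⁅centralizer ({t} : Set G), centralizer {t}⁆ ≤ (⊤ : Subgroup (Γ F)).map j ⊔ K0 j t :=
    commutator_le.2 fun g hg g' hg' => by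
      have c1 : Commute g t := mem_centralizer_singleton_iff.1 hg
      have c2 : Commute g' t := mem_centralizer_singleton_iff.1 hg'
      obtain ⟨α, e1⟩ := h.hom c1
      obtain ⟨β, e2⟩ := h.hom c2
      obtain ⟨l, e3⟩ := out_comm α β
      obtain ⟨k, hk, e⟩ := h.pin (g := ⁅g, g'⁆) (α := MulAut.conj l) (l := l)
        (((c1.mul_left c2).mul_left c1.inv_left).mul_left c2.inv_left) (fun a => by
          obtain ⟨a, rfl⟩ := β.surjective a
          obtain ⟨a, rfl⟩ := α.surjective a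
          rw [MulAut.conj_apply, ← e3, ← e1, ← e2, ← e2, ← e1, commutatorElement_def]
          group) fun _ => rfl
      rw [e]
      exact mul_mem (mem_sup_left ⟨l, trivial, rfl⟩) (mem_sup_right hk)
  have d2 : ⁅(⊤ : Subgroup (Γ F)).map j ⊔ K0 j t, (⊤ : Subgroup (Γ F)).map j ⊔ K0 j t⁆ ≤
      (⊤ : Subgroup (Γ F)).map j ⊔ O := commutator_le.2 fun g hg g' hg' => by
    obtain ⟨a, -, k, hk, rfl⟩ := frm_sup le_rfl hg
    obtain ⟨b, -, l, hl, rfl⟩ := frm_sup le_rfl hg'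
    rw [frm_comm ((mem_K0.1 hk).2 a) ((mem_K0.1 hk).2 b) ((mem_K0.1 hl).2 a) ((mem_K0.1 hl).2 b)]
    exact mul_mem (mem_sup_left ⟨⁅a, b⁆, trivial, map_commutatorElement _ _ _⟩)
      (mem_sup_right (h4 (commutator_mem_commutator hk hl)))
  obtain ⟨a, -, k, hk, rfl⟩ := frm_sup hO (d2 (commutator_mono d1 d1 hx))
  rcases (h.inv_inn (hO hk) h2).2 with rfl | rfl
  · exact ⟨a, mul_one _⟩
  · exact (h.frm_even ((h3 _).1 hk).2).elim
/-- a subgroup generated by involutions that are in its second derived group -/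
theorem map_le {P : Subgroup G} (h1 : P ≤ centralizer {t}) (h2 : ⁅P, P⁆ = P) {x : G} (hx : x ∈ P)
    (h3 : x * x = 1) : ∃ a, x = j a :=
  h.dd (commutator_mono (h2.ge.trans (commutator_mono h1 h1)) (h2.ge.trans (commutator_mono h1 h1))
    (h2.ge hx)) h3
/-- `h3`, `dd` for the frame `conj g` -/
theorem noL (a : Γ F) : ¬ IsConj t (j a) := fun hc => by
  obtain ⟨g, e⟩ := isConj_iff.1 hc
  have h' := h.conj g
  rw [e] at h'
  have h1 : (centralizer ({a} : Set (Γ F))).map j ≤ centralizer {j a} := by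
    rintro _ ⟨b, hb, rfl⟩
    exact mem_centralizer_singleton_iff.2 (by
      rw [← map_mul, ← map_mul, mem_centralizer_singleton_iff.1 hb])
  have h2 := mem_map_of_mem j (h3 (a := a) (h.inj (by rw [map_mul, h'.tt, map_one])))
  rw [map_commutator, map_commutator] at h2
  obtain ⟨b, e⟩ := h'.dd (commutator_mono (commutator_mono h1 h1) (commutator_mono h1 h1) h2) h'.tt
  exact h'.t_ne b e
/-- `J = j(A₀) × K₀`, `A₀` elementary abelian, is normalized by `g`.  If `t` were a square in `K₀`, it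
would be the only involution of `J` that is a square.  So `K₀ = O × ⟨t⟩`, and `O` is the set of
elements of odd order of `J`. -/
theorem nsq {A₀ : Subgroup (Γ F)} (h1 : ∀ a ∈ A₀, a * a = 1) {g : G}
    (h2 : g ∈ 𝐍[A₀.map j ⊔ K0 j t]) (h3 : ¬ Commute g t) : ∃ O, Fo j t O ∧ g ∈ 𝐍[O] := by
  obtain ⟨O, h4, -⟩ := h.frm_O
  have key : ∀ k ∈ K0 j t, ∃ a ∈ A₀, ∃ k' ∈ K0 j t, g * k * g⁻¹ = j a * k' := fun k hk =>
    frm_sup le_rfl (PLocal.Amb.conj_mem_of_mem_normalizer h2 (mem_sup_right hk))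
  have ns : ∀ k ∈ K0 j t, k * k ≠ t := fun k hk e => by
    obtain ⟨a, ha, k', hk', e'⟩ := key k hk
    have e1 : g * t * g⁻¹ = k' * k' := by
      rw [← e, ← conj_mul, e', ((mem_K0.1 hk').2 a).mul_mul_mul_comm, ← map_mul, h1 a ha, map_one,
        one_mul]
    rcases h.eq_t (mul_mem hk' hk') (e1 ▸ (h.conj g).tt) with e2 | e2
    · exact (h.conj g).t1 (e1.trans e2)
    · exact h3 (mul_inv_eq_iff_eq_mul.1 (e1.trans e2))
  refine ⟨O, ⟨h, fun o ho => ((h4 o).1 ho).2, fun o ho => (mem_K0.1 ((h4 o).1 ho).1).1.symm,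
    fun o ho => (mem_K0.1 ((h4 o).1 ho).1).2, fun k c1 c2 => ?_⟩,
    mem_normalizer_of_cj_le (cj_le_iff_forall.2 fun o ho => ?_)⟩
  · have hk := mem_K0.2 ⟨c1, c2⟩
    rcases Nat.even_or_odd (orderOf k) with ⟨n, hn⟩ | ho
    swap
    · exact ⟨k, (h4 k).2 ⟨hk, ho⟩, Or.inl rfl⟩
    have h0 := orderOf_pos k
    have e : k ^ n = t := (h.eq_t (pow_mem hk n) (by
      rw [← pow_add, ← hn, pow_orderOf_eq_one])).resolve_left
        (pow_ne_one_of_lt_orderOf (by omega) (by omega))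
    rcases Nat.even_or_odd n with ⟨m, rfl⟩ | hn'
    · exact (ns _ (pow_mem hk m) (by rw [← pow_add, e])).elim
    · refine ⟨k * t, (h4 _).2 ⟨mul_mem hk h.frm_t, hn'.of_dvd_nat (orderOf_dvd_of_pow_eq_one ?_)⟩,
        Or.inr (by rw [mul_assoc, h.tt, mul_one])⟩
      rw [c1.mul_pow, e, frm_odd h.tt hn', h.tt]
  · obtain ⟨hk, ho⟩ := (h4 o).1 ho
    obtain ⟨a, ha, k', hk', e⟩ := key o hk
    have e1 : (g * o * g⁻¹) ^ orderOf o = 1 := by
      rw [conj_pow, pow_orderOf_eq_one, mul_one, mul_inv_cancel]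
    refine (h4 _).2 ⟨?_, ho.of_dvd_nat (orderOf_dvd_of_pow_eq_one e1)⟩
    rw [e, ((mem_K0.1 hk').2 a).symm.mul_pow, ← map_pow, frm_odd (h1 a ha) ho] at e1
    rw [e, h.eq_one (eq_inv_of_mul_eq_one_left e1 ▸ inv_mem (pow_mem hk' _) : j a ∈ K0 j t),
      map_one, one_mul]
    exact hk' 
theorem frm_key {g z y : G} (zz : z * z = 1) (h1 : g * t * g⁻¹ = t * z) (h2 : Commute g z)
    (c1 : Commute y t) (c2 : Commute y z) : Commute (g * y * g⁻¹) t ∧ Commute (g * y * g⁻¹) z := by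
  have a1 : Commute (g * y * g⁻¹) (g * t * g⁻¹) := c1.map (MulAut.conj g)
  have a2 : Commute (g * y * g⁻¹) z := (h2.mul_left c2).mul_left h2.inv_left
  have := a1.mul_right a2
  rw [h1, mul_assoc t, zz, mul_one] at this
  exact ⟨this, a2⟩
omit h in
theorem frm_sq {r : ℕ} (hr : r < 48) (e : F) : j (xx r e) * j (xx r e) = 1 := by
  rw [← map_mul, relΓ.sq hr (ok_refl _ _), map_one]
omit h in
theorem frm_c15 {a : Γ F} (ha : a ∈ UU F 15) (c : F) : Commute a (xx 44 c) := by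
  by_cases hc : c = 0
  · rw [hc, relΓ.zero (by norm_num)]
    exact Commute.one_right _
  · exact (c44 hc).2 ha
theorem frm_P {g : G} (h1 : g * t * g⁻¹ = t * j (xx 44 1)) (h2 : Commute g (j (xx 44 1))) :
    g ∈ 𝐍[(UU F 15).map j] := by
  have key : ∀ a ∈ UU F 15, Commute (g * j a * g⁻¹) t ∧ Commute (g * j a * g⁻¹) (j (xx 44 1)) :=
    fun a ha => h.frm_key (frm_sq (by norm_num) 1) h1 h2 (h.tj a).symm ((frm_c15 ha 1).map j)
  have k1 : cj(g, (UU F 15).map j) ≤ centralizer {t} := cj_le_iff_forall.2 (by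
    rintro _ ⟨a, ha, rfl⟩
    exact mem_centralizer_singleton_iff.2 (key a ha).1)
  have k2 : ⁅cj(g, (UU F 15).map j), cj(g, (UU F 15).map j)⁆ = cj(g, (UU F 15).map j) := by
    rw [commutator_cj, ← map_commutator, perf44]
  have k3 : ∀ r, 15 ≤ r → r < 48 → ∀ e : F, g * j (xx r e) * g⁻¹ ∈ (UU F 15).map j :=
    fun r hr hr' e => by
      have hm : xx r e ∈ UU F 15 := mem_SK hr hr' (ok_refl _ _)
      obtain ⟨b, hb⟩ := h.map_le k1 k2 (conj_mem_cj g (mem_map_of_mem j hm))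
        (by rw [conj_mul, frm_sq hr', mul_one, mul_inv_cancel])
      have k4 := (key _ hm).2
      rw [hb] at k4 ⊢
      exact mem_map_of_mem j ((c44 one_ne_zero).1 (k4.of_map h.inj))
  have k5 : UU F 15 ≤ (cj(g⁻¹, (UU F 15).map j)).comap j := YS_le.2 fun r hr e _ => by
    rw [mem_comap, mem_cj, inv_inv]
    exact k3 r hr.1 hr.2 e
  exact mem_normalizer_of_cj_le (cj_le_iff.2 (map_le_iff_le_comap.2 k5))
theorem frm_E {y : G} (c1 : Commute y t) (c3 : ∀ b ∈ UU F 15, Commute y (j b)) :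
    y ∈ (XL F {44}).map j ⊔ K0 j t := by
  obtain ⟨α, hα⟩ := h.hom c1
  have hf : Fx α {s | s < 48 ∧ Mo 44 s} := fun s hs e => by
    have k1 : Commute (xx 44 1 : Γ F) (xx s e) :=
      relΓ.com 44 (by norm_num) s hs.1 hs.2 1 e (ok_refl _ _) (ok_refl _ _)
    apply h.inj
    rw [← hα, (c3 _ ((c44 one_ne_zero).1 k1.symm)).eq, mul_inv_cancel_right]
  obtain ⟨a', ha'⟩ := rig1 (by norm_num) hf
  obtain ⟨k', hk', e⟩ := h.pin c1 hα ha'
  have k2 : xx 44 a' ∈ XL F {44} := mem_YS (Set.mem_singleton 44) (ok_refl _ _)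
  rw [e]
  exact mul_mem (mem_sup_left (mem_map_of_mem j k2)) (mem_sup_right hk')
/-- `g` normalizes `C(t) ⊓ C(x₄₄(1))`, hence its perfect residual-like subgroup `P = j (UU 15)` (`map_le`
for both frames, `c44`, cardinality), hence `C(t, t x₄₄) ⊓ C(P) = X₄₄ × K₀` (`rig1`). -/
theorem sw_norm {g : G} (h1 : g * t * g⁻¹ = t * j (xx 44 1)) (h2 : Commute g (j (xx 44 1))) :
    g ∈ 𝐍[(UU F 15).map j] ∧ g ∈ 𝐍[(XL F {44}).map j ⊔ K0 j t] := by
  have hP := h.frm_P h1 h2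
  refine ⟨hP, mem_normalizer_of_cj_le (cj_le_iff_forall.2 fun y hy => ?_)⟩
  obtain ⟨a, ha, k, hk, e⟩ := frm_sup le_rfl hy
  obtain ⟨c, -, e'⟩ := (relΓ.mem_one (by norm_num)).1 ha
  have c0 : Commute y t := e ▸ (h.tj _).symm.mul_left (mem_K0.1 hk).1
  have c2 : ∀ b ∈ UU F 15, Commute y (j b) := fun b hb => by
    rw [e, e']
    exact Commute.mul_left ((frm_c15 hb c).symm.map j) ((mem_K0.1 hk).2 b)
  have k1 : xx 44 1 ∈ UU F 15 := mem_SK (by norm_num) (by norm_num) (ok_refl _ _)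
  refine h.frm_E (h.frm_key (frm_sq (by norm_num) 1) h1 h2 c0 (c2 _ k1)).1 fun b hb => ?_
  obtain ⟨b', hb', e⟩ := inv_conj_mem_of_mem_normalizer hP (mem_map_of_mem j hb)
  have : Commute (g * y * g⁻¹) (g * j b' * g⁻¹) := (c2 b' hb').map (MulAut.conj g)
  rwa [e, show g * (g⁻¹ * j b * g) * g⁻¹ = j b by group] at this
theorem frm_sw {g : G} (h1 : g * t * g⁻¹ = t * j (xx 44 1)) (h2 : Commute g (j (xx 44 1))) :
    ∃ O, Fo j t O ∧ g ∈ 𝐍[O] := by
  refine h.nsq (fun a ha => ?_) (h.sw_norm h1 h2).2 fun e => ?_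
  · obtain ⟨c, hc, rfl⟩ := (relΓ.mem_one (by norm_num)).1 ha
    exact relΓ.sq (by norm_num) hc
  · rw [e.eq, mul_inv_cancel_right, left_eq_mul, ← map_one j] at h1
    exact one_ne_zero (relΓ.inj 44 (by norm_num) 1 (ok_refl _ _) (h.inj h1))
theorem fo_of_sw (hs : Sw j t) : ∃ O, Fo j t O :=
  let ⟨_, h1, h2⟩ := hs
  (h.frm_sw h1 h2).imp fun _ e => e.1

end Fr

namespace Fo
variable (h : Fo j t O)
include h

theorem comp (α : Γ F ≃* Γ F) : Fo (j.comp α.toMonoidHom) t O :=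
  ⟨h.toFr.comp α, h.odd, h.Ot, fun o ho _ => h.Oj o ho _, fun g hg e => h.cen g hg fun a => by
    simpa using e (α.symm a)⟩
theorem pin {g : G} (hg : Commute g t) {α : Γ F ≃* Γ F} (e : ∀ a, g * j a * g⁻¹ = j (α a)) {l : Γ F}
    (hl : Inr α l) : ∃ o ∈ O, g = j l * o ∨ g = j l * o * t := by
  obtain ⟨k, hk, rfl⟩ := h.toFr.pin hg e hl
  obtain ⟨o, ho, rfl | rfl⟩ := h.cen k (mem_K0.1 hk).1 (mem_K0.1 hk).2
  · exact ⟨_, ho, Or.inl rfl⟩
  · exact ⟨_, ho, Or.inr (mul_assoc _ _ _).symm⟩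
theorem mem_iff {o : G} : o ∈ O ↔ o ∈ K0 j t ∧ Odd (orderOf o) := by
  refine ⟨fun ho => ⟨mem_K0.2 ⟨(h.Ot o ho).symm, h.Oj o ho⟩, h.odd o ho⟩, fun ⟨hk, ho⟩ => ?_⟩
  obtain ⟨o', ho', rfl | rfl⟩ := h.cen o (mem_K0.1 hk).1 (mem_K0.1 hk).2
  · exact ho'
  · have e : (o' * t) ^ (orderOf (o' * t) * orderOf o') = 1 := by
      rw [pow_mul, pow_orderOf_eq_one, one_pow]
    rw [(h.Ot o' ho').symm.mul_pow, frm_odd h.tt (ho.mul (h.odd o' ho')), pow_mul', pow_orderOf_eq_one,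
      one_pow, one_mul] at e
    exact (h.t1 e).elim
theorem norm {g : G} (hg : Commute g t) : g ∈ 𝐍[O] := by
  refine mem_normalizer_of_cj_le (cj_le_iff_forall.2 fun o ho => h.mem_iff.2 ⟨mem_K0.2
    ⟨(hg.mul_left (h.Ot o ho).symm).mul_left hg.inv_left, fun a => ?_⟩,
    (h.odd o ho).of_dvd_nat (orderOf_map_dvd (MulAut.conj g).toMonoidHom o)⟩)
  obtain ⟨b, e⟩ := h.nrm g⁻¹ hg.inv_left a
  have : Commute (g * o * g⁻¹) (g * j b * g⁻¹) := (h.Oj o ho b).map (MulAut.conj g)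
  rwa [← e, show g * (g⁻¹ * j a * g⁻¹⁻¹) * g⁻¹ = j a by group] at this
theorem uniq {O' : Subgroup G} (h' : Fo j t O') : O' = O :=
  Subgroup.ext fun _ => h'.mem_iff.trans h.mem_iff.symm
theorem sw_norm {g : G} (h1 : g * t * g⁻¹ = t * j (xx 44 1)) (h2 : Commute g (j (xx 44 1))) :
    g ∈ 𝐍[O] :=
  let ⟨_, h3, h4⟩ := h.toFr.frm_sw h1 h2
  h.uniq h3 ▸ h4
/-- an involution in `x O`, `x` an involution centralizing `O`, is `x` -/
theorem inv_eq {x o : G} (ho : o ∈ O) (h1 : x * x = 1) (h2 : Commute x o)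
    (h3 : x * o * (x * o) = 1) : o = 1 := by
  rw [h2.symm.mul_mul_mul_comm, h1, one_mul] at h3
  rw [← frm_odd h3 (h.odd o ho), pow_orderOf_eq_one]

end Fo

theorem Top.comp (h : Top X j t) (α : Γ F ≃* Γ F) : Top X (j.comp α.toMonoidHom) t :=
  ⟨h.toFr.comp α, h.nrmX, h.simple, h.nab, h.cenX, fun _ => h.le _, h.gen⟩

end Cfsg.Agent.F4Q
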