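import Mathlib
import Cfsg.Agent.F4Q.Frm
import Cfsg.Agent.SLE.DP2

/-! Doubling of the short root groups, part 1: PORT of `SLE/DP1` (copy its proofs).  Dictionary: roots are the
short roots `r < 48`, `x r a = j (xx r a)`, `Sm T c d k = S3 c d k`, `pairing = 1, 0, -1` is `ip = 10, 8, 6`,
`M r = (MM F r).map j` (here: commuting with the generators), `N c k = (XL F {s | s < 48 ∧ Mo c s ∧ Mo k s}).map j`
(normalized by `x d 1`: `relΓ.norm0`, `Idl0` by `decide`), `rig1, rig2` = `Fr.hom` + `rig1, rig2` + `Fo.pin`,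
`trl` = `Yd` transported by `ww xx w` (`F42S.ind1`, `relΓ.wn`).  The only difference: `x s c ∈ M r` fails for
SHORT ORTHOGONAL `r, s`; there use `bt_or`. -/

set_option autoImplicit false
set_option linter.unusedSectionVars false

namespace Cfsg.Agent.F4Q

open Cfsg.Lie Cfsg.Agent.Chev Subgroup Cfsg.Agent.PLocal.Amb
open Cfsg.Agent.F42S (lg ip ad gm sm sr Mo aw)
open Cfsg.Agent.FinS (Rt Rg Uf)
open scoped commutatorElement
open Cfsg.Agent.SLE (rp eq_one_of_odd eq_of_odd)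


variable {F : Type*} [Field F] [Finite F] [CharP F 2] {G : Type*} [Group G] [Finite G]
  {j : Γ F →* G} {t : G} {O : Subgroup G} {ε : F}

/-- short roots with `c + d = k` -/
def S3 (c d k : ℕ) : Prop :=
  c < 48 ∧ d < 48 ∧ lg c = false ∧ lg d = false ∧ ip c d = 6 ∧ ad c d = k

instance (c d k : ℕ) : Decidable (S3 c d k) := by unfold S3; infer_instance

/-- short root -/
def Sh (r : ℕ) : Prop := r < 48 ∧ lg r = false

instance (r : ℕ) : Decidable (Sh r) := by unfold Sh; infer_instance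

structure Bt (j : Γ F →* G) (t : G) (r : ℕ) (g : G) (s : F) : Prop where
  cM : ∀ u < 48, Mo r u → ∀ c, Commute g (j (xx u c))
  act : g * t * g⁻¹ = t * j (xx r s)

structure Bo (j : Γ F →* G) (t : G) (O : Subgroup G) (r : ℕ) (g : G) (s : F) : Prop
    extends Bt j t r g s where
  cO : ∀ o ∈ O, Commute g o

structure Pt (j : Γ F →* G) (t : G) (O : Subgroup G) (r : ℕ) (g : G) (s i : F) : Prop
    extends Bo j t O r g s where
  sq : g * g = j (xx r i)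

/-- an element of the doubled root group translating `t` by `x_r(s)` -/
structure Zh (j : Γ F →* G) (t : G) (O : Subgroup G) (r : ℕ) (g : G) (s : F) : Prop
    extends Bo j t O r g s where
  sq : g * g = 1
  z0 : s = 0 → ∃ a, g = j (xx r a)

set_option synthInstance.maxSize 4000 in
private theorem za_t1 : ∀ c < 48, ∀ d < 48, lg c = false → lg d = false → ip c d = 6 →
    Sh c ∧ Sh d ∧ Sh (ad c d) ∧ S3 d c (ad c d) ∧ ip c (ad c d) = 10 ∧ ip d (ad c d) = 10 ∧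
    ip (ad c d) c = 10 ∧ ip (ad c d) d = 10 ∧ Mo c c ∧ Mo c (ad c d) ∧ Mo (ad c d) c ∧
    Mo d (ad c d) ∧ Mo (ad c d) d ∧ Mo (ad c d) (ad c d) ∧ Mo d d := by decide +kernel

set_option synthInstance.maxSize 4000 in
private theorem za_t2 : ∀ k < 48, lg k = false → ∃ c < 48, ∃ d < 48, S3 c d k := by decide +kernel

set_option synthInstance.maxSize 4000 in
private theorem za_t3 : ∀ c < 48, ∀ k < 48, lg c = false → lg k = false → ip c k = 10 →
    ∃ d < 48, S3 c d k := by decide +kernel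

set_option synthInstance.maxSize 4000 in
private theorem za_t4 : ∀ c < 48, ∀ d < 48, lg c = false → lg d = false → ip c d = 6 → ∀ u < 48,
    Mo c u → Mo (ad c d) u → u ≠ 47 - d ∧ ∀ k ∈ F42S.cm d u, k < 48 ∧ Mo c k := by decide +kernel

set_option synthInstance.maxSize 4000 in
private theorem za_t5 : ∀ r < 48, Mo r r ∧ ¬ ad r r < 48 ∧ ∀ u < 48, lg r = false → lg u = false →
    ip r u = 8 → u ≠ 47 - r ∧ ad r u < 48 := by decide +kernel

private theorem za_mo {r : ℕ} (hr : r < 48) : Mo r r := (za_t5 r hr).1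

private theorem za_sq {r : ℕ} (hr : r < 48) (a : F) : j (xx r a) * j (xx r a) = 1 := Fr.frm_sq hr a

private theorem za_add {r : ℕ} (hr : r < 48) (a b : F) :
    j (xx r a) * j (xx r b) = j (xx r (a + b)) := by
  rw [← map_mul, relΓ.add r hr a b (ok_refl _ _) (ok_refl _ _)]

private theorem za_0 (r : ℕ) : j (xx r (0 : F)) = 1 := by rw [xx_zero, map_one]

private theorem za_inv {r : ℕ} (hr : r < 48) (a : F) : (j (xx r a))⁻¹ = j (xx r a) :=
  inv_eq_of_mul_eq_one_right (za_sq hr a)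

private theorem za_cm {r s : ℕ} (hr : r < 48) (hs : s < 48) (e : Mo r s) (a b : F) :
    Commute (j (xx r a)) (j (xx s b)) :=
  (relΓ.com r hr s hs e a b (ok_refl _ _) (ok_refl _ _)).map j

private theorem za_ind {k : ℕ} (hk : k < 48) :
    ∀ c < 48, c ≠ k → ∀ a b : F, (xx c a : Γ F) = xx k b → a = 0 := by
  have base : ∀ k, 24 ≤ k → k < 48 → ∀ c < 48, c ≠ k → ∀ a b : F, (xx c a : Γ F) = xx k b → a = 0 :=
    fun k h1 h2 c hc n a b e => by
      by_contra a0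
      refine n (relΓ.mem_of_mem (S := {k}) (Or.inl ?_) ?_ hc (ok_refl _ _) a0
        (e ▸ mem_YS (Set.mem_singleton k) (ok_refl _ _)))
      · rintro _ rfl _ rfl
        exact ⟨h2, h2, by omega, fun h3 => ((za_t5 _ h2).2.1 h3).elim⟩
      · rintro _ rfl
        exact h1
  rcases le_or_gt 24 k with h1 | h1
  · exact base k h1 hk
  refine F42S.ind1 (P := fun k => ∀ c < 48, c ≠ k → ∀ a b : F, (xx c a : Γ F) = xx k b → a = 0)
    (fun i hi r hr p c hc n a b e => ?_) (r := 47 - k) (by omega) hk (md_ip k hk).2.2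
    (base _ (by omega) (by omega))
  have t1 := F42S.tab_sr i hi r hr
  have t2 := F42S.tab_sr i hi c hc
  refine p (sr i c) t2.1 (fun e' => n (by rw [← e', t2.2.1])) a b ?_
  rw [← xx_wn hi hc, e, xx_wn hi t1.1, t1.2.1]

theorem S3.tab {c d k : ℕ} (e : S3 c d k) : Sh c ∧ Sh d ∧ Sh k ∧ S3 d c k ∧ ip c k = 10 ∧ ip d k = 10 ∧
    ip k c = 10 ∧ ip k d = 10 ∧ Mo c c ∧ Mo c k ∧ Mo k c ∧ Mo d k ∧ Mo k d ∧ Mo k k ∧ Mo d d := by
  obtain ⟨h1, h2, h3, h4, h5, rfl⟩ := e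
  exact za_t1 c h1 d h2 h3 h4 h5
theorem Sh.dec {k : ℕ} (h : Sh k) : ∃ c d, S3 c d k :=
  let ⟨c, _, d, _, e⟩ := za_t2 k h.1 h.2; ⟨c, d, e⟩
theorem Sh.sub {c k : ℕ} (hc : Sh c) (hk : Sh k) (p : ip c k = 10) : ∃ d, S3 c d k :=
  let ⟨d, _, e⟩ := za_t3 c hc.1 k hk.1 hc.2 hk.2 p; ⟨d, e⟩

namespace Fo
variable (h : Fo j t O)
include h

private theorem za_inj {r : ℕ} (hr : r < 48) {a b : F} (e : j (xx r a) = j (xx r b)) : a = b :=
  relΓ.eq hr (ok_refl _ _) (ok_refl _ _) (h.inj e)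

theorem xconj {c d k : ℕ} (e : S3 c d k) (a b : F) :
    j (xx d b) * j (xx c a) * j (xx d b) = j (xx c a) * j (xx k (a * b)) := by
  obtain ⟨-, -, hk, -, -, -, -, -, -, -, -, -, m, -⟩ := e.tab
  obtain ⟨h1, h2, h3, h4, h5, rfl⟩ := e
  have h6 := congrArg j (relΓ.cs c h1 d h2 h3 h4 h5 a b)
  rw [map_mul, map_mul, map_mul] at h6
  rw [h6]
  simp only [RingEquiv.refl_apply, mul_assoc, (za_cm hk.1 h2 m (a * b) b).eq, rp (za_sq h2 b),
    one_mul]
theorem ind {c k : ℕ} (hc : c < 48) (hk : k < 48) (n : c ≠ k) (n' : c ≠ 47 - k) {a b : F}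
    (e : j (xx c a) = j (xx k b)) : a = 0 ∧ b = 0 :=
  ⟨za_ind hk c hc n a b (h.inj e), za_ind hc k hk n.symm b a (h.inj e).symm⟩
theorem rig1' {r : ℕ} (hr : r < 48) {g : G} (h1 : Commute t g)
    (h2 : ∀ u < 48, Mo r u → ∀ c, Commute g (j (xx u c))) :
    ∃ a, ∃ o ∈ O, g = j (xx r a) * o ∨ g = j (xx r a) * o * t := by
  obtain ⟨α, hα⟩ := h.toFr.hom h1.symm
  have hf : Fx α {s | s < 48 ∧ Mo r s} := fun s hs c => h.inj (by
    rw [← hα, (h2 s hs.1 hs.2 c).eq, mul_inv_cancel_right])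
  obtain ⟨a, ha⟩ := rig1 hr hf
  exact ⟨a, h.pin h1.symm hα ha⟩
theorem rig2' {c d k : ℕ} (e : S3 c d k) {g : G} (h1 : Commute t g)
    (h2 : ∀ u < 48, Mo c u → Mo k u → ∀ a, Commute g (j (xx u a))) :
    ∃ a b, ∃ o ∈ O, g = j (xx c a) * j (xx k b) * o ∨ g = j (xx c a) * j (xx k b) * o * t := by
  obtain ⟨hc, -, hk, -, p, -⟩ := e.tab
  obtain ⟨α, hα⟩ := h.toFr.hom h1.symm
  have hf : Fx α {s | s < 48 ∧ Mo c s ∧ Mo k s} := fun s hs a => h.inj (by
    rw [← hα, (h2 s hs.1 hs.2.1 hs.2.2 a).eq, mul_inv_cancel_right])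
  obtain ⟨a, b, ha⟩ := rig2 hc.1 hk.1 (hc.2.trans hk.2.symm) (by rw [hc.2, p]; rfl) hf
  exact ⟨a, b, by simpa only [map_mul] using h.pin h1.symm hα ha⟩

section
variable {r : ℕ} (hr : Sh r) {g g' : G} {s s' i i' : F}
include hr

theorem bt_inv (b : Bt j t r g s) : Bt j t r g⁻¹ s := by
  refine ⟨fun u hu m c => (b.cM u hu m c).inv_left, ?_⟩
  have h1 := (b.cM r hr.1 (za_mo hr.1) s).inv_left
  calc g⁻¹ * t * g⁻¹⁻¹ = g⁻¹ * (t * j (xx r s)) * (j (xx r s) * g) := by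
        simp only [mul_assoc, rp (za_sq hr.1 s), one_mul, inv_inv]
    _ = t * (g⁻¹ * j (xx r s)) * g := by rw [← b.act]; group
    _ = t * j (xx r s) := by rw [h1.eq]; group
theorem bt_mul (b : Bt j t r g s) (b' : Bt j t r g' s') : Bt j t r (g * g') (s + s') := by
  refine ⟨fun u hu m c => (b.cM u hu m c).mul_left (b'.cM u hu m c), ?_⟩
  calc g * g' * t * (g * g')⁻¹ = g * (g' * t * g'⁻¹) * g⁻¹ := by group
    _ = g * t * g⁻¹ * (g * j (xx r s')) * g⁻¹ := by rw [b'.act]; group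
    _ = t * j (xx r (s + s')) := by
      rw [b.act, (b.cM r hr.1 (za_mo hr.1) s').eq, ← za_add hr.1]; group
private theorem za_of (h1 : ∀ u < 48, Mo r u → ∀ c, Commute g (j (xx u c))) (h2 : Commute t g) :
    Bt j t r g (0 : F) :=
  ⟨h1, by rw [za_0, ← h2.eq]; group⟩
theorem bt_o {o : G} (ho : o ∈ O) : Bt j t r o 0 :=
  h.za_of hr (fun _ _ _ _ => h.Oj o ho _) (h.Ot o ho)
theorem bo_x (a : F) : Bo j t O r (j (xx r a)) 0 :=
  ⟨h.za_of hr (fun _ hu m c => za_cm hr.1 hu m a c) (h.tj _), fun _ ho => (h.Oj _ ho _).symm⟩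
theorem bo_t : Bo j t O r t 0 :=
  ⟨h.za_of hr (fun _ _ _ _ => h.tj _) (Commute.refl t), fun o ho => h.Ot o ho⟩
theorem bo_mul (b : Bo j t O r g s) (b' : Bo j t O r g' s') : Bo j t O r (g * g') (s + s') :=
  ⟨h.bt_mul hr b.toBt b'.toBt, fun o ho => (b.cO o ho).mul_left (b'.cO o ho)⟩
theorem bt_comm (b : Bt j t r g 0) : Commute t g := by
  have := b.act
  rw [za_0, mul_one, mul_inv_eq_iff_eq_mul] at this
  exact this.symm
theorem bt_uniq (b : Bt j t r g s) (b' : Bt j t r g' s) :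
    ∃ a, ∃ o ∈ O, g' = g * j (xx r a) * o ∨ g' = g * j (xx r a) * t * o := by
  have h1 := h.bt_mul hr (h.bt_inv hr b) b'
  rw [CharTwo.add_self_eq_zero] at h1
  obtain ⟨a, o, ho, e | e⟩ := h.rig1' hr.1 (h.bt_comm hr h1) h1.cM
  · exact ⟨a, o, ho, Or.inl (by rw [mul_assoc, ← e]; group)⟩
  · refine ⟨a, o, ho, Or.inr ?_⟩
    rw [mul_assoc, mul_assoc, (h.Ot o ho).eq, ← mul_assoc (j (xx r a)), ← e]; group
theorem bt_norm (b : Bt j t r g s) {o : G} (ho : o ∈ O) : g * o * g⁻¹ ∈ O := by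
  have h1 := h.bt_mul hr (h.bt_mul hr b (h.bt_o hr ho)) (h.bt_inv hr b)
  rw [add_zero, CharTwo.add_self_eq_zero] at h1
  have h2 : Odd (orderOf (g * o * g⁻¹)) := by
    rw [← MulAut.conj_apply, MulEquiv.orderOf_eq]; exact h.odd o ho
  obtain ⟨a, o', ho', e | e⟩ := h.rig1' hr.1 (h.bt_comm hr h1) h1.cM
  · rwa [eq_of_odd h2 (h.odd o' ho') (za_sq hr.1 a) (h.Oj _ ho' _).symm e]
  · rw [mul_assoc (j (xx r a)), ← (h.Ot o' ho').eq, ← mul_assoc] at e
    rwa [eq_of_odd h2 (h.odd o' ho') (by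
      simp only [mul_assoc, rp (h.tj (xx r a)).eq, rp (za_sq hr.1 a), h.tt, one_mul])
      ((h.Oj _ ho' _).symm.mul_left (h.Ot o' ho')) e]
theorem bt_ts (b : Bt j t r g s) : t * g = g * (t * j (xx r s)) := by
  rw [← (h.bt_inv hr b).act]; group
theorem pt_x (b : Pt j t O r g s i) (a : F) : Pt j t O r (g * j (xx r a)) s i := by
  refine ⟨by simpa using h.bo_mul hr b.toBo (h.bo_x hr a), ?_⟩
  simp only [mul_assoc, rp (b.cM r hr.1 (za_mo hr.1) a).symm.eq, za_sq hr.1 a, mul_one, b.sq]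
theorem pt_t (b : Pt j t O r g s i) : Pt j t O r (g * t) s (i + s) := by
  refine ⟨by simpa using h.bo_mul hr b.toBo (h.bo_t hr), ?_⟩
  simp only [mul_assoc, rp (h.bt_ts hr b.toBt), rp b.sq, rp (h.tj (xx r s)).symm.eq, rp h.tt, one_mul,
    za_add hr.1]
theorem bo_dec (b : Pt j t O r g s i) (b' : Bt j t r g' s) : ∃ a, ∃ o ∈ O,
    g' = g * j (xx r a) * o ∧ Pt j t O r (g * j (xx r a)) s i ∨
      g' = g * j (xx r a) * t * o ∧ Pt j t O r (g * j (xx r a) * t) s (i + s) := by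
  obtain ⟨a, o, ho, e | e⟩ := h.bt_uniq hr b.toBt b'
  · exact ⟨a, o, ho, Or.inl ⟨e, h.pt_x hr b a⟩⟩
  · exact ⟨a, o, ho, Or.inr ⟨e, h.pt_t hr (h.pt_x hr b a)⟩⟩
theorem pt_kill {o : G} (ho : o ∈ O) (b : Pt j t O r g s i) (b' : Pt j t O r (g * o) s i') :
    o = 1 ∧ i' = i := by
  have h1 := b'.sq
  simp only [mul_assoc, rp (b.cO o ho).symm.eq, rp b.sq] at h1
  have h2 : o = 1 := eq_one_of_odd (h.odd o ho) (za_sq hr.1 (i + i')) (by
    rw [← za_add hr.1, ← h1, ← mul_assoc, za_sq hr.1, one_mul])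
  rw [h2, mul_one, mul_one] at h1
  exact ⟨h2, h.za_inj hr.1 h1.symm⟩
theorem pt_uniq (b : Pt j t O r g s i) (b' : Pt j t O r g' s i') :
    ∃ a, g' = g * j (xx r a) ∧ i' = i ∨ g' = g * j (xx r a) * t ∧ i' = i + s := by
  obtain ⟨a, o, ho, ⟨e, h1⟩ | ⟨e, h1⟩⟩ := h.bo_dec hr b b'.toBt
  · obtain ⟨rfl, h2⟩ := h.pt_kill hr ho h1 (e ▸ b')
    exact ⟨a, Or.inl ⟨by rw [e, mul_one], h2⟩⟩
  · obtain ⟨rfl, h2⟩ := h.pt_kill hr ho h1 (e ▸ b')
    exact ⟨a, Or.inr ⟨by rw [e, mul_one], h2⟩⟩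
/-- the translations of `Yd`, conjugated by `ww xx w` -/
theorem trl (hy : Yd j t ε) (s : F) : ∃ g, Bt j t r g s ∧ ∀ u, Sh u → ip r u = 8 → ∀ c,
    g * j (xx u c) * g⁻¹ = j (xx u c) * j (xx (ad r u) (ε * s * c)) := by
  obtain ⟨y, h1, h2, h3⟩ := hy s
  have h44 : 44 < 48 := by norm_num
  obtain ⟨w, hw, e, -⟩ := F42S.orb2 h44 h44 hr.1 hr.1 hr.2.symm hr.2.symm
    (by rw [(md_ip r hr.1).1, hr.2]; decide +kernel)
  subst e
  have key : ∀ u < 48, ∀ c : F, j (xx (aw w u) c) = j (ww xx w) * j (xx u c) * (j (ww xx w))⁻¹ :=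
    fun u hu c => by rw [← xx_ww hw hu, map_mul, map_mul, map_inv]
  refine ⟨j (ww xx w) * y * (j (ww xx w))⁻¹, ⟨fun u hu m c => ?_, ?_⟩, fun u hu p c => ?_⟩
  · obtain ⟨u, hu', rfl⟩ := F42S.aw_surj hw hu
    have m' : Mo 44 u := by
      unfold Mo at m ⊢
      rwa [(F42S.aw_tab hw h44 hu').2.1, (F42S.aw_tab hw h44 hu').1, (F42S.aw_tab hw hu' hu').1] at m
    rw [key u hu']
    exact (h2 u hu' m' c).map (MulAut.conj (j (ww xx w)))
  · rw [key 44 h44]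
    have := (h.tj (ww xx w)).eq
    calc _ = j (ww xx w) * (y * ((j (ww xx w))⁻¹ * (t * j (ww xx w))) * y⁻¹) * (j (ww xx w))⁻¹ := by
          group
      _ = j (ww xx w) * (t * j (xx 44 s)) * (j (ww xx w))⁻¹ := by
          rw [this, inv_mul_cancel_left, h1]
      _ = _ := by rw [← mul_assoc, ← this]; group
  · obtain ⟨u, hu', rfl⟩ := F42S.aw_surj hw hu.1
    have l : lg u = false := (F42S.aw_tab hw hu' hu').1.symm.trans hu.2
    have p' : ip 44 u = 8 := (F42S.aw_tab hw h44 hu').2.1.symm.trans p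
    have a48 := ((za_t5 44 h44).2.2 u hu' rfl l p').2
    rw [(F42S.aw_tab hw h44 hu').2.2 a48, key u hu', key _ a48,
      conj_mul (a := j (xx u c)), ← h3 u hu' l p' c]
    group
/-- `trl`, `bt_uniq`: `x_r(a)`, `t`, `o` commute with `x_u(c)` -/
theorem bt_or (hy : Yd j t ε) (b : Bt j t r g s) {u : ℕ} (hu : Sh u) (p : ip r u = 8) (c : F) :
    g * j (xx u c) * g⁻¹ = j (xx u c) * j (xx (ad r u) (ε * s * c)) := by
  obtain ⟨y, b0, h1⟩ := h.trl hr hy s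
  have h2 : ∀ a, Commute (j (xx r a)) (j (xx u c)) := fun a =>
    (xx_comm hr.1 hu.1 ⟨((za_t5 r hr.1).2.2 u hu.1 hr.2 hu.2 p).1, fun n => n.2 ⟨hr.2, hu.2, p⟩⟩ a c).map j
  have key : ∀ z, Commute z (j (xx u c)) → y * z * j (xx u c) * (y * z)⁻¹ =
      j (xx u c) * j (xx (ad r u) (ε * s * c)) := fun z hz => by
    rw [← h1 u hu p c, mul_assoc y, hz.eq]; group
  obtain ⟨a, o, ho, rfl | rfl⟩ := h.bt_uniq hr b0 b
  · rw [mul_assoc y]
    exact key _ ((h2 a).mul_left (h.Oj o ho _))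
  · rw [mul_assoc y, mul_assoc y]
    exact key _ (((h2 a).mul_left (h.tj _)).mul_left (h.Oj o ho _))

end

theorem w_O {c d k : ℕ} (e : S3 c d k) {y : G} {s : F} (b : Bt j t c y s) {o : G} (ho : o ∈ O) :
    Commute (y⁻¹ * j (xx d 1) * y * j (xx d 1)) o := by
  refine Commute.mul_left ?_ (h.Oj o ho _).symm
  have h1 := (h.Oj _ (h.bt_norm e.tab.1 b ho) (xx d 1)).eq
  calc y⁻¹ * j (xx d 1) * y * o = y⁻¹ * (j (xx d 1) * (y * o * y⁻¹)) * y := by group
    _ = o * (y⁻¹ * j (xx d 1) * y) := by rw [← h1]; group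
private theorem za_dec {c d k : ℕ} (e : S3 c d k) {y g : G} {s : F} (b : Bt j t c y s)
    (b' : Bt j t k g s) : ∃ a a', ∃ o ∈ O,
    y⁻¹ * j (xx d 1) * y * j (xx d 1) = g * j (xx k a') * j (xx c a) * o ∨
      y⁻¹ * j (xx d 1) * y * j (xx d 1) = g * j (xx k a') * t * j (xx c a) * o := by
  obtain ⟨hc, hd, hk, -, -, -, -, -, mcc, mck, mkc, -, mkd, -⟩ := e.tab
  have u2 := za_sq (j := j) hd.1 (1 : F)
  have h1 : ∀ u < 48, Mo c u → Mo k u → ∀ a : F,
      Commute (y⁻¹ * j (xx d 1) * y * j (xx d 1)) (j (xx u a)) := fun u hu m1 m2 a => by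
    obtain ⟨n, h0⟩ := za_t4 c hc.1 d hd.1 hc.2 hd.2 e.2.2.2.2.1 u hu m1 (e.2.2.2.2.2.symm ▸ m2)
    have h4 : ⁅(xx d 1 : Γ F), xx u a⁆ ∈ (centralizer {y}).comap j :=
      relΓ.cmem hd.1 hu n (ok_refl _ _) (ok_refl _ _) (fun k' hk' c' _ =>
        mem_centralizer_singleton_iff.2 (b.cM k' (h0 k' hk').1 (h0 k' hk').2 c').symm)
        (Or.inl fun _ => rfl)
    have h5 : Commute (j ⁅(xx d 1 : Γ F), xx u a⁆) y := mem_centralizer_singleton_iff.1 h4
    have h2 : Commute y (j (xx d 1) * j (xx u a) * j (xx d 1)) := by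
      have := h5.symm.mul_right (b.cM u hu m1 a)
      rwa [map_commutatorElement, commutatorElement_def, inv_mul_cancel_right, za_inv hd.1] at this
    have h3 := (b.cM u hu m1 a).inv_left.eq
    calc y⁻¹ * j (xx d 1) * y * j (xx d 1) * j (xx u a)
        = y⁻¹ * j (xx d 1) * (y * (j (xx d 1) * j (xx u a) * j (xx d 1))) * j (xx d 1) := by
          simp only [mul_assoc, u2, mul_one]
      _ = (y⁻¹ * j (xx u a)) * j (xx d 1) * y * j (xx d 1) := by
          rw [h2.eq]; simp only [mul_assoc, rp u2, one_mul]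
      _ = j (xx u a) * (y⁻¹ * j (xx d 1) * y * j (xx d 1)) := by rw [h3]; group
  have h2 : Commute t (g⁻¹ * (y⁻¹ * j (xx d 1) * y * j (xx d 1))) := by
    have h3 := h.bt_ts hk (h.bt_inv hk b')
    have h4 := h.bt_ts hc (h.bt_inv hc b)
    have h5 := h.bt_ts hc b
    have h6 : j (xx c s) * j (xx d 1) = j (xx d 1) * (j (xx c s) * j (xx k s)) := by
      have := h.xconj e s 1
      rw [mul_one] at this
      rw [← this]; simp only [mul_assoc, rp u2, one_mul]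
    have h7 := b.cM k hk.1 mck s
    have h8 := b.cM c hc.1 mcc s
    have h9 := za_cm (j := j) hk.1 hd.1 mkd s 1
    have h10 := za_cm (j := j) hk.1 hc.1 mkc s s
    show _ = _
    simp only [mul_assoc, rp h3, rp h4, rp h5, rp h6, rp (h.tj (xx d 1)).eq,
      rp h7.inv_left.symm.eq, rp h7.symm.eq, rp h8.symm.eq, rp h9.eq, rp h10.eq,
      rp (za_sq hk.1 s), rp (za_sq hc.1 s), mul_one]
  have h3 := za_cm (j := j) hk.1 hc.1 mkc
  obtain ⟨a, a', o, ho, e1 | e1⟩ := h.rig2' e h2 fun u hu m1 m2 a =>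
    (b'.cM u hu m2 a).inv_left.mul_left (h1 u hu m1 m2 a)
  · refine ⟨a, a', o, ho, Or.inl ?_⟩
    rw [inv_mul_eq_iff_eq_mul.1 e1, ← (h3 a' a).eq]; group
  · refine ⟨a, a', o, ho, Or.inr ?_⟩
    rw [inv_mul_eq_iff_eq_mul.1 e1, ← (h3 a' a).eq]
    simp only [mul_assoc, rp (h.tj (xx c a)).eq, (h.Ot o ho).eq]
theorem exists_bo (hy : Yd j t ε) {k : ℕ} (hk : Sh k) (s : F) : ∃ g, Bo j t O k g s := by
  obtain ⟨c, d, e⟩ := hk.dec
  have hc := e.tab.1
  obtain ⟨y, h1, -⟩ := h.trl hc hy s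
  obtain ⟨g, h3, -⟩ := h.trl hk hy s
  obtain ⟨a, a', o, ho, e1⟩ := h.za_dec e h1 h3
  refine ⟨g * o, by simpa using h.bt_mul hk h3 (h.bt_o hk ho), fun o' ho' => ?_⟩
  have h5 := h.w_O e h1 ho'
  have h6 := (h.Oj _ ho' (xx c a)).symm
  have h7 := (h.Oj _ ho' (xx k a')).symm
  rcases e1 with e1 | e1
  · have := (h5.mul_left h6).mul_left h7
    rw [e1] at this
    simpa only [mul_assoc, rp (h.Oj _ ho (xx c a)).eq, rp (h.Oj _ ho (xx k a')).eq,
      rp (za_sq hc.1 a), rp (za_sq hk.1 a'), one_mul] using this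
  · have := ((h5.mul_left h6).mul_left (h.Ot o' ho')).mul_left h7
    rw [e1] at this
    simpa only [mul_assoc, rp (h.Oj _ ho (xx c a)).eq, rp (h.Oj _ ho (xx k a')).eq,
      rp (za_sq hc.1 a), rp (za_sq hk.1 a'), one_mul, rp (h.Ot o ho).symm.eq, rp h.tt] using this
theorem exists_pt (hy : Yd j t ε) {k : ℕ} (hk : Sh k) (s : F) : ∃ g i, Pt j t O k g s i := by
  obtain ⟨g, b⟩ := h.exists_bo hy hk s
  have h1 := h.bo_mul hk b b
  rw [CharTwo.add_self_eq_zero] at h1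
  obtain ⟨a, o, ho, e | e⟩ := h.rig1' hk.1 (h.bt_comm hk h1.toBt) h1.cM
  · obtain ⟨m, hm⟩ := h.odd o ho
    have h2 : o = j (xx k a) * (g * g) := by rw [e, ← mul_assoc, za_sq hk.1, one_mul]
    refine ⟨g * o ^ m, a, ⟨by simpa using h.bt_mul hk b.toBt (h.bt_o hk (pow_mem ho m)),
      fun o' ho' => (b.cO o' ho').mul_left (Commute.pow_left ?_ m)⟩, ?_⟩
    · rw [h2]; exact (h.Oj _ ho' _).symm.mul_left (h1.cO o' ho')
    · calc g * o ^ m * (g * o ^ m) = g * g * (o ^ m * o ^ m) := by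
            simp only [mul_assoc, rp (b.cO _ (pow_mem ho m)).symm.eq]
        _ = j (xx k a) * o ^ (2 * m + 1) := by rw [e]; group
        _ = j (xx k a) := by rw [← hm, pow_orderOf_eq_one, mul_one]
  · have h2 : t = (j (xx k a) * o)⁻¹ * (g * g) := by rw [e]; group
    have h3 : Commute g t := by
      rw [h2]
      exact ((b.cM k hk.1 (za_mo hk.1) a).mul_right (b.cO o ho)).inv_right.mul_right
        ((Commute.refl g).mul_right (Commute.refl g))
    have h4 := b.act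
    rw [h3.eq, mul_inv_cancel_right] at h4
    exact ⟨1, 0, ⟨⟨fun _ _ _ _ => Commute.one_left _, by rw [← h4]; group⟩,
      fun m _ => Commute.one_left m⟩, by rw [za_0, mul_one]⟩
theorem phi_pt (hy : Yd j t ε) {c d k : ℕ} (e : S3 c d k) {y : G} {s : F} (b : Bt j t c y s) :
    ∃ g i, Pt j t O k g s i ∧ y⁻¹ * j (xx d 1) * y * j (xx d 1) = g * j (xx c i) := by
  obtain ⟨hc, hd, hk, -, -, -, -, -, -, mck, mkc, -, mkd, mkk, -⟩ := e.tab
  obtain ⟨g0, j0, b0⟩ := h.exists_pt hy hk s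
  have u2 := za_sq (j := j) hd.1 (1 : F)
  have key : ∀ g i a, ∀ o ∈ O, Pt j t O k g s i →
      y⁻¹ * j (xx d 1) * y * j (xx d 1) = g * j (xx c a) * o →
      ∃ g i, Pt j t O k g s i ∧ y⁻¹ * j (xx d 1) * y * j (xx d 1) = g * j (xx c i) := by
    intro g i a o ho b1 e1
    have h1 : j (xx d 1) * (y⁻¹ * j (xx d 1) * y * j (xx d 1)) * j (xx d 1) *
        (y⁻¹ * j (xx d 1) * y * j (xx d 1)) = 1 := by
      simp only [mul_assoc, rp u2, one_mul, mul_inv_cancel_left, inv_mul_cancel_left]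
    have h2 := h.xconj e a 1
    rw [mul_one, mul_assoc] at h2
    have h3 : ∀ z, j (xx d 1) * (j (xx c a) * (j (xx d 1) * z)) = j (xx c a) * (j (xx k a) * z) :=
      fun z => by rw [← mul_assoc (j (xx c a)), ← mul_assoc (j (xx c a)), ← h2]; group
    rw [e1] at h1
    simp only [mul_assoc, rp (b1.cM d hd.1 mkd 1).symm.eq, rp (h.Oj _ ho (xx d 1)).eq, h3,
      rp (b1.cO o ho).symm.eq, rp (h.Oj _ ho (xx c a)).eq, rp (b1.cM c hc.1 mkc a).symm.eq,
      rp (b1.cM k hk.1 mkk a).symm.eq, rp b1.sq, rp (za_cm (j := j) hc.1 hk.1 mck a a).eq,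
      rp (za_sq hc.1 a), one_mul, rp (za_add hk.1 i a)] at h1
    have h4 : o = 1 := eq_one_of_odd (h.odd o ho) (za_sq hk.1 (i + a))
      (by rw [← za_inv hk.1]; exact eq_inv_of_mul_eq_one_right h1)
    rw [h4, mul_one, mul_one, ← za_0 (j := j) k] at h1
    obtain rfl : a = i := by
      have := h.za_inj hk.1 h1
      rw [← CharTwo.sub_eq_add, sub_eq_zero] at this
      exact this.symm
    exact ⟨g, a, b1, by rw [e1, h4, mul_one]⟩
  obtain ⟨a, a', o, ho, e1 | e1⟩ := h.za_dec e b b0.toBt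
  · exact key _ _ a o ho (h.pt_x hk b0 a') e1
  · exact key _ _ a o ho (h.pt_t hk (h.pt_x hk b0 a')) e1

end Fo

end Cfsg.Agent.F4Q
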