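import Mathlib
import Cfsg.Agent.F4Q.ZhA

/-! Doubling of the short root groups, part 2: PORT of `SLE/DP2` up to `phi_zh'` (dictionary in `ZhA`).  In
`star` (`k = e + d`, `c = e + d'`) the steps `g6`, `g7` become `bt_or`; both sides get the same extra factor
`x_l(ε s)`, `l = k + d' = c + d` long, and `Mo k l, Mo c l, Mo e l`, `x_l` commutes with all `x` present, so it
cancels.  Instead of `hh D x d l` use `tor2` (any nonzero values on two roots). -/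

set_option autoImplicit false
set_option linter.unusedSectionVars false
set_option linter.unusedSimpArgs false
set_option synthInstance.maxSize 8192
set_option synthInstance.maxHeartbeats 400000

namespace Cfsg.Agent.F4Q

open Cfsg.Lie Cfsg.Agent.Chev Subgroup Cfsg.Agent.PLocal.Amb
open Cfsg.Agent.F42S (lg ip ad gm sm sr Mo aw)
open Cfsg.Agent.FinS (Rt Rg Uf)
open Cfsg.Agent.SLE (rp)
open scoped commutatorElement

variable {F : Type*} [Field F] [Finite F] [CharP F 2] {G : Type*} [Group G] [Finite G]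
  {j : Γ F →* G} {t : G} {O : Subgroup G} {ε : F}

theorem Zh.inv_eq {r : ℕ} {g : G} {s : F} (z : Zh j t O r g s) : g⁻¹ = g := inv_eq_of_mul_eq_one_right z.sq

theorem zb_sq {r : ℕ} (hr : r < 48) (a : F) : j (xx r a) * j (xx r a) = 1 := by
  rw [← map_mul, relΓ.sq hr (ok_refl _ _), map_one]
theorem zb_add {r : ℕ} (hr : r < 48) (a b : F) : j (xx r a) * j (xx r b) = j (xx r (a + b)) := by
  rw [← map_mul, relΓ.add r hr a b (ok_refl _ _) (ok_refl _ _)]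
theorem zb_0 {r : ℕ} (hr : r < 48) : j (xx r 0) = 1 := by rw [relΓ.zero hr, map_one]
theorem zb_inv {r : ℕ} (hr : r < 48) (a : F) : (j (xx r a))⁻¹ = j (xx r a) := inv_eq_of_mul_eq_one_right (zb_sq hr a)
theorem zb_xx {r s : ℕ} (hr : r < 48) (hs : s < 48) (m : Mo r s) (a b : F) : Commute (j (xx r a)) (j (xx s b)) :=
  (relΓ.com r hr s hs m a b (ok_refl _ _) (ok_refl _ _)).map j

theorem zb_ne : ∀ c < 48, ∀ k < 48, lg c = false → ip c k = 10 → c ≠ k ∧ c ≠ 47 - k ∧ k ≠ 47 - c ∧ ip k c = 10 := by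
  decide +kernel

theorem zb_tri : ∀ c < 48, ∀ k < 48, lg c = false → lg k = false → ip c k = 10 → ∃ e < 48,
    S3 e (ad k (47 - e)) k ∧ S3 e (ad c (47 - e)) c ∧ ip k (ad c (47 - e)) = 8 ∧ ip c (ad k (47 - e)) = 8 ∧
      Mo (ad k (47 - e)) (ad c (47 - e)) ∧ ad c (ad k (47 - e)) = ad k (ad c (47 - e)) ∧ ad k (ad c (47 - e)) < 48 ∧
      ∀ u ∈ [k, c, e, ad k (47 - e), ad c (47 - e)], Mo u (ad k (ad c (47 - e))) := by
  decide +kernel

theorem zb_sr : ∀ i < 4, ∀ r < 48, (lg r = false → Sh (sr i r)) ∧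
    ∀ u < 48, Mo (sr i r) u → sr i u < 48 ∧ Mo r (sr i u) ∧ sr i (sr i u) = u := by
  decide +kernel

namespace Fo
variable (h : Fo j t O)
include h

theorem zb_inj {r : ℕ} (hr : r < 48) {a b : F} (e : j (xx r a) = j (xx r b)) : a = b :=
  relΓ.eq hr (ok_refl _ _) (ok_refl _ _) (h.inj e)

section
variable {r : ℕ} (hr : Sh r) {g g' : G} {s s' : F}
include hr

theorem zh_x (a : F) : Zh j t O r (j (xx r a)) 0 := ⟨h.bo_x hr a, zb_sq hr.1 a, fun _ => ⟨a, rfl⟩⟩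
omit h in
theorem zh_pt (z : Zh j t O r g s) : Pt j t O r g s 0 := ⟨z.toBo, by rw [zb_0 hr.1, z.sq]⟩
omit h in
theorem zh_of (b : Pt j t O r g s 0) (h0 : s = 0 → ∃ a, g = j (xx r a)) : Zh j t O r g s :=
  ⟨b.toBo, by rw [b.sq, zb_0 hr.1], h0⟩
theorem zh_uniq (z : Zh j t O r g s) (z' : Zh j t O r g' s) : ∃ a, g' = g * j (xx r a) := by
  by_cases hs : s = 0
  · obtain ⟨a, rfl⟩ := z.z0 hs
    obtain ⟨b, rfl⟩ := z'.z0 hs
    exact ⟨a + b, by rw [← zb_add hr.1, ← mul_assoc, zb_sq hr.1, one_mul]⟩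
  · obtain ⟨a, ⟨e, -⟩ | ⟨-, e⟩⟩ := h.pt_uniq hr (zh_pt hr z) (zh_pt hr z')
    · exact ⟨a, e⟩
    · exact absurd (by simpa using e.symm) hs
theorem zh_par (z : Zh j t O r g s) (z' : Zh j t O r g s') : s = s' :=
  h.zb_inj hr.1 (mul_left_cancel (z.act.symm.trans z'.act))
omit hr in
theorem zh_conj {n : Γ F} {r' : ℕ} (hn : ∀ u < 48, Mo r' u → ∀ c, ∃ u' < 48, Mo r u' ∧ ∃ c', n * xx u' c' * n⁻¹ = xx u c)
    {c : F} (hc : c ≠ 0) (e : ∀ a, n * xx r a * n⁻¹ = xx r' (c * a)) (z : Zh j t O r g s) :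
    Zh j t O r' (j n * g * (j n)⁻¹) (c * s) := by
  have h1 := h.tj n
  have e' : ∀ a, j n * j (xx r a) * (j n)⁻¹ = j (xx r' (c * a)) := fun a => by rw [← e, map_mul, map_mul, map_inv]
  refine ⟨⟨⟨fun u hu m a => ?_, ?_⟩, fun o ho => ?_⟩, ?_, fun h0 => ?_⟩
  · obtain ⟨u', h2, h3, c', h4⟩ := hn u hu m a
    rw [← h4, map_mul, map_mul, map_inv]
    exact (z.cM u' h2 h3 c').conj _
  · calc j n * g * (j n)⁻¹ * t * (j n * g * (j n)⁻¹)⁻¹ = j n * (g * ((j n)⁻¹ * (t * j n)) * g⁻¹) * (j n)⁻¹ := by group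
      _ = j n * t * j (xx r s) * (j n)⁻¹ := by rw [h1.eq, inv_mul_cancel_left, z.act]; group
      _ = t * j (xx r' (c * s)) := by rw [← h1.eq, ← e']; group
  · have h2 := (h.Oj o ho n).symm
    exact (h2.mul_left (z.cO o ho)).mul_left h2.inv_left
  · calc j n * g * (j n)⁻¹ * (j n * g * (j n)⁻¹) = j n * (g * g) * (j n)⁻¹ := by group
      _ = 1 := by rw [z.sq]; group
  · obtain ⟨a, rfl⟩ := z.z0 ((mul_eq_zero.1 h0).resolve_left hc)
    exact ⟨_, e' a⟩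
theorem zh_tor {k : Γ F} {χ : ℕ → F} (hk : Tor k χ) (z : Zh j t O r g s) :
    Zh j t O r (j k * g * (j k)⁻¹) (χ r * s) :=
  h.zh_conj (fun u hu m c => ⟨u, hu, m, (χ u)⁻¹ * c, by rw [hk.conj u hu, mul_inv_cancel_left₀ (hk.ne u hu)]⟩)
    (hk.ne r hr.1) (hk.conj r hr.1) z
theorem zh_n {i : ℕ} (hi : i < 4) (z : Zh j t O r g s) :
    Zh j t O (sr i r) (j (nY xx (sm i)) * g * (j (nY xx (sm i)))⁻¹) s := by
  have k : ∀ u < 48, ∀ a : F, nY xx (sm i) * xx u a * (nY xx (sm i))⁻¹ = xx (sr i u) a := fun u hu a => by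
    simpa using relΓ.wn i hi u hu a (ok_refl _ _)
  simpa using h.zh_conj (fun u hu m c => by
    obtain ⟨a1, a2, a3⟩ := (zb_sr i hi r hr.1).2 u hu m
    exact ⟨_, a1, a2, c, by rw [k _ a1, a3]⟩) one_ne_zero (fun a => by rw [one_mul, k r hr.1]) z
theorem zh_ww {w : List ℕ} (hw : ∀ i ∈ w, i < 4) (z : Zh j t O r g s) :
    Zh j t O (aw w r) (j (ww xx w) * g * (j (ww xx w))⁻¹) s := by
  suffices Sh (aw w r) ∧ Zh j t O (aw w r) (j (ww xx w) * g * (j (ww xx w))⁻¹) s from this.2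
  induction w with
  | nil => exact ⟨hr, show Zh j t O r _ s by simpa [ww] using z⟩
  | cons i w ih =>
    rw [List.forall_mem_cons] at hw
    obtain ⟨a, b⟩ := ih hw.2
    refine ⟨(zb_sr i hw.1 _ a.1).1 a.2, ?_⟩
    change Zh j t O (sr i (aw w r)) _ s
    convert h.zh_n a hw.1 b using 1
    rw [show ww xx (i :: w) = nY xx (sm i) * ww xx w from rfl, map_mul]
    group

end

section

variable {c k : ℕ} (hc : Sh c) (hk : Sh k) (p : ip c k = 10) {g y : G} {s i i' : F}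
include hc hk p

omit p h in
theorem star_symm (e : g * y = y * g * (j (xx c i) * j (xx k i'))) : y * g = g * y * (j (xx k i') * j (xx c i)) := by
  rw [e]
  simp only [mul_assoc, rp (zb_sq hk.1 i'), zb_sq hc.1 i, one_mul, mul_one]

theorem star_left {g0 : G} {i0 : F} (b' : Pt j t O c y s i') (b0 : Pt j t O k g0 s i0)
    (b : Pt j t O k g s i) (e : g0 * y = y * g0 * (j (xx c i0) * j (xx k i'))) :
    g * y = y * g * (j (xx c i) * j (xx k i')) := by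
  have m : Mo c k := .inl (by omega)
  have h1 := fun a => b'.cM k hk.1 m a
  have h2 := fun a a' => zb_xx (j := j) hc.1 hk.1 m a a'
  obtain ⟨a, ⟨rfl, rfl⟩ | ⟨rfl, rfl⟩⟩ := h.pt_uniq hk b0 b
  · simp only [mul_assoc, rp (h1 a).symm.eq, rp e, rp (h2 _ _).symm.eq, rp (zb_add hk.1 _ _), add_comm a]
  · simp only [mul_assoc, rp (h1 a).symm.eq, rp e, rp (h2 _ _).symm.eq, rp (zb_add hk.1 _ _),
      add_comm a, rp (h.bt_ts hc b'.toBt), rp (h.tj (xx k _)).eq, rp (h.tj (xx c _)).eq, rp (zb_add hc.1 _ _)]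

end

variable (hy : Yd j t ε)
include hy

theorem zb_or {r u : ℕ} (hr : Sh r) (hu : Sh u) (p : ip r u = 8) (hl : ad r u < 48) (m : Mo r (ad r u)) {g : G} {s : F}
    (b : Bt j t r g s) : j (xx u 1) * g = g * j (xx u 1) * j (xx (ad r u) (ε * s * 1)) := by
  rw [mul_inv_eq_iff_eq_mul.1 (h.bt_or hr hy b hu p 1)]
  simp only [mul_assoc, rp (b.cM _ hl m _).symm.eq, zb_sq hl, mul_one]

theorem star {c k : ℕ} (hc : Sh c) (hk : Sh k) (p : ip c k = 10) {g y : G} {s i i' : F} (b : Pt j t O k g s i)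
    (b' : Pt j t O c y s i') : g * y = y * g * (j (xx c i) * j (xx k i')) := by
  have p' := (zb_ne c hc.1 k hk.1 hc.2 p).2.2.2
  obtain ⟨e, -, e1, e2, q1, q2, q3, q4, q5, q6⟩ := zb_tri c hc.1 k hk.1 hc.2 hk.2 p
  generalize ad k (47 - e) = d, ad c (47 - e) = d' at e1 e2 q1 q2 q3 q4 q5 q6
  simp only [List.forall_mem_cons] at q6
  obtain ⟨he, hd, -, -, -, -, -, -, -, -, m1, -⟩ := e1.tab
  obtain ⟨-, hd', -, -, -, -, -, -, -, -, m2, -⟩ := e2.tab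
  obtain ⟨z, bz⟩ := h.exists_bo hy he s
  obtain ⟨g0, j0, b0, f1⟩ := h.phi_pt hy e1 bz.toBt
  obtain ⟨y0, j1, b1, f2⟩ := h.phi_pt hy e2 bz.toBt
  have u2 := zb_sq (j := j) hd.1 (1 : F)
  have v2 := zb_sq (j := j) hd'.1 (1 : F)
  have g1 : j (xx d 1) * z = z * (g0 * j (xx e j0)) * j (xx d 1) := by
    rw [← f1]; simp only [mul_assoc, u2, mul_one, mul_inv_cancel_left]
  have g2 : j (xx d' 1) * z = z * (y0 * j (xx e j1)) * j (xx d' 1) := by
    rw [← f2]; simp only [mul_assoc, v2, mul_one, mul_inv_cancel_left]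
  have g3 : j (xx d 1) * j (xx e j1) = j (xx e j1) * j (xx k j1) * j (xx d 1) := by
    have := h.xconj e1 j1 1
    rw [mul_one] at this
    rw [← this]; simp only [mul_assoc, u2, mul_one]
  have g4 : j (xx d' 1) * j (xx e j0) = j (xx e j0) * j (xx c j0) * j (xx d' 1) := by
    have := h.xconj e2 j0 1
    rw [mul_one] at this
    rw [← this]; simp only [mul_assoc, v2, mul_one]
  have g5 : j (xx d 1) * (j (xx d' 1) * z) = j (xx d' 1) * (j (xx d 1) * z) := by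
    rw [← mul_assoc, (zb_xx hd.1 hd'.1 q3 1 1).eq, mul_assoc]
  have g6 := h.zb_or hy hk hd' q1 q5 q6.1 b0.toBt
  have g7 := h.zb_or hy hc hd q2 (q4 ▸ q5) (q4 ▸ q6.2.1) b1.toBt
  rw [q4] at g7
  have g8 := fun a => (b0.cM e he.1 m1 a).symm.eq
  have g9 := fun a => (b1.cM e he.1 m2 a).symm.eq
  have w1 := fun a => (zb_xx (j := j) he.1 q5 q6.2.2.1 a (ε * s * 1)).symm.eq
  have w2 := (zb_xx (j := j) hd.1 q5 q6.2.2.2.1 1 (ε * s * 1)).symm.eq
  have w3 := (zb_xx (j := j) hd'.1 q5 q6.2.2.2.2.1 1 (ε * s * 1)).symm.eq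
  generalize j (xx (ad k d') (ε * s * 1)) = w at g6 g7 w1 w2 w3
  rw [g2, g1] at g5
  simp only [mul_assoc, rp g1, rp g2, rp g3, rp g4, rp g6, rp g7, rp (g8 _), rp (g9 _), rp (w1 _), rp w2, rp w3,
    rp (zb_xx (j := j) hd.1 hd'.1 q3 (1 : F) 1).symm.eq, rp (zb_add (j := j) he.1 _ _), add_comm j1, mul_right_inj] at g5
  have g10 : g0 * y0 = y0 * g0 * (j (xx c j0) * j (xx k j1)) := by
    have g11 := zb_xx (j := j) hk.1 he.1 m1 j1 (j0 + j1)
    have g12 := zb_xx (j := j) hc.1 he.1 m2 j0 (j0 + j1)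
    simp only [rp g11.symm.eq, rp g12.symm.eq, mul_assoc] at g5
    simp only [← mul_assoc, mul_left_inj] at g5
    rw [← mul_assoc, ← g5, mul_assoc, zb_sq hk.1, mul_one]
  exact h.star_left hc hk p b' b0 b (star_symm hk hc (h.star_left hk hc p' b0 b1 b' (star_symm hc hk g10)))

theorem phi_bo {c d k : ℕ} (e : S3 c d k) {y : G} {s : F} (b : Bo j t O c y s) :
    Pt j t O k (y⁻¹ * j (xx d 1) * y * j (xx d 1)) s 0 := by
  obtain ⟨hc, hd, hk, -, p, -, -, -, m1, m2, m3, -, -, m4, -⟩ := e.tab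
  have u2 := zb_sq (j := j) hd.1 (1 : F)
  have key : ∀ y i', Pt j t O c y s i' → Pt j t O k (y⁻¹ * j (xx d 1) * y * j (xx d 1)) s 0 := by
    intro y i' b
    obtain ⟨g, i, bg, f⟩ := h.phi_pt hy e b.toBt
    have g1 : j (xx d 1) * y * j (xx d 1) = y * (g * j (xx c i)) := by rw [← f]; group
    have g2 : j (xx d 1) * y * j (xx d 1) * (j (xx d 1) * y * j (xx d 1)) = j (xx c i') * j (xx k i') := by
      have := h.xconj e i' 1
      rw [mul_one, ← b.sq] at this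
      rw [← b.sq, ← this]
      simp only [mul_assoc, rp u2, one_mul]
    have g3 := h.star hy hc hk p bg b
    have g4 := fun a a' => (zb_xx (j := j) hc.1 hk.1 m2 a a').symm.eq
    rw [g1] at g2
    simp only [mul_assoc, rp (b.cM c hc.1 m1 _).symm.eq, rp (bg.cM c hc.1 m3 _).symm.eq,
      rp g3, rp (bg.cM k hk.1 m4 _).symm.eq, rp b.sq, rp bg.sq, rp (g4 _ _),
      rp (zb_sq hc.1 i), mul_one, mul_right_inj] at g2
    have g5 : j (xx c i) = j (xx k i) := by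
      rw [← zb_inv hc.1, eq_comm, eq_inv_iff_mul_eq_one, g4, ← mul_left_inj (j (xx k i')), mul_assoc, g2, one_mul]
    have n := zb_ne c hc.1 k hk.1 hc.2 p
    obtain ⟨rfl, -⟩ := h.ind hc.1 hk.1 n.1 n.2.1 g5
    rw [f, zb_0 hc.1, mul_one]
    exact bg
  obtain ⟨g, i, bg⟩ := h.exists_pt hy hc s
  have key2 : ∀ y1 i, ∀ o ∈ O, Pt j t O c y1 s i → y = y1 * o →
      Pt j t O k (y⁻¹ * j (xx d 1) * y * j (xx d 1)) s 0 := by
    rintro y1 i o ho b1 rfl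
    convert key y1 i b1 using 1
    have := (h.w_O e b1.toBt ho).symm.eq
    calc (y1 * o)⁻¹ * j (xx d 1) * (y1 * o) * j (xx d 1) = o⁻¹ * (y1⁻¹ * j (xx d 1) * y1 * (o * j (xx d 1))) := by group
      _ = o⁻¹ * (y1⁻¹ * j (xx d 1) * y1 * j (xx d 1) * o) := by rw [(h.Oj o ho _).eq]; group
      _ = y1⁻¹ * j (xx d 1) * y1 * j (xx d 1) := by rw [← this]; group
  obtain ⟨a, o, ho, ⟨e1, b1⟩ | ⟨e1, b1⟩⟩ := h.bo_dec hc bg b.toBt
  · exact key2 _ _ o ho b1 e1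
  · exact key2 _ _ o ho b1 e1

theorem phi_zh1 {c d k : ℕ} (e : S3 c d k) {y : G} {s : F} (z : Zh j t O c y s) :
    Zh j t O k (y * j (xx d 1) * y * j (xx d 1)) s := by
  have := h.phi_bo hy e z.toBo
  rw [z.inv_eq] at this
  refine zh_of e.tab.2.2.1 this fun h0 => ?_
  obtain ⟨a, rfl⟩ := z.z0 h0
  refine ⟨a * 1, ?_⟩
  rw [mul_assoc, mul_assoc, ← mul_assoc (j (xx d 1)), h.xconj e, ← mul_assoc, zb_sq e.1, one_mul]

theorem exists_zh {k : ℕ} (hk : Sh k) (s : F) : ∃ g, Zh j t O k g s := by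
  by_cases hs : s = 0
  · exact ⟨_, hs ▸ h.zh_x hk 0⟩
  · obtain ⟨c, d, e⟩ := hk.dec
    obtain ⟨y, b⟩ := h.exists_bo hy e.tab.1 s
    exact ⟨_, zh_of hk (h.phi_bo hy e b) fun h0 => absurd h0 hs⟩
theorem phi_surj {c d k : ℕ} (e : S3 c d k) {g : G} {s : F} (z : Zh j t O k g s) :
    ∃ y, Zh j t O c y s ∧ g = y * j (xx d 1) * y * j (xx d 1) := by
  obtain ⟨hc, hd, hk, -, p, -, -, -, m1, m2, m3, -, m5, m4, -⟩ := e.tab
  obtain ⟨y, zy⟩ := h.exists_zh hy hc s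
  obtain ⟨a, rfl⟩ := h.zh_uniq hk (h.phi_zh1 hy e zy) z
  refine ⟨y * j (xx c a), zh_of hc (h.pt_x hc (zh_pt hc zy) a) fun h0 => ?_, ?_⟩
  · obtain ⟨b, rfl⟩ := zy.z0 h0
    exact ⟨_, zb_add hc.1 _ _⟩
  · have g3 : j (xx c a) * j (xx d 1) = j (xx d 1) * (j (xx c a) * j (xx k a)) := by
      have := h.xconj e a 1
      rw [mul_one] at this
      rw [← this]; simp only [mul_assoc, rp (zb_sq hd.1 (1 : F)), one_mul]
    simp only [mul_assoc, rp g3, rp (zy.cM c hc.1 m1 _).symm.eq, rp (zy.cM k hk.1 m2 _).symm.eq, rp (zb_sq hc.1 a),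
      one_mul, rp (zb_xx hk.1 hc.1 m3 a a).eq, rp (zb_xx hk.1 hd.1 m5 a 1).eq]
theorem phi_zh {c d k : ℕ} (e : S3 c d k) {y : G} {s : F} (z : Zh j t O c y s) (l : F) :
    Zh j t O k (y * j (xx d l) * y * j (xx d l)) (l * s) := by
  obtain ⟨hc, hd, hk, -⟩ := e.tab
  by_cases hl : l = 0
  · subst hl
    rw [zb_0 hd.1, mul_one, mul_one, z.sq, zero_mul, ← zb_0 (j := j) hk.1]
    exact h.zh_x hk 0
  obtain ⟨n, χ, hn, a1, a2⟩ := tor2 hc.1 hd.1 ((by decide +kernel : ∀ c < 48, ∀ d < 48, lg c = false → ip c d = 6 →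
    d ≠ c ∧ d ≠ 47 - c) c hc.1 d hd.1 hc.2 e.2.2.2.2.1).1 ((by decide +kernel : ∀ c < 48, ∀ d < 48, lg c = false →
      ip c d = 6 → d ≠ c ∧ d ≠ 47 - c) c hc.1 d hd.1 hc.2 e.2.2.2.2.1).2 one_ne_zero hl
  have a3 := hn.mul c hc.1 d hd.1 (e.2.2.2.2.2.symm ▸ hk.1)
  have y2 := h.zh_tor hk hn (h.phi_zh1 hy e (h.zh_tor hc hn.inv z))
  have h1 := congrArg j (hn.conj d hd.1 1)
  rw [e.2.2.2.2.2, a1, a2, one_mul] at a3
  rw [a2, mul_one, map_mul, map_mul, map_inv] at h1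
  rw [a3, a1, inv_one, one_mul, map_inv] at y2
  convert y2 using 1
  rw [← h1]
  group
theorem zh_col {c k : ℕ} (hc : Sh c) (hk : Sh k) (p : ip c k = 10) {y g : G} {s s' : F}
    (z : Zh j t O c y s) (z' : Zh j t O k g s') : Commute y g := by
  have n := zb_ne c hc.1 k hk.1 hc.2 p
  by_cases h1 : s = 0
  · obtain ⟨a, rfl⟩ := z.z0 h1
    exact (z'.cM c hc.1 (.inl (by omega)) a).symm
  by_cases h2 : s' = 0
  · obtain ⟨a, rfl⟩ := z'.z0 h2
    exact z.cM k hk.1 (.inl (by omega)) a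
  obtain ⟨m, χ, hm, a1, a2⟩ := tor2 hc.1 hk.1 n.1.symm n.2.2.1 h2 h1
  have y1 := h.zh_tor hc hm z
  have y2 := h.zh_tor hk hm z'
  rw [a1, mul_comm] at y1
  rw [a2] at y2
  have := h.star hy hc hk p (zh_pt hk y2) (zh_pt hc y1)
  rw [zb_0 hc.1, zb_0 hk.1, mul_one, mul_one] at this
  have h3 : j m * (y * g) * (j m)⁻¹ = j m * (g * y) * (j m)⁻¹ := by
    calc _ = j m * y * (j m)⁻¹ * (j m * g * (j m)⁻¹) := by group
      _ = _ := by rw [← this]; group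
  exact mul_left_cancel (mul_right_cancel h3)
theorem zh_comm {k : ℕ} (hk : Sh k) {g g' : G} {s s' : F} (z : Zh j t O k g s)
    (z' : Zh j t O k g' s') : Commute g g' := by
  obtain ⟨c, d, e⟩ := hk.dec
  obtain ⟨hc, hd, -, -, p, -⟩ := e.tab
  obtain ⟨y, zy, e1⟩ := h.phi_surj hy e z
  obtain ⟨y', zy', e2⟩ := h.phi_surj hy e z'
  have h1 := (h.phi_bo hy e (h.bo_mul hc zy.toBo zy'.toBo)).sq
  have h2 := (h.zh_col hy hc hk p zy' z).eq
  have h3 : (y * y')⁻¹ * j (xx d 1) * (y * y') * j (xx d 1) = g * g' := by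
    calc _ = y'⁻¹ * (y⁻¹ * j (xx d 1) * y) * y' * j (xx d 1) := by group
      _ = y' * g * (j (xx d 1) * y' * j (xx d 1)) := by
          rw [zy.inv_eq, zy'.inv_eq, e1]
          simp only [mul_assoc, rp (zb_sq hd.1 (1 : F)), one_mul]
      _ = g * g' := by rw [h2, e2]; group
  rw [h3, zb_0 hk.1] at h1
  show g * g' = g' * g
  rw [← inv_eq_of_mul_eq_one_right h1, mul_inv_rev, z.inv_eq, z'.inv_eq]
theorem zh_mul {k : ℕ} (hk : Sh k) {g g' : G} {s s' : F} (z : Zh j t O k g s)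
    (z' : Zh j t O k g' s') : Zh j t O k (g * g') (s + s') := by
  refine ⟨h.bo_mul hk z.toBo z'.toBo, ?_, fun h0 => ?_⟩
  · simp only [mul_assoc, rp (h.zh_comm hy hk z' z).eq, rp z.sq, z'.sq, one_mul]
  · obtain rfl : s = s' := by rwa [← CharTwo.sub_eq_add, sub_eq_zero] at h0
    obtain ⟨a, rfl⟩ := h.zh_uniq hk z z'
    exact ⟨a, by rw [← mul_assoc, z.sq, one_mul]⟩

end Fo

end Cfsg.Agent.F4Q
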