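import Mathlib
import Cfsg.Agent.F4Q.ZhB

/-! A coherent choice `g r b` of doubled root elements for all short roots (blueprint `F42S.Yd.sy` in
`F42S/Rig`, `Sy.wn'`, `Sy.tr` in `F42S/RelA`). -/

set_option autoImplicit false
set_option linter.unusedSectionVars false

namespace Cfsg.Agent.F4Q

open Cfsg.Lie Cfsg.Agent.Chev Subgroup Cfsg.Agent.PLocal.Amb
open Cfsg.Agent.F42S (lg ip ad gm sm sr Mo aw)
open Cfsg.Agent.FinS (Rt Rg Uf)
open scoped commutatorElement


variable {F : Type*} [Field F] [Finite F] [CharP F 2] {G : Type*} [Group G] [Finite G]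
  {j : Γ F →* G} {t : G} {O : Subgroup G} {ε : F} {g : ℕ → F → G} {γ : Γ F ≃* Γ F}

structure Sy (j : Γ F →* G) (t : G) (O : Subgroup G) (ε : F) (g : ℕ → F → G) : Prop
    extends Fo j t O where
  yd : Yd j t ε
  zh : ∀ r, Sh r → ∀ b, Zh j t O r (g r b) b
  add : ∀ r, Sh r → ∀ a b, g r a * g r b = g r (a + b)
  tor : ∀ k χ, Tor k χ → ∀ r, Sh r → ∀ b, j k * g r b * (j k)⁻¹ = g r (χ r * b)
  wn : ∀ i < 4, ∀ r, Sh r → ∀ b, j (nY xx (sm i)) * g r b * (j (nY xx (sm i)))⁻¹ =
    g (sr i r) b * j (xx (sr i r) (if i < 2 then ε * b else 0))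

/-- The relations at `120°`. -/
structure RA (j : Γ F →* G) (t : G) (O : Subgroup G) (ε ρ : F) (g : ℕ → F → G) : Prop
    extends Sy j t O ε g where
  ee : ε * ε = ε
  x120 : ∀ r s k, S3 r s k → ∀ b c, j (xx s c) * g r b * j (xx s c) =
    g r b * g k (b * c) * j (xx k (ε * (b * c)))
  y120 : ∀ r s k, S3 r s k → ∀ b c, g s c * g r b * g s c = g r b * g k (b * c) * j (xx k (ρ * (b * c)))

theorem sya_add {r : ℕ} (hr : r < 48) (a b : F) : j (xx r a) * j (xx r b) = j (xx r (a + b)) := by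
  rw [← map_mul, relΓ.add r hr a b (ok_refl _ _) (ok_refl _ _)]

theorem sya_sq {r : ℕ} (hr : r < 48) (a : F) : j (xx r a) * j (xx r a) = 1 := by
  rw [sya_add hr, CharTwo.add_self_eq_zero, xx_zero, map_one]

theorem sya_tor {k : Γ F} {χ : ℕ → F} (hk : Tor k χ) {r : ℕ} (hr : r < 48) (a : F) :
    j k * j (xx r a) * (j k)⁻¹ = j (xx r (χ r * a)) := by
  rw [← hk.conj r hr a, map_mul, map_mul, map_inv]

theorem sya_ww {w : List ℕ} (hw : ∀ i ∈ w, i < 4) {r : ℕ} (hr : r < 48) (a : F) :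
    j (ww xx w) * j (xx r a) * (j (ww xx w))⁻¹ = j (xx (aw w r) a) := by
  rw [← xx_ww hw hr a, map_mul, map_mul, map_inv]

theorem sya_odd {k z : G} (hk : Odd (orderOf k)) (h : Commute (k * k) z) : Commute k z := by
  obtain ⟨n, hn⟩ := hk
  have : k = (k * k) ^ (n + 1) := by
    rw [← pow_two, ← pow_mul, show 2 * (n + 1) = 2 * n + 1 + 1 by ring, ← hn, pow_succ, pow_orderOf_eq_one,
      one_mul]
  rw [this]
  exact h.pow_left _

theorem sya_or : ∀ r < 48, ∀ s < 48, lg r = false → lg s = false → ip r s = 8 → ad r s < 48 := by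
  decide +kernel

theorem sya_el (θ : F42S.L0 →* Γ F) (hθ : ∀ r, θ (F42S.xx r) = xx r 1) (w : List ℕ) :
    θ (WG.el F42S.xx (F42S.sg w)) = ww xx w := by
  induction w with
  | nil => simp [F42S.sg_nil, ww]
  | cons i w ih =>
    rw [F42S.sg_cons, WG.el_append, map_mul, ih, ww_cons]
    simp [F42S.nr, nY, hθ, mul_assoc]

theorem sya_sh {w : List ℕ} (hw : ∀ i ∈ w, i < 4) {r : ℕ} (hr : Sh r) : Sh (aw w r) :=
  ⟨F42S.aw_lt hw hr.1, (F42S.aw_tab hw hr.1 hr.1).1.trans hr.2⟩

theorem sya_frob {k : Γ F} {χ : ℕ → F} (hγ : Gam γ) (hk : Tor k χ) : Tor (γ (γ k)) fun r => χ r ^ 2 := by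
  refine ⟨fun r hr => pow_ne_zero _ (hk.ne r hr), fun r hr => by rw [hk.neg r hr, inv_pow],
    fun r hr s hs e => by rw [hk.mul r hr s hs e, mul_pow], fun r hr a => ?_⟩
  obtain ⟨c, rfl⟩ := isSquare_of_charTwo' a
  rw [← pow_two, ← mul_pow, ← hγ.sq hr, ← hγ.sq hr, ← hk.conj r hr]
  simp only [map_mul, map_inv]

/-- a torus element centralizing `X₄₄` centralizes the doubled group -/
theorem Fo.sya_cen (h : Fo j t O) {k : Γ F} {χ : ℕ → F} (hk : Tor k χ) (h1 : χ 44 = 1) {z : G} {b : F}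
    (hz : Zh j t O 44 z b) : Commute (j k) z := by
  have s44 : Sh 44 := by decide
  have z' := h.zh_tor s44 hk hz
  rw [h1, one_mul] at z'
  obtain ⟨a, e⟩ := h.zh_uniq s44 hz z'
  have e' := sya_tor (j := j) hk (r := 44) (by omega) a
  rw [h1, one_mul] at e'
  refine sya_odd (by rw [orderOf_injective j h.inj]; exact hk.odd) ?_
  have : j k * j k * z * (j k * j k)⁻¹ = z := by
    calc _ = j k * (j k * z * (j k)⁻¹) * (j k)⁻¹ := by group
      _ = z := by rw [e, ← conj_mul, e, e', mul_assoc, sya_sq (by omega), mul_one]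
  exact mul_inv_eq_iff_eq_mul.1 this

/-- Fix `y` with `Zh 40 y 1`, `f b = y x₃₃(b) y x₃₃(b)` (`phi_zh`).  Additive: `x₃₃` and `y` commute with
`Zh 44`.  For `s ≠ 0` take a torus element `k₀` with `χ 40 = s`, `χ 44 = 1` (`tor2`); it
centralizes `Zh 44` (`k₀ z k₀⁻¹ = z x₄₄(a)` by `zh_tor`, `zh_uniq`, and `k₀` has odd order), so
`f b = ⁅y_s, x₃₃(s⁻¹ b)⁆` with `y_s = k₀ y k₀⁻¹`; any `y'` with `Zh 40 y' s` is `y_s x₄₀(a)` and gives
`f b · x₄₄(a s⁻¹ b)`.  Hence `k f(b) k⁻¹ = f(χ 44 b) x₄₄(λ(k) χ 44 b)` with `λ(k k') = λ(k) + λ(k')`; `k` has odd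
order (`Tor.odd`), so `λ = 0`. -/
theorem Fo.exists_f (h : Fo j t O) (hy : Yd j t ε) : ∃ f : F → G, (∀ b, Zh j t O 44 (f b) b) ∧
    (∀ a b, f a * f b = f (a + b)) ∧ ∀ k χ, Tor k χ → ∀ b, j k * f b * (j k)⁻¹ = f (χ 44 * b) := by
  have s44 : Sh 44 := by decide
  have s40 : Sh 40 := by decide
  have s3 : S3 40 33 44 := by decide
  obtain ⟨y, zy⟩ := h.exists_zh hy s40 1
  obtain ⟨f, hf⟩ : ∃ f : F → G, ∀ b, f b = y * j (xx 33 b) * y * j (xx 33 b) := ⟨_, fun _ => rfl⟩
  have zf : ∀ b, Zh j t O 44 (f b) b := fun b => by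
    have := h.phi_zh hy s3 zy b
    rwa [mul_one, ← hf] at this
  have key : ∀ y' s, s ≠ 0 → Zh j t O 40 y' s → ∃ a, ∀ l,
      y' * j (xx 33 l) * y' * j (xx 33 l) = f (l * s) * j (xx 44 (a * (l * s))) := by
    intro y' s hs z'
    obtain ⟨k, χ, hk, c40, c44⟩ := tor2 (F := F) (r := 40) (s := 44) (by omega) (by omega) (by omega)
      (by omega) hs one_ne_zero
    have c33 : s * χ 33 = 1 := by
      rw [← c40, ← c44, ← hk.mul 40 (by omega) 33 (by omega) (by decide)]; rfl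
    have zs := h.zh_tor s40 hk zy
    rw [c40, mul_one] at zs
    obtain ⟨a, rfl⟩ := h.zh_uniq s40 zs z'
    refine ⟨a * χ 33, fun l => ?_⟩
    have e1 : f (l * s) = j k * y * (j k)⁻¹ * j (xx 33 l) * (j k * y * (j k)⁻¹) * j (xx 33 l) := by
      have := sya_tor (j := j) hk (r := 33) (by omega) (l * s)
      rw [show χ 33 * (l * s) = l by linear_combination l * c33] at this
      rw [← this, conj_mul, conj_mul, conj_mul, ← hf, (h.sya_cen hk c44 (zf _)).eq, mul_inv_cancel_right]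
    have e2 := h.xconj s3 a l
    have e3 := (zs.cM 40 (by omega) (by decide) a).eq
    have e4 := ((zf (l * s)).cM 40 (by omega) (by decide) a).eq
    rw [show a * χ 33 * (l * s) = a * l by linear_combination a * l * c33]
    generalize j k * y * (j k)⁻¹ = u at e1 e3
    calc _ = u * j (xx 40 a) * j (xx 33 l) * u * (j (xx 33 l) * j (xx 33 l)) * j (xx 40 a) * j (xx 33 l) := by
          rw [sya_sq (by omega)]; group
      _ = j (xx 40 a) * (u * j (xx 33 l) * u * j (xx 33 l)) * (j (xx 33 l) * j (xx 40 a) * j (xx 33 l)) := by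
          rw [e3]; group
      _ = _ := by
          rw [e2, ← e1, ← e4, mul_assoc, ← mul_assoc (j (xx 40 a)), sya_sq (by omega), one_mul]
  refine ⟨f, zf, fun a b => ?_, fun k χ hk => ?_⟩
  · have c := ((zf b).cM 33 (by omega) (by decide) a).eq
    have e1 : f a = y * j (xx 33 a) * y * j (xx 33 a) := hf a
    rw [e1, mul_assoc _ (j _) (f b), ← c, hf, hf, ← sya_add (by omega) a b]
    calc _ = y * j (xx 33 a) * (y * y) * j (xx 33 b) * y * (j (xx 33 b) * j (xx 33 a)) := by group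
      _ = _ := by rw [zy.sq, sya_add (by omega), add_comm b a, ← sya_add (by omega) a b]; group
  · have zs := h.zh_tor s40 hk zy
    rw [mul_one] at zs
    obtain ⟨a, ha⟩ := key _ _ (hk.ne 40 (by omega)) zs
    have c44 : χ 44 = χ 40 * χ 33 := hk.mul 40 (by omega) 33 (by omega) (by decide)
    have e1 : ∀ b, j k * f b * (j k)⁻¹ = f (χ 44 * b) * j (xx 44 (a * (χ 44 * b))) := fun b => by
      rw [hf, ← conj_mul, ← conj_mul, ← conj_mul, sya_tor hk (by omega), ha, c44]
      congr 2 <;> [skip; congr 2] <;> ring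
    have e2 : ∀ n : ℕ, ∀ b, j (k ^ n) * f b * (j (k ^ n))⁻¹ =
        f (χ 44 ^ n * b) * j (xx 44 (n * a * (χ 44 ^ n * b))) := fun n b => by
      induction n with
      | zero => simp [xx_zero]
      | succ n ih =>
        calc _ = j k * (j (k ^ n) * f b * (j (k ^ n))⁻¹) * (j k)⁻¹ := by rw [pow_succ', map_mul]; group
          _ = _ := by
            rw [ih, ← conj_mul, e1, sya_tor hk (by omega), mul_assoc, sya_add (by omega)]
            congr 2 <;> [skip; congr 1] <;> push_cast <;> ring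
    have e3 : χ 44 ^ orderOf k = 1 := by
      have := (hk.pow (orderOf k)).conj 44 (by omega) 1
      rw [pow_orderOf_eq_one, one_mul, inv_one, mul_one, mul_one] at this
      exact (relΓ.eq (by omega) (ok_refl _ _) (ok_refl _ _) this).symm
    have e4 := e2 (orderOf k) 1
    rw [pow_orderOf_eq_one, map_one, one_mul, inv_one, mul_one, e3, mul_one, mul_one, left_eq_mul,
      ← map_one j] at e4
    have e5 := relΓ.inj 44 (by omega) _ (ok_refl _ _) (h.inj e4)
    obtain ⟨m, hm⟩ := hk.odd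
    rw [hm] at e5
    push_cast at e5
    rw [CharTwo.two_eq_zero, zero_mul, zero_add, one_mul] at e5
    intro b
    rw [e1, e5, zero_mul, xx_zero, map_one, mul_one]

/-- `n₂₄, n₂₅ ∈ MM F 44`.  `n₂₇` step by step with `bt_or`: `y ↦ y x₄₅(ε b) ↦ y x₄₄(ε b) x₄₅(ε b) ↦ y x₄₄(ε b)`. -/
theorem Fo.zh_stab (h : Fo j t O) (hy : Yd j t ε) {y : G} {b : F} (z : Zh j t O 44 y b) {i : ℕ}
    (h1 : 1 ≤ i) (h2 : i < 4) : j (nY xx (sm i)) * y * (j (nY xx (sm i)))⁻¹ =
      y * j (xx 44 (if i < 2 then ε * b else 0)) := by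
  have s44 : Sh 44 := by decide
  have c : ∀ r < 48, Mo 44 r → Mo 44 (47 - r) → j (nY xx r) * y * (j (nY xx r))⁻¹ = y * j (xx 44 0) := by
    intro r hr m1 m2
    have c1 := z.cM r hr m1 1
    have c2 := z.cM (47 - r) (by omega) m2 1
    rw [nY, map_mul, map_mul, ← ((c1.mul_right c2).mul_right c1).eq, mul_inv_cancel_right, xx_zero, map_one,
      mul_one]
  obtain rfl | rfl | rfl : i = 1 ∨ i = 2 ∨ i = 3 := by omega
  · have a1 := h.bt_or s44 hy z.toBt (u := 27) (by decide) (by decide) 1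
    have a2 := h.bt_or s44 hy z.toBt (u := 20) (by decide) (by decide) 1
    rw [mul_one] at a1 a2
    change _ = _ * j (xx 45 _) at a1
    change _ = _ * j (xx 43 _) at a2
    have e : (xx 27 1 * xx 45 (ε * b) * (xx 20 1 * xx 43 (ε * b)) * (xx 27 1 * xx 45 (ε * b)) : Γ F) =
        xx 44 (ε * b) * (xx 27 1 * xx 20 1 * xx 27 1) := by
      have h1 : (xx 45 (ε * b) * xx 20 1 * xx 45 (ε * b) : Γ F) =
          xx 20 1 * (xx 44 (ε * b * 1) * xx 43 (ε * b * (1 * 1))) :=
        relΓ.cm' (r := 45) (s := 20) (by omega) (by omega) (by decide) (by decide) (by decide) rfl 1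
      rw [mul_one, mul_one, mul_one] at h1
      have qq : (xx 43 (ε * b) * xx 43 (ε * b) : Γ F) = 1 := relΓ.sq (by omega) (ok_refl _ _)
      have pq := xx_comm (F := F) (r := 45) (s := 43) (by omega) (by omega) (by decide) (ε * b) (ε * b)
      have pa := xx_comm (F := F) (r := 45) (s := 27) (by omega) (by omega) (by decide) (ε * b) 1
      have za := xx_comm (F := F) (r := 44) (s := 27) (by omega) (by omega) (by decide) (ε * b) 1
      have zb := xx_comm (F := F) (r := 44) (s := 20) (by omega) (by omega) (by decide) (ε * b) 1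
      generalize (xx 27 1 : Γ F) = a at *
      generalize (xx 20 1 : Γ F) = b' at *
      generalize (xx 45 (ε * b) : Γ F) = p at *
      generalize (xx 43 (ε * b) : Γ F) = q at *
      generalize (xx 44 (ε * b) : Γ F) = w at *
      calc _ = a * (p * b' * p) * (p⁻¹ * (q * a * p)) := by group
        _ = a * b' * w * (q * q) * a := by rw [h1, ← (pq.mul_right pa).eq]; group
        _ = _ := by rw [qq, mul_one, ← (za.mul_right zb).eq]; group
    have e' := congrArg j e
    simp only [map_mul] at e'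
    rw [← a1, ← a2, conj_mul, conj_mul, mul_inv_eq_iff_eq_mul] at e'
    change j (xx 27 1 * xx 20 1 * xx 27 1) * y * (j (xx 27 1 * xx 20 1 * xx 27 1))⁻¹ = y * j (xx 44 (ε * b))
    rw [map_mul, map_mul, mul_inv_eq_iff_eq_mul, (z.cM 44 (by omega) (by decide) _).eq, mul_assoc (j (xx 44 _)),
      e', ← mul_assoc, ← mul_assoc, sya_sq (by omega), one_mul]
  · exact c 25 (by omega) (by decide) (by decide)
  · exact c 24 (by omega) (by decide) (by decide)

/-- `g r b = n f(b) n⁻¹ x_r(σ ε b)`, `n = j (ww xx (tw r))`, `σ` = number of letters `< 2` of `tw r`; copy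
`F42S.Yd.sy` (`tab_tw`); identities between the `n_i` come from `F₄(2)` through `exists_two`;
`tor` by `Tor.ww`. -/
theorem Fo.exists_sy (h : Fo j t O) (hy : Yd j t ε) : ∃ g, Sy j t O ε g := by
  have s44 : Sh 44 := by decide
  obtain ⟨f, zf, fa, ft⟩ := h.exists_f hy
  obtain ⟨θ, -, hθ⟩ := exists_two' (F := F)
  have zf' : ∀ b c, Zh j t O 44 (f b * j (xx 44 c)) b := fun b c => by
    simpa using h.zh_mul hy s44 (zf b) (h.zh_x s44 c)
  have n0 : ∀ p ∈ [[], [1], [2], [3]], ∀ z b, Zh j t O 44 z b → j (ww xx p) * z * (j (ww xx p))⁻¹ =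
      z * j (xx 44 ((p.countP (· < 2) : F) * (ε * b))) := by
    intro p hp z b hz
    simp only [List.mem_cons, List.not_mem_nil, or_false] at hp
    rcases hp with rfl | rfl | rfl | rfl
    · simp [ww, xx_zero]
    · simpa [ww] using h.zh_stab hy hz (i := 1) le_rfl (by omega)
    · simpa [ww] using h.zh_stab hy hz (i := 2) (by omega) (by omega)
    · simpa [ww] using h.zh_stab hy hz (i := 3) (by omega) (by omega)
  refine ⟨fun r b => j (ww xx (F42S.tw r)) *
    (f b * j (xx 44 ((((F42S.tw r).countP (· < 2) : ℕ) : F) * (ε * b)))) * (j (ww xx (F42S.tw r)))⁻¹, h, hy,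
    fun r hr b => ?_, fun r hr a b => ?_, fun k χ hk r hr b => ?_, fun i hi r hr b => ?_⟩ <;>
    obtain ⟨t1, t2, t3⟩ := F42S.tab_tw r hr.1 hr.2
  · have := h.zh_ww s44 t1 (zf' b ((((F42S.tw r).countP (· < 2) : ℕ) : F) * (ε * b)))
    rwa [t2] at this
  · rw [conj_mul, mul_assoc (f a), ← mul_assoc (j (xx 44 _)) (f b), ← ((zf b).cM 44 (by omega) (by decide) _).eq,
      mul_assoc (f b), sya_add (by omega), ← mul_assoc (f a), fa, mul_add, mul_add]
  · have hk' := hk.ww t1
    have e1 := ft _ _ hk' b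
    have e2 := sya_tor (j := j) hk' (r := 44) (by omega) ((((F42S.tw r).countP (· < 2) : ℕ) : F) * (ε * b))
    simp only [t2] at e1 e2
    rw [← e1, show (((F42S.tw r).countP (· < 2) : ℕ) : F) * (ε * (χ r * b)) =
      χ r * ((((F42S.tw r).countP (· < 2) : ℕ) : F) * (ε * b)) by ring, ← e2, map_mul, map_mul, map_inv]
    group
  · obtain ⟨p, hp, q, k⟩ := t3 i hi
    have t4 := F42S.tab_sr i hi r hr.1
    obtain ⟨u1, u2, -⟩ := F42S.tab_tw _ t4.1 (t4.2.2.1.trans hr.2)
    have e1 := congrArg (fun a => j (θ a)) (F42S.Q_eq q)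
    simp only [WG.el_append, map_mul, sya_el θ hθ, ww_cons] at e1
    have e2 := sya_ww (j := j) u1 (r := 44) (by omega) (if i < 2 then ε * b else 0)
    rw [u2] at e2
    have e3 := n0 p hp _ _ (zf' b ((((F42S.tw r).countP (· < 2) : ℕ) : F) * (ε * b)))
    have e4 := (CharP.cast_eq_zero_iff F 2 _).2 (Nat.dvd_of_mod_eq_zero k)
    rw [← e2, conj_mul]
    calc _ = j (nY xx (sm i)) * j (ww xx (F42S.tw r)) *
          (f b * j (xx 44 ((((F42S.tw r).countP (· < 2) : ℕ) : F) * (ε * b)))) *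
          (j (nY xx (sm i)) * j (ww xx (F42S.tw r)))⁻¹ := by group
      _ = j (ww xx (F42S.tw (sr i r))) * (j (ww xx p) *
          (f b * j (xx 44 ((((F42S.tw r).countP (· < 2) : ℕ) : F) * (ε * b)))) * (j (ww xx p))⁻¹) *
          (j (ww xx (F42S.tw (sr i r))))⁻¹ := by rw [e1]; group
      _ = _ := by
        rw [e3, mul_assoc (f b), mul_assoc (f b), sya_add (by omega), sya_add (by omega)]
        congr 5
        have two : (2 : F) = 0 := CharTwo.two_eq_zero
        push_cast at e4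
        split_ifs at e4 ⊢
        · linear_combination (ε * b) * e4 -
            ((((F42S.tw (sr i r)).countP (· < 2) : ℕ) : F) * (ε * b) + ε * b) * two
        · linear_combination (ε * b) * e4 - ((((F42S.tw (sr i r)).countP (· < 2) : ℕ) : F) * (ε * b)) * two

namespace Sy
variable (h : Sy j t O ε g)
include h

theorem zero {r : ℕ} (hr : Sh r) : g r 0 = 1 := by
  have := h.add r hr 0 0
  rwa [add_zero, mul_eq_left] at this
theorem sq {r : ℕ} (hr : Sh r) (b : F) : g r b * g r b = 1 := (h.zh r hr b).sq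
theorem inv {r : ℕ} (hr : Sh r) (b : F) : (g r b)⁻¹ = g r b := inv_eq_of_mul_eq_one_right (h.sq hr b)
theorem ct {r : ℕ} (hr : Sh r) (b : F) : g r b * t * g r b = t * j (xx r b) := by
  have := (h.zh r hr b).act
  rwa [h.inv hr] at this
theorem tc {r : ℕ} (hr : Sh r) (b : F) : t * g r b * t = g r b * j (xx r b) := by
  rw [h.toFo.bt_ts hr (h.zh r hr b).toBt, (h.tj _).eq, mul_assoc, mul_assoc, h.tt, mul_one]
theorem cm {r s : ℕ} (hr : Sh r) (hs : s < 48) (m : Mo r s) (b c : F) :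
    Commute (g r b) (j (xx s c)) := (h.zh r hr b).cM s hs m c
theorem or {r s : ℕ} (hr : Sh r) (hs : Sh s) (p : ip r s = 8) (b c : F) :
    g r b * j (xx s c) * g r b = j (xx s c) * j (xx (ad r s) (ε * b * c)) := by
  have := h.toFo.bt_or hr h.yd (h.zh r hr b).toBt hs p c
  rwa [h.inv hr] at this
theorem c60 {r s : ℕ} (hr : Sh r) (hs : Sh s) (p : ip r s = 10) (b c : F) :
    Commute (g r b) (g s c) := h.toFo.zh_col h.yd hr hs p (h.zh r hr b) (h.zh s hs c)
theorem ww' {w : List ℕ} (hw : ∀ i ∈ w, i < 4) {r : ℕ} (hr : Sh r) (b : F) :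
    j (ww xx w) * g r b * (j (ww xx w))⁻¹ =
      g (aw w r) b * j (xx (aw w r) ((w.countP (· < 2) : F) * (ε * b))) := by
  induction w with
  | nil => simp [ww, F42S.aw_nil, xx_zero]
  | cons i w ih =>
    have hw' : ∀ k ∈ w, k < 4 := fun k hk => hw k (by simp [hk])
    have hi : i < 4 := hw i (by simp)
    have sh := sya_sh hw' hr
    have e := congrArg j (xx_wn (F := F) hi sh.1 ((w.countP (· < 2) : F) * (ε * b)))
    rw [map_mul, map_mul, map_inv] at e
    calc _ = j (nY xx (sm i)) * (j (ww xx w) * g r b * (j (ww xx w))⁻¹) * (j (nY xx (sm i)))⁻¹ := by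
          rw [ww_cons, map_mul]; group
      _ = _ := by
        rw [ih hw', ← conj_mul, h.wn i hi _ sh, e, mul_assoc, sya_add (F42S.tab_sr i hi _ sh.1).1,
          F42S.aw_cons, List.countP_cons]
        congr 3
        by_cases c : i < 2 <;> simp [c, add_mul, add_comm]
/-- `g r b` centralizes `t` only for `b = 0` -/
theorem eq_zero {r : ℕ} (hr : Sh r) {b : F} (e : Commute t (g r b)) : b = 0 := by
  have := (h.zh r hr b).act
  rw [← e.eq, mul_inv_cancel_right, left_eq_mul, ← map_one j] at this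
  exact relΓ.inj r hr.1 b (ok_refl _ _) (h.inj this)
/-- the same system in the frame `j ∘ γ ∘ γ` (`Gam.sq`; `γ²` is a field automorphism) -/
theorem frob (hγ : Gam γ) (he : ε * ε = ε) :
    Sy ((j.comp γ.toMonoidHom).comp γ.toMonoidHom) t O ε fun r b => g r (b ^ 2) := by
  have jx : ∀ r < 48, ∀ a, ((j.comp γ.toMonoidHom).comp γ.toMonoidHom) (xx r a) = j (xx r (a ^ 2)) :=
    fun r hr a => congrArg j (hγ.sq hr a)
  have ee : ∀ a c : F, (ε * a * c) ^ 2 = ε * a ^ 2 * c ^ 2 := fun a c => by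
    linear_combination a ^ 2 * c ^ 2 * he
  refine ⟨(h.toFo.comp γ).comp γ, fun a => ?_, fun r hr b => ?_, fun r hr a b => ?_,
    fun k χ hk r hr b => ?_, fun i hi r hr b => ?_⟩
  · obtain ⟨y, y1, y2, y3⟩ := h.yd (a ^ 2)
    refine ⟨y, by rw [jx 44 (by omega), y1], fun s hs m c => by rw [jx s hs]; exact y2 s hs m _,
      fun s hs l p c => ?_⟩
    rw [jx s hs, jx _ (sya_or 44 (by omega) s hs (by decide) l p), ee, y3 s hs l p]
  · have z := h.zh r hr (b ^ 2)
    refine ⟨⟨⟨fun u hu m c => by rw [jx u hu]; exact z.cM u hu m _, by rw [jx r hr.1]; exact z.act⟩, z.cO⟩,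
      z.sq, fun e => ⟨0, ?_⟩⟩
    rw [e, xx_zero, map_one, zero_pow two_ne_zero, h.zero hr]
  · rw [CharTwo.add_sq, h.add r hr]
  · rw [mul_pow]
    exact h.tor _ _ (sya_frob hγ hk) r hr _
  · have s := (F42S.tab_sm i hi).1
    have e : ((j.comp γ.toMonoidHom).comp γ.toMonoidHom) (nY xx (sm i)) = j (nY xx (sm i)) := by
      rw [nY, map_mul, map_mul, jx _ s, jx _ (by omega), one_pow, map_mul, map_mul]
    rw [e, jx _ (F42S.tab_sr i hi r hr.1).1, h.wn i hi r hr]
    congr 3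
    split_ifs
    · linear_combination (-b ^ 2) * he
    · simp

end Sy

theorem RA.frob {ρ ρ' : F} (h : RA j t O ε ρ g) (hγ : Gam γ) (e : ρ' ^ 2 = ρ) :
    RA ((j.comp γ.toMonoidHom).comp γ.toMonoidHom) t O ε ρ' fun r b => g r (b ^ 2) := by
  have jx : ∀ r < 48, ∀ a, ((j.comp γ.toMonoidHom).comp γ.toMonoidHom) (xx r a) = j (xx r (a ^ 2)) :=
    fun r hr a => congrArg j (hγ.sq hr a)
  refine ⟨h.toSy.frob hγ h.ee, h.ee, fun r s k e3 b c => ?_, fun r s k e3 b c => ?_⟩
  · rw [jx s e3.2.1, jx k e3.tab.2.2.1.1, h.x120 r s k e3, mul_pow, mul_pow, mul_pow, pow_two ε, h.ee]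
  · rw [jx k e3.tab.2.2.1.1, h.y120 r s k e3, mul_pow, mul_pow, mul_pow, e]

end Cfsg.Agent.F4Q
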