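import Mathlib
import Cfsg.Agent.F4Q.SyA

/-! Relations between the doubled root elements at `120°, 90°, 135°` (blueprint `F42S/RelA`, `RelB`).
PINNING: a word `κ` that centralizes `t` and the root groups of a list is `j(l) o` or `j(l) o t` (`Fr.hom`,
`rigA` / `rigU` / `rig45`, `Fo.pin`).  SCALING: a relation with an unknown coefficient `λ(b, c)` is the torus
conjugate (`tor2`, `Sy.tor`) of the one for `b = c = 1`; `b = 0` or `c = 0` is trivial.  TRANSPORT to all pairs of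
roots: `F42S.ind2` with `wn`.  `y_r = g r`. -/

set_option autoImplicit false

namespace Cfsg.Agent.F4Q

open Cfsg.Lie Cfsg.Agent.Chev Subgroup Cfsg.Agent.PLocal.Amb
open Cfsg.Agent.F42S (lg ip ad gm sm sr Mo aw)
open Cfsg.Agent.FinS (Rt Rg Uf)
open scoped commutatorElement


variable {F : Type*} [Field F] [Finite F] [CharP F 2] {G : Type*} [Group G] [Finite G]
  {j : Γ F →* G} {t : G} {O : Subgroup G} {ε : F} {g : ℕ → F → G} {ρ : F}

section Kit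

omit [Finite G] in
theorem sb_r0 {a b : G} (h : Commute a b) (z : G) : a * (b * z) = b * (a * z) := by
  rw [← mul_assoc, h.eq, mul_assoc]

omit [Finite G] in
theorem sb_r1 {a b c : G} (ha : a * a = 1) (h : a * b * a = c) (z : G) : a * (b * z) = c * (a * z) := by
  rw [← h, mul_assoc, mul_assoc, ← mul_assoc a a, ha, one_mul]

omit [Finite G] in
theorem sb_r2 {a b c : G} (hb : b * b = 1) (h : b * a * b = c) (z : G) : a * (b * z) = b * (c * z) := by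
  rw [← h, mul_assoc, mul_assoc, ← mul_assoc b b, hb, one_mul]

omit [Finite G] in
theorem sb_sq {a : G} (h : a * a = 1) (z : G) : a * (a * z) = z := by rw [← mul_assoc, h, one_mul]

omit [Finite F] in
theorem sb_two (a : F) : a + a = 0 := CharTwo.add_self_eq_zero a

omit [Finite G] in
theorem sb_xa (j : Γ F →* G) (r : ℕ) (hr : r < 48 := by omega) (a b : F) (z : G) :
    j (xx r a) * (j (xx r b) * z) = j (xx r (a + b)) * z := by
  rw [← mul_assoc, ← map_mul, relΓ.add r hr a b (rg_ok _ _) (rg_ok _ _)]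

omit [Finite G] in
theorem sb_q (j : Γ F →* G) {r : ℕ} (hr : r < 48) (a : F) : j (xx r a) * j (xx r a) = 1 := by
  rw [← map_mul, rg_sq hr, map_one]

omit [Finite G] in
theorem sb_xq (j : Γ F →* G) (r : ℕ) (hr : r < 48 := by omega) (a : F) (z : G) :
    j (xx r a) * (j (xx r a) * z) = z := sb_sq (sb_q j hr a) z

omit [Finite G] in
theorem sb_x0 (j : Γ F →* G) (r : ℕ) : j (xx r 0) = 1 := by rw [xx_zero, map_one]

omit [Finite G] in
theorem sb_xc (j : Γ F →* G) (r s : ℕ)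
    (p : r < 48 ∧ s < 48 ∧ s ≠ 47 - r ∧ ¬ Nz r s := by decide +kernel) (a b : F) (z : G) :
    j (xx r a) * (j (xx s b) * z) = j (xx s b) * (j (xx r a) * z) :=
  sb_r0 ((xx_comm p.1 p.2.1 p.2.2 a b).map j) z

omit [Finite G] in
theorem sb_xm (j : Γ F →* G) {r s : ℕ} (hr : r < 48) (hs : s < 48) (m : Mo r s) (a b : F) (z : G) :
    j (xx r a) * (j (xx s b) * z) = j (xx s b) * (j (xx r a) * z) :=
  sb_r0 ((relΓ.com r hr s hs m a b (rg_ok _ _) (rg_ok _ _)).map j) z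

theorem sb_sc {r s : ℕ} (p : r < 48 ∧ s < 48 ∧ s ≠ r ∧ s ≠ 47 - r) {P : F → F → Prop}
    (h0 : ∀ c, P 0 c) (h1 : ∀ b, P b 0) (H : ∀ (k : Γ F) χ, Tor k χ → P (χ r) (χ s)) (b c : F) :
    P b c := by
  by_cases hb : b = 0
  · exact hb ▸ h0 c
  by_cases hc : c = 0
  · exact hc ▸ h1 b
  obtain ⟨k, χ, hk, rfl, rfl⟩ := tor2 p.1 p.2.1 p.2.2.1 p.2.2.2 hb hc
  exact H k χ hk

omit [Finite G] [Finite F] [CharP F 2] in
theorem sb_tx (j : Γ F →* G) {k : Γ F} {χ : ℕ → F} (hk : Tor k χ) {r : ℕ} (hr : r < 48) (a : F) :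
    MulAut.conj (j k) (j (xx r a)) = j (xx r (χ r * a)) := by
  rw [← hk.conj r hr a]; simp

omit [Finite G] in
theorem sb_nx (j : Γ F →* G) {i r : ℕ} (hi : i < 4) (hr : r < 48) (a : F) :
    MulAut.conj (j (nY xx (sm i))) (j (xx r a)) = j (xx (sr i r) a) := by
  rw [← xx_wn hi hr a]; simp

/-- `a` short, `l` long, `k = l + a`, `m = l + 2 a` -/
def B4 (a l k m : ℕ) : Prop :=
  Sh a ∧ l < 48 ∧ lg l = true ∧ ip l a = 4 ∧ ad l a = k ∧ ad k a = m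

instance (a l k m : ℕ) : Decidable (B4 a l k m) := by unfold B4; infer_instance

/-- orthogonal short roots -/
def O3 (r s l : ℕ) : Prop := Sh r ∧ Sh s ∧ ip r s = 8 ∧ ad r s = l

instance (r s l : ℕ) : Decidable (O3 r s l) := by unfold O3; infer_instance

set_option synthInstance.maxSize 4000 in
theorem sb_t1 : ∀ r < 48, ∀ s < 48, (S3 r s (ad r s) → s ≠ r ∧ s ≠ 47 - r ∧ r ≠ ad r s ∧
      r ≠ 47 - ad r s ∧ ∀ u < 48, Mo r u → Mo s u → Mo (ad r s) u) ∧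
    (O3 r s (ad r s) → O3 s r (ad r s) ∧ ad r s < 48 ∧ Mo r (ad r s) ∧ Mo s (ad r s) ∧ Mo r r ∧
      s ≠ r ∧ s ≠ 47 - r ∧ ¬ Nz r s) ∧
    (B4 r s (ad s r) (ad (ad s r) r) → O3 (ad s r) r (ad (ad s r) r) ∧ s ≠ r ∧ s ≠ 47 - r ∧
      Mo (ad s r) s ∧ ad (ad s r) r ≠ 47 - s ∧ ¬ Nz s (ad (ad s r) r)) := by decide +kernel

theorem S3.sb {r s k : ℕ} (e : S3 r s k) : s ≠ r ∧ s ≠ 47 - r ∧ r ≠ k ∧ r ≠ 47 - k ∧
    ∀ u < 48, Mo r u → Mo s u → Mo k u := by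
  obtain rfl := e.2.2.2.2.2
  exact (sb_t1 r e.1 s e.2.1).1 e

theorem O3.sb {r s l : ℕ} (e : O3 r s l) : O3 s r l ∧ l < 48 ∧ Mo r l ∧ Mo s l ∧ Mo r r ∧
    s ≠ r ∧ s ≠ 47 - r ∧ ¬ Nz r s := by
  obtain rfl := e.2.2.2
  exact (sb_t1 r e.1.1 s e.2.1.1).2.1 e

theorem B4.sb {a l k m : ℕ} (e : B4 a l k m) : O3 k a m ∧ l ≠ a ∧ l ≠ 47 - a ∧ Mo k l ∧
    m ≠ 47 - l ∧ ¬ Nz l m := by
  obtain rfl := e.2.2.2.2.1
  obtain rfl := e.2.2.2.2.2
  exact (sb_t1 a e.1.1 l e.2.1).2.2 e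

theorem sb_i3 {Q : ℕ → ℕ → ℕ → Prop} (st : ∀ i < 4, ∀ r s k, S3 r s k →
    S3 (sr i r) (sr i s) (sr i k) → Q r s k → Q (sr i r) (sr i s) (sr i k)) (b : Q 40 33 44)
    {r s k : ℕ} (e : S3 r s k) : Q r s k := by
  refine F42S.ind2 (P := fun r s => ∀ k, S3 r s k → Q r s k) (fun i hi r hr s hs p k q => ?_)
    (r := 40) (s := 33) (by omega) (by omega) e.1 e.2.1 (e.2.2.1 ▸ by decide +kernel)
    (e.2.2.2.1 ▸ by decide +kernel) (e.2.2.2.2.1 ▸ by decide +kernel) (fun k q => ?_) k e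
  · have ta := F42S.tab_sr i hi r hr
    have tb := F42S.tab_sr i hi s hs
    have q' : S3 r s (ad r s) := ⟨hr, hs, ta.2.2.1 ▸ q.2.2.1, tb.2.2.1 ▸ q.2.2.2.1,
      (ta.2.2.2.2 s hs).1 ▸ q.2.2.2.2.1, rfl⟩
    obtain rfl : k = sr i (ad r s) := q.2.2.2.2.2.symm.trans ((ta.2.2.2.2 s hs).2.1 q'.tab.2.2.1.1)
    exact st i hi _ _ _ q' q (p _ q')
  · obtain rfl : k = 44 := q.2.2.2.2.2.symm.trans (by decide +kernel)
    exact b

theorem sb_io {Q : ℕ → ℕ → Prop} (st : ∀ i < 4, ∀ r s l, Sh r → Sh s →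
    O3 (sr i r) (sr i s) l → Q r s → Q (sr i r) (sr i s)) (b : Q 40 36)
    {r s l : ℕ} (e : O3 r s l) : Q r s := by
  refine F42S.ind2 (P := fun r s => ∀ l, O3 r s l → Q r s) (fun i hi r hr s hs p l q => ?_)
    (r := 40) (s := 36) (by omega) (by omega) e.1.1 e.2.1.1 (e.1.2 ▸ by decide +kernel)
    (e.2.1.2 ▸ by decide +kernel) (e.2.2.1 ▸ by decide +kernel) (fun _ _ => b) l e
  have ta := F42S.tab_sr i hi r hr
  have tb := F42S.tab_sr i hi s hs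
  have q' : O3 r s (ad r s) := ⟨⟨hr, ta.2.2.1 ▸ q.1.2⟩, ⟨hs, tb.2.2.1 ▸ q.2.1.2⟩,
    (ta.2.2.2.2 s hs).1 ▸ q.2.2.1, rfl⟩
  exact st i hi _ _ _ q'.1 q'.2.1 q (p _ q')

theorem sb_i4 {Q : ℕ → ℕ → ℕ → ℕ → Prop} (st : ∀ i < 4, ∀ a l k m, B4 a l k m →
    B4 (sr i a) (sr i l) (sr i k) (sr i m) → Q a l k m → Q (sr i a) (sr i l) (sr i k) (sr i m))
    (b : Q 29 41 44 47) {a l k m : ℕ} (e : B4 a l k m) : Q a l k m := by
  refine F42S.ind2 (P := fun l a => ∀ k m, B4 a l k m → Q a l k m) (fun i hi l hl a ha p k m q => ?_)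
    (r := 41) (s := 29) (by omega) (by omega) e.2.1 e.1.1 (e.2.2.1 ▸ by decide +kernel)
    (e.1.2 ▸ by decide +kernel) (e.2.2.2.1 ▸ by decide +kernel) (fun k m q => ?_) k m e
  · have ta := F42S.tab_sr i hi a ha
    have tb := F42S.tab_sr i hi l hl
    have q' : B4 a l (ad l a) (ad (ad l a) a) := ⟨⟨ha, ta.2.2.1 ▸ q.1.2⟩, hl, tb.2.2.1 ▸ q.2.2.1,
      (tb.2.2.2.2 a ha).1 ▸ q.2.2.2.1, rfl, rfl⟩
    obtain rfl : k = sr i (ad l a) := q.2.2.2.2.1.symm.trans ((tb.2.2.2.2 a ha).2.1 q'.sb.1.1.1)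
    obtain rfl : m = sr i (ad (ad l a) a) := q.2.2.2.2.2.symm.trans
      (((F42S.tab_sr i hi _ q'.sb.1.1.1).2.2.2.2 a ha).2.1 q'.sb.1.sb.2.1)
    exact st i hi _ _ _ _ q' q (p _ _ q')
  · obtain rfl : k = 44 := q.2.2.2.2.1.symm.trans (by decide +kernel)
    obtain rfl : m = 47 := q.2.2.2.2.2.symm.trans (by decide +kernel)
    exact b

omit [Finite G] in
theorem sb_x4 (j : Γ F →* G) (a l k m : ℕ) (e : B4 a l k m := by decide +kernel) (b c : F) (z : G) :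
    j (xx a b) * (j (xx l c) * z) = j (xx l c) * (j (xx a b) * (j (xx k (c * b)) * (j (xx m (c * (b * b))) * z))) := by
  obtain ⟨h1, h2, h3, h4, rfl, rfl⟩ := e
  have := congrArg j (relΓ.cm' h2 h1.1 h3 h1.2 h4 (c := c) rfl b)
  simp only [map_mul] at this
  rw [sb_r2 (sb_q j h2 c) this, mul_assoc, mul_assoc]; rfl

theorem Fo.sb_x6 (h : Fo j t O) (r s k : ℕ) (e : S3 r s k := by decide +kernel) (b c : F) (z : G) :
    j (xx s c) * (j (xx r b) * z) = j (xx r b) * (j (xx k (b * c)) * (j (xx s c) * z)) := by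
  rw [sb_r1 (sb_q j e.2.1 c) (h.xconj e b c), mul_assoc]

omit [Finite G] [Finite F] [CharP F 2] in
theorem Fo.sb_xt (h : Fo j t O) (a : Γ F) (z : G) : j a * (t * z) = t * (j a * z) :=
  sb_r0 (h.tj a).symm z

theorem Fo.sb_x1 (h : Fo j t O) {r : ℕ} (hr : r < 48) {a : F} (e : j (xx r a) = 1) : a = 0 :=
  relΓ.inj r hr a (rg_ok _ _) (h.inj (e.trans (map_one j).symm))

theorem Fo.sb_xi (h : Fo j t O) {r : ℕ} (hr : r < 48) {a b : F} {z : G}
    (e : j (xx r a) * z = j (xx r b) * z) : a = b :=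
  relΓ.eq hr (rg_ok _ _) (rg_ok _ _) (h.inj (mul_right_cancel e))

theorem Fo.sb_pin (h : Fo j t O) {k : G} (hk : Commute k t) {S : Set ℕ}
    (hS : ∀ s ∈ S, ∀ c, Commute k (j (xx s c))) : ∃ α : Γ F ≃* Γ F, Fx α S ∧ ∀ l, Inr α l →
      ∃ o ∈ O, k = j l * o ∨ k = j l * o * t := by
  obtain ⟨α, hα⟩ := h.toFr.hom hk
  exact ⟨α, fun s hs c => h.inj (by rw [← hα, (hS s hs c).eq, mul_inv_cancel_right]),
    fun l hl => h.pin hk hα hl⟩

omit [Finite G] [Finite F] [CharP F 2] in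
theorem Fo.sb_ox (h : Fo j t O) {o : G} (ho : o ∈ O) (a : Γ F) (z : G) : o * (j a * z) = j a * (o * z) :=
  sb_r0 (h.Oj o ho a) z

omit [Finite G] [Finite F] [CharP F 2] in
theorem Fo.sb_ot (h : Fo j t O) {o : G} (ho : o ∈ O) (z : G) : o * (t * z) = t * (o * z) :=
  sb_r0 (h.Ot o ho).symm z

omit [Finite G] in
theorem sb_cm {a b : G} (h : a * b * 1 = b * a * 1) : Commute a b := mul_right_cancel h

theorem Fo.sb_kill (h : Fo j t O) {o : G} (ho : o ∈ O) {a : Γ F} (e : j a * (o * o) = 1) :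
    o = 1 ∧ j a = 1 := by
  have h1 : j a ∈ O := by
    rw [eq_inv_of_mul_eq_one_left e]; exact inv_mem (mul_mem ho ho)
  have h2 := h.toFr.eq_one (h.mem_iff.1 h1).1
  rw [h2, map_one, one_mul] at e
  exact ⟨h.inv_eq ho (one_mul 1) (Commute.one_left o) (by simpa using e), by rw [h2, map_one]⟩

theorem Fo.sb_i2 (h : Fo j t O) {p q p' q' : F} {z : G}
    (e : j (xx 44 p) * (j (xx 47 q) * z) = j (xx 44 p') * (j (xx 47 q') * z)) : p' + p = 0 ∧ q' + q = 0 :=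
  h.ind (c := 44) (k := 47) (by omega) (by omega) (by omega) (by omega) (mul_right_cancel
    (b := j (xx 47 q) * z) (by rw [← sb_xa j 44, e, sb_xq j 44, sb_xa j 47, add_assoc, sb_two, add_zero]))

theorem Fo.sb_k2 (h : Fo j t O) {o : G} (ho : o ∈ O) {p q : F}
    (e : j (xx 44 p) * (j (xx 47 q) * (o * (o * 1))) = 1) : o = 1 ∧ p = 0 ∧ q = 0 := by
  obtain ⟨rfl, k⟩ := h.sb_kill ho (a := xx 44 p * xx 47 q) (by rw [map_mul, mul_assoc, ← e, mul_one])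
  simpa only [zero_add, true_and] using h.sb_i2 (p' := 0) (q' := 0) (e.trans (by simp [sb_x0]))

namespace Sy
variable (h : Sy j t O ε g)
include h

theorem sb_ys (r : ℕ) (hr : Sh r := by decide +kernel) (b : F) (z : G) : g r b * (g r b * z) = z :=
  sb_sq (h.sq hr b) z

omit [Finite G] [Finite F] [CharP F 2] in
theorem sb_ya (r : ℕ) (hr : Sh r := by decide +kernel) (a b : F) (z : G) :
    g r a * (g r b * z) = g r (a + b) * z := by rw [← mul_assoc, h.add r hr]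

theorem sb_yx (r s : ℕ) (p : Sh r ∧ s < 48 ∧ Mo r s := by decide +kernel) (b c : F) (z : G) :
    j (xx s c) * (g r b * z) = g r b * (j (xx s c) * z) := sb_r0 (h.cm p.1 p.2.1 p.2.2 b c).symm z

theorem sb_xo (r s l : ℕ) (p : O3 r s l := by decide +kernel) (b c : F) (z : G) :
    j (xx s c) * (g r b * z) = g r b * (j (xx s c) * (j (xx l (ε * b * c)) * z)) := by
  rw [sb_r2 (h.sq p.1 b) (h.or p.1 p.2.1 p.2.2.1 b c), mul_assoc, p.2.2.2]

theorem sb_ty (r : ℕ) (hr : Sh r := by decide +kernel) (b : F) (z : G) :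
    t * (g r b * z) = g r b * (t * (j (xx r b) * z)) := by
  rw [sb_r2 (h.sq hr b) (h.ct hr b), mul_assoc]

theorem sb_yc (r s : ℕ) (p : Sh r ∧ Sh s ∧ ip r s = 10 := by decide +kernel) (b c : F) (z : G) :
    g r b * (g s c * z) = g s c * (g r b * z) := sb_r0 (h.c60 p.1 p.2.1 p.2.2 b c) z

omit [Finite G] [Finite F] [CharP F 2] in
theorem sb_oy {o : G} (ho : o ∈ O) (r : ℕ) (hr : Sh r := by decide +kernel) (b : F) (z : G) :
    o * (g r b * z) = g r b * (o * z) := sb_r0 ((h.zh r hr b).cO o ho).symm z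

omit [Finite G] [Finite F] [CharP F 2] in
theorem sb_tg {k : Γ F} {χ : ℕ → F} (hk : Tor k χ) {r : ℕ} (hr : Sh r) (b : F) :
    MulAut.conj (j k) (g r b) = g r (χ r * b) := h.tor k χ hk r hr b

omit [Finite G] [Finite F] [CharP F 2] in
theorem sb_ny {i : ℕ} (hi : i < 4) : ∃ δ, (δ = 0 ∨ δ = ε) ∧ ∀ r, Sh r →
    MulAut.conj (j (nY xx (sm i))) (g r 1) = g (sr i r) 1 * j (xx (sr i r) δ) := by
  refine ⟨if i < 2 then ε * 1 else 0, ?_, fun r hr => h.wn i hi r hr 1⟩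
  split_ifs <;> simp

theorem sb_xe {r s k : ℕ} (e : S3 r s k) : ∃ κ, ∀ z,
    j (xx s 1) * (g r 1 * z) = g r 1 * (g k 1 * (j (xx k κ) * (j (xx s 1) * z))) := by
  obtain ⟨hr, hs, hk, -⟩ := e.tab
  have z := h.toFo.phi_zh h.yd e (h.zh r hr 1) 1
  rw [mul_one] at z
  obtain ⟨a, ha⟩ := h.toFo.zh_uniq hk (h.zh k hk 1) z
  refine ⟨a, fun z => ?_⟩
  rw [← mul_assoc (g k 1), ← ha]
  simp only [mul_assoc, h.sb_ys r hr, sb_xq j s hs.1]

theorem sb_b0 : j (xx 33 1) * g 40 1 * j (xx 33 1) = g 40 1 * g 44 1 * j (xx 44 ε) := by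
  obtain ⟨κ, e1⟩ := h.sb_xe (r := 40) (s := 33) (k := 44) (by decide +kernel)
  obtain ⟨μ, e2⟩ := h.sb_xe (r := 44) (s := 14) (k := 40) (by decide +kernel)
  have k := h.wn 0 (by omega) 40 (by decide +kernel) 1
  rw [show sr 0 40 = 44 by decide +kernel, show sm 0 = 33 by decide +kernel, if_pos (by omega),
    mul_inv_eq_iff_eq_mul, mul_one] at k
  have k1 := congrArg (· * t) k
  simp only [nY, map_mul, mul_assoc, Nat.reduceSub, e1] at k1
  simp only [e2, h.sb_yx 40 14, h.sb_yc 40 44, h.sb_yx 40 40, h.sb_ys 40, h.sb_yx 44 33,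
    h.toFo.sb_x6 44 14 40, h.toFo.sb_x6 40 33 44, sb_xc j 33 44, sb_xc j 40 44,
    sb_xa j 44, sb_xa j 40, mul_one, mul_right_inj] at k1
  have k2 : j (xx 40 (μ + κ)) = j (xx 44 (κ + (μ + κ) + ε)) := by
    apply mul_right_cancel (b := j (xx 33 1) * (j (xx 14 1) * (j (xx 33 1) * t)))
    rw [← sb_xa j 44, ← k1, sb_xq j 44]
  obtain ⟨a1, a2⟩ := h.toFo.ind (by omega) (by omega) (by omega) (by omega) k2
  obtain rfl : κ = ε := by linear_combination a2 - a1 - sb_two ε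
  simpa only [mul_assoc, sb_q j (r := 33) (by omega), mul_one] using e1 (j (xx 33 1))

theorem sb_x1 {r s k : ℕ} (e : S3 r s k) : j (xx s 1) * g r 1 * j (xx s 1) = g r 1 * g k 1 * j (xx k ε) := by
  refine sb_i3 (Q := fun r s k => j (xx s 1) * g r 1 * j (xx s 1) = g r 1 * g k 1 * j (xx k ε))
    (fun i hi r s k q q' p => ?_) h.sb_b0 e
  obtain ⟨δ, -, hn⟩ := h.sb_ny hi
  have k1 := congrArg (fun x => MulAut.conj (j (nY xx (sm i))) x * t) p
  simp only [map_mul, hn r q.tab.1, hn k q.tab.2.2.1, sb_nx j hi q.2.1, sb_nx j hi q.tab.2.2.1.1] at k1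
  generalize sr i r = r, sr i s = s, sr i k = k at k1 q' ⊢
  obtain ⟨κ, e1⟩ := h.sb_xe q'
  obtain ⟨hr, hs, hk, -, -, -, -, -, -, m1, m2, m3, -⟩ := q'.tab
  simp only [mul_assoc, e1, h.toFo.sb_x6 r s k q', sb_xq j s hs.1, h.sb_yx k r ⟨hk, hr.1, m2⟩,
    sb_xm j hk.1 hr.1 m2, sb_xa j k hk.1, mul_right_inj, mul_one] at k1
  obtain rfl : κ = ε := by linear_combination h.toFo.sb_xi hk.1 k1
  simpa only [mul_assoc, sb_q j hs.1, mul_one] using e1 (j (xx s 1))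

end Sy

end Kit

/-- `phi_zh`, `zh_uniq`, scaling: `x_s(c) y_r(b) x_s(c) = y_r(b) y_k(b c) x_k(κ b c)`, `κ = κ(r, s)`.  Conjugate
`y₄₀(1)` by `n₃₃ = x₃₃ x₁₄ x₃₃` step by step: `y₄₄ x₄₄(κ + μ) x₄₀(μ)`, `μ = κ(40,33) + κ(44,14)`; `wn` gives
`μ = 0`, `κ = ε`.  Transport. -/
theorem Sy.x120 (h : Sy j t O ε g) {r s k : ℕ} (e : S3 r s k) (b c : F) :
    j (xx s c) * g r b * j (xx s c) = g r b * g k (b * c) * j (xx k (ε * (b * c))) := by
  obtain ⟨hr, hs, hk, -⟩ := e.tab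
  refine sb_sc (r := r) (s := s) ⟨hr.1, hs.1, e.sb.1, e.sb.2.1⟩ (P := fun b c =>
    j (xx s c) * g r b * j (xx s c) = g r b * g k (b * c) * j (xx k (ε * (b * c)))) (fun c => ?_) (fun b => ?_)
    (fun n χ hn => ?_) b c
  · simp only [h.zero hr, h.zero hk, zero_mul, mul_zero, sb_x0, mul_one, sb_q j hs.1]
  · simp only [h.zero hk, mul_zero, sb_x0, mul_one, one_mul]
  · have k1 := congrArg (MulAut.conj (j n)) (h.sb_x1 e)
    simp only [map_mul, sb_tx j hn hs.1, sb_tx j hn hk.1, h.sb_tg hn hr, h.sb_tg hn hk, mul_one] at k1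
    rw [k1, ← hn.mul r hr.1 s hs.1 (e.2.2.2.2.2 ▸ hk.1), e.2.2.2.2.2, mul_comm ε]

theorem Sy.sb_x6 (h : Sy j t O ε g) (r s k : ℕ) (e : S3 r s k := by decide +kernel) (b c : F) (z : G) :
    j (xx s c) * (g r b * z) = g r b * (g k (b * c) * (j (xx k (ε * (b * c))) * (j (xx s c) * z))) := by
  rw [sb_r1 (sb_q j e.2.1 c) (h.x120 e b c), mul_assoc, mul_assoc]

theorem Sy.sb_ye (h : Sy j t O ε g) {a b k : ℕ} (e : S3 a b k) : ∃ ρ, ∀ z,
    g b 1 * (g a 1 * z) = g a 1 * (g k 1 * (j (xx k ρ) * (g b 1 * z))) := by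
  obtain ⟨ha, hb, hk, e', p1, p2, -, -, m1, m2, m3, m4, m5, m6, m7⟩ := e.tab
  have R := And.intro (And.intro (h.sb_ty a ha) (And.intro (h.sb_ty b hb) (h.sb_ty k hk))) <|
    And.intro (And.intro (h.sb_yc a k ⟨ha, hk, p1⟩) (h.sb_yc b k ⟨hb, hk, p2⟩)) <|
    And.intro (And.intro (h.sb_x6 a b k e) (h.sb_x6 b a k e')) <|
    And.intro (And.intro (h.sb_yx a a ⟨ha, ha.1, m1⟩) (h.sb_yx a k ⟨ha, hk.1, m2⟩)) <|
    And.intro (And.intro (h.sb_yx b b ⟨hb, hb.1, m7⟩) (h.sb_yx b k ⟨hb, hk.1, m4⟩)) <|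
    And.intro (And.intro (h.sb_yx k a ⟨hk, ha.1, m3⟩) (h.sb_yx k b ⟨hk, hb.1, m5⟩)) <|
    And.intro (And.intro (h.sb_yx k k ⟨hk, hk.1, m6⟩) h.toFo.sb_xt) <|
    And.intro (And.intro (h.toFo.sb_x6 a b k e) (sb_xm j hk.1 ha.1 m3)) <|
    And.intro (And.intro (sb_xm j hk.1 hb.1 m5) (h.sb_ya k hk)) <|
    And.intro (And.intro (sb_xa j a ha.1) (sb_xa j b hb.1)) <|
    And.intro (And.intro (sb_xa j k hk.1) (h.sb_ys a ha)) <|
    And.intro (And.intro (h.sb_ys b hb) (h.zero hk)) (And.intro (sb_x0 j) (sb_sq h.tt))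
  have c0 : Commute (g k 1 * (g a 1 * (g b 1 * (g a 1 * g b 1)))) t := sb_cm (by
    simp only [mul_assoc, R, CharTwo.add_self_eq_zero, one_mul, mul_one (M := F)]
    rw [show (1 + (ε + (1 + (1 + (ε + 1)))) : F) = 0 by linear_combination sb_two ε + 2 * sb_two (1 : F),
      sb_x0, one_mul])
  have c1 : Commute (g k 1 * (g a 1 * (g b 1 * (g a 1 * g b 1)))) (j (xx a 1)) := sb_cm (by
    simp only [mul_assoc, R, CharTwo.add_self_eq_zero, one_mul, mul_one (M := F), zero_add, add_zero])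
  have c2 : Commute (g k 1 * (g a 1 * (g b 1 * (g a 1 * g b 1)))) (j (xx b 1)) := sb_cm (by
    simp only [mul_assoc, R, CharTwo.add_self_eq_zero, one_mul, mul_one (M := F), zero_add, add_zero])
  have c3 : Commute (g k 1 * (g a 1 * (g b 1 * (g a 1 * g b 1)))) (g k 1) := sb_cm (by
    simp only [mul_assoc, R, CharTwo.add_self_eq_zero, one_mul, mul_one (M := F), zero_add, add_zero])
  obtain ⟨α, hα, hp⟩ := h.toFo.sb_pin c0 (S := {s | s < 48 ∧ Mo a s ∧ Mo b s}) fun s hs c =>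
    have ca := h.cm ha hs.1 hs.2.1 1 c
    have cb := h.cm hb hs.1 hs.2.2 1 c
    (h.cm hk hs.1 (e.sb.2.2.2.2 s hs.1 hs.2.1 hs.2.2) 1 c).mul_left
      (ca.mul_left (cb.mul_left (ca.mul_left cb)))
  obtain ⟨u, v, w, hl⟩ := rigA ha.1 hb.1 ha.2 hb.2 e.2.2.2.2.1 hα
  obtain ⟨o, ho, hκ⟩ := hp _ hl
  have R' := And.intro (And.intro (h.sb_oy ho a ha) (h.sb_oy ho k hk))
    (And.intro (h.toFo.sb_ox ho) (h.toFo.sb_ot ho))
  rw [e.2.2.2.2.2, map_mul, map_mul] at hκ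
  rcases hκ with hκ | hκ <;> rw [hκ] at c1 c2 c3
  · have k1 := congrArg (· * 1) c1.eq
    have k2 := congrArg (· * 1) c2.eq
    simp only [mul_assoc, R, R', mul_right_inj, add_comm v 1, add_comm u 1] at k1 k2
    obtain rfl : u = 0 := by linear_combination h.toFo.sb_xi hk.1 k1
    obtain rfl : v = 0 := by linear_combination - h.toFo.sb_xi hk.1 k2
    have k3 : g b 1 * (g a 1 * g b 1) = g a 1 * (g k 1 * (j (xx k w) * o)) := by
      simp only [sb_x0, one_mul] at hκ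
      rw [← hκ, h.sb_ys k hk, h.sb_ys a ha]
    have k4 : g b 1 * (g a 1 * g b 1) * (g b 1 * (g a 1 * g b 1)) * 1 = 1 := by
      simp only [mul_assoc, R]
    rw [k3] at k4
    simp only [mul_assoc, R, R', CharTwo.add_self_eq_zero, one_mul, mul_one] at k4
    obtain ⟨rfl, -⟩ := h.toFo.sb_kill ho (a := 1) (by rw [map_one, one_mul, k4])
    refine ⟨w, fun z => ?_⟩
    rw [sb_r1 (h.sq hb 1) ((mul_assoc _ _ _).trans k3)]
    simp only [mul_assoc, one_mul]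
  · have k1 := congrArg (· * 1) c3.eq
    simp only [mul_assoc, R, R', mul_right_inj] at k1
    exact absurd (by linear_combination h.toFo.sb_xi hk.1 k1) (one_ne_zero (α := F))

theorem Sy.sb_ys1 (h : Sy j t O ε g) {r s k : ℕ} (e : S3 r s k) {ρ : F}
    (p : g s 1 * g r 1 * g s 1 = g r 1 * g k 1 * j (xx k ρ)) (b c : F) :
    g s c * g r b * g s c = g r b * g k (b * c) * j (xx k (ρ * (b * c))) := by
  obtain ⟨hr, hs, hk, -⟩ := e.tab
  refine sb_sc (r := r) (s := s) ⟨hr.1, hs.1, e.sb.1, e.sb.2.1⟩ (P := fun b c =>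
    g s c * g r b * g s c = g r b * g k (b * c) * j (xx k (ρ * (b * c)))) (fun c => ?_) (fun b => ?_)
    (fun n χ hn => ?_) b c
  · simp only [h.zero hr, h.zero hk, zero_mul, mul_zero, sb_x0, mul_one, h.sq hs]
  · simp only [h.zero hk, h.zero hs, mul_zero, sb_x0, mul_one, one_mul]
  · have k1 := congrArg (MulAut.conj (j n)) p
    simp only [map_mul, sb_tx j hn hk.1, h.sb_tg hn hr, h.sb_tg hn hs, h.sb_tg hn hk, mul_one] at k1
    rw [k1, ← hn.mul r hr.1 s hs.1 (e.2.2.2.2.2 ▸ hk.1), e.2.2.2.2.2, mul_comm ρ]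


/-- `a + b = k`.  `y_b y_a y_b` and `y_a y_k` both send `t` to `t x_a x_k` (`x120`), so `w = (y_a y_b)² = y_k κ`,
`κ = x_b(u) x_a(v) x_k(z) o tⁱ` (`rigA`).  `κ` commutes with `y_k(1)`: `i = 0`; with `x_a(1)` (`y_b y_a y_b` commutes
with `y_b x_a y_b = x_a y_k x_k`): `u = 0`; `y_a` inverts `w`: `o = 1`; symmetry (`w⁻¹ = (y_b y_a)²`): `v = 0`.
Scaling; transport (for `i < 2`: `ρ' + ε² = ρ + ε`). -/
theorem Sy.ra (h : Sy j t O ε g) (he : ε * ε = ε) : ∃ ρ, RA j t O ε ρ g := by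
  obtain ⟨ρ, e0⟩ := h.sb_ye (a := 40) (b := 33) (k := 44) (by decide +kernel)
  refine ⟨ρ, h, he, fun r s k e => h.x120 e, fun r s k e => h.sb_ys1 e ?_⟩
  refine sb_i3 (Q := fun r s k => g s 1 * g r 1 * g s 1 = g r 1 * g k 1 * j (xx k ρ))
    (fun i hi r s k q q' p => ?_) ?_ e
  swap
  · simpa only [mul_assoc, h.sq (r := 33) (by decide +kernel), mul_one] using e0 (g 33 1)
  obtain ⟨δ, hδ, hn⟩ := h.sb_ny hi
  have k1 := congrArg (fun x => MulAut.conj (j (nY xx (sm i))) x * t) p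
  simp only [map_mul, hn r q.tab.1, hn k q.tab.2.2.1, hn s q.tab.2.1, sb_nx j hi q.tab.2.2.1.1] at k1
  generalize sr i r = r, sr i s = s, sr i k = k at k1 q' ⊢
  obtain ⟨κ, e1⟩ := h.sb_ye q'
  obtain ⟨hr, hs, hk, e', p1, p2, -, -, m1, m2, m3, m4, m5, m6, m7⟩ := q'.tab
  simp only [mul_assoc, h.sb_x6 r s k q', h.sb_x6 s r k e', h.sb_yx s s ⟨hs, hs.1, m7⟩,
    h.sb_yx s k ⟨hs, hk.1, m4⟩, h.sb_yx k k ⟨hk, hk.1, m6⟩, h.sb_yx k r ⟨hk, hr.1, m3⟩,
    h.sb_yx k s ⟨hk, hs.1, m5⟩, h.toFo.sb_x6 r s k q', sb_xq j s hs.1, sb_xm j hk.1 hr.1 m3,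
    sb_xm j hk.1 hs.1 m5, e1, h.sb_yc s k ⟨hs, hk, p2⟩, h.sb_ys s hs, h.sb_ya k hk, sb_xa j k hk.1,
    one_mul, add_assoc, CharTwo.add_self_eq_zero, add_zero, mul_right_inj] at k1
  have hd : δ * δ = δ := by rcases hδ with rfl | rfl <;> simp [he]
  obtain rfl : κ = ρ := by linear_combination h.toFo.sb_xi hk.1 k1 - hd
  simpa only [mul_assoc, h.sq hs, mul_one] using e1 (g s 1)

theorem RA.sb_y6 (h : RA j t O ε ρ g) (r s k : ℕ) (e : S3 r s k := by decide +kernel) (b c : F) (z : G) :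
    g s c * (g r b * z) = g r b * (g k (b * c) * (j (xx k (ρ * (b * c))) * (g s c * z))) := by
  rw [sb_r1 (h.toSy.sq e.tab.2.1 c) (h.y120 r s k e b c), mul_assoc, mul_assoc]

theorem RA.sb_b1 (h : RA j t O ε ρ g) : Commute (g 40 1) (g 36 1) := by
  have s := h.toSy
  have k := s.sb_x6 14 44 40 (b := 1) (c := 1) (z := g 36 1 * t)
  simp only [s.sb_x6 14 44 40, h.sb_y6 36 14 29, s.sb_yc 14 40, s.sb_yc 29 40, s.sb_yx 36 44,
    s.sb_xo 29 44 47, s.sb_xo 36 40 47, s.sb_yx 14 29, s.sb_yx 40 29, s.sb_yx 14 47, s.sb_yx 40 47,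
    s.sb_yx 29 47, s.sb_yx 14 40, s.sb_yx 29 40, s.sb_yx 40 44, sb_xc j 40 29, sb_xc j 44 29,
    sb_xc j 47 29, sb_xc j 44 40, sb_xc j 47 40, sb_xc j 47 44, mul_one, h.ee] at k
  rw [← mul_assoc, ← mul_assoc (g 40 1)] at k
  exact (mul_right_cancel k).symm


/-- Conjugate `y₁₄(1) y₃₆(b) y₁₄(1) = y₃₆(b) y₂₉(b) x₂₉(ρ b)` by `x₄₄(c)`: `y₁₄ ↦ y₁₄ y₄₀(c) x₄₀(ε c)`,
`y₂₉(b) ↦ y₂₉(b) x₄₇(ε b c)`, and `x₄₀(ε c) y₃₆(b) x₄₀(ε c) = y₃₆(b) x₄₇(ε b c)`; so `y₄₀(c)`, `y₃₆(b)` commute. -/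
theorem RA.c90 (h : RA j t O ε ρ g) {r s : ℕ} (hr : Sh r) (hs : Sh s) (p : ip r s = 8) (b c : F) :
    Commute (g r b) (g s c) := by
  have s0 := h.toSy
  have e : O3 r s (ad r s) := ⟨hr, hs, p, rfl⟩
  have b1 : Commute (g r 1) (g s 1) := by
    refine sb_io (Q := fun r s => Commute (g r 1) (g s 1)) (fun i hi r s l hr hs q p => ?_) h.sb_b1 e
    obtain ⟨δ, -, hn⟩ := s0.sb_ny hi
    have k1 := congrArg (fun x => MulAut.conj (j (nY xx (sm i))) x * t) p.eq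
    simp only [map_mul, hn r hr, hn s hs] at k1
    generalize sr i r = r, sr i s = s at k1 q ⊢
    obtain ⟨q', hl, m1, m2, -, -, n1, n2⟩ := q.sb
    simp only [mul_assoc, s0.sb_xo r s l q, s0.sb_xo s r l q', sb_xm j q.1.1 hl m1, sb_xm j q.2.1.1 hl m2,
      sb_xc j r s ⟨q.1.1, q.2.1.1, n1, n2⟩] at k1
    rw [← mul_assoc, ← mul_assoc (g s 1)] at k1
    exact mul_right_cancel k1
  refine sb_sc (r := r) (s := s) ⟨hr.1, hs.1, e.sb.2.2.2.2.2.1, e.sb.2.2.2.2.2.2.1⟩ (P := fun b c =>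
    Commute (g r b) (g s c)) (fun c => ?_) (fun b => ?_) (fun n χ hn => ?_) b c
  · rw [s0.zero hr]; exact Commute.one_left _
  · rw [s0.zero hs]; exact Commute.one_right _
  · simpa only [s0.sb_tg hn hr, s0.sb_tg hn hs, mul_one] using b1.map (MulAut.conj (j n))

theorem RA.sb_yo (h : RA j t O ε ρ g) (r s : ℕ) (p : Sh r ∧ Sh s ∧ ip r s = 8 := by decide +kernel)
    (b c : F) (z : G) : g r b * (g s c * z) = g s c * (g r b * z) :=
  sb_r0 (h.c90 p.1 p.2.1 p.2.2 b c) z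

theorem RA.sb_b2 (h : RA j t O 1 ρ g) : ∃ μ, j (xx 41 1) * g 29 1 * j (xx 41 1) = g 29 1 * g 44 1 * j (xx 47 μ) := by
  have s := h.toSy
  have R := And.intro (And.intro (s.sb_ty 44) (And.intro (s.sb_ty 29) (h.sb_yo 44 29))) <|
    And.intro (And.intro (s.sb_yx 29 29) (s.sb_xo 29 44 47)) <|
    And.intro (And.intro (s.sb_xo 44 29 47) (s.sb_yx 44 44)) <|
    And.intro (And.intro (s.sb_yx 44 41) (s.sb_yx 44 47)) <|
    And.intro (And.intro (s.sb_yx 29 47) fun c => s.toFo.sb_xt (xx 29 c)) <|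
    And.intro (And.intro (fun c => s.toFo.sb_xt (xx 44 c)) (fun c => s.toFo.sb_xt (xx 47 c))) <|
    And.intro (fun c z => (s.toFo.sb_xt (xx 41 c) z).symm) <|
    And.intro (And.intro (sb_x4 j 29 41 44 47) (sb_xc j 44 41)) <|
    And.intro (And.intro (sb_xc j 47 41) (sb_xc j 44 29)) <|
    And.intro (And.intro (sb_xc j 47 29) (sb_xc j 47 44)) <|
    And.intro (And.intro (sb_xa j 29) (sb_xa j 41)) <|
    And.intro (And.intro (sb_xa j 44) (sb_xa j 47)) <|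
    And.intro (And.intro (s.sb_ys 29) (s.sb_ys 44)) (And.intro (sb_x0 j) (sb_sq h.tt))
  have c0 : Commute (g 44 1 * (g 29 1 * (j (xx 41 1) * (g 29 1 * j (xx 41 1))))) t := sb_cm (by
    simp only [mul_assoc, R, CharTwo.add_self_eq_zero, one_mul, mul_one (M := F), zero_add, add_zero])
  have c1 : Commute (g 44 1 * (g 29 1 * (j (xx 41 1) * (g 29 1 * j (xx 41 1))))) (j (xx 29 1)) := sb_cm (by
    simp only [mul_assoc, R, CharTwo.add_self_eq_zero, one_mul, mul_one (M := F), zero_add, add_zero])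
  obtain ⟨α, hα, hp⟩ := s.toFo.sb_pin c0 (S := {17, 22, 25, 30, 42, 43, 44, 45, 46, 47}) fun u hu c => by
    by_cases h1 : u = 44
    · subst h1
      exact sb_cm (by simp only [mul_assoc, R, CharTwo.add_self_eq_zero, one_mul, mul_one (M := F)])
    have : ∀ u ∈ [17, 22, 25, 30, 42, 43, 44, 45, 46, 47], u ≠ 44 → u < 48 ∧ Mo 29 u ∧ Mo 44 u ∧
      u ≠ 47 - 41 ∧ ¬ Nz 41 u := by decide +kernel
    obtain ⟨k1, k2, k3, k4⟩ := this u (by simpa using hu) h1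
    have ca := s.cm (r := 29) (by decide +kernel) k1 k2 1 c
    have cb := (xx_comm (r := 41) (by omega) k1 k4 1 c).map j
    exact (s.cm (r := 44) (by decide +kernel) k1 k3 1 c).mul_left
      (ca.mul_left (cb.mul_left (ca.mul_left cb)))
  obtain ⟨u, v, w, y, hl⟩ := rigU hα
  obtain ⟨o, ho, hκ⟩ := hp _ hl
  have R' := And.intro (And.intro (s.sb_oy ho 29) (s.sb_oy ho 44))
    (And.intro (s.toFo.sb_ox ho) (s.toFo.sb_ot ho))
  rw [map_mul, map_mul, map_mul] at hκ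
  have hv : v = 0 := by
    rcases hκ with hκ | hκ <;> rw [hκ] at c1 <;> have k1 := congrArg (· * 1) c1.eq <;>
      simp only [mul_assoc, R, R', mul_right_inj, add_comm u 1] at k1
    all_goals linear_combination (s.toFo.sb_i2 k1).1 - sb_two (v * u + w)
  subst hv
  have P : ∀ {k : G}, g 44 1 * (g 29 1 * (j (xx 41 1) * (g 29 1 * j (xx 41 1)))) = k → ∀ z,
      j (xx 41 1) * (g 29 1 * z) = g 29 1 * (g 44 1 * (k * (j (xx 41 1) * z))) := fun hk z => by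
    simp only [← hk, mul_assoc, s.sb_ys 44, s.sb_ys 29, sb_xq j 41]
  rcases hκ with hκ | hκ <;> have P := P hκ <;> have k1 := P (g 29 1 * 1) <;>
    have k2 := sb_xq j 41 (a := 1) (z := g 29 1 * 1) <;>
    simp only [mul_assoc, P, R, R', CharTwo.add_self_eq_zero, one_mul, mul_one (M := F),
      mul_right_inj] at k1 k2
  · obtain ⟨rfl, -, a1⟩ := s.toFo.sb_k2 ho k1.symm
    obtain ⟨-, a2, -⟩ := s.toFo.sb_k2 ho k2
    obtain rfl : u = 0 := by linear_combination a2 - sb_two w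
    obtain rfl : w = 0 := by linear_combination a1 - sb_two y
    refine ⟨y, ?_⟩
    simpa only [sb_x0, mul_assoc, one_mul, mul_one, sb_q j (r := 41) (by omega)] using P (j (xx 41 1))
  · generalize u + (w + _) = p, u * u + _ = q at k1
    have k3 := h.inj (((s.toFo.sb_kill ho (a := xx 29 (u + (1 + u)) * (xx 44 p * xx 47 q)) (by
      rw [k1]; simp only [map_mul, mul_assoc, mul_one])).2).trans (map_one j).symm)
    have k4 := relΓ.lead (r := 29) (by omega) (by omega) (rg_ok _ (u + (1 + u))) (by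
      rw [eq_inv_of_mul_eq_one_left k3]
      exact inv_mem (mul_mem (mem_SK (by omega) (by omega) (rg_ok _ _))
        (mem_SK (by omega) (by omega) (rg_ok _ _))))
    exact absurd (by linear_combination k4 - sb_two u) (one_ne_zero (α := F))

theorem RA.sb_b3 (h : RA j t O 1 ρ g) : ∃ μ, ∀ a l k m, B4 a l k m → ∀ b c,
    j (xx l c) * g a b * j (xx l c) = g a b * g k (b * c) * j (xx m (μ * (c * b ^ 2))) := by
  have s := h.toSy
  obtain ⟨μ, e0⟩ := h.sb_b2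
  refine ⟨μ, fun a l k m e b c => ?_⟩
  have b1 : j (xx l 1) * g a 1 * j (xx l 1) = g a 1 * g k 1 * j (xx m μ) := by
    refine sb_i4 (Q := fun a l k m => j (xx l 1) * g a 1 * j (xx l 1) = g a 1 * g k 1 * j (xx m μ))
      (fun i hi a l k m q q' p => ?_) e0 e
    obtain ⟨δ, hδ, hn⟩ := s.sb_ny hi
    have hd : δ * δ = δ := by rcases hδ with rfl | rfl <;> simp
    have k1 := congrArg (fun x => MulAut.conj (j (nY xx (sm i))) x * t) p
    simp only [map_mul, hn a q.1, hn k q.sb.1.1, sb_nx j hi q.2.1, sb_nx j hi q.sb.1.sb.2.1] at k1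
    generalize sr i a = a, sr i l = l, sr i k = k, sr i m = m at k1 q' ⊢
    obtain ⟨o1, -, -, m0, n0⟩ := q'.sb
    obtain ⟨-, hm, m1, m2, -⟩ := o1.sb
    simp only [mul_assoc, sb_x4 j a l k m q', s.sb_xo k a m o1, sb_xm j o1.1.1 hm m1, one_mul, mul_one,
      hd] at k1
    apply mul_right_cancel (b := j (xx a δ) * (j (xx m δ) * (j (xx k δ) * t)))
    rw [mul_assoc, mul_assoc, k1]
    simp only [mul_assoc, sb_xm j o1.2.1.1 hm m2, sb_xa j m hm, add_comm μ]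
  have hk := e.sb.1.1
  have hm := e.sb.1.sb.2.1
  refine sb_sc (r := a) (s := l) ⟨e.1.1, e.2.1, e.sb.2.1, e.sb.2.2.1⟩ (P := fun b c =>
    j (xx l c) * g a b * j (xx l c) = g a b * g k (b * c) * j (xx m (μ * (c * b ^ 2)))) (fun c => ?_) (fun b => ?_)
    (fun n χ hn => ?_) b c
  · simp [s.zero e.1, s.zero hk, sb_x0, sb_q j e.2.1]
  · simp [s.zero hk, sb_x0]
  · have k1 := congrArg (MulAut.conj (j n)) b1
    simp only [map_mul, sb_tx j hn e.2.1, sb_tx j hn hm, s.sb_tg hn e.1, s.sb_tg hn hk, mul_one] at k1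
    have a1 := hn.mul l e.2.1 a e.1.1 (e.2.2.2.2.1 ▸ hk.1)
    have a2 := hn.mul k hk.1 a e.1.1 (e.2.2.2.2.2 ▸ hm)
    rw [e.2.2.2.2.1] at a1
    rw [e.2.2.2.2.2] at a2
    rw [k1, a2, a1, mul_comm (χ a) (χ l), show χ l * χ a * χ a * μ = μ * (χ l * χ a ^ 2) by ring]


/-- `x₄₁(c) y₂₉(b) x₄₁(c) = y₂₉(b) y₄₄(b c) κ` (same action on `t`), `κ = x₂₉(u) x₄₁(v) x₄₄(w) x₄₇(z) o tⁱ` (`rigU`).
`κ` commutes with `x₂₉(1)`: `v = 0`.  The left side is an involution: `i = 0`, `o = 1`, `w = c u`.  Apply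
`x₄₁(c)` twice: `u = 0`.  Scaling: `z = μ c b²`; transport: `μ` is the same for all pairs.  Conjugate
`y₂₉(1) y₃₃(1) y₂₉(1) = y₃₃ y₃₆ x₃₆(ρ)` by `x₃₀(1)` (`33 + 30 = 37`, `2·33 + 30 = 41`, `36 + 30 = 40`, `29 + 37 = 40`,
`36 + 37 = 44`, `29 + 41 = 44`) and compare the parameters of `y₄₄` (`eq_zero`): `μ = 1 + ρ`. -/
theorem RA.x135 (h : RA j t O 1 ρ g) {a l : ℕ} (ha : Sh a) (hl : l < 48) (h1 : lg l = true)
    (p : ip l a = 4) (b c : F) : j (xx l c) * g a b * j (xx l c) =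
      g a b * g (ad l a) (b * c) * j (xx (ad (ad l a) a) ((1 + ρ) * (c * b ^ 2))) := by
  have s := h.toSy
  obtain ⟨μ, H⟩ := h.sb_b3
  suffices μ = 1 + ρ by rw [← this]; exact H a l _ _ ⟨ha, hl, h1, p, rfl, rfl⟩ b c
  have P : ∀ a l k m, B4 a l k m → ∀ b c z, j (xx l c) * (g a b * z) =
      g a b * (g k (b * c) * (j (xx m (μ * (c * b ^ 2))) * (j (xx l c) * z))) := fun a l k m e b c z => by
    rw [sb_r1 (sb_q j e.2.1 c) (H a l k m e b c), mul_assoc, mul_assoc]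
  have k := (s.sb_yx 29 30 (b := 1) (c := 1) (z := g 33 1 * 1)).symm
  simp only [P 33 30 37 41 (by decide +kernel), P 36 30 40 47 (by decide +kernel),
    P 29 41 44 47 (by decide +kernel), h.sb_y6 33 29 36, h.sb_y6 37 29 40, h.sb_y6 37 36 44,
    s.sb_yc 29 36, s.sb_yc 29 40, h.sb_yo 44 29, s.sb_yc 44 36, s.sb_yc 44 40, h.sb_yo 40 36,
    s.sb_x6 37 36 44, s.sb_yx 29 36, s.sb_xo 40 36 47, s.sb_yx 44 36, s.sb_yx 36 36, s.sb_yx 29 40,
    s.sb_yx 44 40, s.sb_yx 40 40, s.sb_xo 36 40 47, s.sb_xo 29 44 47, s.sb_yx 36 44, s.sb_yx 40 44,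
    s.sb_yx 44 44, s.sb_yx 36 41, s.sb_yx 40 41, s.sb_yx 44 41, s.sb_yx 29 47, s.sb_yx 36 47,
    s.sb_yx 40 47, s.sb_yx 44 47, s.sb_yx 40 30, s.sb_yx 29 30, s.sb_yx 44 30, s.sb_ya 44,
    mul_right_inj, mul_one (M := F), one_mul, one_pow] at k
  simp only [mul_one, ← map_mul] at k
  have k2 := congrArg (g 44 μ * ·) k
  simp only [s.sb_ya 44, sb_two, s.zero (r := 44) (by decide +kernel), one_mul] at k2
  rw [← eq_mul_inv_iff_mul_eq, ← map_inv, ← map_mul] at k2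
  linear_combination s.eq_zero (r := 44) (by decide +kernel) (k2 ▸ h.tj _) - sb_two (1 + ρ)

end Cfsg.Agent.F4Q
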