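import Mathlib
import Cfsg.Agent.F4Q.SyB

/-! Both root lengths are doubled (blueprint `F42S/RelC`).  Methods as in `SyB`.  `j' = j ∘ γ`,
`j' (xx r a) = j (xx (gm r) a)` (`r` long), `= j (xx (gm r) (a²))` (`r` short); `y_r = g r` for short `r`, and
`ŷ_l(c²) = g' (gm l) c` for long `l` translates `t` by `x_l(c²)`.  DUALITY: a lemma on `(j, g, g')` applies to
`(j ∘ γ, g', fun r b => g r (b²))` (`RA.frob`; squaring is bijective).  Transport: `n'_i = j' (nY xx (sm i)) =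
j (nY xx (sm (3 - i)))` (`tab_gm`, `tab_sm`). -/

set_option autoImplicit false
set_option linter.unusedSectionVars false

namespace Cfsg.Agent.F4Q

open Cfsg.Lie Cfsg.Agent.Chev Subgroup Cfsg.Agent.PLocal.Amb
open Cfsg.Agent.F42S (lg ip ad gm sm sr Mo aw)
open Cfsg.Agent.FinS (Rt Rg Uf)
open scoped commutatorElement


universe u
variable {F : Type u} [Field F] [Finite F] [CharP F 2] {G : Type*} [Group G] [Finite G]
  {j : Γ F →* G} {t : G} {O : Subgroup G} {γ : Γ F ≃* Γ F} {g g' : ℕ → F → G}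

set_option synthInstance.maxSize 4000 in
theorem da_t1 : ∀ r < 48, ∀ s < 48, ad r s < 48 →
    (lg s = lg r ∧ lg (ad r s) = lg r ∧ ad (gm r) (gm s) = gm (ad r s)) ∨
    (lg r = false ∧ lg s = false ∧ lg (ad r s) = true ∧ ∃ d < 48, ad (gm (ad r s)) d = gm r ∧
      ad (gm (ad r s)) (47 - d) = gm s) ∨
    (lg r = true ∧ lg s = false ∧ lg (ad r s) = false ∧ ad (gm r) (gm s) < 48 ∧
      ad (ad (gm r) (gm s)) (gm r) = gm (ad r s)) ∨
    (lg r = false ∧ lg s = true ∧ lg (ad r s) = false ∧ ad (gm r) (gm s) < 48 ∧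
      ad (ad (gm r) (gm s)) (gm s) = gm (ad r s)) := by decide +kernel

set_option synthInstance.maxSize 4000 in
theorem da_t2 : ∀ r < 48, 8 < ip r r ∧ ∀ s < 48, ip s r = ip r s ∧ (Mo (gm r) (gm s) ↔ Mo r s) ∧
    (8 ≤ ip r s → 8 ≤ ip (gm r) (gm s) ∧ s ≠ 47 - r ∧ ¬ Nz r s ∧
      (Mo r s ∨ lg s = lg r ∧ ip r s = 8 ∧ ip (gm r) (gm s) = 8)) ∧
    (8 < ip r s ∨ (ip r s = 8 ∧ lg r = lg s) →
      (8 < ip (gm r) (gm s) ∨ (ip (gm r) (gm s) = 8 ∧ lg (gm r) = lg (gm s))) ∧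
      (s = r ∨ (lg r ≠ lg s ∧ ip r s = 12) ∨
        (lg r = false ∧ lg s = false ∧ (ip r s = 10 ∨ ip r s = 8)) ∨
        (lg r = true ∧ lg s = true ∧ (ip (gm r) (gm s) = 10 ∨ ip (gm r) (gm s) = 8)))) := by
  decide +kernel

set_option synthInstance.maxSize 4000 in
theorem da_t3 : ∀ r < 48, ∀ s < 48, (lg r = true → lg s = true → ip r s = 4 →
    S3 (gm r) (gm s) (gm (ad r s)) ∧ ad r s < 48 ∧ lg (ad r s) = true ∧ ad s r = ad r s ∧
      ip (ad r s) r = 12 ∧ ip (ad r s) s = 12) ∧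
    (lg r = false → lg s = false → ip r s = 6 →
      ip (gm r) (gm s) = 4 ∧ ad (gm r) (gm s) = gm (ad r s)) := by decide +kernel

set_option synthInstance.maxSize 4000 in
theorem da_t4 : ∀ a < 48, ∀ l < 48, lg a = false → lg l = true → ip a l = 12 →
    Mo a l ∧ Mo l a ∧ Mo a a ∧ Mo l l ∧ ip (gm l) (gm a) = 12 ∧ a ≠ l ∧ a ≠ 47 - l ∧
      ∃ r < 48, ∃ s < 48, S3 r s a ∧ ip r l = 12 ∧ Mo l s := by decide +kernel

/-- square roots -/
noncomputable def daR (b : F) : F := (frobeniusEquiv F 2).symm b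

theorem daR_sq (b : F) : daR b ^ 2 = b := frobenius_apply_frobeniusEquiv_symm F 2 b
theorem daR_add (a b : F) : daR (a + b) = daR a + daR b := map_add _ a b
theorem daR_mul (a b : F) : daR (a * b) = daR a * daR b := map_mul _ a b
theorem daR_of (b : F) : daR (b ^ 2) = b := frobeniusEquiv_symm_apply_frobenius F 2 b

theorem da_gm {r : ℕ} (hr : r < 48) : gm r < 48 := (F42S.tab_gm r hr).1
theorem da_gg {r : ℕ} (hr : r < 48) : gm (gm r) = r := (F42S.tab_gm r hr).2.1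
theorem da_sh {r : ℕ} (hr : r < 48) (h : lg r = true) : Sh (gm r) :=
  ⟨da_gm hr, by rw [(F42S.tab_gm r hr).2.2.1, h]; rfl⟩
theorem da_lg {r : ℕ} (hr : Sh r) : lg (gm r) = true := by rw [(F42S.tab_gm r hr.1).2.2.1, hr.2]; rfl

theorem Gam.jl (hγ : Gam γ) {r : ℕ} (hr : r < 48) (h : lg r = true) (a : F) :
    (j.comp γ.toMonoidHom) (xx r a) = j (xx (gm r) a) := by
  have := hγ r hr a
  rw [if_pos h] at this
  exact congrArg j this

theorem Gam.js (hγ : Gam γ) {r : ℕ} (hr : Sh r) (a : F) :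
    (j.comp γ.toMonoidHom) (xx r a) = j (xx (gm r) (a ^ 2)) := by
  have := hγ r hr.1 a
  rw [if_neg (by simp [hr.2])] at this
  exact congrArg j this

theorem Gam.jx (hγ : Gam γ) {r : ℕ} (hr : r < 48) (a : F) :
    ∃ b, (j.comp γ.toMonoidHom) (xx r a) = j (xx (gm r) b) := ⟨_, congrArg j (hγ r hr a)⟩

theorem Gam.jl' (hγ : Gam γ) {r : ℕ} (hr : r < 48) (h : lg r = true) (a : F) :
    (j.comp γ.toMonoidHom) (xx (gm r) a) = j (xx r (a ^ 2)) := by
  rw [hγ.js (da_sh hr h), da_gg hr]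

theorem Gam.jx' (hγ : Gam γ) {r : ℕ} (hr : r < 48) (a : F) :
    ∃ b, j (xx r a) = (j.comp γ.toMonoidHom) (xx (gm r) b) := by
  cases e : lg r
  · exact ⟨a, by rw [hγ.jl (da_gm hr) (da_lg ⟨hr, e⟩), da_gg hr]⟩
  · exact ⟨daR a, by rw [hγ.jl' hr e, daR_sq]⟩

/-- `γ` maps the torus onto the torus -/
theorem Gam.tor (hγ : Gam γ) {k : Γ F} {χ : ℕ → F} (h : Tor k χ) :
    Tor (γ k) fun r => if lg r = true then χ (gm r) ^ 2 else χ (gm r) := by
  refine ⟨fun r hr => ?_, fun r hr => ?_, fun r hr s hs e => ?_, fun r hr a => ?_⟩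
  · split_ifs
    exacts [pow_ne_zero _ (h.ne _ (da_gm hr)), h.ne _ (da_gm hr)]
  · simp only [(F42S.tab_gm r hr).2.2.2.1, (md_ip r hr).2.2, h.neg _ (da_gm hr)]
    split_ifs
    exacts [inv_pow _ _, rfl]
  · have hr' := da_gm hr
    have hs' := da_gm hs
    have hk := da_gm e
    rcases da_t1 r hr s hs e with ⟨e1, e2, e3⟩ | ⟨e1, e2, e3, d, hd, e4, e5⟩ | ⟨e1, e2, e3, e4, e5⟩ |
      ⟨e1, e2, e3, e4, e5⟩
    · simp only [e1, e2, ← e3, h.mul _ hr' _ hs' (e3 ▸ hk)]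
      split_ifs
      exacts [mul_pow _ _ _, rfl]
    · have m1 := h.mul _ hk d hd (e4 ▸ hr')
      have m2 := h.mul _ hk (47 - d) (by omega) (e5 ▸ hs')
      rw [e4] at m1
      rw [e5, h.neg d hd] at m2
      have := h.ne d hd
      simp only [e1, e2, e3, m1, m2, if_true, Bool.false_eq_true, if_false]
      field_simp
    · simp only [e1, e2, e3, ← e5, h.mul _ e4 _ hr' (e5 ▸ hk), h.mul _ hr' _ hs' e4, if_true,
        Bool.false_eq_true, if_false]
      ring
    · simp only [e1, e2, e3, ← e5, h.mul _ e4 _ hs' (e5 ▸ hk), h.mul _ hr' _ hs' e4, if_true,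
        Bool.false_eq_true, if_false]
      ring
  · have key : ∀ b, γ k * γ (xx (gm r) b) * (γ k)⁻¹ = γ (xx (gm r) (χ (gm r) * b)) := fun b => by
      rw [← h.conj _ (da_gm hr), map_mul, map_mul, map_inv]
    have q := hγ _ (da_gm hr)
    rw [da_gg hr, (F42S.tab_gm r hr).2.2.1] at q
    cases e : lg r
    · have := key a
      simpa [q, e] using this
    · have := key (daR a)
      simpa [q, e, mul_pow, daR_sq] using this
theorem Gam.tor' (hγ : Gam γ) {k : Γ F} {χ : ℕ → F} (h : Tor k χ) : ∃ χ', Tor (γ.symm k) χ' ∧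
    ∀ r < 48, χ (gm r) = if lg r = true then χ' r else χ' r ^ 2 := by
  have h0 : Tor (γ.symm (γ.symm k)) fun r => daR (χ r) := by
    refine ⟨fun r hr e => h.ne r hr (by rw [← daR_sq (χ r), e, zero_pow two_ne_zero]),
      fun r hr => ?_, fun r hr s hs e => by rw [h.mul r hr s hs e, daR_mul], fun r hr a => ?_⟩
    · rw [h.neg r hr]
      exact map_inv₀ _ _
    · apply γ.injective
      apply γ.injective
      simp only [map_mul, map_inv, MulEquiv.apply_symm_apply, hγ.sq hr, h.conj r hr, mul_pow, daR_sq]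
  have h1 := hγ.tor h0
  rw [MulEquiv.apply_symm_apply] at h1
  refine ⟨_, h1, fun r _ => ?_⟩
  split_ifs <;> rw [daR_sq]
theorem Gam.nY (hγ : Gam γ) {i : ℕ} (hi : i < 4) : γ (nY xx (sm i)) = nY xx (sm (3 - i)) := by
  obtain ⟨a, b, -⟩ := F42S.tab_sm i hi
  simp only [F4Q.nY, map_mul, hγ _ a, hγ (47 - sm i) (by omega), one_pow, ite_self, b,
    (F42S.tab_gm _ a).2.2.2.1]

theorem da_xx {r s : ℕ} (hr : r < 48) (hs : s < 48) (p : 8 ≤ ip r s) (a b : F) :
    Commute (j (xx r a)) (j (xx s b)) :=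
  (xx_comm hr hs ⟨(((da_t2 r hr).2 s hs).2.2.1 p).2.1, (((da_t2 r hr).2 s hs).2.2.1 p).2.2.1⟩ a b).map j

theorem Sy.da_cm {ε' : F} (hγ : Gam γ) (h' : Sy (j.comp γ.toMonoidHom) t O ε' g') {l s : ℕ} (hl : l < 48)
    (h1 : lg l = true) (hs : s < 48) (m : Mo l s) (c d : F) : Commute (g' (gm l) c) (j (xx s d)) := by
  obtain ⟨b, e⟩ := hγ.jx' (j := j) hs d
  rw [e]
  exact h'.cm (da_sh hl h1) (da_gm hs) (((da_t2 l hl).2 s hs).2.1.2 m) c b

theorem Sy.da_ct {ε' : F} (hγ : Gam γ) (h' : Sy (j.comp γ.toMonoidHom) t O ε' g') {l : ℕ} (hl : l < 48)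
    (h1 : lg l = true) (c : F) : g' (gm l) c * t * g' (gm l) c = t * j (xx l (c ^ 2)) := by
  rw [h'.ct (da_sh hl h1), hγ.jl' hl h1]

theorem Sy.da_P {ε ε' : F} (hγ : Gam γ) (h : Sy j t O ε g) (h' : Sy (j.comp γ.toMonoidHom) t O ε' g')
    {a l : ℕ} (ha : Sh a) (hl : l < 48) (h1 : lg l = true) (p : ip a l = 12) (b c : F) :
    ∃ u v, g a b * g' (gm l) c * (g a b * g' (gm l) c) = j (xx a u) * j (xx l v) := by
  obtain ⟨m1, m2, m3, m4, -⟩ := da_t4 a ha.1 l hl ha.2 h1 p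
  have y2 := h.sq ha b
  have z2 := h'.sq (da_sh hl h1) c
  have yt := h.ct ha b
  have zt := h'.da_ct hγ hl h1 c
  have ya := fun u => h.cm ha ha.1 m3 b u
  have yl := fun u => h.cm ha hl m1 b u
  have za := fun u => h'.da_cm hγ hl h1 ha.1 m2 c u
  have zl := fun u => h'.da_cm hγ hl h1 hl m4 c u
  have yO := (h.zh a ha b).cO
  have yM := fun s hs m d => h.cm (s := s) ha hs m b d
  have zM := fun s hs m d => h'.da_cm (s := s) hγ hl h1 hs m c d
  have y0 : j (xx a b) = 1 → g a b = 1 := fun e => by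
    rw [relΓ.inj a ha.1 b (ok_refl _ _) (h.inj (e.trans (map_one j).symm)), h.zero ha]
  generalize g a b = y at *
  generalize g' (gm l) c = z at *
  have al := fun u v : F => zb_xx (j := j) ha.1 hl m1 u v
  have yi : y⁻¹ = y := inv_eq_of_mul_eq_one_right y2
  have zi : z⁻¹ = z := inv_eq_of_mul_eq_one_right z2
  have w1 : y * z * t * (y * z)⁻¹ = t * (j (xx a b) * j (xx l (c ^ 2))) := by
    calc _ = y * (z * t * z) * y := by rw [mul_inv_rev, yi, zi]; group
      _ = y * t * y * j (xx l (c ^ 2)) := by rw [zt, mul_assoc _ y, (yl _).eq]; group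
      _ = _ := by rw [yt, mul_assoc]
  have w2 : Commute (y * z) (j (xx a b) * j (xx l (c ^ 2))) :=
    ((ya _).mul_right (yl _)).mul_left ((za _).mul_right (zl _))
  have sq : ∀ u v : F, j (xx a u) * j (xx l v) * (j (xx a u) * j (xx l v)) = 1 := fun u v => by
    rw [(al u v).symm.mul_mul_mul_comm, zb_sq ha.1, zb_sq hl, mul_one]
  have kt : Commute (y * z * (y * z)) t := by
    refine mul_inv_eq_iff_eq_mul.1 ?_
    calc _ = y * z * (y * z * t * (y * z)⁻¹) * (y * z)⁻¹ := by group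
      _ = y * z * t * (y * z)⁻¹ * (j (xx a b) * j (xx l (c ^ 2))) := by
        conv_lhs => rw [w1, ← mul_assoc, mul_assoc _ _ (y * z)⁻¹, ← w2.inv_left.eq, ← mul_assoc]
      _ = t := by rw [w1, mul_assoc, sq, mul_one]
  obtain ⟨α, hα⟩ := h.toFr.hom kt
  have hf : Fx α {s | s < 48 ∧ Mo a s ∧ Mo l s} := fun s hs d => h.inj (by
    have c1 := (yM s hs.1 hs.2.1 d).mul_left (zM s hs.1 hs.2.2 d)
    rw [← hα, (c1.mul_left c1).eq, mul_inv_cancel_right])
  obtain ⟨u, v, hi⟩ := rig45 ha.1 hl ha.2 h1 p hf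
  obtain ⟨o, ho, e⟩ := h.toFo.pin kt hα hi
  rw [map_mul] at e
  have inv : y * (y * z * (y * z)) * y * (y * z * (y * z)) = 1 := by
    calc _ = (y * y) * z * y * z * (y * y) * z * y * z := by group
      _ = z * y * (z * z) * y * z := by rw [y2]; group
      _ = 1 := by rw [z2, mul_one, mul_assoc z y y, y2, mul_one, z2]
  have ym : Commute y (j (xx a u) * j (xx l v)) := (ya u).mul_right (yl v)
  have mo : Commute (j (xx a u) * j (xx l v)) o := ((h.Oj o ho _).mul_right (h.Oj o ho _)).symm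
  have mt : Commute (j (xx a u) * j (xx l v)) t := ((h.tj _).mul_right (h.tj _)).symm
  have ma : Commute (j (xx a u) * j (xx l v)) (j (xx a b)) :=
    (zb_xx ha.1 ha.1 m3 _ _).mul_left (al _ _).symm
  have s1 := sq u v
  suffices k : y * z * (y * z) = j (xx a u) * j (xx l v) ∨ y = 1 by
    rcases k with k | k
    · exact ⟨u, v, k⟩
    · exact ⟨0, 0, by rw [k, one_mul, z2, xx_zero, xx_zero, map_one, mul_one]⟩
  generalize j (xx a u) * j (xx l v) = m at *
  rcases e with e | e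
  · rw [e, (ym.mul_right (yO o ho)).eq, mul_assoc _ y y, y2, mul_one] at inv
    exact .inl (by rw [e, h.toFo.inv_eq ho s1 mo inv, mul_one])
  · have ot := h.Ot o ho
    have oa := h.Oj o ho (xx a b)
    have ta := h.tj (xx a b)
    have e1 : m * o * (t * j (xx a b)) * (m * o * t) = 1 := by
      rw [← yt, ← inv, e, ← mul_assoc (m * o), ← mul_assoc (m * o), ← (ym.mul_right (yO o ho)).eq]
      group
    have e2 : o * o * j (xx a b) = 1 := by
      have c1 : Commute (t * j (xx a b)) (m * o) :=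
        (mt.symm.mul_right ot).mul_left (ma.symm.mul_right oa.symm)
      calc _ = m * m * (o * o) * (t * t * j (xx a b)) := by rw [s1, h.tt]; group
        _ = m * o * (m * o) * (t * j (xx a b) * t) := by
          rw [← mo.symm.mul_mul_mul_comm, mul_assoc t _ t, ← ta.eq, mul_assoc t t]
        _ = m * o * (m * o * (t * j (xx a b))) * t := by group
        _ = _ := by rw [← c1.eq, ← e1]; group
    have e3 : o * o = 1 := by
      refine h.toFo.inv_eq (mul_mem ho ho) (zb_sq (j := j) ha.1 b) (oa.mul_left oa).symm ?_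
      rw [← (oa.mul_left oa).eq, e2, one_mul]
    rw [e3, one_mul] at e2
    exact .inr (y0 e2)

theorem RA.da_Q {ε ε' ρ : F} (hγ : Gam γ) (h : RA j t O ε ρ g)
    (h' : Sy (j.comp γ.toMonoidHom) t O ε' g') {a l : ℕ} (ha : Sh a) (hl : l < 48) (h1 : lg l = true)
    (p : ip a l = 12) (b c : F) :
    ∃ u, g a b * g' (gm l) c * (g a b * g' (gm l) c) = j (xx a u) := by
  obtain ⟨-, m2, -, m4, -, -, -, r, -, s, hs, e3, p', m5⟩ := da_t4 a ha.1 l hl ha.2 h1 p
  obtain ⟨hr, -, -, -, -, -, -, -, rr, ra, ar, -⟩ := e3.tab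
  obtain ⟨u, v, e⟩ := h.toSy.da_P hγ h' hr hl h1 p' b c
  have rl := (da_t4 r hr.1 l hl hr.2 h1 p').1
  have x1 := h.x120 r s a e3 b 1
  have x2 := h.toFo.xconj e3 u 1
  rw [mul_one] at x1 x2
  refine ⟨u, ?_⟩
  have z2 := h'.sq (da_sh hl h1) c
  have zs := h'.da_cm hγ hl h1 hs m5 c 1
  have za := h'.da_cm hγ hl h1 ha.1 m2 c (ε * b)
  have y2 := h.toSy.sq ha b
  have w2 := h.toSy.sq hr b
  have wr := h.toSy.cm hr hr.1 rr b u
  have wl := h.toSy.cm hr hl rl b v
  have yr := h.toSy.cm ha hr.1 ar b u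
  have s2 := zb_sq (j := j) hs 1
  have r2 := zb_sq (j := j) hr.1 u
  have l2 := zb_sq (j := j) hl v
  have rl' := zb_xx (j := j) hr.1 hl rl u v
  have ls := zb_xx (j := j) hl hs m5 v 1
  have ra' := zb_xx (j := j) hr.1 ha.1 ra u (ε * b)
  have aa : Commute (j (xx a u)) (j (xx a (ε * b))) := da_xx ha.1 ha.1 (da_t2 a ha.1).1.le _ _
  generalize g a b = y at *
  generalize g r b = w at *
  generalize g' (gm l) c = z at *
  generalize j (xx s 1) = S at *
  generalize j (xx r u) = R at *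
  generalize j (xx l v) = L at *
  generalize j (xx a (ε * b)) = A at *
  generalize j (xx a u) = B at *
  have e1 : z * w * z = w * (R * L) := by
    rw [← e]
    calc _ = w * w * z * w * z := by rw [w2, one_mul]
      _ = _ := by group
  have e2 : y * A = w * (S * w * S) := by rw [x1, ← mul_assoc, ← mul_assoc, w2, one_mul]
  have e3 : z * (y * A) * z = y * A * B := by
    calc _ = z * w * (z * z) * S * w * S * z := by rw [e2, z2]; group
      _ = z * w * z * (z * S) * w * (S * z) := by group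
      _ = z * w * z * (S * z) * w * (z * S) := by rw [zs.eq]
      _ = z * w * z * S * (z * w * z) * S := by group
      _ = w * R * (L * (S * w * R)) * L * S := by rw [e1]; group
      _ = w * R * S * w * R * (L * L) * S := by
        rw [((ls.mul_right wl.symm).mul_right rl'.symm).eq]; group
      _ = R * (w * (S * w * (S * S))) * R * S := by rw [l2, s2, wr.eq]; group
      _ = R * (w * (S * w * S)) * (S * R * S) := by group
      _ = R * (y * A) * R * B := by rw [← e2, x2]; group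
      _ = _ := by rw [(yr.symm.mul_right ra').eq, mul_assoc _ R R, r2, mul_one]
  have e4 : z * y * z * A = y * B * A := by
    rw [mul_assoc _ z A, za.eq, mul_assoc y B, aa.eq, ← mul_assoc y, ← e3]; group
  calc _ = y * (z * y * z) := by group
    _ = B := by rw [mul_right_cancel e4, ← mul_assoc, y2, one_mul]

/-- `k = (y₄₄(b) ŷ₄₇)²` centralizes `t` and the list of `rig45`: `k = x₄₄(u) x₄₇(v) o tⁱ`; `y₄₄` inverts `k`, so
`k ∈ X₄₄ X₄₇` (or `b = 0`); the same for all such pairs.  `y₄₄(b) x₄₄(ε b) = y₄₀(b) · x₃₃ y₄₀(b) x₃₃` (`x120`), `ŷ₄₇`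
commutes with `x₃₃` and `⁅ŷ₄₇, y₄₀⁆ ∈ X₄₀ X₄₇`: so `k ∈ X₄₄`.  Dually `k ∈ X₄₇`. -/
theorem RA.c45 {ε ε' ρ ρ' : F} (hγ : Gam γ) (h : RA j t O ε ρ g)
    (h' : RA (j.comp γ.toMonoidHom) t O ε' ρ' g') {a l : ℕ} (ha : Sh a) (hl : l < 48) (h1 : lg l = true)
    (p : ip a l = 12) (b c : F) : Commute (g a b) (g' (gm l) c) := by
  obtain ⟨-, -, -, -, p', n1, n2, -⟩ := da_t4 a ha.1 l hl ha.2 h1 p
  obtain ⟨u, e⟩ := h.da_Q hγ h'.toSy ha hl h1 p b c
  obtain ⟨v, e'⟩ := h'.da_Q hγ (h.toSy.frob hγ h.ee) (da_sh hl h1) (da_gm ha.1) (da_lg ha) p' c (daR b)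
  rw [da_gg ha.1, daR_sq, hγ.jl' hl h1] at e'
  have y2 := h.toSy.sq ha b
  have z2 := h'.toSy.sq (da_sh hl h1) c
  generalize g a b = y at *
  generalize g' (gm l) c = z at *
  have e1 : y * z * (y * z) * (z * y * (z * y)) = 1 := by
    calc _ = y * z * y * (z * z) * y * z * y := by group
      _ = y * z * (y * y) * z * y := by rw [z2]; group
      _ = 1 := by rw [y2, mul_one, mul_assoc y z z, z2, mul_one, y2]
  rw [e, e', ← zb_sq (j := j) hl (v ^ 2)] at e1
  rw [(h.toFo.ind ha.1 hl n1 n2 (mul_right_cancel e1)).1, xx_zero, map_one] at e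
  change y * z = z * y
  calc y * z = (y * z)⁻¹ := eq_inv_of_mul_eq_one_left e
    _ = z * y := by rw [mul_inv_rev, inv_eq_of_mul_eq_one_right y2, inv_eq_of_mul_eq_one_right z2]

/-- All parameters `1`.  `x135` in the dual frame: `x₂₉ ŷ₄₁ x₂₉ = ŷ₄₁ ŷ₄₇ x₄₄(μ)`, so `ŷ₄₁ x₂₉ ŷ₄₁ = x₂₉ ŷ₄₇ x₄₄(μ)`.
Conjugate `y₄₄ x₂₉ y₄₄ x₂₉ = x₄₇` by `ŷ₄₁` (`y₄₄` commutes with `ŷ₄₁, ŷ₄₇` by `c45`): `ŷ₄₁ x₄₇ ŷ₄₁ = x₄₇`; but
`or` in the dual frame gives `x₄₇ x₄₄`. -/
theorem RA.e11 {ρ ρ' : F} (hγ : Gam γ) (h : RA j t O 1 ρ g)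
    (h' : RA (j.comp γ.toMonoidHom) t O 1 ρ' g') : False := by
  have s44 : Sh 44 := by decide
  have s29 : Sh 29 := by decide
  have e1 := h'.x135 s29 (l := 41) (by omega) (by decide) (by decide) 1 1
  have e2 := h.toSy.or s44 s29 (by decide) 1 1
  have e3 := h'.toSy.or s29 s44 (by decide) 1 1
  have c1 : Commute (g 44 1) (g' 29 1) := h.c45 hγ h' s44 (l := 41) (by omega) (by decide) (by decide) 1 1
  have c2 : Commute (g 44 1) (g' 44 1) := h.c45 hγ h' s44 (l := 47) (by omega) (by decide) (by decide) 1 1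
  have c3 : Commute (g' 44 1) (j (xx 29 1)) :=
    h'.toSy.da_cm hγ (l := 47) (by omega) (by decide) (by omega) (by decide) 1 1
  change _ = _ * g' 44 _ * (j.comp γ.toMonoidHom) (xx 47 _) at e1
  change _ = _ * j (xx 47 _) at e2
  change _ = _ * (j.comp γ.toMonoidHom) (xx 47 _) at e3
  rw [hγ.jl (r := 41) (by omega) (by decide), hγ.jl (r := 47) (by omega) (by decide), mul_one] at e1
  rw [hγ.js s44, hγ.jl (r := 47) (by omega) (by decide), one_pow, mul_one, mul_one] at e3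
  rw [mul_one, mul_one] at e2
  change j (xx 29 1) * _ * j (xx 29 1) = _ * j (xx 44 _) at e1
  change _ * j (xx 47 1) * _ = j (xx 47 1) * j (xx 44 1) at e3
  generalize (1 + ρ') * (1 * 1 ^ 2) = μ at e1
  have c4 : Commute (g' 44 1) (j (xx 44 μ)) :=
    h'.toSy.da_cm hγ (l := 47) (by omega) (by decide) (by omega) (by decide) 1 μ
  have c5 := h.toSy.cm s44 (s := 44) (by omega) (by decide) 1 μ
  have c6 : Commute (j (xx 44 μ)) (j (xx 29 1)) := da_xx (by omega) (by omega) (by decide) _ _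
  have q1 := h'.toSy.sq s29 1
  have q2 := h'.toSy.sq s44 1
  have q3 := zb_sq (j := j) (r := 44) (by omega) μ
  have q4 := zb_sq (j := j) (r := 29) (by omega) (1 : F)
  have n : j (xx 44 1) ≠ 1 := fun e =>
    one_ne_zero (relΓ.inj 44 (by omega) (1 : F) (ok_refl _ _) (h.inj (e.trans (map_one j).symm)))
  generalize g 44 1 = y at *
  generalize g' 29 1 = z at *
  generalize g' 44 1 = w at *
  generalize j (xx 44 μ) = m at *
  generalize j (xx 29 1) = x at *
  generalize j (xx 47 1) = v at *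
  have a1 : z * x * z = w * m * x := by
    calc _ = z * (x * z * x) * x := by rw [mul_assoc, mul_assoc, mul_assoc, mul_assoc x, q4, mul_one]
      _ = z * z * (w * m) * x := by rw [e1]; group
      _ = _ := by rw [q1, one_mul]
  have a2 : v = x * y * x * y := by
    rw [mul_assoc, mul_assoc, ← mul_assoc y, e2, ← mul_assoc, q4, one_mul]
  have a3 : w * m * (w * m) = 1 := by rw [c4.symm.mul_mul_mul_comm, q2, q3, mul_one]
  have a4 : Commute (w * m) (x * y) := (c3.mul_right c2.symm).mul_left (c6.mul_right c5.symm)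
  have a5 : z * v * z = v := by
    calc _ = z * x * (z * z) * y * x * (y * z) := by rw [a2, q1]; group
      _ = z * x * z * (z * y) * x * z * y := by rw [c1.eq]; group
      _ = z * x * z * y * (z * x * z) * y := by rw [← c1.eq]; group
      _ = w * m * (x * y * (w * m)) * x * y := by rw [a1]; group
      _ = w * m * (w * m) * (x * y * x * y) := by rw [← a4.eq]; group
      _ = v := by rw [a3, one_mul, a2]
  rw [a5, left_eq_mul] at e3
  exact n e3

/-- Both systems for `ε = ε' = 0`, as one family `g r b`, `r < 48`. -/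
structure Db (j : Γ F →* G) (t : G) (O : Subgroup G) (ρ ρ₁ : F) (g : ℕ → F → G) : Prop
    extends RA j t O 0 ρ g where
  add' : ∀ r < 48, ∀ a b, g r a * g r b = g r (a + b)
  ct' : ∀ r < 48, ∀ b, g r b * t * g r b = t * j (xx r b)
  cm' : ∀ r < 48, ∀ s < 48, 8 ≤ ip r s → ∀ b c, Commute (g r b) (j (xx s c))
  cO' : ∀ r < 48, ∀ b, ∀ o ∈ O, Commute o (g r b)
  tor' : ∀ k χ, Tor k χ → ∀ r < 48, ∀ b, j k * g r b * (j k)⁻¹ = g r (χ r * b)
  wn' : ∀ i < 4, ∀ r < 48, ∀ b, j (nY xx (sm i)) * g r b * (j (nY xx (sm i)))⁻¹ = g (sr i r) b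
  cc : ∀ r < 48, ∀ s < 48, 8 < ip r s ∨ (ip r s = 8 ∧ lg r = lg s) → ∀ b c, Commute (g r b) (g s c)
  xl : ∀ r < 48, ∀ s < 48, lg r = true → lg s = true → ip r s = 4 → ∀ b c,
    j (xx s c) * g r b * j (xx s c) = g r b * g (ad r s) (b * c)
  yl : ∀ r < 48, ∀ s < 48, lg r = true → lg s = true → ip r s = 4 → ∀ b c,
    g s c * g r b * g s c = g r b * g (ad r s) (b * c) * j (xx (ad r s) (ρ₁ * (b * c)))

theorem RA.da_congr {ε ρ : F} (h : RA j t O ε ρ g) {g₁ : ℕ → F → G} (e : ∀ r, Sh r → ∀ b, g₁ r b = g r b) :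
    RA j t O ε ρ g₁ := by
  refine ⟨⟨h.toFo, h.yd, fun r hr b => e r hr b ▸ h.zh r hr b, fun r hr a b => ?_, fun k χ hk r hr b => ?_,
    fun i hi r hr b => ?_⟩, h.ee, fun r s k e3 b c => ?_, fun r s k e3 b c => ?_⟩
  · simp only [e r hr, h.add r hr]
  · simp only [e r hr, h.tor k χ hk r hr]
  · have := F42S.tab_sr i hi r hr.1
    simp only [e r hr, e (sr i r) ⟨this.1, this.2.2.1.trans hr.2⟩, h.wn i hi r hr]
  · simp only [e r e3.tab.1, e k e3.tab.2.2.1, h.x120 r s k e3]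
  · simp only [e r e3.tab.1, e s e3.tab.2.1, e k e3.tab.2.2.1, h.y120 r s k e3]

theorem Sy.da_cm0 (h : Sy j t O 0 g) {r s : ℕ} (hr : Sh r) (hs : s < 48) (p : 8 ≤ ip r s) (b c : F) :
    Commute (g r b) (j (xx s c)) := by
  rcases (((da_t2 r hr.1).2 s hs).2.2.1 p).2.2.2 with m | ⟨e, p', -⟩
  · exact h.cm hr hs m b c
  · have := h.or hr ⟨hs, e.trans hr.2⟩ p' b c
    rw [zero_mul, zero_mul, xx_zero, map_one, mul_one] at this
    change _ = _
    calc _ = g r b * j (xx s c) * g r b * g r b := by rw [mul_assoc _ (g r b), h.sq hr, mul_one]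
      _ = _ := by rw [this]

theorem RA.da_cc {ε ρ : F} (h : RA j t O ε ρ g) {r s : ℕ} (hr : Sh r) (hs : Sh s)
    (p : s = r ∨ ip r s = 10 ∨ ip r s = 8) (b c : F) : Commute (g r b) (g s c) := by
  rcases p with rfl | p | p
  · change _ = _
    rw [h.add _ hr, h.add _ hr, add_comm]
  · exact h.toSy.c60 hr hs p b c
  · exact h.c90 hr hs p b c

/-- `G r b = g r b` for short `r`, `g' (gm r) (√b)` for long `r` -/
theorem RA.db {ρ ρ' : F} (hγ : Gam γ) (h : RA j t O 0 ρ g)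
    (h' : RA (j.comp γ.toMonoidHom) t O 0 ρ' g') : ∃ G', Db j t O ρ (ρ' ^ 2) G' := by
  obtain ⟨G', e1, e2⟩ : ∃ G' : ℕ → F → G, (∀ r, lg r = false → ∀ b, G' r b = g r b) ∧
      ∀ r, lg r = true → ∀ b, G' r b = g' (gm r) (daR b) :=
    ⟨fun r b => if lg r = true then g' (gm r) (daR b) else g r b, fun r e b => by simp [e],
      fun r e b => by simp [e]⟩
  refine ⟨G', h.da_congr fun r hr => e1 r hr.2, fun r hr a b => ?_, fun r hr b => ?_,
    fun r hr s hs p b c => ?_, fun r hr b o ho => ?_, fun k χ hk r hr b => ?_, fun i hi r hr b => ?_,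
    fun r hr s hs p b c => ?_, fun r hr s hs l1 l2 p b c => ?_, fun r hr s hs l1 l2 p b c => ?_⟩
  · cases e : lg r
    · simp only [e1 r e, h.add r ⟨hr, e⟩]
    · simp only [e2 r e, h'.add _ (da_sh hr e), daR_add]
  · cases e : lg r
    · rw [e1 r e, h.toSy.ct ⟨hr, e⟩]
    · rw [e2 r e, h'.toSy.da_ct hγ hr e, daR_sq]
  · cases e : lg r
    · rw [e1 r e]; exact h.toSy.da_cm0 ⟨hr, e⟩ hs p b c
    · obtain ⟨d, hd⟩ := hγ.jx' (j := j) hs c
      rw [e2 r e, hd]
      exact h'.toSy.da_cm0 (da_sh hr e) (da_gm hs) (((da_t2 r hr).2 s hs).2.2.1 p).1 _ _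
  · cases e : lg r
    · rw [e1 r e]; exact ((h.zh r ⟨hr, e⟩ b).cO o ho).symm
    · rw [e2 r e]; exact ((h'.zh _ (da_sh hr e) _).cO o ho).symm
  · cases e : lg r
    · simp only [e1 r e, h.tor k χ hk r ⟨hr, e⟩]
    · obtain ⟨χ', t1, t2⟩ := hγ.tor' hk
      have a1 := h'.tor _ _ t1 _ (da_sh hr e) (daR b)
      have a2 := t2 _ (da_gm hr)
      rw [da_gg hr, (da_sh hr e).2, if_neg (by simp)] at a2
      simp only [MonoidHom.comp_apply, MulEquiv.coe_toMonoidHom, MulEquiv.apply_symm_apply] at a1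
      rw [e2 r e, e2 r e, a1, a2, daR_mul, daR_of]
  · have q := F42S.tab_sr i hi r hr
    cases e : lg r
    · rw [e1 r e, e1 _ (q.2.2.1.trans e), h.wn i hi r ⟨hr, e⟩]
      simp [xx_zero]
    · have a1 := h'.wn (3 - i) (by omega) _ (da_sh hr e) (daR b)
      have a2 : (j.comp γ.toMonoidHom) (nY xx (sm (3 - i))) = j (nY xx (sm i)) := by
        have := hγ.nY (i := 3 - i) (by omega)
        rw [show 3 - (3 - i) = i by omega] at this
        exact congrArg j this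
      rw [a2, ← (F42S.tab_gm r hr).2.2.2.2.2 i hi] at a1
      rw [e2 r e, e2 _ (q.2.2.1.trans e), a1]
      simp [xx_zero]
  · have q := (da_t2 r hr).2 s hs
    rcases (q.2.2.2 p).2 with rfl | ⟨n, p'⟩ | ⟨l1, l2, p'⟩ | ⟨l1, l2, p'⟩
    · cases e : lg s
      · rw [e1 s e, e1 s e]; exact h.da_cc ⟨hr, e⟩ ⟨hr, e⟩ (.inl rfl) _ _
      · rw [e2 s e, e2 s e]; exact h'.da_cc (da_sh hr e) (da_sh hr e) (.inl rfl) _ _
    · cases e : lg r <;> cases e' : lg s
      · exact absurd (e.trans e'.symm) n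
      · rw [e1 r e, e2 s e']; exact h.c45 hγ h' ⟨hr, e⟩ hs e' p' _ _
      · rw [e2 r e, e1 s e']; exact (h.c45 hγ h' ⟨hs, e'⟩ hr e (q.1.trans p') _ _).symm
      · exact absurd (e.trans e'.symm) n
    · rw [e1 r l1, e1 s l2]; exact h.da_cc ⟨hr, l1⟩ ⟨hs, l2⟩ (.inr p') _ _
    · rw [e2 r l1, e2 s l2]; exact h'.da_cc (da_sh hr l1) (da_sh hs l2) (.inr p') _ _
  · obtain ⟨e3, hk, lk, -⟩ := (da_t3 r hr s hs).1 l1 l2 p
    have := h'.x120 _ _ _ e3 (daR b) (daR c)
    rw [hγ.jl' hs l2, daR_sq, zero_mul, xx_zero, map_one, mul_one] at this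
    rw [e2 r l1, e2 _ lk, daR_mul, this]
  · obtain ⟨e3, hk, lk, -⟩ := (da_t3 r hr s hs).1 l1 l2 p
    have := h'.y120 _ _ _ e3 (daR b) (daR c)
    rw [hγ.jl' hk lk, mul_pow, mul_pow, daR_sq, daR_sq] at this
    rw [e2 r l1, e2 s l2, e2 _ lk, daR_mul, this]

theorem Db.da_zero {ρ ρ₁ : F} (h : Db j t O ρ ρ₁ g) {r : ℕ} (hr : r < 48) : g r 0 = 1 := by
  have := h.add' r hr 0 0
  rwa [add_zero, mul_eq_left] at this

theorem Db.da_sq {ρ ρ₁ : F} (h : Db j t O ρ ρ₁ g) {r : ℕ} (hr : r < 48) (b : F) : g r b * g r b = 1 := by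
  rw [h.add' r hr, CharTwo.add_self_eq_zero, h.da_zero hr]

theorem Db.da_inv {ρ ρ₁ : F} (h : Db j t O ρ ρ₁ g) {r : ℕ} (hr : r < 48) (b : F) : (g r b)⁻¹ = g r b :=
  inv_eq_of_mul_eq_one_right (h.da_sq hr b)

/-- duality (`Yd` and `Zh` for the new short roots follow from the fields) -/
theorem Db.dual {ρ ρ₁ ρ' : F} (hγ : Gam γ) (h : Db j t O ρ ρ₁ g) (e : ρ' ^ 2 = ρ₁) :
    Db (j.comp γ.toMonoidHom) t O ρ' ρ fun r b => g (gm r) (if lg r = true then b else b ^ 2) := by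
  have jx : ∀ r < 48, ∀ b : F, (j.comp γ.toMonoidHom) (xx r b) =
      j (xx (gm r) (if lg r = true then b else b ^ 2)) := fun r hr b => congrArg j (hγ r hr b)
  have add : ∀ r < 48, ∀ a b : F, g (gm r) (if lg r = true then a else a ^ 2) *
      g (gm r) (if lg r = true then b else b ^ 2) =
      g (gm r) (if lg r = true then a + b else (a + b) ^ 2) := fun r hr a b => by
    rw [h.add' _ (da_gm hr)]
    split_ifs
    exacts [rfl, by rw [CharTwo.add_sq]]
  have cm : ∀ r < 48, ∀ s < 48, 8 ≤ ip r s → ∀ b c : F,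
      Commute (g (gm r) b) ((j.comp γ.toMonoidHom) (xx s c)) := fun r hr s hs p b c => by
    rw [jx s hs]
    exact h.cm' _ (da_gm hr) _ (da_gm hs) (((da_t2 r hr).2 s hs).2.2.1 p).1 _ _
  have mo : ∀ {r s}, Mo r s → 8 ≤ ip r s := fun m => m.elim le_of_lt fun q => q.1.ge
  have tor : ∀ k χ, Tor k χ → ∀ r < 48, ∀ b : F, (j.comp γ.toMonoidHom) k *
      g (gm r) (if lg r = true then b else b ^ 2) * ((j.comp γ.toMonoidHom) k)⁻¹ =
      g (gm r) (if lg r = true then χ r * b else (χ r * b) ^ 2) := fun k χ hk r hr b => by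
    have := h.tor' _ _ (hγ.tor hk) _ (da_gm hr) (if lg r = true then b else b ^ 2)
    rw [da_gg hr, (F42S.tab_gm r hr).2.2.1] at this
    refine this.trans ?_
    cases lg r <;> simp [mul_pow]
  have wn : ∀ i < 4, ∀ r < 48, ∀ b : F, (j.comp γ.toMonoidHom) (nY xx (sm i)) *
      g (gm r) (if lg r = true then b else b ^ 2) * ((j.comp γ.toMonoidHom) (nY xx (sm i)))⁻¹ =
      g (gm (sr i r)) (if lg (sr i r) = true then b else b ^ 2) := fun i hi r hr b => by
    have a2 : (j.comp γ.toMonoidHom) (nY xx (sm i)) = j (nY xx (sm (3 - i))) := congrArg j (hγ.nY hi)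
    rw [a2, h.wn' (3 - i) (by omega) _ (da_gm hr), (F42S.tab_gm r hr).2.2.2.2.2 i hi,
      (F42S.tab_sr i hi r hr).2.2.1]
  refine ⟨⟨⟨h.toFo.comp γ, fun a => ⟨g (gm 44) (a ^ 2), ?_, fun s hs m c => cm 44 (by omega) s hs (mo m) _ _,
    fun s hs _ p c => ?_⟩, fun r hr b => ⟨⟨⟨fun u hu m c => cm r hr.1 u hu (mo m) _ _, ?_⟩,
    fun o ho => (h.cO' _ (da_gm hr.1) _ o ho).symm⟩, h.da_sq (da_gm hr.1) _, fun e0 => ⟨0, ?_⟩⟩,
    fun r hr => add r hr.1, fun k χ hk r hr => tor k χ hk r hr.1, fun i hi r hr b => ?_⟩, mul_zero 0,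
    fun r s k e3 b c => ?_, fun r s k e3 b c => ?_⟩, add, fun r hr b => ?_,
    fun r hr s hs p b c => cm r hr s hs p _ _, fun r hr b => h.cO' _ (da_gm hr) _, tor, wn,
    fun r hr s hs p b c => h.cc _ (da_gm hr) _ (da_gm hs) (((da_t2 r hr).2 s hs).2.2.2 p).1 _ _,
    fun r hr s hs l1 l2 p b c => ?_, fun r hr s hs l1 l2 p b c => ?_⟩
  · rw [h.da_inv (by decide), h.ct' _ (by decide), hγ.js (by decide)]
  · rw [(cm 44 (by omega) s hs p.ge _ _).eq, mul_inv_cancel_right, zero_mul, zero_mul, xx_zero, map_one,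
      mul_one]
  · rw [h.da_inv (da_gm hr.1), h.ct' _ (da_gm hr.1), jx r hr.1]
  · simp [e0, xx_zero, h.da_zero (da_gm hr.1)]
  · rw [wn i hi r hr.1]
    simp [xx_zero]
  · obtain ⟨hr, hs, hk, -⟩ := e3.tab
    obtain ⟨p1, p2⟩ := (da_t3 r hr.1 s hs.1).2 hr.2 hs.2 e3.2.2.2.2.1
    have := h.xl _ (da_gm hr.1) _ (da_gm hs.1) (da_lg hr) (da_lg hs) p1 (b ^ 2) (c ^ 2)
    rw [p2, e3.2.2.2.2.2] at this
    simp only [hγ.js hs, hr.2, hk.2, Bool.false_eq_true, if_false, this, mul_pow, zero_mul, xx_zero,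
      map_one, mul_one]
  · obtain ⟨hr, hs, hk, -⟩ := e3.tab
    obtain ⟨p1, p2⟩ := (da_t3 r hr.1 s hs.1).2 hr.2 hs.2 e3.2.2.2.2.1
    have := h.yl _ (da_gm hr.1) _ (da_gm hs.1) (da_lg hr) (da_lg hs) p1 (b ^ 2) (c ^ 2)
    rw [p2, e3.2.2.2.2.2] at this
    simp only [hγ.js hk, hr.2, hs.2, hk.2, Bool.false_eq_true, if_false, this, mul_pow, e]
  · rw [h.ct' _ (da_gm hr), jx r hr]
  · obtain ⟨e3, hk, lk, -⟩ := (da_t3 r hr s hs).1 l1 l2 p
    have := h.x120 _ _ _ e3 b c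
    simp only [hγ.jl hs l2, l1, lk, if_true, this, zero_mul, xx_zero, map_one, mul_one]
  · obtain ⟨e3, hk, lk, -⟩ := (da_t3 r hr s hs).1 l1 l2 p
    have := h.y120 _ _ _ e3 b c
    simp only [hγ.jl hk lk, l1, l2, lk, if_true, this]

theorem da_xl {r s : ℕ} (hr : r < 48) (hs : s < 48) (l1 : lg r = true) (l2 : lg s = true) (p : ip r s = 4)
    (a c : F) : j (xx s c) * j (xx r a) * j (xx s c) = j (xx r a) * j (xx (ad r s) (a * c)) := by
  obtain ⟨-, hk, -, -, -, p2⟩ := (da_t3 r hr s hs).1 l1 l2 p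
  have := congrArg j (relΓ.cl r hr s hs l1 l2 p a c rfl rfl)
  simp only [map_mul] at this
  rw [this, mul_assoc, (da_xx hk hs (by omega) _ _).eq, mul_assoc, ← mul_assoc (j (xx s c)), zb_sq hs,
    one_mul]

/-- change of the long elements -/
theorem Db.shift {ρ ρ₁ : F} (h : Db j t O ρ ρ₁ g) (k : F) : Db j t O ρ (ρ₁ + k + k ^ 2)
    fun r b => if lg r = true then g r b * j (xx r (k * b)) else g r b := by
  obtain ⟨G', hG, e1⟩ : ∃ G' : ℕ → F → G,
      (G' = fun r b => if lg r = true then g r b * j (xx r (k * b)) else g r b) ∧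
      ∀ r b, G' r b = g r b * j (xx r ((if lg r = true then k else 0) * b)) :=
    ⟨_, rfl, fun r b => by cases lg r <;> simp [xx_zero]⟩
  rw [← hG]
  have e2 : ∀ r, lg r = true → ∀ b, G' r b = g r b * j (xx r (k * b)) := fun r e b => by
    rw [e1, if_pos e]
  have rr : ∀ r < 48, ∀ a b : F, Commute (g r a) (j (xx r b)) := fun r hr a b =>
    h.cm' r hr r hr (da_t2 r hr).1.le a b
  refine ⟨h.toRA.da_congr fun r hr b => by simp [e1, hr.2, xx_zero], fun r hr a b => ?_, fun r hr b => ?_,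
    fun r hr s hs p b c => ?_, fun r hr b o ho => ?_, fun k χ hk r hr b => ?_, fun i hi r hr b => ?_,
    fun r hr s hs p b c => ?_, fun r hr s hs l1 l2 p b c => ?_, fun r hr s hs l1 l2 p b c => ?_⟩
  · rw [e1, e1, e1, (rr r hr _ _).symm.mul_mul_mul_comm, h.add' r hr, zb_add hr, mul_add]
  · have c1 := rr r hr b ((if lg r = true then k else 0) * b)
    have c2 := h.tj (xx r ((if lg r = true then k else 0) * b))
    have c3 := zb_sq (j := j) hr ((if lg r = true then k else 0) * b)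
    rw [e1, ← h.ct' r hr]
    generalize j (xx r ((if lg r = true then k else 0) * b)) = x at *
    calc _ = g r b * (x * (t * g r b)) * x := by group
      _ = _ := by rw [← (c2.mul_left c1).eq, mul_assoc, mul_assoc, c3, mul_one, mul_assoc]
  · rw [e1]; exact (h.cm' r hr s hs p _ _).mul_left (da_xx hr hs p _ _)
  · rw [e1]; exact (h.cO' r hr b o ho).mul_right (h.Oj o ho _)
  · rw [e1, e1, ← conj_mul, h.tor' k χ hk r hr, sya_tor hk hr, mul_left_comm]
  · have a1 := congrArg j (xx_wn (F := F) hi hr ((if lg r = true then k else 0) * b))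
    rw [map_mul, map_mul, map_inv] at a1
    rw [e1, e1, ← conj_mul, h.wn' i hi r hr, a1, (F42S.tab_sr i hi r hr).2.2.1]
  · have p' : 8 ≤ ip r s := p.elim le_of_lt fun q => q.1.ge
    rw [e1, e1]
    exact ((h.cc r hr s hs p _ _).mul_right (h.cm' r hr s hs p' _ _)).mul_left
      ((h.cm' s hs r hr (((da_t2 r hr).2 s hs).1 ▸ p') _ _).symm.mul_right (da_xx hr hs p' _ _))
  · obtain ⟨-, hk, lk, -, p1, -⟩ := (da_t3 r hr s hs).1 l1 l2 p
    rw [e2 r l1, e2 _ lk, ← (h.cm' _ hk r hr (by omega) _ _).mul_mul_mul_comm, ← h.xl r hr s hs l1 l2 p,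
      ← mul_assoc k, ← da_xl hr hs l1 l2 p]
    calc _ = j (xx s c) * g r b * (j (xx s c) * j (xx s c)) * j (xx r (k * b)) * j (xx s c) := by
          rw [zb_sq hs]; group
      _ = _ := by group
  · obtain ⟨-, hk, lk, as, p1, p2⟩ := (da_t3 r hr s hs).1 l1 l2 p
    have q := ((da_t2 r hr).2 s hs).1
    have a1 := h.xl r hr s hs l1 l2 p b (k * c)
    have a2 := da_xl (j := j) hr hs l1 l2 p (k * b) (k * c)
    have a3 := h.yl r hr s hs l1 l2 p b c
    have a4 := h.xl s hs r hr l2 l1 (q.trans p) c (k * b)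
    rw [as, show c * (k * b) = b * (k * c) by ring] at a4
    have a5 : j (xx (ad r s) (k * (b * c))) * j (xx (ad r s) ((ρ₁ + k + k ^ 2) * (b * c))) =
        j (xx (ad r s) (ρ₁ * (b * c))) * j (xx (ad r s) (k * b * (k * c))) := by
      rw [zb_add hk, zb_add hk]
      congr 2
      linear_combination (k * (b * c)) * CharTwo.two_eq_zero (R := F)
    have c1 := rr s hs c (k * c)
    have c2 := h.cc s hs _ hk (.inl (by rw [← ((da_t2 s hs).2 _ hk).1]; omega)) c (b * (k * c))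
    have c3 := h.cm' s hs _ hk (by rw [← ((da_t2 s hs).2 _ hk).1]; omega) c (k * b * (k * c))
    have c4 := h.cm' _ hk r hr (by omega) (b * c) (k * b)
    have c5 : Commute (j (xx (ad r s) (ρ₁ * (b * c)))) (j (xx r (k * b))) := da_xx hk hr (by omega) _ _
    have q1 := zb_sq (j := j) hs (k * c)
    have q2 := zb_sq (j := j) hr (k * b)
    have q3 := h.da_sq hs c
    have q4 := h.da_sq hk (b * (k * c))
    rw [e2 r l1, e2 s l2, e2 _ lk, mul_assoc _ _ (j (xx (ad r s) ((ρ₁ + k + k ^ 2) * (b * c)))),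
      mul_assoc _ _ (j (xx (ad r s) ((ρ₁ + k + k ^ 2) * (b * c)))), a5]
    generalize g s c = y at *
    generalize g r b = w at *
    generalize g (ad r s) (b * c) = u at *
    generalize g (ad r s) (b * (k * c)) = v at *
    generalize j (xx s (k * c)) = S at *
    generalize j (xx r (k * b)) = R at *
    generalize j (xx (ad r s) (ρ₁ * (b * c))) = A at *
    generalize j (xx (ad r s) (k * b * (k * c))) = B at *
    have b1 : y * R * y = v * R := by
      calc _ = y * (R * y * R) * R := by rw [mul_assoc, mul_assoc, mul_assoc, mul_assoc R, q2, mul_one]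
        _ = _ := by rw [a4, ← mul_assoc, q3, one_mul]
    calc _ = y * (S * w * (S * S) * R) * (y * S) := by rw [q1]; group
      _ = y * (S * w * S * (S * R * S)) * y := by rw [c1.eq]; group
      _ = y * w * (y * y) * v * R * (B * y) := by rw [a1, a2, q3]; group
      _ = y * w * y * (y * v) * R * (y * B) := by rw [c3.eq]; group
      _ = y * w * y * v * (y * R * y) * B := by rw [c2.eq]; group
      _ = w * u * A * (v * v) * R * B := by rw [a3, b1]; group
      _ = w * (u * A * R) * B := by rw [q4]; group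
      _ = _ := by rw [(c4.mul_left c5).eq]; group

end Cfsg.Agent.F4Q
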