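import Mathlib
import Cfsg.Agent.F4Q.DbA

/-! The mixed relations when both root lengths are doubled.  `y = g` on short roots, `ŷ = g` on long roots.
Pairs: `l` long, `a` short, `ip l a = 4`, `m = ad l a = a + l`, `n = ad m a = 2a + l`; base `(41, 29)`, `m = 44`, `n = 47`. -/

set_option autoImplicit false

namespace Cfsg.Agent.F4Q

open Cfsg.Lie Cfsg.Agent.Chev Subgroup Cfsg.Agent.PLocal.Amb
open Cfsg.Agent.F42S (lg ip ad gm sm sr Mo aw)
open Cfsg.Agent.FinS (Rt Rg Uf)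
open scoped commutatorElement


universe u
variable {F : Type u} [Field F] [Finite F] [CharP F 2] {G : Type*} [Group G] [Finite G]
  {j : Γ F →* G} {t : G} {O : Subgroup G} {γ : Γ F ≃* Γ F} {g g' : ℕ → F → G} {ρ ρ₁ k k' : F}

def X1 (j : Γ F →* G) (g : ℕ → F → G) (k : F) : Prop :=
  ∀ l < 48, ∀ a < 48, lg l = true → lg a = false → ip l a = 4 → ∀ b c,
    j (xx l c) * g a b * j (xx l c) =
      g a b * g (ad l a) (c * b) * g (ad (ad l a) a) (c * b ^ 2) * j (xx (ad (ad l a) a) (k * (c * b ^ 2)))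

def X2 (j : Γ F →* G) (g : ℕ → F → G) (k' : F) : Prop :=
  ∀ l < 48, ∀ a < 48, lg l = true → lg a = false → ip l a = 4 → ∀ b c,
    j (xx a b) * g l c * j (xx a b) =
      g l c * g (ad l a) (c * b) * g (ad (ad l a) a) (c * b ^ 2) * j (xx (ad l a) (k' * (c * b)))

set_option synthInstance.maxSize 4000 in
theorem bb_t1 : ∀ a < 48, ∀ l < 48, B4 a l (ad l a) (ad (ad l a) a) →
    B4 (gm l) (gm a) (gm (ad (ad l a) a)) (gm (ad l a)) ∧ lg (ad (ad l a) a) = true ∧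
      8 < ip (ad l a) (ad (ad l a) a) ∧ 8 < ip l (ad l a) ∧ ip l (ad (ad l a) a) = 8 ∧
      8 < ip (ad (ad l a) a) (ad l a) ∧ 8 < ip (ad l a) l ∧ ip (ad (ad l a) a) l = 8 ∧
      8 < ip (ad (ad l a) a) (ad (ad l a) a) ∧ 8 < ip (ad l a) (ad l a) ∧ 8 < ip (ad (ad l a) a) a := by
  decide +kernel

theorem B4.bb {a l m n : ℕ} (e : B4 a l m n) : B4 (gm l) (gm a) (gm n) (gm m) ∧ lg n = true ∧
    8 < ip m n ∧ 8 < ip l m ∧ ip l n = 8 ∧ 8 < ip n m ∧ 8 < ip m l ∧ ip n l = 8 ∧ 8 < ip n n ∧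
    8 < ip m m ∧ 8 < ip n a := by
  obtain rfl := e.2.2.2.2.1
  obtain rfl := e.2.2.2.2.2
  exact bb_t1 a e.1.1 l e.2.1 e

set_option synthInstance.maxSize 4000 in
theorem bb_t2 : ∀ a < 48, ∀ l < 48, lg a = false → lg l = true → ip a l = 8 → ∃ a' < 48, ∃ l' < 48,
    B4 a' l' (ad l' a') l ∧ ip a a' = 8 ∧ ip a (ad l' a') = 8 ∧ 8 ≤ ip a l' := by decide +kernel

theorem bb_all {P : ℕ → ℕ → ℕ → ℕ → Prop} : (∀ l < 48, ∀ a < 48, lg l = true → lg a = false →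
    ip l a = 4 → P a l (ad l a) (ad (ad l a) a)) ↔ ∀ a l m n, B4 a l m n → P a l m n := by
  refine ⟨fun H a l m n e => ?_, fun H l hl a ha h1 h2 p => H _ _ _ _ ⟨⟨ha, h2⟩, hl, h1, p, rfl, rfl⟩⟩
  obtain ⟨h1, h2, h3, h4, rfl, rfl⟩ := e
  exact H l h2 a h1.1 h3 h1.2 h4

omit [Finite F] [CharP F 2] [Finite G] in
theorem bb_X1 : X1 j g k ↔ ∀ a l m n, B4 a l m n → ∀ b c, j (xx l c) * g a b * j (xx l c) =
    g a b * g m (c * b) * g n (c * b ^ 2) * j (xx n (k * (c * b ^ 2))) :=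
  bb_all (P := fun a l m n => ∀ b c, j (xx l c) * g a b * j (xx l c) =
    g a b * g m (c * b) * g n (c * b ^ 2) * j (xx n (k * (c * b ^ 2))))

omit [Finite F] [CharP F 2] [Finite G] in
theorem bb_X2 : X2 j g k' ↔ ∀ a l m n, B4 a l m n → ∀ b c, j (xx a b) * g l c * j (xx a b) =
    g l c * g m (c * b) * g n (c * b ^ 2) * j (xx m (k' * (c * b))) :=
  bb_all (P := fun a l m n => ∀ b c, j (xx a b) * g l c * j (xx a b) =
    g l c * g m (c * b) * g n (c * b ^ 2) * j (xx m (k' * (c * b))))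

omit [Finite G] in
theorem X1.bb (h1 : X1 j g k) (a l m n : ℕ) (e : B4 a l m n := by decide +kernel) (b c : F) (z : G) :
    j (xx l c) * (g a b * z) = g a b * (g m (c * b) * (g n (c * b ^ 2) *
      (j (xx n (k * (c * b ^ 2))) * (j (xx l c) * z)))) := by
  rw [sb_r1 (sb_q j e.2.1 c) (bb_X1.1 h1 a l m n e b c)]; simp only [mul_assoc]

omit [Finite G] in
theorem X2.bb (h2 : X2 j g k') (a l m n : ℕ) (e : B4 a l m n := by decide +kernel) (b c : F) (z : G) :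
    j (xx a b) * (g l c * z) = g l c * (g m (c * b) * (g n (c * b ^ 2) *
      (j (xx m (k' * (c * b))) * (j (xx a b) * z)))) := by
  rw [sb_r1 (sb_q j e.1.1 b) (bb_X2.1 h2 a l m n e b c)]; simp only [mul_assoc]

omit [Finite G] in
theorem bb_x4 (j : Γ F →* G) (a l m n : ℕ) (e : B4 a l m n := by decide +kernel) (b c : F) (z : G) :
    j (xx l c) * (j (xx a b) * z) =
      j (xx a b) * (j (xx m (c * b)) * (j (xx n (c * b ^ 2)) * (j (xx l c) * z))) := by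
  obtain ⟨h1, h2, h3, h4, rfl, rfl⟩ := e
  have := congrArg j (relΓ.cm' h2 h1.1 h3 h1.2 h4 (c := c) rfl b)
  simp only [map_mul] at this
  rw [sb_r1 (sb_q j h2 c) this, mul_assoc, mul_assoc, sq]; rfl

theorem Fo.bb_i0 (h : Fo j t O) (r s : ℕ) (p : r < 48 ∧ s < 48 ∧ r ≠ s ∧ r ≠ 47 - s := by decide)
    {a b : F} {z : G} (e : j (xx r a) * (j (xx s b) * z) = z) : a = 0 ∧ b = 0 :=
  h.ind p.1 p.2.1 p.2.2.1 p.2.2.2 (mul_right_cancel (b := j (xx s b) * z) (by rw [e, sb_xq j s p.2.1]))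

omit [Finite F] [CharP F 2] in
theorem bb_chi {n : Γ F} {χ : ℕ → F} (hn : Tor n χ) {a l m r : ℕ} (e : B4 a l m r) :
    χ m = χ l * χ a ∧ χ r = χ l * χ a ^ 2 := by
  have a1 := hn.mul l e.2.1 a e.1.1 (e.2.2.2.2.1 ▸ e.sb.1.1.1)
  have a2 := hn.mul m e.sb.1.1.1 a e.1.1 (e.2.2.2.2.2 ▸ e.sb.1.sb.2.1)
  rw [e.2.2.2.2.1] at a1
  rw [e.2.2.2.2.2] at a2
  exact ⟨a1, by rw [a2, a1]; ring⟩

namespace Db
variable (h : Db j t O ρ ρ₁ g)
include h

theorem bb_ty (r : ℕ) (hr : r < 48 := by omega) (b : F) (z : G) :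
    t * (g r b * z) = g r b * (t * (j (xx r b) * z)) := by
  rw [sb_r2 (h.da_sq hr b) (h.ct' r hr b), mul_assoc]

omit [Finite F] [CharP F 2] [Finite G] in
theorem bb_xy (r s : ℕ) (p : r < 48 ∧ s < 48 ∧ 8 ≤ ip r s := by decide +kernel) (b c : F) (z : G) :
    j (xx s c) * (g r b * z) = g r b * (j (xx s c) * z) :=
  sb_r0 (h.cm' r p.1 s p.2.1 p.2.2 b c).symm z

omit [Finite F] [CharP F 2] [Finite G] in
theorem bb_yy (r s : ℕ) (p : r < 48 ∧ s < 48 ∧ (8 < ip r s ∨ (ip r s = 8 ∧ lg r = lg s)) := by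
    decide +kernel) (b c : F) (z : G) : g r b * (g s c * z) = g s c * (g r b * z) :=
  sb_r0 (h.cc r p.1 s p.2.1 p.2.2 b c) z

omit [Finite F] [CharP F 2] [Finite G] in
theorem bb_ya (r : ℕ) (hr : r < 48 := by omega) (a b : F) (z : G) :
    g r a * (g r b * z) = g r (a + b) * z := by rw [← mul_assoc, h.add' r hr]

theorem bb_ys (r : ℕ) (hr : r < 48 := by omega) (b : F) (z : G) : g r b * (g r b * z) = z :=
  sb_sq (h.da_sq hr b) z

theorem bb_y0 (r : ℕ) (hr : r < 48 := by omega) : g r 0 = 1 := h.da_zero hr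

omit [Finite F] [CharP F 2] [Finite G] in
theorem bb_oy {o : G} (ho : o ∈ O) (r : ℕ) (hr : r < 48 := by omega) (b : F) (z : G) :
    o * (g r b * z) = g r b * (o * z) := sb_r0 (h.cO' r hr b o ho) z

omit [Finite F] [CharP F 2] [Finite G] in
theorem bb_ng {i r : ℕ} (hi : i < 4) (hr : r < 48) (b : F) :
    MulAut.conj (j (nY xx (sm i))) (g r b) = g (sr i r) b := h.wn' i hi r hr b

omit [Finite F] [CharP F 2] [Finite G] in
theorem bb_tg {n : Γ F} {χ : ℕ → F} (hn : Tor n χ) {r : ℕ} (hr : r < 48) (b : F) :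
    MulAut.conj (j n) (g r b) = g r (χ r * b) := h.tor' n χ hn r hr b

theorem bb_i3 {α α' p q p' q' : F} {z : G} (e : g 44 α * (j (xx 44 p) * (j (xx 47 q) * z)) =
    g 44 α' * (j (xx 44 p') * (j (xx 47 q') * z))) : α' + α = 0 ∧ p' + p = 0 ∧ q' + q = 0 := by
  have k := congrArg (g 44 α' * ·) e
  simp only [h.bb_ya 44, CharTwo.add_self_eq_zero, h.bb_y0 44, one_mul] at k
  have k1 : g 44 (α' + α) = j (xx 44 p' * xx 47 q' * (xx 44 p * xx 47 q)⁻¹) := by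
    rw [map_mul, map_inv, eq_mul_inv_iff_mul_eq, map_mul, map_mul]
    apply mul_right_cancel (b := z)
    simpa only [mul_assoc] using k
  have a0 := h.toRA.toSy.eq_zero (r := 44) (by decide) (k1 ▸ h.tj _)
  rw [a0, h.bb_y0 44, one_mul] at k
  exact ⟨a0, h.toFo.sb_i2 k⟩

theorem bb_b1 : ∃ p q, j (xx 41 1) * g 29 1 * j (xx 41 1) =
    g 29 1 * g 44 1 * g 47 1 * j (xx 44 p) * j (xx 47 q) := by
  have s := h.toFo
  have R := And.intro (And.intro (h.bb_ty 44) (And.intro (h.bb_ty 29) (h.bb_ty 47))) <|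
    And.intro (And.intro (h.bb_yy 44 29) (And.intro (h.bb_yy 47 29) (h.bb_yy 47 44))) <|
    And.intro (And.intro (h.bb_xy 29 29) (And.intro (h.bb_xy 29 44) (h.bb_xy 29 47))) <|
    And.intro (And.intro (h.bb_xy 44 29) (And.intro (h.bb_xy 44 44) (h.bb_xy 44 47))) <|
    And.intro (And.intro (h.bb_xy 47 29) (And.intro (h.bb_xy 47 44) (h.bb_xy 47 47))) <|
    And.intro (And.intro (h.bb_xy 44 41) (And.intro (h.bb_xy 47 41) fun c => s.sb_xt (xx 29 c))) <|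
    And.intro (And.intro (fun c => s.sb_xt (xx 44 c)) (fun c => s.sb_xt (xx 47 c))) <|
    And.intro (fun c z => (s.sb_xt (xx 41 c) z).symm) <|
    And.intro (And.intro (sb_x4 j 29 41 44 47) (sb_xc j 44 41)) <|
    And.intro (And.intro (sb_xc j 47 41) (sb_xc j 44 29)) <|
    And.intro (And.intro (sb_xc j 47 29) (sb_xc j 47 44)) <|
    And.intro (And.intro (sb_xa j 29) (sb_xa j 41)) <|
    And.intro (And.intro (sb_xa j 44) (sb_xa j 47)) <|
    And.intro (And.intro (h.bb_ys 29) (And.intro (h.bb_ys 44) (h.bb_ys 47)))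
      (And.intro (sb_x0 j) (sb_sq h.tt))
  have c0 : Commute (g 29 1 * (g 44 1 * (g 47 1 * (j (xx 41 1) * (g 29 1 * j (xx 41 1)))))) t := sb_cm (by
    simp only [mul_assoc, R, CharTwo.add_self_eq_zero, one_mul, mul_one (M := F), zero_add, add_zero])
  have c1 : Commute (g 29 1 * (g 44 1 * (g 47 1 * (j (xx 41 1) * (g 29 1 * j (xx 41 1)))))) (j (xx 29 1)) :=
    sb_cm (by simp only [mul_assoc, R, CharTwo.add_self_eq_zero, one_mul, mul_one (M := F), zero_add, add_zero])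
  obtain ⟨α, hα, hp⟩ := s.sb_pin c0 (S := {17, 22, 25, 30, 42, 43, 44, 45, 46, 47}) fun u hu c => by
    have : ∀ u ∈ [17, 22, 25, 30, 42, 43, 44, 45, 46, 47], u < 48 ∧ 8 ≤ ip 29 u ∧ 8 ≤ ip 44 u ∧
      8 ≤ ip 47 u ∧ 8 ≤ ip 41 u := by decide +kernel
    obtain ⟨k1, k2, k3, k4, k5⟩ := this u (by simpa using hu)
    have ca := h.cm' 29 (by omega) u k1 k2 1 c
    have cb : Commute (j (xx 41 1)) (j (xx u c)) := da_xx (by omega) k1 k5 1 c
    exact ca.mul_left ((h.cm' 44 (by omega) u k1 k3 1 c).mul_left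
      ((h.cm' 47 (by omega) u k1 k4 1 c).mul_left (cb.mul_left (ca.mul_left cb))))
  obtain ⟨u, v, w, y, hl⟩ := rigU hα
  obtain ⟨o, ho, hκ⟩ := hp _ hl
  have R' := And.intro (And.intro (h.bb_oy ho 29) (And.intro (h.bb_oy ho 44) (h.bb_oy ho 47)))
    (And.intro (s.sb_ox ho) (s.sb_ot ho))
  rw [map_mul, map_mul, map_mul] at hκ
  have hv : v = 0 := by
    rcases hκ with hκ | hκ <;> rw [hκ] at c1 <;> have k1 := congrArg (· * 1) c1.eq <;>
      simp only [mul_assoc, R, R', mul_right_inj, add_comm u 1] at k1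
    all_goals linear_combination (s.sb_i2 k1).1 - sb_two (v * u + w)
  subst hv
  have P : ∀ {k : G}, g 29 1 * (g 44 1 * (g 47 1 * (j (xx 41 1) * (g 29 1 * j (xx 41 1))))) = k → ∀ z,
      j (xx 41 1) * (g 29 1 * z) = g 29 1 * (g 44 1 * (g 47 1 * (k * (j (xx 41 1) * z)))) := fun hk z => by
    rw [← hk]
    simp only [mul_assoc, h.bb_yy 44 29, h.bb_yy 47 29, h.bb_yy 47 44, h.bb_ys 29, h.bb_ys 44, h.bb_ys 47,
      sb_xq j 41]
  rcases hκ with hκ | hκ <;> have P := P hκ <;> have k1 := P (g 29 1 * 1) <;>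
    have k2 := sb_xq j 41 (a := 1) (z := g 29 1 * 1) <;>
    simp only [mul_assoc, P, R, R', CharTwo.add_self_eq_zero, one_mul, mul_one (M := F),
      mul_right_inj] at k1 k2
  · obtain ⟨rfl, -, -⟩ := s.sb_k2 ho k1.symm
    obtain ⟨-, a2, -⟩ := s.sb_k2 ho k2
    obtain rfl : u = 0 := by linear_combination a2 - sb_two w
    refine ⟨w, y, ?_⟩
    simpa only [sb_x0, mul_assoc, one_mul, mul_one, sb_q j (r := 41) (by omega), sb_xc j 44 41,
      sb_xc j 47 41] using P (j (xx 41 1))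
  · generalize u + (w + _) = p, u * u + _ = q at k1
    have k3 := h.inj (((s.sb_kill ho (a := xx 29 (u + (1 + u)) * (xx 44 p * xx 47 q)) (by
      rw [k1]; simp only [map_mul, mul_assoc, mul_one])).2).trans (map_one j).symm)
    have k4 := relΓ.lead (r := 29) (by omega) (by omega) (rg_ok _ (u + (1 + u))) (by
      rw [eq_inv_of_mul_eq_one_left k3]
      exact inv_mem (mul_mem (mem_SK (by omega) (by omega) (rg_ok _ _))
        (mem_SK (by omega) (by omega) (rg_ok _ _))))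
    exact absurd (by linear_combination k4 - sb_two u) (one_ne_zero (α := F))

theorem bb_b2 : ∃ p q, ∀ a l m n, B4 a l m n → ∀ b c, j (xx l c) * g a b * j (xx l c) =
    g a b * g m (c * b) * g n (c * b ^ 2) * j (xx m (p * (c * b))) * j (xx n (q * (c * b ^ 2))) := by
  obtain ⟨p, q, e0⟩ := h.bb_b1
  refine ⟨p, q, fun a l m n e b c => ?_⟩
  have b1 : j (xx l 1) * g a 1 * j (xx l 1) = g a 1 * g m 1 * g n 1 * j (xx m p) * j (xx n q) := by
    refine sb_i4 (Q := fun a l m n => j (xx l 1) * g a 1 * j (xx l 1) =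
      g a 1 * g m 1 * g n 1 * j (xx m p) * j (xx n q)) (fun i hi a l m n r _ k => ?_) e0 e
    have k1 := congrArg (MulAut.conj (j (nY xx (sm i)))) k
    simpa only [map_mul, h.bb_ng hi r.1.1, h.bb_ng hi r.sb.1.1.1, h.bb_ng hi r.sb.1.sb.2.1,
      sb_nx j hi r.2.1, sb_nx j hi r.sb.1.1.1, sb_nx j hi r.sb.1.sb.2.1] using k1
  have hm := e.sb.1.1.1
  have hn := e.sb.1.sb.2.1
  refine sb_sc (r := a) (s := l) ⟨e.1.1, e.2.1, e.sb.2.1, e.sb.2.2.1⟩ (P := fun b c =>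
    j (xx l c) * g a b * j (xx l c) = g a b * g m (c * b) * g n (c * b ^ 2) * j (xx m (p * (c * b))) *
      j (xx n (q * (c * b ^ 2)))) (fun c => ?_) (fun b => ?_) (fun τ χ hτ => ?_) b c
  · simp [h.da_zero e.1.1, h.da_zero hm, h.da_zero hn, sb_x0, sb_q j e.2.1]
  · simp [h.da_zero hm, h.da_zero hn, sb_x0]
  · have k1 := congrArg (MulAut.conj (j τ)) b1
    simp only [map_mul, sb_tx j hτ e.2.1, sb_tx j hτ hm, sb_tx j hτ hn, h.bb_tg hτ e.1.1, h.bb_tg hτ hm,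
      h.bb_tg hτ hn, mul_one] at k1
    rw [k1, (bb_chi hτ e).1, (bb_chi hτ e).2, mul_comm _ p, mul_comm _ q]

theorem bb_b3 (h1 : X1 j g k) (h2 : X2 j g k') : ∃ p q, g 41 1 * g 29 1 * g 41 1 =
    g 29 1 * g 44 (1 + k') * g 47 (1 + k) * j (xx 44 p) * j (xx 47 q) := by
  have s := h.toFo
  have R := And.intro (And.intro (h.bb_ty 44) (And.intro (h.bb_ty 29) (And.intro (h.bb_ty 41) (h.bb_ty 47)))) <|
    And.intro (And.intro (h.bb_yy 44 29) (And.intro (h.bb_yy 47 29) (h.bb_yy 47 44))) <|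
    And.intro (And.intro (h.bb_yy 44 41) (And.intro (h.bb_yy 47 41) (h.bb_xy 41 41))) <|
    And.intro (And.intro (h.bb_xy 29 29) (And.intro (h.bb_xy 29 44) (h.bb_xy 29 47))) <|
    And.intro (And.intro (h.bb_xy 44 29) (And.intro (h.bb_xy 44 44) (h.bb_xy 44 47))) <|
    And.intro (And.intro (h.bb_xy 47 29) (And.intro (h.bb_xy 47 44) (h.bb_xy 47 47))) <|
    And.intro (And.intro (h.bb_xy 44 41) (And.intro (h.bb_xy 47 41) s.sb_xt)) <|
    And.intro (And.intro (h.bb_xy 41 44) (h.bb_xy 41 47)) <|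
    And.intro (And.intro (h1.bb 29 41 44 47) (h2.bb 29 41 44 47)) <|
    And.intro (And.intro (bb_x4 j 29 41 44 47) (sb_xc j 44 41)) <|
    And.intro (And.intro (sb_xc j 47 41) (sb_xc j 44 29)) <|
    And.intro (And.intro (sb_xc j 47 29) (sb_xc j 47 44)) <|
    And.intro (And.intro (sb_xa j 29) (sb_xa j 41)) <|
    And.intro (And.intro (sb_xa j 44) (sb_xa j 47)) <|
    And.intro (And.intro (h.bb_ys 29) (And.intro (h.bb_ya 44) (And.intro (h.bb_ya 47) (h.bb_ys 41)))) <|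
    And.intro (And.intro (h.bb_y0 44) (h.bb_y0 47)) (And.intro (sb_x0 j) (sb_sq h.tt))
  have c0 : Commute (g 29 1 * (g 41 1 * (g 29 1 * (g 41 1 * (g 44 (1 + k') * g 47 (1 + k)))))) t :=
    sb_cm (by
      simp only [mul_assoc, R, CharTwo.add_self_eq_zero, one_mul, mul_one (M := F), zero_add, add_zero,
        one_pow, CharTwo.add_cancel_left, add_comm k 1, add_comm k' 1])
  have c1 : Commute (g 29 1 * (g 41 1 * (g 29 1 * (g 41 1 * (g 44 (1 + k') * g 47 (1 + k))))))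
      (j (xx 29 1)) := sb_cm (by
    simp only [mul_assoc, R, CharTwo.add_self_eq_zero, one_mul, mul_one (M := F), zero_add, add_zero,
      one_pow, CharTwo.add_cancel_left, add_comm (1 + k') 1])
  have c2 : Commute (g 29 1 * (g 41 1 * (g 29 1 * (g 41 1 * (g 44 (1 + k') * g 47 (1 + k))))))
      (j (xx 41 1)) := sb_cm (by
    simp only [mul_assoc, R, CharTwo.add_self_eq_zero, one_mul, mul_one (M := F), zero_add, add_zero,
      one_pow, CharTwo.add_cancel_left, add_comm (1 + k') 1])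
  have c3 : Commute (g 29 1 * (g 41 1 * (g 29 1 * (g 41 1 * (g 44 (1 + k') * g 47 (1 + k))))))
      (g 44 1) := sb_cm (by
    simp only [mul_assoc, R, CharTwo.add_self_eq_zero, one_mul, mul_one (M := F), zero_add, add_zero,
      one_pow, CharTwo.add_cancel_left, add_comm (1 + k') 1])
  obtain ⟨α, hα, hp⟩ := s.sb_pin c0 (S := {17, 22, 25, 30, 42, 43, 44, 45, 46, 47}) fun u hu c => by
    have : ∀ u ∈ [17, 22, 25, 30, 42, 43, 44, 45, 46, 47], u < 48 ∧ 8 ≤ ip 29 u ∧ 8 ≤ ip 44 u ∧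
      8 ≤ ip 47 u ∧ 8 ≤ ip 41 u := by decide +kernel
    obtain ⟨k1, k2, k3, k4, k5⟩ := this u (by simpa using hu)
    have ca := h.cm' 29 (by omega) u k1 k2 1 c
    have cb := h.cm' 41 (by omega) u k1 k5 1 c
    exact ca.mul_left (cb.mul_left (ca.mul_left (cb.mul_left
      ((h.cm' 44 (by omega) u k1 k3 _ c).mul_left (h.cm' 47 (by omega) u k1 k4 _ c)))))
  obtain ⟨u, v, w, y, hl⟩ := rigU hα
  obtain ⟨o, ho, hκ⟩ := hp _ hl
  have R' := And.intro (And.intro (h.bb_oy ho 29) (And.intro (h.bb_oy ho 44) (h.bb_oy ho 47)))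
    (And.intro (s.sb_ox ho) (s.sb_ot ho))
  rw [map_mul, map_mul, map_mul] at hκ
  rcases hκ with hκ | hκ <;> rw [hκ] at c1 c2 c3
  · have k1 := congrArg (· * 1) c1.eq
    simp only [mul_assoc, R, R', mul_right_inj, add_comm u 1] at k1
    have k2 := congrArg (· * 1) c2.eq
    simp only [mul_assoc, R, R', mul_right_inj, add_comm v 1] at k2
    obtain rfl : v = 0 := by linear_combination (s.sb_i2 k1).1 - sb_two w
    obtain rfl : u = 0 := by linear_combination (s.sb_i2 k2).1 - sb_two w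
    simp only [sb_x0, one_mul] at hκ
    have k3 : g 41 1 * (g 29 1 * g 41 1) =
        g 29 1 * (g 44 (1 + k') * (g 47 (1 + k) * (j (xx 44 w) * j (xx 47 y) * o))) := by
      apply mul_right_cancel (b := 1)
      rw [← hκ]
      simp only [mul_assoc, R, CharTwo.add_self_eq_zero, one_mul]
    have k4 : g 41 1 * (g 29 1 * g 41 1) * (g 41 1 * (g 29 1 * g 41 1)) * 1 = 1 := by
      simp only [mul_assoc, R]
    rw [k3] at k4
    simp only [mul_assoc, R, R', CharTwo.add_self_eq_zero, one_mul] at k4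
    obtain ⟨rfl, -⟩ := s.sb_kill ho (a := 1) (by rw [map_one, one_mul, ← k4, mul_one])
    exact ⟨w, y, by simpa only [mul_assoc, mul_one] using k3⟩
  · have k1 := congrArg (· * 1) c3.eq
    simp only [mul_assoc, R, R', mul_right_inj] at k1
    exact absurd (by linear_combination (s.sb_i2 k1).1 - sb_two w) (one_ne_zero (α := F))


/-- `x₄₁(c) y₂₉(b) x₄₁(c) = y₂₉(b) y₄₄(c b) ŷ₄₇(c b²) κ` (same action on `t`), `κ = x₂₉(u) x₄₁(v) x₄₄(w) x₄₇(z) o tⁱ`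
(`rigU`); commutes with `x₂₉(1)`: `v = 0`; involution: `i = 0`, `o = 1`; apply `x₄₁(c)` twice: `u = 0`.  Scaling:
`w = m c b`, `z = k c b²`, for every pair.  Conjugate `y₂₇(1)` by `n₂₅ = x₂₅ x₂₂ x₂₅` step by step (pairs `(25, 27)`,
`(22, 28)`; `27 + 25 = 28`, `n = 30`) and compare with `wn'`: `m = 0`.  Transport. -/
theorem x1 : ∃ k, X1 j g k := by
  obtain ⟨p, q, H⟩ := h.bb_b2
  have P : ∀ a l m n, B4 a l m n → ∀ b c z, j (xx l c) * (g a b * z) = g a b * (g m (c * b) *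
      (g n (c * b ^ 2) * (j (xx m (p * (c * b))) * (j (xx n (q * (c * b ^ 2))) * (j (xx l c) * z))))) :=
    fun a l m n e b c z => by
      rw [sb_r1 (sb_q j e.2.1 c) (H a l m n e b c)]; simp only [mul_assoc]
  have k := h.wn' 2 (by omega) 27 (by omega) 1
  rw [show sr 2 27 = 28 by decide +kernel, show sm 2 = 25 by decide +kernel,
    mul_inv_eq_iff_eq_mul] at k
  have k1 := congrArg (· * 1) k
  simp only [nY, map_mul, mul_assoc, Nat.reduceSub, P 27 25 28 30 (by decide +kernel),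
    P 28 22 27 30 (by decide +kernel), h.bb_xy 27 22, h.bb_xy 30 22, h.bb_xy 30 27, h.bb_xy 30 30,
    h.bb_xy 28 25, h.bb_xy 30 25, h.bb_yy 28 27, h.bb_ys 27, h.bb_ys 30, bb_x4 j 28 22 27 30,
    sb_xc j 27 28, sb_xc j 30 28, sb_xc j 30 27, sb_xc j 22 27, sb_xc j 22 30, sb_xc j 25 28,
    sb_xc j 25 30, sb_xa j 27, sb_xa j 30, one_pow, mul_one (M := F), one_mul,
    CharTwo.add_self_eq_zero, sb_x0, mul_right_inj] at k1
  obtain rfl := (h.toFo.bb_i0 28 30 (e := k1)).1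
  refine ⟨q, bb_X1.2 fun a l m n e b c => ?_⟩
  rw [H a l m n e, zero_mul, sb_x0, mul_one]
/-- `x1` in the dual frame; more precisely `X1` for the dual with constant `k'` -/
theorem x2_iff (hγ : Gam γ) : X1 (j.comp γ.toMonoidHom)
    (fun r b => g (gm r) (if lg r = true then b else b ^ 2)) k' ↔ X2 j g k' := by
  rw [bb_X1, bb_X2]
  have cm := fun {m n : ℕ} (hm : m < 48) (hn : n < 48) (p : 8 < ip m n) (b c : F) =>
    (h.cc m hm n hn (.inl p) b c).eq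
  refine ⟨fun H a l m n e b c => ?_, fun H a l m n e b c => ?_⟩
  · have hm := e.sb.1.1
    have hn := e.sb.1.sb.2.1
    have := H _ _ _ _ e.bb.1 (daR c) b
    simp only [hγ.jl' e.2.1 e.2.2.1, hγ.jl (da_gm e.1.1) (da_lg e.1), hγ.jl (da_gm hm.1) (da_lg hm),
      da_gg e.1.1, da_gg e.2.1, da_gg hm.1, da_gg hn, (da_sh e.2.1 e.2.2.1).2, (da_sh hn e.bb.2.1).2,
      da_lg hm, if_true, Bool.false_eq_true, if_false, mul_pow, daR_sq] at this
    rw [this, mul_comm c b, mul_comm c, mul_assoc (g l c), mul_assoc (g l c) (g m _),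
      cm hm.1 hn e.bb.2.2.1]
  · have hm := e.sb.1.1
    have hn := e.sb.1.sb.2.1
    have := H _ _ _ _ e.bb.1 c (b ^ 2)
    simp only [hγ.jl e.2.1 e.2.2.1, hγ.jl hn e.bb.2.1, e.1.2, hm.2, e.bb.2.1, if_true,
      Bool.false_eq_true, if_false, mul_pow]
    rw [this, mul_comm c, mul_comm (c ^ 2), mul_assoc (g (gm a) _), mul_assoc (g (gm a) _) (g (gm m) _),
      cm (da_gm hn) (da_gm hm.1) e.bb.1.bb.2.2.1]
theorem x1_iff (hγ : Gam γ) : X2 (j.comp γ.toMonoidHom)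
    (fun r b => g (gm r) (if lg r = true then b else b ^ 2)) k' ↔ X1 j g (k' ^ 2) := by
  rw [bb_X2, bb_X1]
  have cm := fun {m n : ℕ} (hm : m < 48) (hn : n < 48) (p : 8 < ip m n) (b c : F) =>
    (h.cc m hm n hn (.inl p) b c).eq
  refine ⟨fun H a l m n e b c => ?_, fun H a l m n e b c => ?_⟩
  · have hm := e.sb.1.1
    have hn := e.sb.1.sb.2.1
    have := H _ _ _ _ e.bb.1 (daR c) b
    simp only [hγ.jl' e.2.1 e.2.2.1, hγ.jl' hn e.bb.2.1,
      da_gg e.1.1, da_gg e.2.1, da_gg hm.1, da_gg hn, (da_sh hn e.bb.2.1).2, da_lg e.1,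
      da_lg hm, if_true, Bool.false_eq_true, if_false, mul_pow, daR_sq] at this
    rw [this, mul_comm c b, mul_comm c, mul_assoc (g a b), mul_assoc (g a b) (g m _),
      cm hm.1 hn e.bb.2.2.1]
  · have hm := e.sb.1.1
    have hn := e.sb.1.sb.2.1
    have := H _ _ _ _ e.bb.1 c (b ^ 2)
    simp only [hγ.js e.1, hγ.js hm, e.2.2.1, hm.2, e.bb.2.1, if_true,
      Bool.false_eq_true, if_false, mul_pow]
    rw [this, mul_comm c, mul_comm (c ^ 2), mul_assoc (g (gm l) _), mul_assoc (g (gm l) _) (g (gm m) _),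
      cm (da_gm hn) (da_gm hm.1) e.bb.1.bb.2.2.1]
theorem x2 : ∃ k', X2 j g k' := by
  obtain ⟨γ, hγ⟩ := exists_gam (F := F)
  obtain ⟨k', h1⟩ := (h.dual hγ (daR_sq ρ₁)).x1
  exact ⟨k', (h.x2_iff hγ).1 h1⟩
/-- `y₂₈` commutes with `y₂₉, y₄₄, x₄₁, x₄₇`, hence with `ŷ₄₇` by `x1`.  Transport. -/
theorem c90m {a l : ℕ} (ha : Sh a) (hl : l < 48) (h1 : lg l = true) (p : ip a l = 8) (b c : F) :
    Commute (g a b) (g l c) := by
  obtain ⟨k, hx⟩ := h.x1
  obtain ⟨a', ha', l', hl', e, p1, p2, p3⟩ := bb_t2 a ha.1 l hl ha.2 h1 p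
  have k1 := bb_X1.1 hx _ _ _ _ e 1 c
  rw [one_pow, mul_one] at k1
  have hm := e.sb.1.1
  have c1 := h.cc a ha.1 a' ha' (.inr ⟨p1, ha.2.trans e.1.2.symm⟩) b 1
  have c2 := h.cc a ha.1 _ hm.1 (.inr ⟨p2, ha.2.trans hm.2.symm⟩) b c
  have c3 := h.cm' a ha.1 l' hl' p3 b c
  have c4 := h.cm' a ha.1 l hl p.ge b (k * c)
  have c5 := (c3.mul_right c1).mul_right c3
  rw [k1] at c5
  have := ((c1.mul_right c2).inv_right.mul_right c5).mul_right c4.inv_right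
  rwa [mul_assoc (g a' 1 * _) (g l c), inv_mul_cancel_left, mul_inv_cancel_right] at this
/-- `ŷ₄₁(c) y₂₉(b) ŷ₄₁(c)` sends `t` to `t x₂₉(b) x₄₄((1 + k') c b) x₄₇((1 + k) c b²)`; `κ` is pinned by `rigU`; it
commutes with `y₄₄(1)` (`i = 0`), with `x₂₉(1)` (`v = 0`), with `x₄₁(1)` (`y₂₉ ŷ₄₁ y₂₉` commutes with
`y₂₉ x₄₁ y₂₉ = x₄₁ y₄₄ ŷ₄₇ x₄₇`; `u = 0`); involution: `o = 1`.  Scaling, transport. -/
theorem y3 (h1 : X1 j g k) (h2 : X2 j g k') : ∃ p p', ∀ l < 48, ∀ a < 48, lg l = true → lg a = false →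
    ip l a = 4 → ∀ b c, g l c * g a b * g l c = g a b * g (ad l a) ((1 + k') * (c * b)) *
      g (ad (ad l a) a) ((1 + k) * (c * b ^ 2)) * j (xx (ad l a) (p * (c * b))) *
      j (xx (ad (ad l a) a) (p' * (c * b ^ 2))) := by
  obtain ⟨p, q, e0⟩ := h.bb_b3 h1 h2
  refine ⟨p, q, (bb_all (P := fun a l m n => ∀ b c, g l c * g a b * g l c =
    g a b * g m ((1 + k') * (c * b)) * g n ((1 + k) * (c * b ^ 2)) * j (xx m (p * (c * b))) *
      j (xx n (q * (c * b ^ 2))))).2 fun a l m n e b c => ?_⟩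
  have b1 : g l 1 * g a 1 * g l 1 = g a 1 * g m (1 + k') * g n (1 + k) * j (xx m p) * j (xx n q) := by
    refine sb_i4 (Q := fun a l m n => g l 1 * g a 1 * g l 1 =
      g a 1 * g m (1 + k') * g n (1 + k) * j (xx m p) * j (xx n q)) (fun i hi a l m n r _ k => ?_) e0 e
    have k1 := congrArg (MulAut.conj (j (nY xx (sm i)))) k
    simpa only [map_mul, h.bb_ng hi r.1.1, h.bb_ng hi r.sb.1.1.1, h.bb_ng hi r.sb.1.sb.2.1,
      h.bb_ng hi r.2.1, sb_nx j hi r.sb.1.1.1, sb_nx j hi r.sb.1.sb.2.1] using k1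
  have hm := e.sb.1.1.1
  have hn := e.sb.1.sb.2.1
  refine sb_sc (r := a) (s := l) ⟨e.1.1, e.2.1, e.sb.2.1, e.sb.2.2.1⟩ (P := fun b c =>
    g l c * g a b * g l c = g a b * g m ((1 + k') * (c * b)) * g n ((1 + k) * (c * b ^ 2)) *
      j (xx m (p * (c * b))) * j (xx n (q * (c * b ^ 2)))) (fun c => ?_) (fun b => ?_) (fun τ χ hτ => ?_) b c
  · simp [h.da_zero e.1.1, h.da_zero hm, h.da_zero hn, sb_x0, h.da_sq e.2.1]
  · simp [h.da_zero e.2.1, h.da_zero hm, h.da_zero hn, sb_x0]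
  · have k1 := congrArg (MulAut.conj (j τ)) b1
    simp only [map_mul, sb_tx j hτ hm, sb_tx j hτ hn, h.bb_tg hτ e.1.1, h.bb_tg hτ hm,
      h.bb_tg hτ hn, h.bb_tg hτ e.2.1, mul_one] at k1
    rw [k1, (bb_chi hτ e).1, (bb_chi hτ e).2, mul_comm _ p, mul_comm _ q, mul_comm _ (1 + k),
      mul_comm _ (1 + k')]
/-- Conjugate `y₂₉ y₃₃ y₂₉ = y₃₃ y₃₆ x₃₆(ρ)` (parameters `1`) by `x₃₀(1)`: `y₃₃ ↦ y₃₃ y₃₇ ŷ₄₁ x₄₁(k)`,
`y₃₆ ↦ y₃₆ y₄₀ ŷ₄₇ x₄₇(k)`, `x₃₆(ρ) ↦ x₃₆(ρ) x₄₀(ρ) x₄₇(ρ²)`; `y₃₇ y₃₆ = y₃₆ y₃₇ y₄₄ x₄₄(ρ)`,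
`y₃₇ x₃₆(ρ) = x₃₆(ρ) y₃₇ y₄₄(ρ)`.  Compare: `y₄₄`: `1 + ρ = 1 + k' + k`; `x₄₄`: `p = ρ`; `x₄₇`: `k + ρ² = p' + k²`.
(`y₄₄(α) x₄₄(β) x₄₇(δ) = 1` forces `α = β = δ = 0`.) -/
theorem y4 (h1 : X1 j g k) (h2 : X2 j g k') : k + k' = ρ ∧ ∀ l < 48, ∀ a < 48, lg l = true →
    lg a = false → ip l a = 4 → ∀ b c, g l c * g a b * g l c = g a b * g (ad l a) ((1 + k') * (c * b)) *
      g (ad (ad l a) a) ((1 + k) * (c * b ^ 2)) * j (xx (ad l a) (ρ * (c * b))) *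
      j (xx (ad (ad l a) a) ((k + k ^ 2 + ρ ^ 2) * (c * b ^ 2))) := by
  obtain ⟨p, p', H⟩ := h.y3 h1 h2
  have s := h.toRA
  have P : ∀ z, g 29 1 * (g 41 1 * z) = g 41 1 * (g 29 1 * (g 44 (1 + k') * (g 47 (1 + k) *
      (j (xx 44 p) * (j (xx 47 p') * z))))) := fun z => by
    have := H 41 (by omega) 29 (by omega) (by decide) (by decide) (by decide) 1 1
    rw [show ad 41 29 = 44 by decide, show ad 44 29 = 47 by decide] at this
    rw [sb_r2 (h.da_sq (by omega) 1) this]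
    simp only [mul_assoc, one_pow, mul_one]
  have Q : ∀ c z, g 29 1 * (j (xx 41 c) * z) = j (xx 41 c) * (g 29 1 * (g 44 c * (g 47 c *
      (j (xx 47 (k * c)) * z)))) := fun c z => by
    rw [sb_r2 (sb_q j (by omega) c) (bb_X1.1 h1 29 41 44 47 (by decide +kernel) 1 c)]
    simp only [mul_assoc, one_pow, mul_one]
  have m1 := fun b c z => sb_r0 (h.c90m (a := 36) (l := 41) (by decide) (by omega) (by decide)
    (by decide) b c).symm z
  have m2 := fun b c z => sb_r0 (h.c90m (a := 40) (l := 41) (by decide) (by omega) (by decide)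
    (by decide) b c).symm z
  have k0 := (h.bb_xy 29 30 (b := 1) (c := 1) (z := g 33 1 * 1)).symm
  simp only [h1.bb 33 30 37 41, h1.bb 36 30 40 47, s.sb_y6 33 29 36, s.sb_y6 37 29 40, P, Q,
    bb_x4 j 36 30 40 47, h.bb_xy 29 30, one_pow, mul_one (M := F), one_mul, mul_right_inj] at k0
  have r := fun (r s : ℕ) (p : r < 48 ∧ s < 48 ∧ 8 ≤ ip r s) b c z => (h.bb_xy r s p b c z).symm
  simp only [h.bb_yy 29 44, h.bb_yy 29 47, r 29 44 (by decide +kernel), r 29 47 (by decide +kernel), Q,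
    h.bb_xy 36 41, h.bb_xy 40 41, h.bb_xy 47 41, m1, m2, s.sb_y6 36 37 44, h.bb_xy 37 44, h.bb_yy 44 37,
    h.bb_xy 40 44, h.bb_yy 44 40, h.bb_xy 41 44, h.bb_yy 44 41, h.bb_xy 47 44, h.bb_yy 44 47,
    s.toSy.sb_x6 37 36 44, zero_mul, sb_x0, h.bb_xy 40 36, h.bb_xy 41 36, h.bb_xy 41 40, h.bb_xy 47 36,
    h.bb_xy 47 40, h.bb_xy 47 47, r 44 36 (by decide +kernel), r 44 40 (by decide +kernel),
    r 44 41 (by decide +kernel), h.bb_xy 44 44, h.bb_xy 44 47, sb_xc j 41 36, sb_xc j 41 40,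
    sb_xc j 44 36, sb_xc j 44 40, sb_xc j 44 41, sb_xc j 47 36, sb_xc j 47 40, sb_xc j 47 41,
    sb_xc j 47 44, sb_xa j 44, sb_xa j 47, h.bb_ya 44, h.bb_ya 47, add_assoc, CharTwo.add_self_eq_zero,
    add_zero, one_mul, mul_right_inj] at k0
  obtain ⟨a1, a2, a3⟩ := h.bb_i3 k0
  obtain rfl : p = ρ := by linear_combination a2 - sb_two ρ
  obtain rfl : p' = k + k ^ 2 + p ^ 2 := by linear_combination a3 - sb_two (k + k ^ 2 + p ^ 2)
  exact ⟨by linear_combination a1 - sb_two (1 + p), H⟩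
/-- `y4` in the dual frame (`exists_gam`): `√ρ₁ = k' + √k` -/
theorem y5 (h1 : X1 j g k) (h2 : X2 j g k') : ρ₁ = k + k' ^ 2 := by
  obtain ⟨γ, hγ⟩ := exists_gam (F := F)
  have k1 := ((h.dual hγ (daR_sq ρ₁)).y4 ((h.x2_iff hγ).2 h2)
    ((h.x1_iff (k' := daR k) hγ).2 (by rwa [daR_sq]))).1
  rw [← daR_sq ρ₁, ← k1, CharTwo.add_sq, daR_sq, add_comm]
/-- `shift` by `k'` makes `k' = 0` -/
theorem norm : ∃ g', Db j t O ρ ρ g' ∧ X1 j g' ρ ∧ X2 j g' 0 := by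
  obtain ⟨k, h1⟩ := h.x1
  obtain ⟨k', h2⟩ := h.x2
  have a1 := (h.y4 h1 h2).1
  have a2 := h.y5 h1 h2
  have a3 : ρ₁ + k' + k' ^ 2 = ρ := by rw [a2, ← a1]; linear_combination sb_two (k' ^ 2)
  refine ⟨_, a3 ▸ h.shift k', bb_X1.2 fun a l m n e b c => ?_, bb_X2.2 fun a l m n e b c => ?_⟩
  · have hm := e.sb.1.1
    have hn := e.sb.1.sb.2.1
    simp only [e.1.2, hm.2, e.bb.2.1, if_true, Bool.false_eq_true, if_false]
    rw [bb_X1.1 h1 a l m n e, mul_assoc _ (g n _ * _), mul_assoc (g n _), zb_add hn, mul_assoc _ (g n _),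
      ← a1]
    congr 4
    linear_combination - sb_two (k' * (c * b ^ 2))
  · have hm := e.sb.1.1
    have hn := e.sb.1.sb.2.1
    obtain ⟨-, ln, p1, p2, p3, p4, p5, p6, -, -, p7⟩ := e.bb
    simp only [e.2.2.1, hm.2, ln, if_true, Bool.false_eq_true, if_false, zero_mul, sb_x0, mul_one]
    have c1 := fun (u v : F) z => sb_r0 (da_xx (j := j) hm.1 e.2.1 p5.le u v) z
    have c2 := fun (u v : F) z => sb_r0 (da_xx (j := j) hn e.2.1 p6.ge u v) z
    apply mul_right_cancel (b := 1)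
    simp only [mul_assoc, h2.bb a l m n e, h.bb_xy m l ⟨hm.1, e.2.1, p5.le⟩,
      h.bb_xy n l ⟨hn, e.2.1, p6.ge⟩, mul_right_inj, bb_x4 j a l m n e, c1, c2, sb_xq j a e.1.1,
      sb_xq j m hm.1, mul_assoc k']

end Db

end Cfsg.Agent.F4Q
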