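import Mathlib
import Cfsg.Agent.F4Q.DbA

/-! The constants `ε`.  `y_r(b)` from `Fo.trl` (`Bt` + `bt_or`), `ŷ₄₇(c)` = the element of `Yd` for `j ∘ γ`. -/

set_option autoImplicit false

namespace Cfsg.Agent.F4Q

open Cfsg.Lie Cfsg.Agent.Chev Subgroup Cfsg.Agent.PLocal.Amb
open Cfsg.Agent.F42S (lg ip ad gm sm sr Mo aw)
open Cfsg.Agent.FinS (Rt Rg Uf)
open scoped commutatorElement


variable {F : Type*} [Field F] [Finite F] [CharP F 2] {G : Type*} [Group G] [Finite G]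
  {j : Γ F →* G} {t : G} {O : Subgroup G} {γ : Γ F ≃* Γ F} {ε ε' : F}

theorem eps_t1 : ∀ s < 48, s = 30 ∨ 42 ≤ s → Mo 44 s ∧ (s ≠ 44 → Mo 29 s) ∧ s ≠ 47 - 41 ∧ ¬ Nz 41 s := by
  decide +kernel

theorem eps_t2 : ∀ s < 48, s = 40 ∨ 42 ≤ s → gm s < 48 ∧ Mo 44 (gm s) ∧ gm (gm s) = s := by decide +kernel

theorem eps_sq (c : F) : ∃ a : F, a ^ 2 = c := surjective_frobenius F 2 c

/-- `w = y₄₄⁻¹ y₂₉⁻¹ x₄₁ y₂₉ x₄₁` (parameters `1`) sends `t` to `t x₄₇(1 + ε)` (`x₄₁ y₂₉ x₄₁ : t ↦ t x₂₉ x₄₄ x₄₇(1)`,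
`y₂₉ y₄₄ : t ↦ t x₂₉ x₄₄ x₄₇(ε)`) and centralizes `X₃₀, X₄₂, …, X₄₇` (on `X₄₄` the two `y₂₉` cancel). -/
theorem Fo.exists_w (h : Fo j t O) (hy : Yd j t ε) : ∃ w, w * t * w⁻¹ = t * j (xx 47 (1 + ε)) ∧
    ∀ s, s = 30 ∨ (42 ≤ s ∧ s < 48) → ∀ c, Commute w (j (xx s c)) := by
  obtain ⟨y, ⟨y1, y2⟩, y3⟩ := h.trl (r := 29) (by decide +kernel) hy 1
  obtain ⟨u, u2, u1, -⟩ := hy 1
  have y4 : ∀ c, y * j (xx 44 c) * y⁻¹ = j (xx 44 c) * j (xx 47 (ε * 1 * c)) :=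
    y3 44 (by decide +kernel) (by decide +kernel)
  have ac : ∀ s < 48, s = 30 ∨ 42 ≤ s → ∀ c, Commute (j (xx 41 1)) (j (xx s c)) := fun s hs k c =>
    (xx_comm (by norm_num) hs (eps_t1 s hs k).2.2 1 c).map j
  have aa := sya_sq (j := j) (r := 41) (by norm_num) 1
  have ab : j (xx 41 1) * j (xx 29 1) * j (xx 41 1) = j (xx 29 1) * (j (xx 44 1) * j (xx 47 1)) := by
    have := (relΓ (F := F)).cm' (r := 41) (s := 29) (by norm_num) (by norm_num) (by decide +kernel) (by decide +kernel)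
      (by decide +kernel) (c := 1) rfl 1
    rw [show ad 41 29 = 44 by decide +kernel, show ad 44 29 = 47 by decide +kernel] at this
    simpa only [map_mul, mul_one, RingEquiv.refl_apply] using congrArg j this
  have dy := y1 47 (by norm_num) (by decide +kernel) (1 + ε)
  have du := u1 47 (by norm_num) (by decide +kernel) (1 + ε)
  have dd : j (xx 47 (ε * 1 * 1)) * j (xx 47 (1 + ε)) = j (xx 47 1) := by
    rw [sya_add (by norm_num), mul_one, mul_one, add_comm 1, ← add_assoc, CharTwo.add_self_eq_zero, zero_add]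
  have ta := (h.tj (xx 41 1)).eq
  refine ⟨u⁻¹ * (y⁻¹ * (j (xx 41 1) * y * j (xx 41 1))), ?_, fun s hs c => ?_⟩
  · have e := y4 1
    generalize j (xx 41 1) = a at aa ab ta
    have ia := inv_eq_of_mul_eq_one_right aa
    have e1 : a * y * a * t * (a * y * a)⁻¹ = y * (u * (t * j (xx 47 (1 + ε))) * u⁻¹) * y⁻¹ :=
      calc a * y * a * t * (a * y * a)⁻¹ = a * (y * (a * t * a⁻¹) * y⁻¹) * a⁻¹ := by group
        _ = (a * t) * j (xx 29 1) * a := by rw [← ta, mul_inv_cancel_right, y2, ia, ← mul_assoc, ← ta]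
        _ = t * j (xx 29 1) * (j (xx 44 1) * j (xx 47 (ε * 1 * 1))) * j (xx 47 (1 + ε)) := by
          rw [← ta, mul_assoc t, mul_assoc t, ab, ← dd]; group
        _ = y * (u * t * u⁻¹) * y⁻¹ * j (xx 47 (1 + ε)) := by rw [← e, ← y2, u2]; group
        _ = y * (u * t * u⁻¹ * j (xx 47 (1 + ε))) * y⁻¹ := by rw [mul_assoc, dy.inv_left.eq]; group
        _ = _ := by rw [mul_assoc (u * t), du.inv_left.eq]; group
    calc _ = u⁻¹ * (y⁻¹ * (a * y * a * t * (a * y * a)⁻¹) * y) * u := by group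
      _ = _ := by rw [e1]; group
  · have h48 : s < 48 := by omega
    have hs' : s = 30 ∨ 42 ≤ s := by omega
    refine (u1 s h48 (eps_t1 s h48 hs').1 c).inv_left.mul_left ?_
    by_cases e : s = 44
    · subst e
      have k := (ac 44 h48 hs' c).mul_right (ac 47 (by norm_num) (by norm_num) (ε * 1 * c))
      rw [← y4] at k
      have k' := (ac 44 h48 hs' c).eq
      generalize j (xx 41 1) = a at k k'
      generalize j (xx 44 c) = x at k k'
      calc y⁻¹ * (a * y * a) * x = y⁻¹ * (a * (y * x * y⁻¹)) * y * a := by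
            rw [mul_assoc, mul_assoc (a * y), k']; group
        _ = _ := by rw [k.eq]; group
    · have k := y1 s h48 ((eps_t1 s h48 hs').2.1 e) c
      exact k.inv_left.mul_left (((ac s h48 hs' c).mul_left k).mul_left (ac s h48 hs' c))

theorem Fo.e1 (h : Fo j t O) (hy : Yd j t ε) (hn : ¬ IsConj t (t * j (xx 47 1))) : ε = 1 := by
  by_contra e
  obtain ⟨w, hw, -⟩ := h.exists_w hy
  obtain ⟨k, -, -, hk, -⟩ := tor_z (F := F) (a := 1 + ε) (fun c => e (CharTwo.add_eq_zero.1 c).symm) one_ne_zero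
  refine hn ((isConj_iff.2 ⟨w, hw⟩).trans (isConj_iff.2 ⟨j k, ?_⟩).symm)
  rw [← hk, map_mul, map_mul, map_inv, ← mul_assoc, ← (h.tj k).eq]
  group

/-- `a² = 1 + ε`; `ŷ` for `a` sends `t` to `t x₄₇(1 + ε)`, centralizes `X₄₂..X₄₇` (`Mo 44 (gm s)`), and
`ŷ x₃₀(1) ŷ⁻¹ = x₃₀(1) x₄₀(ε' a)` (`gm 28 = 30`, `gm 46 = 40`).  `k = ŷ⁻¹ w ∈ C(t)` is inner (`inr_of`); `no40`. -/
theorem Fo.e01 (hγ : Gam γ) (h : Fo j t O) (hy : Yd j t ε)
    (hy' : Yd (j.comp γ.toMonoidHom) t ε') : ε' * (1 + ε) = 0 := by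
  obtain ⟨w, w1, w2⟩ := h.exists_w hy
  obtain ⟨a, ha⟩ := eps_sq (1 + ε)
  obtain ⟨y, y1, y2, y3⟩ := hy' a
  have y4 : ∀ s < 48, s = 40 ∨ 42 ≤ s → ∀ c, Commute y (j (xx s c)) := fun s hs k c => by
    obtain ⟨k1, k2, k3⟩ := eps_t2 s hs k
    obtain ⟨d, rfl⟩ := eps_sq c
    have := y2 _ k1 k2 (if lg (gm s) = true then d ^ 2 else d)
    change Commute y (j (γ _)) at this
    rw [hγ _ k1, k3] at this
    split_ifs at this <;> exact this
  have y5 := y3 28 (by norm_num) (by decide +kernel) (by decide +kernel) 1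
  change _ = t * j (γ _) at y1
  change y * j (γ _) * y⁻¹ = j (γ _) * j (γ _) at y5
  rw [hγ 44 (by norm_num), if_neg (by decide +kernel), ha, show gm 44 = 47 by decide +kernel] at y1
  rw [show ad 44 28 = 46 by decide +kernel, hγ 28 (by norm_num), hγ 46 (by norm_num), if_neg (by decide +kernel),
    if_pos (by decide +kernel), one_pow, show gm 28 = 30 by decide +kernel, show gm 46 = 40 by decide +kernel] at y5
  have kt : Commute (y⁻¹ * w) t := by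
    rw [Commute, SemiconjBy, ← mul_inv_eq_iff_eq_mul]
    calc y⁻¹ * w * t * (y⁻¹ * w)⁻¹ = y⁻¹ * (w * t * w⁻¹) * y := by group
      _ = t := by rw [w1, ← y1]; group
  obtain ⟨α, hα⟩ := h.toFr.hom kt
  have fx : ∀ s, 42 ≤ s → s < 48 → ∀ c, α (xx s c) = xx s c := fun s a b c => h.inj (by
    rw [← hα, ((y4 s b (.inr a) c).inv_left.mul_left (w2 s (.inr ⟨a, b⟩) c)).eq, mul_inv_cancel_right])
  obtain ⟨l, hl⟩ := inr_of (α := α) (r := 47) (by norm_num) fun s hs => hs ▸ fx 47 (by norm_num) (by norm_num)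
  have k := no40 (l := l) (c := 1) (d := ε' * a * 1)
    (fun s a b c => mul_inv_eq_iff_eq_mul.1 ((hl _).symm.trans (fx s a b c))) ((hl _).symm.trans (h.inj (by
      have m := (y4 40 (by norm_num) (.inl rfl) (ε' * a * 1)).eq
      have mm := sya_sq (j := j) (r := 40) (by norm_num) (ε' * a * 1)
      rw [← hα, map_mul, mul_assoc y⁻¹, (w2 30 (.inl rfl) 1).eq]
      generalize j (xx 40 (ε' * a * 1)) = z at m mm y5
      generalize j (xx 30 1) = x at y5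
      calc y⁻¹ * (x * w) * (y⁻¹ * w)⁻¹ = y⁻¹ * (x * z * (z * y)) := by
            rw [mul_assoc x, ← mul_assoc z, mm]; group
        _ = x * z := by rw [← m, ← y5]; group; rw [← y5]; group)))
  rw [← ha]
  linear_combination a * k

theorem Yd.gam2 (hγ : Gam γ) (hy : Yd j t ε) {ε'' : F} (e : ε'' ^ 2 = ε) :
    Yd ((j.comp γ.toMonoidHom).comp γ.toMonoidHom) t ε'' := fun a => by
  obtain ⟨y, y1, y2, y3⟩ := hy (a ^ 2)
  have k : ∀ r < 48, ∀ c, ((j.comp γ.toMonoidHom).comp γ.toMonoidHom) (xx r c) = j (xx r (c ^ 2)) :=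
    fun r hr c => congrArg j (hγ.sq hr c)
  refine ⟨y, by rw [k 44 (by norm_num), y1], fun s hs m c => by rw [k s hs]; exact y2 s hs m _,
    fun s hs l p c => ?_⟩
  rw [k s hs, k _ (sya_or 44 (by norm_num) s hs (by decide +kernel) l p), y3 s hs l p, mul_pow, mul_pow, e]

/-- `e01` for `(j, j γ)` and `(j γ, j γ γ)`: `ε = ε' = 0` or `ε = ε' = 1`; `exists_sy`, `ra`, `e11`. -/
theorem Fo.e00 (hγ : Gam γ) (h : Fo j t O) (hy : Yd j t ε)
    (hy' : Yd (j.comp γ.toMonoidHom) t ε') : ε = 0 ∧ ε' = 0 := by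
  obtain ⟨η, e⟩ := eps_sq ε
  have h1 := h.e01 hγ hy hy'
  have h2 := (h.comp γ).e01 hγ hy' (hy.gam2 hγ e)
  rcases mul_eq_zero.1 h1 with a | a
  · rw [a, add_zero, mul_one] at h2
    exact ⟨by rw [← e, h2, zero_pow two_ne_zero], a⟩
  · obtain rfl := CharTwo.add_eq_zero.1 a
    obtain rfl := CharTwo.add_eq_zero.1 ((mul_eq_zero.1 h2).resolve_left fun c => by simp [c] at e)
    obtain ⟨g, s⟩ := h.exists_sy hy
    obtain ⟨g', s'⟩ := (h.comp γ).exists_sy hy'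
    obtain ⟨ρ, r⟩ := s.ra (mul_one _)
    obtain ⟨ρ', r'⟩ := s'.ra (mul_one _)
    exact (r.e11 hγ r').elim

end Cfsg.Agent.F4Q
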