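import Mathlib
import Cfsg.Agent.F4Q.Nf

/-! The group `Q = QQ ρ Y` (roots `24 26 29 31 32 36 38 39 40 42..47`; partners `r + r' = 47`: long `24/46, 26/45,
31/43, 32/42`, short `29/44, 36/40, 38/39`), `A = SK ρ Y 47`, `z = Y 47 1`.  Only `Rel` and `Fld` are used. -/

set_option autoImplicit false
set_option linter.unusedSectionVars false
set_option linter.unusedVariables false

namespace Cfsg.Agent.F4Q

open Cfsg.Lie Cfsg.Agent.Chev Subgroup Cfsg.Agent.PLocal.Amb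
open Cfsg.Agent.F42S (lg ip ad gm sm sr Mo aw)
open Cfsg.Agent.FinS (Rt Rg Uf)
open scoped commutatorElement


variable {E : Type*} [CommRing E] {G : Type*} [Group G] [Finite G] {ρ : E ≃+* E} {Y : ℕ → E → G}

/-- `Rel`, `Fld` and the two facts on pairs of long root elements -/
structure Pr (ρ : E ≃+* E) (Y : ℕ → E → G) : Prop extends Rel ρ Y where
  fld : Fld ρ
  pair : ∀ k ∈ SK ρ Y 0, ∃ u ∈ SK ρ Y 24, ∃ r < 48, ∃ e, Ty ρ r e ∧
    ∀ a, ρ a = a → k * Y 47 a * k⁻¹ = u * Y r (a * e) * u⁻¹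
  sl2 : ∀ a, ρ a = a → (Y 47 1 * Y 0 a) ^ 6 = 1 →
    (Y 47 1 * Y 0 a) ^ 3 = 1 ∨ (Y 47 1 * Y 0 a) ^ 2 = 1

set_option synthInstance.maxSize 4000 in
theorem uqa_t0 : ∀ r < 48, (8 < ip 47 r → 24 ≤ r) ∧ (24 ≤ r → 8 ≤ ip 47 r) ∧ (47 ≤ r → 8 < ip 47 r) ∧
    (8 ≤ ip 47 r → 47 ≠ 47 - r ∧ ¬ ad r 47 < 48) ∧
    (8 < ip 47 r → r = 47 ∨ ∃ s < 48, 8 < ip 47 s ∧ ad r s = 47 ∧ ad s r = 47) ∧
    (8 < ip 47 r → r ∈ [29, 36, 38, 39, 40, 44, 47] ∨ ∃ s < 48, 8 < ip 47 s ∧ ad r s = 47 ∧ lg s = true) := by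
  decide +kernel

set_option synthInstance.maxSize 4000 in
theorem uqa_t1 : ∀ r < 48, ∀ s < 48, 8 < ip 47 s → (8 ≤ ip 47 r → s ≠ 47 - r ∧ (ad r s < 48 → 8 < ip 47 (ad r s))) ∧
    (8 < ip 47 r → (ad r s < 48 → ad r s = 47) ∧ (ad r s = 47 → lg r = lg s ∧ ip r s = (if lg s then 4 else 8) ∧
      ∀ k < 48, 8 < ip 47 k → k ≠ r → ¬ ad k s < 48)) := by
  decide +kernel

set_option synthInstance.maxSize 4000 in
theorem uqa_t2 : ∀ r < 48, 24 ≤ r → ip 47 r = 8 → (∀ s < 48, 24 ≤ s → ip 47 s = 8 → ad r s < 48 → ip 47 (ad r s) = 8) ∧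
    ∃ a < 48, (8 < ip 47 a ∧ Nz r a) ∧ ∃ b < 48, (8 < ip 47 b ∧ Nz r b) ∧ ad r a < ad r b ∧
      ∃ c < 48, (8 < ip 47 c ∧ Nz r c) ∧ ad r b < ad r c ∧ ad r c < 47 := by
  decide +kernel

set_option synthInstance.maxSize 4000 in
theorem uqa_t3 : (∀ r ∈ [44, 46, 47], (∀ s ∈ [24, 25, 29, 30, 33, 34, 41], s ≠ 47 - r ∧ (∀ k ∈ F42S.cm r s, k = 47) ∧
      (ad r s < 48 → ad r s = 47)) ∧ ∀ s ∈ [44, 46, 47], ¬ ad r s < 48) ∧
    (∀ r < 48, 24 ≤ r → r ∈ [44, 46, 47] ∨ ∃ s ∈ [24, 25, 29, 30, 33, 34, 41], Nz r s ∧ ad r s < 47) ∧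
    ∀ r ∈ [29, 36, 38, 39, 40, 44, 47], ∀ s ∈ [29, 36, 38, 39, 40, 44, 47], ¬ Nz r s := by
  decide +kernel

theorem uqa_idl : Idl {r | r < 48 ∧ 8 ≤ ip 47 r} {r | r < 48 ∧ 8 < ip 47 r} := fun r hr s hs =>
  have t := (uqa_t1 r hr.1 s hs.1 hs.2).1 hr.2
  ⟨hr.1, hs.1, t.1, fun k => ⟨k, t.2 k⟩⟩

theorem uqa_idl' : Idl {r | r < 48 ∧ 8 < ip 47 r} {r | r < 48 ∧ 8 < ip 47 r} := fun r hr =>
  uqa_idl r ⟨hr.1, hr.2.le⟩

theorem uqa_dbl {A B : Subgroup G} (h : A ≤ B) {g : G} (h1 : g ∈ B) (h2 : g ∉ A) : 2 * Nat.card A ≤ Nat.card B := by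
  obtain ⟨m, hm⟩ := card_dvd_of_le h
  have p : 0 < Nat.card B := Nat.card_pos
  rcases m with _ | _ | m
  · omega
  · exact absurd (eq_of_le_of_card_ge h (by omega) ▸ h1) h2
  · rw [hm, mul_comm]
    exact Nat.mul_le_mul_left _ (by omega)

/-- if `ρ e = e` then `e` is a unit -/
theorem Fld.tr_ne (f : Fld ρ) (h2 : ∀ e : E, e + e = 0) {e : E} (e0 : e ≠ 0) (h : e * ρ e = 0) :
    e + ρ e ≠ 0 := fun k => by
  have a : ρ e = e := by linear_combination k - h2 e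
  obtain ⟨g, -, hg⟩ := f.unit e a e0
  rw [a] at h
  exact e0 (by linear_combination g * h - e * hg)

namespace Rel
variable (h : Rel ρ Y)
include h

theorem AQ : SK ρ Y 47 ≤ QQ ρ Y := YS_mono fun r hr => And.intro hr.2 ((uqa_t0 r hr.2).2.2.1 hr.1)
theorem QS : QQ ρ Y ≤ SK ρ Y 24 := YS_mono fun r hr => And.intro ((uqa_t0 r hr.1).1 hr.2) hr.1
theorem QA (f : Fld ρ) : ¬ QQ ρ Y ≤ SK ρ Y 47 := fun k =>
  f.ne (h.lead (r := 24) le_rfl (by omega) (ok_one 24) (SK_mono (by omega)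
    (k (mem_YS (And.intro (by omega) (by decide +kernel)) (ok_one 24)))))
theorem z1 (f : Fld ρ) {r : ℕ} (hr : r < 48) : Y r 1 ≠ 1 := fun k => f.ne (h.inj r hr 1 (ok_one r) k)
theorem sqA : ∀ x ∈ SK ρ Y 47, x * x = 1 := fun x hx => by
  obtain ⟨e, he, rfl⟩ := h.mem_A.1 hx
  exact h.sq (by omega) fun _ => he
/-- `C₀ = YS {r | 8 ≤ ip 47 r} ≥ S₀` centralizes `A` and normalizes `Q` -/
theorem CA : YS ρ Y {r | r < 48 ∧ 8 ≤ ip 47 r} ≤ 𝐂[SK ρ Y 47] := YS_le.2 fun r hr e he =>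
  mem_centralizer_iff.2 fun a ha => by
    obtain ⟨c, hc, rfl⟩ := h.mem_A.1 ha
    have t := (uqa_t0 r hr.1).2.2.2.1 hr.2
    exact (h.comm hr.1 (by omega) t.1 t.2 he fun _ => hc).symm
theorem CQ : YS ρ Y {r | r < 48 ∧ 8 ≤ ip 47 r} ≤ 𝐍[QQ ρ Y] := h.norm uqa_idl uqa_idl'
theorem SA : SK ρ Y 24 ≤ 𝐂[SK ρ Y 47] :=
  (YS_mono fun r hr => And.intro hr.2 ((uqa_t0 r hr.2).2.1 hr.1)).trans h.CA
theorem SQ : SK ρ Y 24 ≤ 𝐍[QQ ρ Y] :=
  (YS_mono fun r hr => And.intro hr.2 ((uqa_t0 r hr.2).2.1 hr.1)).trans h.CQ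
theorem uqa_ok {r s : ℕ} (hl : lg r = lg s) {e f : E} (he : Ok ρ r e) (hf : Ok ρ s f) :
    ρ (if lg s = true then e * f else e * ρ f + ρ e * f) = if lg s = true then e * f else e * ρ f + ρ e * f := by
  split_ifs with a
  · rw [map_mul, he (hl.trans a), hf a]
  · rw [map_add, map_mul, map_mul, h.ρρ, h.ρρ, add_comm]
theorem uqa_z {c : E} (hc : ρ c = c) {g : G} (hg : g ∈ SK ρ Y 24) : Y 47 c * g = g * Y 47 c :=
  mem_centralizer_iff.1 (h.SA hg) _ (h.mem_A.2 ⟨c, hc, rfl⟩)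
theorem uqa_gen {r s : ℕ} (hr : r < 48) (hs : s < 48) (a : 8 < ip 47 r) (b : 8 < ip 47 s) (e1 : ad r s = 47) {e f : E}
    (he : Ok ρ r e) (hf : Ok ρ s f) :
    Y s f * Y r e * Y s f = Y r e * Y 47 (if lg s = true then e * f else e * ρ f + ρ e * f) := by
  obtain ⟨t1, t2, -⟩ := ((uqa_t1 r hr s hs b).2 a).2 e1
  have o := h.uqa_ok t1 he hf
  have k : Y s f * Y r e = Y r e * Y s f * Y 47 (if lg s = true then e * f else e * ρ f + ρ e * f) := by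
    cases hl : lg s <;> rw [hl] at t1 t2
    · rw [h.c90 r hr s hs t1 hl t2 e f, e1, if_neg (by decide)]
    · rw [h.cl r hr s hs t1 hl t2 e f (he t1) (hf hl), e1, if_pos rfl]
  rw [k, mul_assoc, h.uqa_z o (mem_SK ((uqa_t0 s hs).1 b) hs hf), ← mul_assoc, mul_assoc (Y r e), h.sq hs hf, mul_one]
/-- Weyl elements fixing `47` (words in `0, 1, 2`; `orb2`) -/
theorem ww_Q {w : List ℕ} (hw : ∀ i ∈ w, i < 4) (e : aw w 47 = 47) :
    ww Y w ∈ 𝐍[QQ ρ Y] ∧ ww Y w ∈ 𝐂[SK ρ Y 47] := by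
  refine ⟨cj_eq_iff.1 (h.ww_YS hw (fun _ k => k.1) (fun r hr => ?_) fun _ k => k.1), mem_centralizer_iff.2 fun a ha => ?_⟩
  · have t := (F42S.aw_tab hw (r := 47) (by omega) hr).2.1
    rw [e] at t
    simp only [Set.mem_ofPred_eq, t, hr, F42S.aw_lt hw hr]
  · obtain ⟨c, hc, rfl⟩ := h.mem_A.1 ha
    have k := h.ww_conj hw (r := 47) (by omega) (e := c) fun _ => hc
    rw [e, show tp ρ w c = c by unfold tp; split_ifs <;> simp only [hc], mul_inv_eq_iff_eq_mul] at k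
    exact k.symm
theorem QQ' : ⁅QQ ρ Y, QQ ρ Y⁆ ≤ SK ρ Y 47 :=
  have i : Idl {r | r < 48 ∧ 8 < ip 47 r} {r | 47 ≤ r ∧ r < 48} :=
    idl_up (fun r hr => ⟨(uqa_t0 r hr.1).1 hr.2, hr.1⟩) (by omega)
  h.comm_le i i (idl_up (fun r hr => ⟨by have := hr.1; omega, hr.2⟩) (by omega)) fun r hr s hs =>
    have t := uqa_t1 r hr.1 s hs.1 hs.2
    ⟨hr.1, hs.1, (t.1 hr.2.le).1, fun k => ⟨((t.2 hr.2).1 k).ge, k⟩⟩
theorem sqQ : ∀ y ∈ QQ ρ Y, y * y ∈ SK ρ Y 47 := by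
  intro y hy
  induction hy using closure_induction with
  | mem g hg =>
    obtain ⟨r, hr, e, he, rfl⟩ := hg
    rw [h.sq hr.1 he]
    exact one_mem _
  | one => rw [mul_one]; exact one_mem _
  | mul a b ha hb k k' =>
    rw [show a * b * (a * b) = a * a * ⁅a⁻¹, b⁆ * (b * b) by rw [commutatorElement_def]; group]
    exact mul_mem (mul_mem k (h.QQ' (commutator_mem_commutator (inv_mem ha) hb))) k'
  | inv a _ k => rw [← mul_inv_rev]; exact inv_mem k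
/-- coordinates: the commutator of `y` with `Y s f` sees only the partner `r` of `s` -/
theorem Q_nf {y : G} (hy : y ∈ QQ ρ Y) : ∃ c : ℕ → E, (∀ r, Ok ρ r (c r)) ∧
    (∀ r, ¬ (r < 48 ∧ 8 < ip 47 r) → c r = 0) ∧ y = pr Y (List.range' 24 24) c ∧
    ∀ r < 48, ∀ s < 48, 8 < ip 47 r → 8 < ip 47 s → ad r s = 47 → ∀ f, Ok ρ s f →
      Y s f * y * Y s f = y * Y 47 (if lg s = true then c r * f else c r * ρ f + ρ (c r) * f) := by
  obtain ⟨c, c1, c2, c3⟩ := h.nf uqa_idl' (fun r hr => (uqa_t0 r hr.1).1 hr.2) hy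
  refine ⟨c, c1, c2, c3, fun r hr s hs a b e f hf => ?_⟩
  obtain ⟨t1, -, t3⟩ := ((uqa_t1 r hr s hs b).2 a).2 e
  have o := h.uqa_ok t1 (c1 r) hf
  have g := h.uqa_gen hr hs a b e (c1 r) hf
  generalize (if lg s = true then c r * f else c r * ρ f + ρ (c r) * f) = d at o g ⊢
  have key : ∀ l : List ℕ, l.Nodup → (∀ k ∈ l, 24 ≤ k ∧ k < 48) →
      Y s f * pr Y l c * Y s f = pr Y l c * (if r ∈ l then Y 47 d else 1) := fun l => by
    induction l with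
    | nil => intro _ _; simp [pr, h.sq hs hf]
    | cons k l ih =>
      intro n m
      obtain ⟨n1, n2⟩ := List.nodup_cons.1 n
      obtain ⟨m1, m2⟩ := List.forall_mem_cons.1 m
      have q : Y s f * (Y k (c k) * pr Y l c) * Y s f = Y s f * Y k (c k) * Y s f * (Y s f * pr Y l c * Y s f) := by
        rw [mul_assoc (Y s f * Y k (c k)), ← mul_assoc (Y s f) (Y s f * _), ← mul_assoc (Y s f) (Y s f), h.sq hs hf]
        simp only [one_mul, mul_assoc]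
      rw [pr_cons, q, ih n2 m2]
      by_cases u : k = r
      · subst u
        rw [g, if_neg n1, if_pos List.mem_cons_self, mul_one, mul_assoc, mul_assoc,
          h.uqa_z o (pr_mem fun j hj => mem_SK (m2 j hj).1 (m2 j hj).2 (c1 j))]
      · have v : Y s f * Y k (c k) * Y s f = Y k (c k) := by
          by_cases w : 8 < ip 47 k
          · rw [← h.comm m1.2 hs ((uqa_t1 k m1.2 s hs b).1 w.le).1 (t3 k m1.2 w u) (c1 k) hf, mul_assoc, h.sq hs hf, mul_one]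
          · rw [c2 k fun x => w x.2, h.zero m1.2, mul_one, h.sq hs hf]
        simp only [v, List.mem_cons, Ne.symm u, false_or, mul_assoc]
  have m : r ∈ List.range' 24 24 := List.mem_range'_1.2 ⟨(uqa_t0 r hr).1 a, hr⟩
  rw [c3, key _ List.nodup_range' fun k hk => List.mem_range'_1.1 hk, if_pos m]
/-- coordinates of central elements -/
theorem uqa_cen {y : G} (hy : y ∈ QQ ρ Y ⊓ 𝐂[QQ ρ Y]) : ∃ c : ℕ → E, (∀ r, Ok ρ r (c r)) ∧
    (∀ r, ¬ (r < 48 ∧ 8 < ip 47 r) → c r = 0) ∧ y = pr Y (List.range' 24 24) c ∧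
    ∀ r < 48, ∀ s < 48, 8 < ip 47 r → 8 < ip 47 s → ad r s = 47 → ∀ f, Ok ρ s f →
      (if lg s = true then c r * f else c r * ρ f + ρ (c r) * f) = 0 := by
  obtain ⟨c, c1, c2, c3, k⟩ := h.Q_nf hy.1
  refine ⟨c, c1, c2, c3, fun r hr s hs a b e f hf => ?_⟩
  have k1 := k r hr s hs a b e f hf
  rw [mem_centralizer_iff.1 hy.2 _ (mem_YS (And.intro hs b) hf), mul_assoc, h.sq hs hf, mul_right_inj] at k1
  exact h.inj 47 (by omega) _ (fun _ => h.uqa_ok (((uqa_t1 r hr s hs b).2 a).2 e).1 (c1 r) hf) k1.symm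
/-- `u ↦ ⁅u, y⁆` is a homomorphism `Q → A`; scale the parameter of a generator by fixed elements -/
theorem comQ (f : Fld ρ) : ∀ y ∈ QQ ρ Y, y ∉ 𝐂[QQ ρ Y] → ∀ a ∈ SK ρ Y 47, ∃ u ∈ QQ ρ Y,
    u * y * u⁻¹ = y * a := by
  intro y hy n a ha
  obtain ⟨c, c1, -, -, k⟩ := h.Q_nf hy
  obtain ⟨d, hd, rfl⟩ := h.mem_A.1 ha
  obtain ⟨s, hs, e, he, n'⟩ : ∃ s ∈ {r | r < 48 ∧ 8 < ip 47 r}, ∃ e, Ok ρ s e ∧ ¬ Commute y (Y s e) := by
    by_contra! b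
    exact n (mem_centralizer_iff.2 fun g hg => (YS_comm b hg).symm)
  obtain rfl | ⟨r, hr, b, -, e1⟩ := (uqa_t0 s hs.1).2.2.2.2.1 hs.2
  · exact absurd (h.uqa_z (he (by decide +kernel)) (h.QS hy)).symm n'
  have k1 := k r hr s hs.1 b hs.2 e1
  obtain ⟨g, g1, g2⟩ := f.unit _ (h.uqa_ok (((uqa_t1 r hr s hs.1 hs.2).2 b).2 e1).1 (c1 r) he) fun z => n' (by
    have := k1 e he
    rw [z, h.zero (by omega), mul_one, ← mul_left_inj (Y s e), mul_assoc, h.sq hs.1 he, mul_one] at this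
    exact this.symm)
  have o : Ok ρ s (e * (g * d)) := fun l => by rw [map_mul, map_mul, he l, g1, hd]
  refine ⟨_, mem_YS hs o, ?_⟩
  rw [h.inv hs.1 o, k1 _ o]
  congr 2
  split_ifs at g2 ⊢
  · linear_combination d * g2
  · rw [map_mul, map_mul, g1, hd]
    linear_combination d * g2
theorem ZQ (f : Fld ρ) : QQ ρ Y ⊓ 𝐂[QQ ρ Y] ≤ YS ρ Y {29, 36, 38, 39, 40, 44, 47} := fun y hy => by
  obtain ⟨c, c1, c2, rfl, k⟩ := h.uqa_cen hy
  refine pr_mem fun r hr => ?_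
  have hr' := (List.mem_range'_1.1 hr).2
  by_cases a : 8 < ip 47 r
  · obtain t | ⟨s, hs, b, e, l⟩ := (uqa_t0 r hr').2.2.2.2.2 a
    · exact mem_YS (by simpa using t) (c1 r)
    · have := k r hr' s hs a b e 1 (ok_one s)
      rw [if_pos l, mul_one] at this
      rw [this, h.zero hr']
      exact one_mem _
  · rw [c2 r fun x => a x.2, h.zero hr']
    exact one_mem _
theorem zq (f : Fld ρ) {w : E} (hw : ρ w = w + 1) : QQ ρ Y ⊓ 𝐂[QQ ρ Y] ≤ SK ρ Y 47 := fun y hy => by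
  obtain ⟨c, c1, c2, rfl, k⟩ := h.uqa_cen hy
  refine pr_mem fun r hr => ?_
  have hr' := (List.mem_range'_1.1 hr).2
  by_cases a : 8 < ip 47 r
  · obtain rfl | ⟨s, hs, b, e, -⟩ := (uqa_t0 r hr').2.2.2.2.1 a
    · exact mem_SK le_rfl hr' (c1 47)
    · have k1 := k r hr' s hs a b e 1 (ok_one s)
      have c0 : c r = 0 := by
        cases l : lg s
        · have k2 := k r hr' s hs a b e w (ok_short l w)
          rw [if_neg (by simp [l])] at k1 k2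
          rw [map_one] at k1
          rw [hw] at k2
          linear_combination k2 - w * k1
        · rwa [if_pos l, mul_one] at k1
      rw [c0, h.zero hr']
      exact one_mem _
  · rw [c2 r fun x => a x.2, h.zero hr']
    exact one_mem _
theorem uqa_el {T : Set ℕ} (hT : ∀ r ∈ T, r < 48)
    (hc : ∀ r ∈ T, ∀ s ∈ T, ∀ e f, Ok ρ r e → Ok ρ s f → Commute (Y r e) (Y s f)) : ∀ y ∈ YS ρ Y T, y * y = 1 := by
  intro y hy
  induction hy using closure_induction with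
  | mem g hg =>
    obtain ⟨r, hr, e, he, rfl⟩ := hg
    exact h.sq (hT r hr) he
  | one => exact mul_one 1
  | mul a b ha hb k k' =>
    have c : Commute a b := YS_comm (fun s hs f hf => (YS_comm (fun r hr e he => hc s hs r hr f e hf he) ha).symm) hb
    rw [c.symm.mul_mul_mul_comm, k, k', mul_one]
  | inv a _ k => rw [← mul_inv_rev, k, inv_one]
theorem zsq (f : Fld ρ) : ∀ y ∈ QQ ρ Y ⊓ 𝐂[QQ ρ Y], y * y = 1 := fun y hy => by
  rcases f.tr with a | ⟨w, hw⟩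
  · have b : ∀ r ∈ ({29, 36, 38, 39, 40, 44, 47} : Set ℕ), 24 ≤ r ∧ r < 48 := by simp
    refine h.uqa_el (fun r hr => (b r hr).2) (fun r hr s hs e e' _ _ => ?_) y (h.ZQ f hy)
    exact h.comm0 a (b r hr).2 (b s hs).2 (by have := (b r hr).1; have := (b s hs).1; omega)
      (uqa_t3.2.2 r (by simpa using hr) s (by simpa using hs)) e e'
  · exact h.sqA y (h.zq f hw hy)
/-- `kill'` with `k = 47`, `Ψ = {24, 25, 29, 30, 33, 34, 41}`, `T = {44, 46, 47}` -/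
theorem e2 : ∀ a ∈ SK ρ Y 24, (∀ s ∈ SK ρ Y 24, s * a * s⁻¹ * a⁻¹ ∈ SK ρ Y 47) → a * a = 1 := fun a ha k => by
  have b : ∀ r ∈ ({44, 46, 47} : Set ℕ), 24 ≤ r ∧ r < 48 := by simp
  have b' : ∀ r ∈ ({24, 25, 29, 30, 33, 34, 41} : Set ℕ), 24 ≤ r ∧ r < 48 := by simp
  refine h.uqa_el (fun r hr => (b r hr).2) (fun r hr s hs e e' he he' => ?_) a
    (h.kill' (k := 47) (by omega) ha (fun s hs => ?_) b' (fun r hr => ⟨(b r hr).1, (b r hr).2, fun s hs e he => ?_⟩)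
      fun r h1 h2 => ?_)
  · exact h.comm (b r hr).2 (b s hs).2 (by have := (b r hr).1; have := (b s hs).1; omega)
      ((uqa_t3.1 r (by simpa using hr)).2 s (by simpa using hs)) he he'
  · rw [← commutatorElement_inv]
    exact inv_mem (k _ (mem_SK (b' s hs).1 (b' s hs).2 (ok_one s)))
  · obtain ⟨t1, t2, t3⟩ := (uqa_t3.1 r (by simpa using hr)).1 s (by simpa using hs)
    exact h.cmem (b r hr).2 (b' s hs).2 t1 he (ok_one s) (fun j hj c hc => mem_SK (t2 j hj).ge (by rw [t2 j hj]; omega) hc)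
      (.inr fun j c hc => mem_SK (t3 j).ge j hc)
  · simpa using uqa_t3.2.1 r h2 h1
/-- `Y₂₄(a) Y₄₆(1) Y₂₄(a) = Y₄₆(1) Y₄₇(a)` -/
theorem e3 : ∀ x ∈ SK ρ Y 47, ∃ s ∈ SK ρ Y 24, s * Y 46 1 * s⁻¹ = Y 46 1 * x := fun x hx => by
  obtain ⟨e, he, rfl⟩ := h.mem_A.1 hx
  have o : Ok ρ 24 e := fun _ => he
  refine ⟨_, mem_SK le_rfl (by omega) o, ?_⟩
  rw [h.inv (by omega) o, h.uqa_gen (by omega) (by omega) (by decide +kernel) (by decide +kernel) (by decide +kernel) (ok_one 46) o,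
    if_pos (by decide +kernel), one_mul]
/-- `x ≡ Y_r(e) ⋯` modulo `Q` with `r` a positive Levi root (`25 27 28 30 33 34 35 37 41`), `e ≠ 0`; there are three
roots `s` of `Q` with `Nz r s` and distinct sums `< 47` (decide); `⁅Y s 1, x⁆` has the leading root `r + s`
(`comm_nz`, `comm_lead`, `QQ'`); with `z` they give `16` distinct products (`lead_eq`). -/
theorem tv (f : Fld ρ) : ∀ x ∈ SK ρ Y 24, x ∉ QQ ρ Y → ∀ R : Subgroup G, SK ρ Y 47 ≤ R →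
    (∀ u ∈ QQ ρ Y, ⁅u, x⁆ ∈ R) → 8 < Nat.card R := by
  intro x hx n R hA hR
  have i : Idl {r | 24 ≤ r ∧ r < 48 ∧ ip 47 r = 8} {r | 24 ≤ r ∧ r < 48 ∧ ip 47 r = 8} := fun r hr s hs =>
    ⟨hr.2.1, hs.2.1, by have := hr.1; have := hs.1; omega, fun k => ⟨hr.1.trans ((nf_t2 r hr.2.1 s hs.2.1).2.2.1 hr.1 hs.1).1.le, k,
      (uqa_t2 r hr.2.1 hr.1 hr.2.2).1 s hs.2.1 hs.1 hs.2.2 k⟩⟩
  have l : YS ρ Y {r | 24 ≤ r ∧ r < 48 ∧ ip 47 r = 8} ≤ SK ρ Y 24 := YS_mono fun r hr => And.intro hr.1 hr.2.1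
  have m : x ∈ YS ρ Y ({r | 24 ≤ r ∧ r < 48 ∧ ip 47 r = 8} ∪ {r | r < 48 ∧ 8 < ip 47 r}) :=
    YS_mono (fun r hr => ((uqa_t0 r hr.2).2.1 hr.1).eq_or_lt.imp (fun k => ⟨hr.1, hr.2, k.symm⟩) fun k => ⟨hr.2, k⟩) hx
  rw [YS_union] at m
  obtain ⟨y, hy, q, hq, rfl⟩ := (mem_sup_of_le_normalizer_right (l.trans h.SQ)).1 m
  obtain ⟨r, e, r1, r2, he, e0, k⟩ := h.exists_lead (l hy) (by rintro rfl; exact n (by rwa [one_mul]))
  have rL := h.lead_mem (.inl i) (fun _ k => k.1) hy r1 r2 he e0 k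
  have dbl : ∀ {j : ℕ} {d : E} {g : G}, 24 ≤ j → j < 48 → Ok ρ j d → d ≠ 0 → Y j d * g ∈ SK ρ Y (j + 1) → g ∈ R →
      2 * Nat.card ↥(R ⊓ SK ρ Y (j + 1)) ≤ Nat.card ↥(R ⊓ SK ρ Y j) := fun a b c d0 u v =>
    uqa_dbl (inf_le_inf_left _ (SK_mono (by omega))) ⟨v, (mul_mem_cancel_left (mem_SK le_rfl b c)).1 (SK_mono (by omega) u)⟩
      fun w => d0 (h.lead a b c ((mul_mem_cancel_right (mem_inf.1 w).2).1 u))
  have key : ∀ s < 48, 8 < ip 47 s ∧ Nz r s →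
      2 * Nat.card ↥(R ⊓ SK ρ Y (ad r s + 1)) ≤ Nat.card ↥(R ⊓ SK ρ Y (ad r s)) := fun s hs ⟨a, z⟩ => by
    have s1 := (uqa_t0 s hs).1 a
    have t := ((nf_t2 r r2 s hs).2.2.1 r1 s1).1
    obtain ⟨d, d0, o, u⟩ := h.comm_nz r1 r2 s1 hs z he e0
    have u' := h.comm_lead r1 r2 s1 hs z.1 k (ok_one s)
    have ms : Y s 1 ∈ QQ ρ Y := mem_YS (And.intro hs a) (ok_one s)
    refine dbl (g := ⁅y, Y s 1⁆) (by omega) z.1 o d0 ?_ ?_
    · have e1 : y = Y r e * (Y r e * y) := by rw [← mul_assoc, h.sq r2 he, one_mul]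
      have nn := fun {g} (hg : g ∈ SK ρ Y 24) {x} => PLocal.Amb.conj_mem_of_mem_normalizer (x := x)
        (h.SK_norm (k := ad r s + 1) (by omega) hg)
      rw [e1, comm_mul, ← inv_mul_cancel_left (Y (ad r s) d) ⁅Y r e, Y s 1⁆, ← mul_assoc, ← mul_assoc]
      exact mul_mem (nn (mem_SK (by omega) z.1 o) (nn (mem_SK r1 r2 he) u')) u
    · have u1 := inv_mem (hR _ ms)
      have u2 := h.QQ' (commutator_mem_commutator hq ms)
      rw [commutatorElement_inv, comm_mul, ← mem_centralizer_iff.1 (h.SA (l hy)) _ u2, mul_inv_cancel_right] at u1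
      exact (mul_mem_cancel_left (hA u2)).1 u1
  obtain ⟨a, ha, a1, b, hb, b1, ab, c, hc, c1, bc, cz⟩ := (uqa_t2 r r2 r1 rL.2.2).2
  have mono : ∀ {j j' : ℕ}, j ≤ j' → Nat.card ↥(R ⊓ SK ρ Y j') ≤ Nat.card ↥(R ⊓ SK ρ Y j) := fun u =>
    card_le_of_le (inf_le_inf_left _ (SK_mono u))
  have k1 := key a ha a1
  have k2 := key b hb b1
  have k3 := key c hc c1
  have k4 := dbl (j := 47) (g := Y 47 1) (by omega) (by omega) (ok_one 47) f.ne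
    (by rw [h.sq (by omega) (ok_one 47)]; exact one_mem _) (hA (mem_SK le_rfl (by omega) (ok_one 47)))
  have k5 : 0 < Nat.card ↥(R ⊓ SK ρ Y (47 + 1)) := Nat.card_pos
  have k6 : Nat.card ↥(R ⊓ SK ρ Y (ad r a)) ≤ Nat.card R := card_le_of_le inf_le_left
  have m1 := mono (Nat.succ_le_of_lt ab)
  have m2 := mono (Nat.succ_le_of_lt bc)
  have m3 := mono (Nat.succ_le_of_lt cz)
  simp only [Nat.succ_eq_add_one] at m1 m2 m3
  omega

end Rel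

end Cfsg.Agent.F4Q
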