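import Mathlib
import Cfsg.Agent.F4Q.UqA

/-! Long root elements: `D = Rt (SK ρ Y 0) (Y 47 1)`.  By `pair` every element of `D` is `u Y_r(e) u⁻¹`, `u ∈ S₀`,
`Ty ρ r e`.  ORDER-6 TEST: if `a, b, c` are involutions, `c ≠ 1` commutes with `a, b`, `(a b)³ = 1 ≠ a b` and
`b ∈ D`, then `c a ∉ D` (`ord6`). -/

set_option autoImplicit false
set_option linter.unusedSectionVars false
set_option synthInstance.maxSize 2000
set_option synthInstance.maxHeartbeats 200000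

namespace Cfsg.Agent.F4Q

open Cfsg.Lie Cfsg.Agent.Chev Subgroup Cfsg.Agent.PLocal.Amb
open Cfsg.Agent.F42S (lg ip ad gm sm sr Mo aw)
open Cfsg.Agent.FinS (Rt Rg Uf)
open scoped commutatorElement


variable {E : Type*} [CommRing E] {G : Type*} [Group G] [Finite G] {ρ : E ≃+* E} {Y : ℕ → E → G}

local notation "𝐃" => Rt (SK ρ Y 0) (Y 47 1)

theorem ub_t0 : lg 47 = true ∧ lg 46 = true ∧ lg 24 = true ∧ lg 23 = true ∧ lg 0 = true ∧ lg 44 = false ∧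
    lg 29 = false ∧ lg 42 = true ∧ ip 46 24 = 4 ∧ ad 46 24 = 47 ∧ ip 47 23 = 4 ∧ ad 47 23 = 46 ∧ Mo 23 46 ∧
    Mo 0 23 ∧ ip 46 0 = 4 ∧ ad 46 0 = 23 ∧ ip 44 29 = 8 ∧ ad 44 29 = 47 ∧ ip 47 44 = 12 ∧ ip 47 46 = 12 ∧
    ip 47 47 = 16 ∧ ip 47 42 = 12 ∧ ip 47 24 = 12 ∧ Mo 44 24 ∧ Mo 44 23 ∧ lg 5 = true ∧ ip 46 42 = 8 ∧
    ip 46 5 = 8 ∧ Mo 46 47 := by decide +kernel
theorem ub_t1 : ∀ r < 48, (r = 0 ∨ (ip 47 r = 4 ∧ ad 47 r < 48 ∧ ad (ad 47 r) r < 64) ∨ 8 ≤ ip 47 r) ∧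
    (8 ≤ ip 47 r → r ≠ 0 ∧ ¬ ad 47 r < 48) ∧ (ip 47 r = 8 → r ≠ 47 ∧ ¬ ad 0 r < 48) ∧
    (8 < ip 47 r → 24 ≤ r ∧ (r = 47 ∨ ip 47 r = 12)) ∧
    (lg r = false → ip 47 r = 4 → ad (ad 47 r) r < 48) := by decide +kernel
theorem ub_t2 : ∀ r < 48, ip 47 r = 12 → (lg r = true → ∃ s < 48, lg s = true ∧ ip r s = 4 ∧ ad r s = 47) ∧
    (lg r = false → ∃ l < 48, ∃ s < 48, lg l = true ∧ lg s = false ∧ ip l s = 4 ∧ ad l s = r ∧
      ip 47 l = 12 ∧ ip 47 s = 8 ∧ ad r s < 48 ∧ lg (ad r s) = true ∧ ip 47 (ad r s) = 12) := by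
  decide +kernel
theorem ub_t3 : ∀ r < 48, ∀ s < 48, 8 < ip 47 r → 8 < ip 47 s →
    s ≠ 47 - r ∧ (ad r s < 48 → 8 < ip 47 (ad r s)) := by decide +kernel
theorem ub_t4 : ∀ r ∈ [29, 36, 38, 39, 40, 44, 47], r < 48 ∧ 24 ≤ r ∧ (r = 47 ∨ lg r = false ∧ r ≤ 44) ∧
    ∀ s ∈ [29, 36, 38, 39, 40, 44, 47], s ≠ 47 - r ∧ F42S.cm r s = [] := by decide +kernel
theorem ub_t5 : ∀ m < 48, (∃ l < 48, lg l = true ∧ 8 < ip l m) ∧ (lg m = true → ∃ a < 48, ∃ b < 48,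
    lg a = true ∧ lg b = true ∧ 8 < ip 47 a ∧ 8 < ip a b ∧ 8 < ip b m) := by decide +kernel

theorem ub_t6 : ∀ r < 48, lg r = true → ip r r = 16 := by decide +kernel

theorem ub_idl : Idl {r | r < 48 ∧ 8 < ip 47 r} {r | r < 48 ∧ 8 < ip 47 r} := fun r ⟨a, b⟩ s ⟨c, d⟩ =>
  ⟨a, c, (ub_t3 r a s c b d).1, fun k => ⟨k, (ub_t3 r a s c b d).2 k⟩⟩

theorem ub_ty {r s : ℕ} (hρ : ∀ e, ρ (ρ e) = e) (h : lg s = lg r) (w : List ℕ) {e : E} (he : Ty ρ r e) :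
    Ty ρ s (tp ρ w e) := by
  unfold tp
  split_ifs
  · exact ⟨fun k => he.1 (by simpa using k), fun k => by rw [he.2.1 (h ▸ k), he.2.1 (h ▸ k)],
      fun k => by rw [hρ, mul_comm, he.2.2 (h ▸ k)]⟩
  · exact ⟨he.1, fun k => he.2.1 (h ▸ k), fun k => he.2.2 (h ▸ k)⟩

theorem ub_tp {e : E} (h : ρ e = e) (w : List ℕ) : tp ρ w e = e := by
  unfold tp
  split_ifs <;> simp [h]

theorem ub_ok {r : ℕ} {a e : E} (ha : ρ a = a) (he : Ty ρ r e) : Ok ρ r (a * e) := fun k => by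
  rw [map_mul, ha, he.2.1 k]

namespace Pr
variable (h : Pr ρ Y)
include h

theorem rt_conj {y k : G} (hy : y ∈ 𝐃) (hk : k ∈ SK ρ Y 0) : k * y * k⁻¹ ∈ 𝐃 := by
  obtain ⟨g, hg, rfl⟩ := hy
  exact ⟨k * g, mul_mem hk hg, by group⟩
theorem ub_conj' {y k : G} (hy : k * y * k⁻¹ ∈ 𝐃) (hk : k ∈ SK ρ Y 0) : y ∈ 𝐃 := by
  have := h.rt_conj hy (inv_mem hk)
  rwa [show k⁻¹ * (k * y * k⁻¹) * k⁻¹⁻¹ = y by group] at this
theorem ub_z : Y 47 1 ∈ 𝐃 := ⟨1, one_mem _, by simp⟩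
theorem ub_w {r s : ℕ} (hr : r < 48) (hs : s < 48) (h1 : lg r = true) (h2 : lg s = true) {a : E}
    (ha : ρ a = a) (k : Y r a ∈ 𝐃) : Y s a ∈ 𝐃 := by
  obtain ⟨w, hw, e, -⟩ := F42S.orb2 hr hr hs hs (h1.trans h2.symm) (h1.trans h2.symm)
    (by rw [ub_t6 r hr h1, ub_t6 s hs h2])
  have := h.rt_conj k (h.ww_mem hw)
  rwa [h.ww_conj hw hr fun _ => ha, e, ub_tp ha] at this
/-- `Y s f Y r e Y s f = Y r e Y (r + s) (e f)` for long roots at `120°` -/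
theorem ub_cl {r s : ℕ} (hr : r < 48) (hs : s < 48) (h1 : lg r = true) (h2 : lg s = true)
    (h3 : ip r s = 4) {e f : E} (he : ρ e = e) (hf : ρ f = f) (h4 : ad r s < 48)
    (h5 : Commute (Y s f) (Y (ad r s) (e * f))) :
    Y s f * Y r e * (Y s f)⁻¹ = Y r e * Y (ad r s) (e * f) := by
  rw [h.cl r hr s hs h1 h2 h3 e f he hf, mul_assoc (Y r e), h5.eq, ← mul_assoc, mul_inv_cancel_right]
/-- `Y₂₄(a) Y₄₆(1) Y₂₄(a) = Y₄₆(1) Y₄₇(a)`, conjugate by `Y₂₃(a⁻¹)`; Weyl elements -/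
theorem rt_long {r : ℕ} (hr : r < 48) (h1 : lg r = true) {a : E} (ha : ρ a = a) (a0 : a ≠ 0) :
    Y r a ∈ 𝐃 := by
  obtain ⟨t1, t2, t3, t4, -, -, -, -, t5, t6, t7, t8, t9, -, -, -, -, -, -, -, -, -, -, -, -, -, -, -, t10⟩ :=
    ub_t0
  refine h.ub_w (r := 47) (by omega) hr t1 h1 ha ?_
  obtain ⟨b, hb, ab⟩ := h.fld.unit a ha a0
  have k0 : Y 46 1 ∈ 𝐃 := h.ub_w (by omega) (by omega) t1 t2 (map_one ρ) h.ub_z
  have k1 := h.rt_conj k0 (mem_SK (r := 24) (Nat.zero_le _) (by omega) (e := a) fun _ => ha)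
  have c1 : Commute (Y 24 a) (Y 47 (1 * a)) := (mem_centralizer_iff.1 (h.SA (mem_SK le_rfl (by omega)
    fun _ => ha)) _ (mem_SK le_rfl (by omega) fun _ => by rw [one_mul, ha])).symm
  rw [h.ub_cl (by omega) (by omega) t2 t3 t5 (map_one ρ) ha (by omega) (t6 ▸ c1), t6, one_mul] at k1
  have k2 := h.rt_conj k1 (mem_SK (r := 23) (Nat.zero_le _) (by omega) (e := b) fun _ => hb)
  have c2 : Commute (Y 23 b) (Y 46 1) := h.com 23 (by omega) 46 (by omega) t9 _ _ (fun _ => hb) (ok_one _)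
  have c3 : Commute (Y 46 1) (Y 47 a) := h.com 46 (by omega) 47 (by omega) t10 _ _ (ok_one _) fun _ => ha
  rw [← conj_mul, h.ub_cl (by omega) (by omega) t1 t4 t7 ha hb (by omega) (by rw [t8, ab]; exact c2), t8, ab,
    c2.eq, mul_inv_cancel_right, ← mul_assoc, c3.eq, mul_assoc, h.sq (by omega) (ok_one _), mul_one] at k2
  exact k2
theorem rt : ∀ x ∈ SK ρ Y 47, x ≠ 1 → x ∈ 𝐃 := fun x hx x1 => by
  obtain ⟨e, he, rfl⟩ := h.mem_A.1 hx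
  exact h.rt_long (by omega) ub_t0.1 he fun k => x1 (by rw [k, h.zero (by omega)])
theorem rt_sq {y : G} (hy : y ∈ 𝐃) : y * y = 1 ∧ y ≠ 1 ∧ y ∈ SK ρ Y 0 := by
  obtain ⟨g, hg, rfl⟩ := hy
  refine ⟨by rw [conj_mul, h.sq (by omega) (ok_one _)]; simp, fun k => h.z1 h.fld (r := 47) (by omega) ?_,
    mul_mem (mul_mem hg (mem_SK (Nat.zero_le _) (by omega) (ok_one _))) (inv_mem hg)⟩
  simpa using k
theorem rt_nf {y : G} (hy : y ∈ 𝐃) : ∃ u ∈ SK ρ Y 24, ∃ r < 48, ∃ e, Ty ρ r e ∧ y = u * Y r e * u⁻¹ := by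
  obtain ⟨g, hg, rfl⟩ := hy
  obtain ⟨u, hu, r, hr, e, he, k⟩ := h.pair g hg
  exact ⟨u, hu, r, hr, e, he, by rw [k 1 (map_one ρ), one_mul]⟩
theorem ub_pos {r : ℕ} {e : E} (he : Ty ρ r e) {u : G} (hu : u ∈ SK ρ Y 24)
    (h1 : u * Y r e * u⁻¹ ∈ SK ρ Y 24) : 24 ≤ r := by
  by_contra k
  rw [mul_mem_cancel_right (inv_mem hu), mul_mem_cancel_left hu] at h1
  exact he.1 (h.neg (by omega) he.ok h1)
/-- the leading term of an element of `D ∩ S₀` (`neg`, `SK_comm`, `lead_eq`) -/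
theorem rt_lead {y : G} (hy : y ∈ 𝐃) {r : ℕ} {e : E} (hr : 24 ≤ r) (hr' : r < 48) (he : Ok ρ r e)
    (e0 : e ≠ 0) (h1 : Y r e * y ∈ SK ρ Y (r + 1)) : Ty ρ r e := by
  obtain ⟨u, hu, s, hs, f, hf, rfl⟩ := h.rt_nf hy
  have k := h.ub_pos hf hu ((mul_mem_cancel_left (mem_SK hr hr' he)).1 (SK_mono (by omega) h1))
  have k1 := inv_mem (h.SK_comm k (commutator_mem_commutator hu (mem_SK le_rfl hs hf.ok)))
  rw [commutatorElement_inv, commutatorElement_def, h.inv hs hf.ok, mul_assoc (Y s f), mul_assoc (Y s f)] at k1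
  obtain ⟨rfl, rfl⟩ := h.lead_eq hr hr' k hs he hf.ok e0 hf.1 h1 k1
  exact hf
theorem ub_S {u : G} (hu : u ∈ SK ρ Y 24) {a : E} (ha : ρ a = a) : u * Y 47 a * u⁻¹ = Y 47 a := by
  rw [← mem_centralizer_iff.1 (h.SA hu) _ (mem_SK le_rfl (by omega) fun _ => ha), mul_inv_cancel_right]
theorem ub_cz {r : ℕ} (hr : r < 48) (h1 : 8 ≤ ip 47 r) {e : E} (he : Ok ρ r e) :
    Commute (Y 47 1) (Y r e) :=
  h.comm (by omega) hr ((ub_t1 r hr).2.1 h1).1 ((ub_t1 r hr).2.1 h1).2 (ok_one _) he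
/-- WLOG `a = z`, `b = Y_r(e)`.  `ip 47 r ≥ 8`: they commute.  `ip 47 r = 4`: `(z b)²` is an involution commuting
with both, `(z b)⁴ = 1`.  `r = 0`: `sl2`. -/
theorem ord6 {a b : G} (ha : a ∈ 𝐃) (hb : b ∈ 𝐃) (e : (a * b) ^ 6 = 1) :
    (a * b) ^ 3 = 1 ∨ (a * b) ^ 2 = 1 := by
  obtain ⟨g, hg, rfl⟩ := ha
  obtain ⟨u, hu, r, hr, f, hf, k⟩ := h.rt_nf (h.rt_conj hb (inv_mem hg))
  have e1 : g * Y 47 1 * g⁻¹ * b = g * u * (Y 47 1 * Y r f) * (g * u)⁻¹ := by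
    rw [show b = g * (g⁻¹ * b * g⁻¹⁻¹) * g⁻¹ by group, k]
    nth_rw 1 [← h.ub_S hu (map_one ρ)]
    group
  simp only [e1, conj_pow, conj_eq_one_iff] at e ⊢
  have z := h.sq (r := 47) (by omega) (ok_one _)
  have y := h.sq hr hf.ok
  obtain rfl | ⟨t1, t2, -⟩ | t := (ub_t1 r hr).1
  · exact h.sl2 f (hf.2.1 ub_t0.2.2.2.2.1) e
  · obtain ⟨c, w, hc, k1, k2, -⟩ := h.cf (r := 47) (by omega) hr t2 (ok_one _) hf.ok
    have k3 : (Y 47 1 * Y r f) ^ 2 = Y (ad 47 r) c * w := by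
      rw [← k1, commutatorElement_def, h.inv (by omega) (ok_one _), h.inv hr hf.ok, pow_two, mul_assoc _ (Y 47 1)]
    have k4 : (Y (ad 47 r) c * w) ^ 2 = 1 := by
      obtain rfl | ⟨n, k5, d, hd, rfl⟩ := k2
      · rw [mul_one, pow_two, h.sq t2 hc]
      · obtain ⟨-, -, t | t | t | t⟩ := nf_t1 47 (by omega) r hr t2
        · exact absurd (t.1.trans t.2.1.symm) n
        · exact absurd (t.1.trans t.2.1.symm) n
        · exact absurd (t.1.trans t.2.1.symm) n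
        · rw [(h.com _ t2 _ k5 t.2.2.2.2 _ _ hc hd).mul_pow, pow_two, pow_two, h.sq t2 hc, h.sq k5 hd, mul_one]
    right
    rw [show 6 = 2 * 2 + 2 from rfl, pow_add, pow_mul, k3, k4, one_mul, ← k3] at e
    exact e
  · right
    rw [(h.ub_cz hr t hf.ok).mul_pow, pow_two, pow_two, z, y, mul_one]
theorem test {a b c : G} (hb : b ∈ 𝐃) (h1 : a * a = 1) (h2 : c * c = 1) (h3 : c ≠ 1) (h4 : Commute c a)
    (h5 : Commute c b) (h6 : (a * b) ^ 3 = 1) (h7 : a * b ≠ 1) : c * a ∉ 𝐃 := fun k => by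
  have c2 : c ^ 2 = 1 := by rw [pow_two, h2]
  have p : ∀ n, (c * a * b) ^ n = c ^ n * (a * b) ^ n := fun n => by rw [mul_assoc, (h4.mul_right h5).mul_pow]
  obtain e | e := h.ord6 k hb (by
    rw [p, show 6 = 2 * 3 from rfl, pow_mul, c2, one_pow, one_mul, mul_comm 2, pow_mul, h6, one_pow])
  · rw [p, h6, mul_one, pow_succ, c2, one_mul] at e
    exact h3 e
  · rw [p, c2, one_mul] at e
    rw [pow_succ, e, one_mul] at h6
    exact h7 h6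
theorem cz : ∀ g ∈ SK ρ Y 0, g * Y 47 1 = Y 47 1 * g → g ∈ 𝐂[SK ρ Y 47] := fun g hg e => by
  obtain ⟨u, hu, r, hr, f, hf, k⟩ := h.pair g hg
  have k1 := k 1 (map_one ρ)
  rw [e, mul_inv_cancel_right, one_mul] at k1
  have zS : Y 47 1 ∈ SK ρ Y 24 := mem_SK (by omega) (by omega) (ok_one _)
  have k2 := h.ub_pos hf hu (k1 ▸ zS)
  have k3 : Y 47 1 = Y r f := by
    rw [← h.ub_S (inv_mem hu) (map_one ρ), k1]; group
  obtain ⟨rfl, rfl⟩ := h.lead_eq (g := Y 47 1) k2 hr (r' := 47) (by omega) (by omega) hf.ok (ok_one _) hf.1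
    h.fld.ne (by rw [k3, h.sq hr hf.ok]; exact one_mem _) (by rw [h.sq (by omega) (ok_one _)]; exact one_mem _)
  refine mem_centralizer_iff.2 fun x hx => ?_
  obtain ⟨a, ha, rfl⟩ := h.mem_A.1 hx
  have := k a ha
  rw [mul_one, h.ub_S hu ha, mul_inv_eq_iff_eq_mul] at this
  exact this.symm
theorem ub_ne {l : ℕ} (hl : 24 ≤ l) (hl' : l < 48) : Y l 1 * Y (47 - l) 1 ≠ 1 := fun k =>
  h.fld.ne (h.neg (r := 47 - l) (by omega) (ok_one _) (by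
    rw [← inv_eq_iff_mul_eq_one] at k
    exact k ▸ inv_mem (mem_SK hl hl' (ok_one _))))
/-- the test with `Y_{-l}(1)` -/
theorem ub_test {l : ℕ} (hl : 24 ≤ l) (hl' : l < 48) (h1 : lg (47 - l) = true) {c : G} (h2 : c * c = 1)
    (h3 : c ≠ 1) (h4 : Commute c (Y l 1)) (h5 : Commute c (Y (47 - l) 1)) :
    c * Y l 1 ∉ 𝐃 ∧ c * Y l 1 ≠ 1 := by
  refine ⟨h.test (h.rt_long (by omega) h1 (map_one ρ) h.fld.ne) (h.sq hl' (ok_one _)) h2 h3 h4 h5 (h.three hl')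
    (h.ub_ne hl hl'), fun k => h.ub_ne hl hl' ?_⟩
  have k1 := h.three hl'
  rw [← eq_inv_iff_mul_eq_one, h.inv hl' (ok_one _)] at k
  rw [k] at h5
  rwa [pow_succ, h5.mul_pow, pow_two, pow_two, h.sq hl' (ok_one _), h.sq (by omega) (ok_one _), one_mul,
    one_mul] at k1
theorem ub_comz {r : ℕ} (hr : r < 48) {e : E} (he : Ty ρ r e) (c : Commute (Y r e) (Y 47 1)) : 8 ≤ ip 47 r := by
  obtain ⟨t1, t2, -, t4, t0, -, -, -, -, -, t7, t8, t9, t10, t11, t12, -⟩ := ub_t0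
  obtain rfl | ⟨k1, k2, -⟩ | t := (ub_t1 r hr).1
  · have a := he.2.1 t0
    have c1 : Commute (Y 0 e) (Y 23 1) := h.com 0 hr 23 (by omega) t10 _ _ he.ok (ok_one _)
    have e1 := h.cl 47 (by omega) 23 (by omega) t1 t4 t7 1 1 (map_one ρ) (map_one ρ)
    have e2 := h.cl 46 (by omega) 0 hr t2 t0 t11 1 e (map_one ρ) a
    rw [t8, one_mul] at e1
    rw [t12, one_mul] at e2
    have c2 : Commute (Y 0 e) (Y 47 1 * Y 23 1 * Y 46 1) := e1 ▸ c1.mul_right c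
    have c3 : Commute (Y 0 e) (Y 46 1) := by
      have := (c.mul_right c1).inv_right.mul_right c2
      rwa [inv_mul_cancel_left] at this
    rw [c3.eq, left_eq_mul] at e2
    exact absurd (h.inj 23 (by omega) e (fun _ => a) e2) he.1
  · cases hl : lg r
    · have e1 := h.cm 47 (by omega) r hr t1 hl k1 1 e (map_one ρ)
      rw [c.eq, left_eq_mul, he.2.2 hl, mul_zero, h.zero ((ub_t1 r hr).2.2.2.2 hl k1), mul_one, one_mul] at e1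
      obtain ⟨-, -, t | t | t | t⟩ := nf_t1 47 (by omega) r hr k2
      · simp [t1] at t
      · simp [t1] at t
      · simp [hl] at t
      · exact absurd (h.inj _ k2 e (ok_short t.2.2.1 e) e1) he.1
    · have e1 := h.cl 47 (by omega) r hr t1 hl k1 1 e (map_one ρ) (he.2.1 hl)
      rw [c.eq, left_eq_mul, one_mul] at e1
      exact absurd (h.inj _ k2 e (fun _ => he.2.1 hl) e1) he.1
  · exact t
/-- `Y_r(e)` commuting with `z` has `8 ≤ ip 47 r` (for `r = 0` compare the actions of `z Y₀(e)`, `Y₀(e) z` on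
`Y₂₃(1)`); `ip 47 r = 8` is excluded by the test with `Y₀(1)`. -/
theorem col : ∀ y ∈ 𝐃, y * Y 47 1 ∈ 𝐃 → y ∈ QQ ρ Y := fun y hy hz => by
  obtain ⟨u, hu, r, hr, e, he, rfl⟩ := h.rt_nf hy
  refine PLocal.Amb.conj_mem_of_mem_normalizer (h.SQ hu) ?_
  have k : Y r e * Y 47 1 ∈ 𝐃 := h.ub_conj' (k := u) (by
    rw [← conj_mul, h.ub_S hu (map_one ρ)]; exact hz) (SK_mono (by omega) hu)
  have c : Commute (Y r e) (Y 47 1) := by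
    have := (h.rt_sq k).1
    rw [← eq_inv_iff_mul_eq_one, mul_inv_rev, h.inv hr he.ok, h.inv (by omega) (ok_one _)] at this
    exact this
  obtain t | t := (h.ub_comz hr he c).eq_or_lt
  · have t1 := (ub_t1 r hr).2.2.1 t.symm
    exact absurd k (h.ub_test (l := 47) (by omega) (by omega) ub_t0.2.2.2.2.1 (h.sq hr he.ok)
      (fun k => he.1 (h.inj r hr e he.ok k)) c
      (h.comm (by omega) hr t1.1 t1.2 (ok_one _) he.ok).symm).1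
  · exact mem_YS (S := {r | r < 48 ∧ 8 < ip 47 r}) ⟨hr, t⟩ he.ok
theorem ub_col {r : ℕ} (hr : r < 48) (h1 : lg r = true) (h2 : ip 47 r = 12) {e : E} (he : ρ e = e)
    (e0 : e ≠ 0) : Y r e ∈ 𝐃 ∧ Y r e * Y 47 1 ∈ 𝐃 := by
  have k := h.rt_long hr h1 he e0
  obtain ⟨s, hs, t1, t2, t3⟩ := (ub_t2 r hr h2).1 h1
  obtain ⟨f, hf, ef⟩ := h.fld.unit e he e0
  refine ⟨k, ?_⟩
  have k1 := h.rt_conj k (mem_SK (Nat.zero_le _) hs (e := f) fun _ => hf)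
  have t4 : 8 ≤ ip 47 s := by
    have : ∀ r < 48, ∀ s < 48, ip 47 r = 12 → ad r s = 47 → 8 ≤ ip 47 s := by decide +kernel
    exact this r hr s hs h2 t3
  rwa [h.ub_cl hr hs h1 t1 t2 he hf (by omega) (by
    rw [t3, ef]; exact (h.ub_cz hs t4 fun _ => hf).symm), t3, ef] at k1
theorem ub_T {k y : G} (hk : k ∈ SK ρ Y 0) (c : k * Y 47 1 = Y 47 1 * k)
    (hy : y ∈ closure {y | y ∈ 𝐃 ∧ y * Y 47 1 ∈ 𝐃}) : k * y * k⁻¹ ∈ closure {y | y ∈ 𝐃 ∧ y * Y 47 1 ∈ 𝐃} := by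
  refine cj_le_iff_forall.1 (cj_le_iff.2 ((closure_le _).2 fun x hx => ?_)) y hy
  rw [SetLike.mem_coe, mem_cj, inv_inv]
  refine subset_closure ⟨h.rt_conj hx.1 hk, ?_⟩
  have := h.rt_conj hx.2 hk
  rwa [← conj_mul, c, mul_inv_cancel_right] at this
/-- `Y_l(c) z ∈ D` for long `l ≠ 47` in `Q` (`Q_nf`); a short `Y_{l+s}(b)` is a product of `Y_l(1)`,
`Y_s(b) Y_l(1) Y_s(b)`, `Y_{l+2s}(·)` with `s` a short root orthogonal to `47`. -/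
theorem genQ' : QQ ρ Y ≤ closure {y | y ∈ 𝐃 ∧ y * Y 47 1 ∈ 𝐃} ⊔ SK ρ Y 47 := by
  have L : ∀ r < 48, lg r = true → ip 47 r = 12 → ∀ e, ρ e = e →
      Y r e ∈ closure {y | y ∈ 𝐃 ∧ y * Y 47 1 ∈ 𝐃} := fun r hr h1 h2 e he => by
    by_cases e0 : e = 0
    · rw [e0, h.zero hr]; exact one_mem _
    · exact subset_closure (h.ub_col hr h1 h2 he e0)
  refine YS_le.2 fun r ⟨hr, t⟩ e he => ?_
  obtain rfl | t1 := ((ub_t1 r hr).2.2.2.1 t).2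
  · exact mem_sup_right (mem_SK le_rfl hr he)
  refine mem_sup_left ?_
  cases hl : lg r
  · obtain ⟨l, hl', s, hs, a1, a2, a3, rfl, a5, a6, a7, a8, a9⟩ := (ub_t2 r hr t1).2 hl
    have k := h.cm l hl' s hs a1 a2 a3 1 e (map_one ρ)
    have k1 := L l hl' a1 a5 1 (map_one ρ)
    have k2 := h.ub_T (inv_mem (mem_SK (Nat.zero_le _) hs (ok_short a2 e)))
      (h.ub_cz hs a6.ge (ok_short a2 e)).symm.inv_left.eq (inv_mem k1)
    have k3 := L _ a7 a8 a9 (1 * (e * ρ e)) (by rw [one_mul, map_mul, h.ρρ, mul_comm])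
    have k4 := mul_mem (mul_mem k2 k1) (inv_mem k3)
    rwa [inv_inv, mul_assoc _ (Y s e), k, one_mul e, ← mul_inv_rev, inv_mul_cancel_left, mul_inv_cancel_right] at k4
  · exact L r hr hl t1 e (he hl)
theorem genQ : QQ ρ Y ≤ closure (𝐃 ∩ QQ ρ Y) :=
  h.genQ'.trans (sup_le (closure_mono fun y hy => ⟨hy.1, h.col y hy.1 hy.2⟩) fun x hx => by
    by_cases x1 : x = 1
    · rw [x1]; exact one_mem _
    · exact subset_closure ⟨h.rt x hx x1, h.AQ hx⟩)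
theorem cq : ∀ g ∈ SK ρ Y 0, g * Y 47 1 = Y 47 1 * g → g ∈ 𝐍[QQ ρ Y] := fun g hg e =>
  mem_normalizer_of_cj_le ((cj_mono g h.genQ').trans (by
    rw [cj_sup]
    refine sup_le (cj_le_iff_forall.2 fun x hx => (closure_le _).2 (fun y hy => h.col y hy.1 hy.2)
      (h.ub_T hg e hx)) (cj_le_iff_forall.2 fun x hx => ?_)
    rw [← mem_centralizer_iff.1 (h.cz g hg e) x hx, mul_inv_cancel_right]
    exact h.AQ hx))
theorem g3 : ∀ k ∈ SK ρ Y 0, k * Y 47 1 * k⁻¹ ∈ SK ρ Y 24 → cj(k, SK ρ Y 47) ≤ SK ρ Y 24 := fun k hk e => by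
  obtain ⟨u, hu, r, hr, f, hf, k1⟩ := h.pair k hk
  rw [k1 1 (map_one ρ), one_mul] at e
  refine cj_le_iff_forall.2 fun x hx => ?_
  obtain ⟨a, ha, rfl⟩ := h.mem_A.1 hx
  rw [k1 a ha]
  exact mul_mem (mul_mem hu (mem_SK (h.ub_pos hf hu e) hr (ub_ok ha hf))) (inv_mem hu)
theorem ub_Q {r : ℕ} (hr : r < 48) {e : E} (he : Ty ρ r e) {u : G} (hu : u ∈ SK ρ Y 24)
    (h1 : u * Y r e * u⁻¹ ∈ QQ ρ Y) : 8 < ip 47 r :=
  (h.mem_of_mem (.inl ub_idl) (fun s hs => ((ub_t1 s hs.1).2.2.2.1 hs.2).1) hr he.ok he.1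
    ((mem_normalizer_iff.1 (h.SQ hu) _).2 h1)).2
theorem g3Q : ∀ k ∈ SK ρ Y 0, k * Y 47 1 * k⁻¹ ∈ QQ ρ Y → cj(k, SK ρ Y 47) ≤ QQ ρ Y := fun k hk e => by
  obtain ⟨u, hu, r, hr, f, hf, k1⟩ := h.pair k hk
  rw [k1 1 (map_one ρ), one_mul] at e
  refine cj_le_iff_forall.2 fun x hx => ?_
  obtain ⟨a, ha, rfl⟩ := h.mem_A.1 hx
  rw [k1 a ha]
  exact PLocal.Amb.conj_mem_of_mem_normalizer (h.SQ hu) (mem_YS (S := {r | r < 48 ∧ 8 < ip 47 r})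
    ⟨hr, h.ub_Q hr hf hu e⟩ (ub_ok ha hf))
/-- `y = Y_r(e)`; `r ≠ 44, 47`: `comm_nz`; `r = 44`: `⁅Y₄₄(e), Y₂₉(1)⁆ = Y₄₇(e + ρ e)`, `tr_ne` -/
theorem zr : ∀ y ∈ 𝐃, y ∈ SK ρ Y 24 ⊓ 𝐂[SK ρ Y 24] → y ∈ SK ρ Y 47 := fun y hy ⟨h1, h2⟩ => by
  obtain ⟨u, hu, r, hr, e, he, k⟩ := h.rt_nf hy
  have k0 := h.ub_pos he hu (k ▸ h1)
  have c := mem_centralizer_iff.1 h2
  have k1 : y = Y r e := by
    rw [eq_mul_inv_iff_mul_eq, ← c u hu] at k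
    exact mul_left_cancel k
  subst k1
  by_cases a : r = 47
  · exact mem_SK a.ge hr he.ok
  by_cases b : r = 44
  · subst b
    obtain ⟨-, -, -, -, -, t1, t2, -, -, -, -, -, -, -, -, -, t3, t4, -⟩ := ub_t0
    have e1 := h.c90 44 hr 29 (by omega) t1 t2 t3 e 1
    rw [c _ (mem_SK (by omega) (by omega) (ok_one _)), left_eq_mul, t4, map_one, mul_one, mul_one] at e1
    exact absurd (h.inj 47 (by omega) _ (fun _ => by rw [map_add, h.ρρ, add_comm]) e1)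
      (h.fld.tr_ne h.two he.1 (he.2.2 t1))
  obtain ⟨s, hs, s1, s2⟩ := nf_t3 r (by omega) k0 b
  obtain ⟨f, f0, hf, k2⟩ := h.comm_nz k0 hr s1 hs s2 he.ok he.1
  rw [commutatorElement_eq_one_iff_mul_comm.2 (c _ (mem_SK s1 hs (ok_one _))).symm, mul_one] at k2
  exact absurd (h.lead (k0.trans ((nf_t2 r hr s hs).2.2.1 k0 s1).1.le) s2.1 hf k2) f0
/-- an element of `D ∩ Q` is conjugate in `C(A) ⊓ N(Q)` to `Y₄₄(e)`, `Y₄₆(e)` or `Y₄₇(e)` (`orb2`, `ww_Q`) -/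
theorem rtQ {x : G} (hx : x ∈ 𝐃) (h1 : x ∈ QQ ρ Y) : ∃ k ∈ SK ρ Y 0 ⊓ 𝐍[QQ ρ Y] ⊓ 𝐂[SK ρ Y 47],
    ∃ r, (r = 44 ∨ r = 46 ∨ r = 47) ∧ ∃ e, Ty ρ r e ∧ x = k * Y r e * k⁻¹ := by
  obtain ⟨u, hu, r, hr, e, he, rfl⟩ := h.rt_nf hx
  have u1 : u ∈ SK ρ Y 0 ⊓ 𝐍[QQ ρ Y] ⊓ 𝐂[SK ρ Y 47] := ⟨⟨SK_mono (by omega) hu, h.SQ hu⟩, h.SA hu⟩
  obtain rfl | t := ((ub_t1 r hr).2.2.2.1 (h.ub_Q hr he hu h1)).2
  · exact ⟨u, u1, 47, by simp, e, he, rfl⟩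
  obtain ⟨s, hs, a1, a2, a3⟩ : ∃ s, (s = 44 ∨ s = 46 ∨ s = 47) ∧ s < 48 ∧ lg s = lg r ∧ ip 47 s = 12 := by
    obtain ⟨-, t1, -, -, -, t2, -, -, -, -, -, -, -, -, -, -, -, -, t3, t4, -⟩ := ub_t0
    cases lg r
    · exact ⟨44, by simp, by omega, t2, t3⟩
    · exact ⟨46, by simp, by omega, t1, t4⟩
  obtain ⟨w, hw, w1, w2⟩ := F42S.orb2 (r := 47) (r' := 47) (by omega) a1 (by omega) hr rfl a2 (a3.trans t.symm)
  have k := ub_ty h.ρρ a2 w he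
  refine ⟨u * ww Y w, mul_mem u1 ⟨⟨h.ww_mem hw, (h.ww_Q hw w1).1⟩, (h.ww_Q hw w1).2⟩, s, hs, _, k, ?_⟩
  have k1 := h.ww_conj hw a1 k.ok
  rw [w2, tp_tp h.ρρ] at k1
  rw [← k1]; group
/-- `zq` if `ρ ≠ 1`.  If `ρ = 1`: `c ∈ {1, Y₄₆(e), Y₄₇(e)}`; for `y ∉ A` the leading root of `c y` is short
(`ZQ`, `lead_mem`), against `rt_lead`. -/
theorem uniq : ∀ c ∈ QQ ρ Y, c ∈ 𝐃 ∨ c = 1 → ∀ y ∈ QQ ρ Y ⊓ 𝐂[QQ ρ Y], c * y ∈ 𝐃 →
    y ∈ SK ρ Y 47 := fun c hc h1 y hy h2 => by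
  obtain h0 | ⟨w, hw⟩ := h.fld.tr
  swap
  · exact h.zq h.fld hw hy
  have L : ∀ r e, Ty ρ r e → lg r = true := fun r e he => by
    cases hl : lg r
    · obtain ⟨f, -, ef⟩ := h.fld.unit e (h0 e) he.1
      have := he.2.2 hl
      rw [h0] at this
      exact absurd (by rw [← mul_one e, ← ef, ← mul_assoc, this, zero_mul]) he.1
    · rfl
  have M : ∀ c ∈ QQ ρ Y, c ∈ SK ρ Y 46 → ∀ y ∈ QQ ρ Y ⊓ 𝐂[QQ ρ Y], c * y ∈ 𝐃 → y ∈ SK ρ Y 47 :=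
    fun c hc h1 y hy h2 => by
      by_cases y1 : y = 1
      · rw [y1]; exact one_mem _
      obtain ⟨r, e, a1, a2, a3, a4, a5⟩ := h.exists_lead (h.QS hy.1) y1
      have m : ∀ r, r ∈ ({29, 36, 38, 39, 40, 44, 47} : Set ℕ) → r ∈ [29, 36, 38, 39, 40, 44, 47] := by simp
      have k := m r (h.lead_mem (.inr ⟨h0, fun r hr s hs => ⟨(ub_t4 r (m r hr)).1, (ub_t4 s (m s hs)).1,
        ((ub_t4 r (m r hr)).2.2.2 s (m s hs)).1, by simp [((ub_t4 r (m r hr)).2.2.2 s (m s hs)).2]⟩⟩)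
        (fun r hr => (ub_t4 r (m r hr)).2.1) (h.ZQ h.fld hy) a1 a2 a3 a4 a5)
      obtain rfl | ⟨b1, b2⟩ := (ub_t4 r k).2.2.1
      · exact (mul_mem_cancel_left (mem_SK le_rfl a2 a3)).1 (SK_mono (by omega) a5)
      · have := L r e (h.rt_lead h2 a1 a2 a3 a4 (by
          rw [mem_centralizer_iff.1 hy.2 c hc, ← mul_assoc]
          exact mul_mem a5 (SK_mono (by omega) h1)))
        simp [b1] at this
  obtain h1 | rfl := h1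
  swap
  · exact M 1 hc (one_mem _) y hy h2
  obtain ⟨k, ⟨⟨k1, k2⟩, k3⟩, r, hr, e, he, rfl⟩ := h.rtQ h1 hc
  have r1 : 46 ≤ r ∧ r < 48 := by
    have := L r e he
    obtain rfl | rfl | rfl := hr
    · simp [ub_t0.2.2.2.2.2.1] at this
    · omega
    · omega
  have := M (Y r e) ((mem_normalizer_iff.1 k2 _).2 hc) (mem_SK r1.1 r1.2 he.ok) (k⁻¹ * y * k)
    ⟨inv_conj_mem_of_mem_normalizer k2 hy.1,
      inv_conj_mem_of_mem_normalizer (normalizer_le_normalizer_centralizer _ k2) hy.2⟩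
    (h.ub_conj' (k := k) (by rw [← conj_mul]; convert h2 using 2; group) k1)
  have k4 := mem_centralizer_iff.1 k3 _ this
  rw [← mul_assoc, ← mul_assoc, mul_inv_cancel, one_mul, mul_left_inj] at k4
  exact k4 ▸ this
/-- `x = Y₄₆(e)`: `u = Y₄₂(1)`, test with `Y₅(1)`.  `x = Y₄₄(e)`: `u = Y₂₄(1)`, test with `Y₂₃(1)`. -/
theorem g1 : ∀ x ∈ QQ ρ Y, x ∈ 𝐃 → x ∉ SK ρ Y 47 → ∃ u ∈ 𝐃, u * Y 47 1 = Y 47 1 * u ∧ u * x = x * u ∧
    u * Y 47 1 ∈ 𝐃 ∧ u * x ∉ 𝐃 ∧ u * x ≠ 1 := fun x hx h1 h2 => by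
  obtain ⟨k, ⟨⟨k1, k2⟩, k3⟩, r, hr, e, he, rfl⟩ := h.rtQ h1 hx
  have kz : k * Y 47 1 * k⁻¹ = Y 47 1 := by
    rw [← mem_centralizer_iff.1 k3 _ (mem_SK le_rfl (by omega) (ok_one _)), mul_inv_cancel_right]
  have r1 : r < 48 := by omega
  obtain ⟨l, l1, l2, l3, l4, l5, l6, l7⟩ : ∃ l, 24 ≤ l ∧ l < 48 ∧ lg l = true ∧ lg (47 - l) = true ∧
      ip 47 l = 12 ∧ Commute (Y r e) (Y l 1) ∧ Commute (Y r e) (Y (47 - l) 1) := by
    obtain ⟨-, t1, t2, t3, -, -, -, t4, -, -, -, -, -, -, -, -, -, -, -, -, -, t5, t6, t7, t8, t9, t10, t11,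
      -⟩ := ub_t0
    obtain rfl | rfl | rfl := hr
    · exact ⟨24, le_rfl, by omega, t2, t3, t6, h.com 44 r1 24 (by omega) t7 _ _ he.ok (ok_one _),
        h.com 44 r1 23 (by omega) t8 _ _ he.ok (ok_one _)⟩
    · exact ⟨42, by omega, by omega, t4, t9, t5, h.ll 46 r1 42 (by omega) t1 t4 t10 _ _ (he.2.1 t1) (map_one ρ),
        h.ll 46 r1 5 (by omega) t1 t9 t11 _ _ (he.2.1 t1) (map_one ρ)⟩
    · refine absurd ?_ h2
      rw [← mem_centralizer_iff.1 k3 _ (mem_SK le_rfl r1 he.ok), mul_inv_cancel_right]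
      exact mem_SK le_rfl r1 he.ok
  have a := h.ub_col l2 l3 l5 (map_one ρ) h.fld.ne
  have b := h.ub_test l1 l2 l4 (h.sq r1 he.ok) (fun k => he.1 (h.inj r r1 e he.ok k)) l6 l7
  rw [l6.eq] at b
  refine ⟨k * Y l 1 * k⁻¹, h.rt_conj a.1 k1, ?_, ?_, ?_, ?_, ?_⟩
  · rw [← kz, conj_mul, conj_mul, (h.ub_cz l2 (by omega) (ok_one _)).eq]
  · rw [conj_mul, conj_mul, l6.eq]
  · rw [← kz, conj_mul, kz]; exact h.rt_conj a.2 k1
  · rw [conj_mul]; exact fun k => b.1 (h.ub_conj' k k1)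
  · rw [conj_mul, Ne, conj_eq_one_iff]; exact b.2
/-- With `k = ww Y w`: if `Y_l(1) ∈ R` then `Y_m(a) ∈ R` for long `m` with `ip l m ≥ 12`, and the conjugates used
in `genQ'`; the long roots are connected. -/
theorem conn : ∀ R : Set G, Y 47 1 ∈ R → (∀ k ∈ SK ρ Y 0, k * Y 47 1 * k⁻¹ ∈ R → ∀ c ∈ 𝐃, c ∈ QQ ρ Y →
    k * c * k⁻¹ ∈ R) → SK ρ Y 0 ≤ closure R := fun R hz hR => by
  have L : ∀ l < 48, lg l = true → Y l 1 ∈ R → ∀ m < 48, 8 < ip l m →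
      (∀ e, Ok ρ m e → Y m e ∈ closure R) ∧ (lg m = true → Y m 1 ∈ R) := fun l hl h1 h2 m hm h3 => by
    obtain ⟨w, hw, e, -⟩ := F42S.orb2 (r := 47) (s := 47) (by omega) (by omega) hl hl (ub_t0.1.trans h1.symm)
      (ub_t0.1.trans h1.symm) (by rw [ub_t6 l hl h1, ub_t6 47 (by omega) ub_t0.1])
    obtain ⟨s, hs, rfl⟩ := F42S.aw_surj hw hm
    have t := F42S.aw_tab hw (r := 47) (by omega) hs
    have t' := (F42S.aw_tab hw hs hs).1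
    rw [e] at t
    have k := hR _ (h.ww_mem hw) (by rw [h.ww_conj hw (by omega) (ok_one _), e, ub_tp (map_one ρ)]; exact h2)
    have s1 : s ∈ {r | r < 48 ∧ 8 < ip 47 r} := ⟨hs, t.2.1 ▸ h3⟩
    refine ⟨fun f hf => ?_, fun a => ?_⟩
    · have o := ok_tp t'.symm w hf
      rw [← tp_tp h.ρρ w f, ← h.ww_conj hw hs o]
      refine cj_le_iff_forall.1 (cj_le_iff.2 (h.genQ.trans ((closure_le _).2 fun x hx => ?_))) _ (mem_YS s1 o)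
      rw [SetLike.mem_coe, mem_cj, inv_inv]
      exact subset_closure (k x hx.1 hx.2)
    · have := k _ (h.rt_long hs (t' ▸ a) (map_one ρ) h.fld.ne) (mem_YS s1 (ok_one _))
      rwa [h.ww_conj hw hs (ok_one _), ub_tp (map_one ρ)] at this
  refine YS_le.2 fun m ⟨_, hm⟩ e he => ?_
  obtain ⟨l, hl, l1, l2⟩ := (ub_t5 m hm).1
  obtain ⟨a, ha, b, hb, a1, b1, c1, c2, c3⟩ := (ub_t5 l hl).2 l1
  exact (L l hl l1 ((L b hb b1 ((L a ha a1 ((L 47 (by omega) ub_t0.1 hz a ha c1).2 a1) b hb c2).2 b1) l hl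
    c3).2 l1) m hm l2).1 e he

end Pr

end Cfsg.Agent.F4Q
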