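import Mathlib
import Cfsg.Agent.F4Q.UqB
import Cfsg.Agent.F4Q.ZhA
import Cfsg.Agent.WfS.Bas

/-! `C(t)` normalizes `G₀ = SK ρ Y 0`; fusion of `t` in `G₀ ⟨t⟩`.  `w` is the element of `eps`. -/

set_option autoImplicit false
set_option linter.unusedSectionVars false

namespace Cfsg.Agent.F4Q

open Cfsg.Lie Cfsg.Agent.Chev Subgroup Cfsg.Agent.PLocal.Amb
open Cfsg.Agent.F42S (lg ip ad gm sm sr Mo aw)
open Cfsg.Agent.FinS (Rt Rg Uf)
open scoped commutatorElement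


variable {F : Type*} [Field F] [Finite F] [CharP F 2] {E : Type*} [CommRing E] {G : Type*} [Group G]
  [Finite G] {j : Γ F →* G} {t : G} {O X : Subgroup G} {ι : F →+* E} {τ ρ : E ≃+* E} {Y : ℕ → E → G}

theorem ud_gm : ∀ r < 48, gm r < 48 ∧ ∀ u < 48, Mo (gm r) u → gm u < 48 ∧ gm (gm u) = u ∧ Mo r (gm u) := by
  decide +kernel

namespace RU
variable (h : RU j t O ι τ ρ Y)
include h

theorem τι (a : F) : τ (ι a) = ι a := (h.fix _).2 ⟨a, rfl⟩
theorem ok_ι (r : ℕ) (a : F) : Ok ρ r (ι a) := fun _ => h.ρι a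
theorem ok_τ {r : ℕ} {e : E} (he : Ok ρ r e) : Ok ρ r (τ e) := fun hl => by
  rcases h.rho with rfl | rfl
  · rw [he hl, he hl]
  · rfl
theorem ι_inj : Function.Injective ι := 
  (injective_iff_map_eq_zero ι).2 fun a e => relΓ.inj 47 (by norm_num) a (ok_refl _ _) (h.inj (by
    rw [← h.ext 47 (by norm_num), e, h.rel.zero (by norm_num), map_one]))
theorem j_mem {S : Set ℕ} (hS : ∀ r ∈ S, r < 48) {a : Γ F} (ha : a ∈ XL F S) : j a ∈ YS ρ Y S := 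
  (YS_le (H := (YS ρ Y S).comap j)).2 (fun r hr e _ => by
    rw [mem_comap, ← h.ext r (hS r hr)]; exact mem_YS hr (h.ok_ι r e)) ha
theorem j_mem0 (a : Γ F) : j a ∈ SK ρ Y 0 := h.j_mem (fun _ hr => hr.2) (top_eq.ge (mem_top a))
theorem t_norm {S : Set ℕ} (hS : ∀ r ∈ S, r < 48) : t ∈ 𝐍[YS ρ Y S] := 
  nf_norm_of h.tt (by
    rintro _ ⟨r, hr, e, he, rfl⟩
    rw [h.act r (hS r hr) e he]
    exact mem_YS hr (h.ok_τ he))
theorem ud_y1 {r : ℕ} (hr : r < 48) : Y r 1 = j (xx r 1) := by rw [← h.ext r hr, map_one]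
theorem nY_eq {r : ℕ} (hr : r < 48) : nY Y r = j (nY xx r) := by
  rw [nY, nY, map_mul, map_mul, h.ud_y1 hr, h.ud_y1 (show 47 - r < 48 by omega)]
theorem ww_eq {w : List ℕ} (hw : ∀ i ∈ w, i < 4) : ww Y w = j (ww xx w) := by
  induction w with
  | nil => exact (map_one j).symm
  | cons a l ih =>
    rw [ww_cons, ww_cons, map_mul, ih fun i hi => hw i (List.mem_cons_of_mem _ hi),
      h.nY_eq ((show ∀ i < 4, sm i < 48 by decide) a (hw a List.mem_cons_self))]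
theorem tr {r : ℕ} (hr : r < 48) {e : E} (he : Ok ρ r e) :
    Y r e * t * (Y r e)⁻¹ = t * Y r (e + τ e) := by
  rw [add_comm, ← h.rel.add r hr _ _ (h.ok_τ he) he, ← h.act r hr e he, h.rel.inv hr he, h.toFr.inv,
    ← mul_assoc, ← mul_assoc, ← mul_assoc, h.tt, one_mul]
theorem ud_trE (e : E) : ∃ b, e + τ e = ι b :=
  ((h.fix _).1 (by rw [map_add, h.ττ, add_comm])).imp fun _ => Eq.symm
theorem ud_trw {w : E} (hw : τ w = w + 1) (a b : F) : ι a + ι b * w + τ (ι a + ι b * w) = ι b := by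
  rw [map_add, map_mul, h.τι, h.τι, hw]
  linear_combination h.rel.two (ι a + ι b * w)
theorem ud_e1 : (1 : E) ≠ 0 := fun e => one_ne_zero (h.ι_inj (by rw [map_one, map_zero, e]))
/-- every `e` is `ι a + ι b w` -/
theorem dec {w : E} (hw : τ w = w + 1) (e : E) : ∃ a b, e = ι a + ι b * w := by
  obtain ⟨b, hb⟩ := h.ud_trE e
  obtain ⟨a, ha⟩ := (h.fix (e + ι b * w)).1 (by
    rw [map_add, map_mul, h.τι, hw]
    linear_combination hb + h.rel.two (ι b) - h.rel.two e)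
  exact ⟨a, b, by rw [ha]; linear_combination -h.rel.two (ι b * w)⟩
theorem card_E : Nat.card E = Nat.card F ^ 2 := by
  obtain ⟨w, hw⟩ := h.eps
  rw [pow_two, ← Nat.card_prod]
  refine (Nat.card_eq_of_bijective (fun p : F × F => ι p.1 + ι p.2 * w) ⟨fun p q e => ?_, fun e => ?_⟩).symm
  · replace e : ι p.1 + ι p.2 * w = ι q.1 + ι q.2 * w := e
    have e2 : p.2 = q.2 := h.ι_inj ((h.ud_trw hw p.1 p.2).symm.trans (e ▸ h.ud_trw hw q.1 q.2))
    rw [e2] at e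
    exact Prod.ext (h.ι_inj (add_right_cancel e)) e2
  · obtain ⟨a, b, e⟩ := h.dec hw e
    exact ⟨(a, b), e.symm⟩
/-- an element of `S₀` fixed by `t` (peel the leading terms) -/
theorem fixS {k : ℕ} (hk : 24 ≤ k) {g : G} (hg : g ∈ SK ρ Y k) (e : Commute g t) :
    ∃ a ∈ UU F k, g = j a := by
  induction hn : 48 - k generalizing k g with
  | zero =>
    rw [SK_top (by omega), mem_bot] at hg
    exact ⟨1, one_mem _, by rw [hg, map_one]⟩
  | succ n ih =>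
    have hk' : k < 48 := by omega
    obtain ⟨c, hc, m⟩ := h.rel.SK_step hk hk' hg
    have m' := PLocal.Amb.conj_mem_of_mem_normalizer (h.t_norm fun _ hr => hr.2) m
    rw [← conj_mul, h.act k hk' c hc, ← e.eq, mul_inv_cancel_right] at m'
    have m2 := mul_mem m (inv_mem m')
    rw [mul_inv_rev, mul_assoc, mul_inv_cancel_left, h.rel.inv hk' (h.ok_τ hc),
      h.rel.add k hk' _ _ hc (h.ok_τ hc)] at m2
    obtain ⟨a, rfl⟩ := (h.fix c).1 (h.rel.eq_of_add (h.rel.lead hk hk' (Rel.ok_add hc (h.ok_τ hc)) m2)).symm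
    rw [h.ext k hk'] at m
    obtain ⟨b, hb, e1⟩ := ih (by omega) m ((h.tj _).symm.mul_left e) (by omega)
    exact ⟨xx k a * b, mul_mem (cd_U le_rfl hk' a) (SK_mono (by omega) hb), by
      rw [map_mul, ← e1, ← mul_assoc, Fr.frm_sq hk', one_mul]⟩
/-- `y₀ = Y r (ι b w)`; `y y₀ = j(x_r(c)) o tⁱ` (`rig1'`) -/
theorem char {r : ℕ} (hr : r < 48) (h0 : lg r = false ∨ ρ = RingEquiv.refl E) {y : G} {b : F}
    (h1 : y * y = 1) (h2 : Bo j t O r y b) (h3 : ∀ c, y ≠ t * j (xx r c)) : ∃ e, y = Y r e := by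
  obtain ⟨w, hw⟩ := h.eps
  have ok : ∀ e, Ok ρ r e := fun e => h0.elim (fun l => ok_short l e) fun l => l ▸ ok_refl r e
  have e0 : Y r (ι 0 + ι b * w) * t * (Y r (ι 0 + ι b * w))⁻¹ = t * j (xx r b) := by
    rw [h.tr hr (ok _), h.ud_trw hw, h.ext r hr]
  have key : ∀ a, (Y r (ι 0 + ι b * w))⁻¹⁻¹ * j (xx r a) = Y r (ι a + ι b * w) := fun a => by
    rw [inv_inv, ← h.ext r hr, h.rel.add r hr _ _ (ok _) (ok _), map_zero, zero_add, add_comm]
  obtain ⟨a, o, ho, e⟩ := h.toFo.rig1' hr (g := (Y r (ι 0 + ι b * w))⁻¹ * y)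
    (Commute.symm (mul_inv_eq_iff_eq_mul.1 (by
      rw [show ∀ u : G, u⁻¹ * y * t * (u⁻¹ * y)⁻¹ = u⁻¹ * (y * t * y⁻¹) * u from fun u => by group, h2.act, ← e0]
      group)))
    fun u hu m c => Commute.mul_left
      (h.ext u hu c ▸ h.rel.com r hr u hu m _ _ (ok _) (h.ok_ι u c)).inv_left (h2.cM u hu m c)
  have cO := (h.cO o ho r hr _ (ok (ι a + ι b * w))).symm
  rcases e with e | e
  · rw [← eq_inv_mul_iff_mul_eq, ← mul_assoc, key] at e
    exact ⟨_, by rw [e, h.toFo.inv_eq ho (h.rel.sq hr (ok _)) cO (e ▸ h1), mul_one]⟩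
  · rw [← eq_inv_mul_iff_mul_eq, ← mul_assoc, ← mul_assoc, key, mul_assoc, ← (h.Ot o ho).eq, ← mul_assoc] at e
    have e1 : Y r (ι a + ι b * w) * t * (Y r (ι a + ι b * w) * t) = j (xx r b) := by
      refine Eq.trans ?_ ((congrArg (Y r) (h.ud_trw hw a b)).trans (h.ext r hr b))
      rw [← h.rel.add r hr _ (τ _) (ok _) (ok _), ← h.act r hr _ (ok _), h.toFr.inv]
      group
    have c := cO.mul_left (h.Ot o ho)
    have h1' := h1
    rw [e, c.symm.mul_mul_mul_comm, e1] at h1'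
    have hk := (h.toFo.mem_iff.1 ho).1
    have b0 : b = 0 := relΓ.inj r hr b (ok_refl _ _)
      (h.toFr.eq_one (eq_inv_of_mul_eq_one_left h1' ▸ inv_mem (mul_mem hk hk)))
    rw [b0, xx_zero, map_one] at e1
    rw [h.toFo.inv_eq ho (b0 ▸ e1) c (e ▸ h1), mul_one, b0, map_zero, zero_mul, add_zero, h.ext r hr] at e
    exact (h3 a (e.trans (h.tj _).symm.eq)).elim
/-- a Weyl element moves `Y r e` -/
theorem t_ne {r : ℕ} (hr : r < 48) {e : E} (he : Ok ρ r e) : t ≠ Y r e := fun e1 => by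
  have := h.act r hr e he
  rw [← e1, mul_inv_cancel_right, e1] at this
  obtain ⟨a, rfl⟩ := (h.fix e).1 (h.rel.eq hr he (h.ok_τ he) this).symm
  exact h.toFr.t_ne _ (e1.trans (h.ext r hr a))
theorem ud_cent0 {g : G} (hg : Commute g t) {π : ℕ → ℕ} {fn : ℕ → F → F}
    (h1 : ∀ r < 48, ∀ a, g * j (xx r a) * g⁻¹ = j (xx (π r) (fn r a))) (h2 : ∀ r, Function.Surjective (fn r))
    {r : ℕ} (hr : r < 48) (hr' : π r < 48) (h3 : ∀ u < 48, Mo (π r) u → ∃ v < 48, π v = u ∧ Mo r v)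
    (h0 : lg (π r) = false ∨ ρ = RingEquiv.refl E) {e : E} (he : Ok ρ r e) :
    g * Y r e * g⁻¹ ∈ SK ρ Y 0 := by
  obtain ⟨b, hb⟩ := h.ud_trE e
  obtain ⟨c, e1⟩ := h.char hr' h0 (y := g * Y r e * g⁻¹) (b := fn r b)
    (by rw [conj_mul, h.rel.sq hr he, mul_one, mul_inv_cancel]) ⟨⟨fun u hu m c => by
      obtain ⟨v, hv, rfl, m'⟩ := h3 u hu m
      obtain ⟨c, rfl⟩ := h2 v c
      rw [← h1 v hv, ← h.ext v hv]
      exact (h.rel.com r hr v hv m' _ _ he (h.ok_ι v c)).map (MulAut.conj g), by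
      rw [← h1 r hr, ← h.ext r hr, ← hb]
      calc _ = g * (Y r e * (g⁻¹ * t * g) * (Y r e)⁻¹) * g⁻¹ := by group
        _ = _ := by rw [mul_assoc g⁻¹, ← hg.eq, inv_mul_cancel_left, h.tr hr he, ← mul_assoc, hg.eq]; group⟩,
      fun o ho => by
        have := (h.cO _ (inv_conj_mem_of_mem_normalizer (h.toFo.norm hg) ho) r hr e he).symm.map (MulAut.conj g)
        simpa [mul_assoc] using this⟩ fun c e1 => by
      obtain ⟨c, rfl⟩ := h2 r c
      rw [← h1 r hr, ← mul_assoc, ← mul_assoc, ← hg.eq, mul_assoc g t, mul_left_inj, mul_right_inj] at e1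
      refine h.t_ne hr (Rel.ok_add he (h.ok_ι r c)) ?_
      rw [← h.rel.add r hr _ _ he (h.ok_ι r c), e1, h.ext r hr, mul_assoc, Fr.frm_sq hr, mul_one]
  rw [e1]
  exact mem_SK (Nat.zero_le _) hr' (h0.elim (fun l => ok_short l c) fun l => l ▸ ok_refl _ c)
theorem ud_red {g : G} (hg : Commute g t) {γ : Γ F ≃* Γ F} (hγ : Gam γ) : ∃ l σ φ, Fa σ φ ∧
    ((∀ b, (j l)⁻¹ * g * j b * ((j l)⁻¹ * g)⁻¹ = j (φ b)) ∨
      ∀ b, (j l)⁻¹ * g * j b * ((j l)⁻¹ * g)⁻¹ = j (γ (φ b))) := by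
  obtain ⟨α, hα⟩ := h.toFr.hom hg
  obtain ⟨l, σ, φ, hφ, e⟩ := aut hγ α
  have k : ∀ b c, α b = l * c * l⁻¹ → (j l)⁻¹ * g * j b * ((j l)⁻¹ * g)⁻¹ = j c := fun b c e => by
    calc _ = (j l)⁻¹ * (g * j b * g⁻¹) * j l := by group
      _ = _ := by rw [hα, e, map_mul, map_mul, map_inv]; group
  exact ⟨l, σ, φ, hφ, e.imp (fun e b => k b _ (e b)) fun e b => k b _ (e b)⟩
theorem ud_trw' {w : E} (hw : τ w = w + 1) {r : ℕ} (hr : r < 48) (ok : Ok ρ r w) :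
    Y r w * t * (Y r w)⁻¹ = t * j (xx r 1) := by
  rw [h.tr hr ok, hw, ← add_assoc, h.rel.two, zero_add, h.ud_y1 hr]
/-- Modulo `L`, `g` acts on `L` as `φ_σ` or `γ φ_σ` (`aut`) and normalizes `O` (`Fo.norm`); `char`.  For `ρ = τ` the
long `Y r e` lie in `L`, and `γ φ_σ` would fuse `t ∼ t x₄₄(1)` to `t x₄₇(1)`, against `hn`. -/
theorem cent {g : G} (hg : Commute g t) : g ∈ 𝐍[SK ρ Y 0] := by
  obtain ⟨γ, hγ⟩ := exists_gam (F := F)
  obtain ⟨l, σ, φ, hφ, e⟩ := h.ud_red hg hγ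
  rw [← mul_mem_cancel_left (inv_mem (le_normalizer (h.j_mem0 l)))]
  have hg' : Commute ((j l)⁻¹ * g) t := (h.tj l).symm.inv_left.mul_left hg
  generalize (j l)⁻¹ * g = g at e hg'
  refine mem_normalizer_of_cj_le (cj_le_iff.2 (YS_le.2 fun r hr c hc => ?_))
  rw [mem_cj, inv_inv]
  rcases e with e | e
  · by_cases h0 : lg r = false ∨ ρ = RingEquiv.refl E
    · exact h.ud_cent0 hg' (π := id) (fn := fun _ => σ) (fun r hr a => by rw [e, hφ r hr]; rfl)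
        (fun _ => σ.surjective) hr.2 hr.2 (fun u hu m => ⟨u, hu, rfl, m⟩) h0 hc
    rw [not_or, Bool.not_eq_false] at h0
    obtain ⟨a, rfl⟩ := (h.fix c).1 (h.rho.resolve_right h0.2 ▸ hc h0.1)
    rw [h.ext r hr.2, e]
    exact h.j_mem0 _
  · have e' : ∀ r < 48, ∀ a, g * j (xx r a) * g⁻¹ = j (xx (gm r) (if lg r = true then σ a else σ a ^ 2)) :=
      fun r hr a => by rw [e, hφ r hr, hγ r hr]
    rcases h.rho with h0 | h0
    · obtain ⟨w, hw⟩ := h.eps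
      refine (h.hn h0 (isConj_iff.2 ⟨g * Y 44 w, ?_⟩)).elim
      have := e' 44 (by norm_num) 1
      rw [show gm 44 = 47 by decide +kernel, map_one, one_pow, ite_self] at this
      rw [← this, show g * Y 44 w * t * (g * Y 44 w)⁻¹ = g * (Y 44 w * t * (Y 44 w)⁻¹) * g⁻¹ by group,
        h.ud_trw' hw (by norm_num) (ok_short (by decide +kernel) w), ← mul_assoc, hg'.eq]
      group
    · refine h.ud_cent0 hg' e' (fun r a => ?_) hr.2 (ud_gm r hr.2).1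
        (fun u hu m => ⟨_, ((ud_gm r hr.2).2 u hu m).1, ((ud_gm r hr.2).2 u hu m).2⟩) (.inr h0) hc
      obtain ⟨b, hb⟩ := (bijective_frobenius F 2).2 a
      refine ⟨σ.symm (if lg r = true then a else b), ?_⟩
      simp only [RingEquiv.apply_symm_apply]
      split_ifs
      exacts [rfl, hb]
theorem ud_tw {w : E} (hw : τ w = w + 1) : ⁅t, Y 44 w⁆ = Y 44 1 := by
  have ok : ∀ e, Ok ρ 44 e := ok_short (by decide +kernel)
  rw [commutatorElement_def, h.act 44 (by norm_num) w (ok _), h.rel.inv (by norm_num) (ok _),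
    h.rel.add 44 (by norm_num) _ _ (ok _) (ok _), hw, add_right_comm, h.rel.two, zero_add]
/-- otherwise `t` centralizes an involution `k` of `C(G₀)`; `k = t` (`eq_t`), but `t` moves `Y 44 w` -/
theorem oddC : Odd (Nat.card 𝐂[SK ρ Y 0]) := by
  obtain ⟨T, hT, -, hn⟩ := WfS.exists_inv_syl (Y := 𝐂[SK ρ Y 0]) h.tt
    (normalizer_le_normalizer_centralizer _ (h.t_norm fun _ hr => hr.2)) IsPGroup.of_bot bot_le
    (cj_eq_iff.1 (cj_bot t))
  have e : T = ⊥ := by_contra fun c => by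
    obtain ⟨v, hv, v1, v2⟩ := WfS.exists_inv (hT.pgrp.to_le inf_le_left)
      (inf_centralizer_ne_bot (StdL.isPGroup_zp h.tt) hT.pgrp (zpowers_le_of_mem hn) c)
    obtain rfl := (h.toFr.eq_t (mem_K0.2 ⟨(hv.2 t (mem_zpowers t)).symm, fun a =>
      (hT.le hv.1 _ (h.j_mem0 a)).symm⟩) v2).resolve_left v1
    obtain ⟨w, hw⟩ := h.eps
    refine h.ud_e1 (h.rel.inj 44 (by norm_num) 1 (ok_one _) ?_)
    rw [← h.ud_tw hw, commutatorElement_eq_one_iff_mul_comm]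
    exact (hT.le hv.1 _ (mem_SK (Nat.zero_le _) (by norm_num) (ok_short (by decide +kernel) w))).symm
  have := hT.not_dvd_relIndex
  rw [e, relIndex_bot_left] at this
  exact Nat.odd_iff.2 (Nat.two_dvd_ne_zero.1 this)
theorem O_le : O ≤ 𝐂[SK ρ Y 0] := fun o ho _ hg =>
  (YS_comm (fun r hr e he => h.cO o ho r hr.2 e he) hg).symm.eq
theorem ud_cl_conj {d : G} {a b : Γ F} (h1 : ∃ k ∈ SK ρ Y 0, k * d * k⁻¹ = t * j a) (e : IsConj a b) :
    ∃ k ∈ SK ρ Y 0, k * d * k⁻¹ = t * j b := by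
  obtain ⟨k, hk, h1⟩ := h1
  obtain ⟨c, rfl⟩ := isConj_iff.1 e
  refine ⟨j c * k, mul_mem (h.j_mem0 c) hk, ?_⟩
  rw [show j c * k * d * (j c * k)⁻¹ = j c * (k * d * k⁻¹) * (j c)⁻¹ by group, h1, ← mul_assoc, ← (h.tj c).eq,
    map_mul, map_mul, map_inv]
  group
theorem ud_cl_add {d : G} {r s : ℕ} {c : F} (h1 : ∃ k ∈ SK ρ Y 0, k * d * k⁻¹ = t * j (xx s c))
    (hr : r < 48 ∧ s < 48 ∧ Mo r s) (h0 : lg r = false ∨ ρ = RingEquiv.refl E) :
    ∃ k ∈ SK ρ Y 0, k * d * k⁻¹ = t * j (xx r 1 * xx s c) := by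
  obtain ⟨k, hk, h1⟩ := h1
  obtain ⟨w, hw⟩ := h.eps
  have ok : Ok ρ r w := h0.elim (fun l => ok_short l w) fun l => l ▸ ok_refl r w
  have c := h.rel.com r hr.1 s hr.2.1 hr.2.2 _ _ ok (h.ok_ι s c)
  rw [h.ext s hr.2.1] at c
  refine ⟨Y r w * k, mul_mem (mem_SK (Nat.zero_le _) hr.1 ok) hk, ?_⟩
  rw [show Y r w * k * d * (Y r w * k)⁻¹ = Y r w * (k * d * k⁻¹) * (Y r w)⁻¹ by group, h1, ← conj_mul,
    h.ud_trw' hw hr.1 ok, c.mul_inv_cancel, map_mul, mul_assoc]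
theorem ud_cl_one {r : ℕ} (hr : r < 48) (h0 : lg r = false ∨ ρ = RingEquiv.refl E) :
    ∃ k ∈ SK ρ Y 0, k * t * k⁻¹ = t * j (xx r 1) := by
  have := h.ud_cl_add (d := t) (s := r) (c := 0) ⟨1, one_mem _, by simp [xx_zero]⟩ ⟨hr, hr, (show ∀ r < 48, Mo r r by decide +kernel) r hr⟩ h0
  rwa [xx_zero, mul_one] at this
/-- `cls`; conjugate by `Y₄₄(w)`, `Y₃₉(w)` (they commute with `x₄₇`, `x₄₅`), for `ρ = 1` also by `Y₄₇(w)` -/
theorem classes {a : Γ F} (ha : a * a = 1) : (∃ k ∈ SK ρ Y 0, k * t * k⁻¹ = t * j a) ∨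
    (ρ = τ ∧ ¬ IsConj (xx 44 1) a ∧ a ≠ 1 ∧ ∃ k ∈ SK ρ Y 0, k * (t * Y 47 1) * k⁻¹ = t * j a) := by
  by_cases a1 : a = 1
  · exact .inl ⟨1, one_mem _, by simp [a1]⟩
  by_cases c : IsConj (xx 44 1) a
  · exact .inl (h.ud_cl_conj (h.ud_cl_one (by norm_num) (.inl (by decide +kernel))) c)
  have k : ∀ d, (∃ k ∈ SK ρ Y 0, k * d * k⁻¹ = t * j (xx 47 1)) → ∃ k ∈ SK ρ Y 0, k * d * k⁻¹ = t * j a :=
    fun d hd => by
      rcases cls ha a1 with e | e | e | e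
      · exact h.ud_cl_conj hd e
      · exact (c e).elim
      · rw [← (U_comm (.inl rfl) (cd_U (r := 47) (by norm_num) (by norm_num) 1) 1).eq] at e
        exact h.ud_cl_conj (h.ud_cl_add hd (by decide +kernel) (.inl (by decide +kernel))) e
      · exact h.ud_cl_conj (h.ud_cl_add (h.ud_cl_conj hd (conj_long (r := 45) (by norm_num) (by decide +kernel)
          one_ne_zero)) (by decide +kernel) (.inl (by decide +kernel))) e
  rcases h.rho with e | e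
  · exact .inr ⟨e, c, a1, k _ ⟨1, one_mem _, by simp [h.ud_y1 (show 47 < 48 by norm_num)]⟩⟩
  · exact .inl (k _ (h.ud_cl_one (by norm_num) (.inr e)))
theorem classes' {a : Γ F} (ha : a = 1 ∨ IsConj (xx 44 1) a) :
    ∃ k ∈ SK ρ Y 0, k * t * k⁻¹ = t * j a := by
  rcases ha with rfl | c
  · exact ⟨1, one_mem _, by simp⟩
  · exact h.ud_cl_conj (h.ud_cl_one (by norm_num) (.inl (by decide +kernel))) c

variable (f : GF j t ρ Y)
include f

theorem pr' : Pr ρ Y := ⟨h.rel, f.fld, f.pair, f.sl2⟩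
/-- else `t ∈ S₀` (`syl`), and `⁅t, Y₄₄(w)⁆ = Y₄₄(1) ∈ SK 45` -/
theorem tn : t ∉ SK ρ Y 0 := fun e => by
  obtain ⟨w, hw⟩ := h.eps
  have m := zpowers_le.1 (f.syl.le_of_normalizes (StdL.isPGroup_zp h.tt) (zpowers_le.2 e)
    (zpowers_le.2 (h.t_norm fun _ hr => hr.2)))
  refine h.ud_e1 (h.rel.lead (r := 44) (by norm_num) (by norm_num) (ok_one _) ?_)
  rw [← h.ud_tw hw]
  exact h.rel.SK_comm (by norm_num) (commutator_mem_commutator m
    (mem_SK le_rfl (by norm_num) (ok_short (by decide +kernel) w)))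
/-- Modulo `L`, `g x₄₇(a) g⁻¹ = x₄₇(σ a)` or `x₄₄(σ a)`; `pair`, `neg`, `lead_eq`: `σ = 1`, and `Ty ρ 44 1` fails. -/
theorem fixG {g : G} (hg : g ∈ SK ρ Y 0) (e : Commute g t) : ∃ a, ∃ k ∈ K0 j t, g = j a * k := by
  obtain ⟨γ, hγ⟩ := exists_gam (F := F)
  obtain ⟨l, σ, φ, hφ, e1⟩ := h.ud_red e hγ
  have hg' : Commute ((j l)⁻¹ * g) t := (h.tj l).symm.inv_left.mul_left e
  obtain ⟨u, hu, r, hr, c, ty, e2⟩ := f.pair _ (mul_mem (inv_mem (h.j_mem0 l)) hg)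
  have k : ∀ s, 24 ≤ s → s < 48 → u * Y r c * u⁻¹ = Y s 1 → r = s ∧ c = 1 := fun s s1 s2 e3 => by
    have e4 : Y r c = u⁻¹ * Y s 1 * u := by rw [← e3]; group
    have m : Y s 1 ∈ SK ρ Y s := mem_SK le_rfl s2 (ok_one _)
    have r1 : 24 ≤ r := not_lt.1 fun r1 => ty.1 (h.rel.neg r1 ty.ok
      (e4 ▸ mul_mem (mul_mem (inv_mem hu) (SK_mono s1 m)) hu))
    refine h.rel.lead_eq (g := Y r c) r1 hr s1 s2 ty.ok (ok_one _) ty.1 h.ud_e1
      (by rw [h.rel.sq hr ty.ok]; exact one_mem _) ?_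
    have := inv_mem (h.rel.SK_comm s1 (commutator_mem_commutator (inv_mem hu) m))
    rwa [commutatorElement_inv, commutatorElement_def, h.rel.inv s2 (ok_one _), inv_inv, mul_assoc, mul_assoc,
      ← mul_assoc u⁻¹, ← e4] at this
  have e3 := e2 1 (map_one ρ)
  rw [one_mul, h.ud_y1 (by norm_num)] at e3
  rcases e1 with e1 | e1
  · rw [e1, hφ 47 (by norm_num), map_one, ← h.ud_y1 (by norm_num)] at e3
    obtain ⟨rfl, rfl⟩ := k 47 (by norm_num) (by norm_num) e3.symm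
    obtain ⟨l', hl⟩ := inr_of (α := φ) (r := 47) (by norm_num) (by
      rintro _ rfl a
      refine h.inj ?_
      rw [← e1, ← h.ext 47 hr, e2 _ (h.ρι a), mul_one, mul_inv_eq_iff_eq_mul]
      exact (h.rel.SA hu _ (mem_SK le_rfl hr (h.ok_ι 47 a))).symm)
    obtain ⟨k, hk, e4⟩ := h.toFr.pin hg' e1 hl
    exact ⟨l * l', k, hk, by rw [map_mul, mul_assoc, ← e4, mul_inv_cancel_left]⟩
  · rw [e1, hφ 47 (by norm_num), hγ 47 (by norm_num), show gm 47 = 44 by decide +kernel, map_one, one_pow,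
      ite_self, ← h.ud_y1 (by norm_num)] at e3
    obtain ⟨rfl, rfl⟩ := k 44 (by norm_num) (by norm_num) e3.symm
    exact (h.ud_e1 (by simpa using ty.2.2 (by decide +kernel))).elim
theorem geo : Geo (SK ρ Y 0) (SK ρ Y 24) (QQ ρ Y) (SK ρ Y 47) (Y 47 1) t := by
  have p := h.pr' f
  have c : ∀ r < 48, t * Y r 1 = Y r 1 * t := fun r hr => h.ud_y1 hr ▸ (h.tj _).eq
  exact ⟨SK_mono (by norm_num), h.rel.perf, h.tt, h.t_norm fun _ hr => hr.2, h.t_norm fun _ hr => hr.2,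
    h.t_norm fun _ hr => hr.1, c 47 (by norm_num), mem_SK le_rfl (by norm_num) (ok_one _),
    h.rel.z1 f.fld (by norm_num), h.rel.AQ, h.rel.QA f.fld, h.rel.QS, h.rel.SA, h.rel.sqA, p.rt, p.cz, p.cq,
    p.g3, p.g3Q, p.zr, h.rel.QQ', h.rel.sqQ, p.genQ, fun y _ => p.col y, h.rel.comQ f.fld, h.rel.zsq f.fld,
    p.uniq, p.g1, fun a ha e => ⟨1, one_mem _, by rw [mul_one, h.rel.e2 a ha e]⟩,
    fun x hx => ⟨Y 46 1, mem_SK (by norm_num) (by norm_num) (ok_one _), h.rel.sq (by norm_num) (ok_one _),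
      c 46 (by norm_num), h.rel.e3 x hx⟩, p.conn⟩

end RU

end Cfsg.Agent.F4Q
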