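import Mathlib
import Cfsg.Agent.F4Q.UqD
import Cfsg.Agent.F4Q.ClsC
import Cfsg.Agent.F4Q.ClsD

/-! Identification of `G₀ = SK ρ Y 0`: definitions and small facts. -/

set_option autoImplicit false

namespace Cfsg.Agent.F4Q

open Cfsg.Lie Cfsg.Agent.Chev Subgroup Cfsg.Agent.PLocal.Amb
open Cfsg.Agent.F42S (lg ip ad gm sm sr Mo aw)
open Cfsg.Agent.FinS (Rt Rg Uf)
open scoped commutatorElement


section

variable {E : Type*} [CommRing E] {G : Type*} [Group G]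

/-- `E` is a field or `F × F` -/
def Ety (τ : E ≃+* E) : Prop := IsField E ∨ ∃ e : E, e * e = e ∧ τ e = e + 1

/-- `d` acts on the root groups as a diagonal times field automorphism -/
structure Df (ρ : E ≃+* E) (Y : ℕ → E → G) (d : G) (c : ℕ → E) (σ : E ≃+* E) : Prop where
  unit : ∀ r < 48, IsUnit (c r)
  ok : ∀ r < 48, Ok ρ r (c r)
  comm : ∀ e, σ (ρ e) = ρ (σ e)
  conj : ∀ r < 48, ∀ e, Ok ρ r e → d * Y r e * d⁻¹ = Y r (c r * σ e)

/-- What the identification gives for the types `E₆` and `²E₆` (`ρ = τ`). -/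
structure IdT {F : Type*} [Field F] (j : Γ F →* G) (ρ : E ≃+* E) (Y : ℕ → E → G) : Prop where
  pair : ∀ k ∈ SK ρ Y 0, ∃ u ∈ SK ρ Y 24, ∃ r < 48, ∃ e, Ty ρ r e ∧
    ∀ a, ρ a = a → k * Y 47 a * k⁻¹ = u * Y r (a * e) * u⁻¹
  syl : IsSyl 2 (SK ρ Y 24) (SK ρ Y 0)
  cls : ∀ x ∈ SK ρ Y 0, x * x = 1 → ∃ k ∈ SK ρ Y 0, ∃ a, k * x * k⁻¹ = j a
  dec : ∀ g ∈ 𝐍[SK ρ Y 0], ∃ l ∈ SK ρ Y 0, ∃ d c σ, Df ρ Y d c σ ∧ g = l * d

end

variable {F : Type*} [Field F] [Finite F] [CharP F 2] {E : Type*} [CommRing E] {G : Type*} [Group G]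
  [Finite G] {j : Γ F →* G} {t : G} {O X : Subgroup G} {ι : F →+* E} {τ ρ : E ≃+* E} {Y : ℕ → E → G}

namespace RU
variable (h : RU j t O ι τ ρ Y)
include h

/-- as `tn` -/
theorem tn' (syl : IsSyl 2 (SK ρ Y 24) (SK ρ Y 0)) : t ∉ SK ρ Y 0 := fun e => by
  obtain ⟨w, hw⟩ := h.eps
  have m := zpowers_le.1 (syl.le_of_normalizes (StdL.isPGroup_zp h.tt) (zpowers_le.2 e)
    (zpowers_le.2 (h.t_norm fun _ hr => hr.2)))
  refine h.ud_e1 (h.rel.lead (r := 44) (by norm_num) (by norm_num) (ok_one _) ?_)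
  rw [← h.ud_tw hw]
  exact h.rel.SK_comm (by norm_num) (commutator_mem_commutator m
    (mem_SK le_rfl (by norm_num) (ok_short (by decide +kernel) w)))

/-- as `fixG` -/
theorem fixG' (f : Pr ρ Y) {g : G} (hg : g ∈ SK ρ Y 0) (e : Commute g t) :
    ∃ a, ∃ k ∈ K0 j t, g = j a * k := by
  obtain ⟨γ, hγ⟩ := exists_gam (F := F)
  obtain ⟨l, σ, φ, hφ, e1⟩ := h.ud_red e hγ
  have hg' : Commute ((j l)⁻¹ * g) t := (h.tj l).symm.inv_left.mul_left e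
  obtain ⟨u, hu, r, hr, c, ty, e2⟩ := f.pair _ (mul_mem (inv_mem (h.j_mem0 l)) hg)
  have k : ∀ s, 24 ≤ s → s < 48 → u * Y r c * u⁻¹ = Y s 1 → r = s ∧ c = 1 := fun s s1 s2 e3 => by
    have e4 : Y r c = u⁻¹ * Y s 1 * u := by rw [← e3]; group
    have m : Y s 1 ∈ SK ρ Y s := mem_SK le_rfl s2 (ok_one _)
    have r1 : 24 ≤ r := not_lt.1 fun r1 => ty.1 (h.rel.neg r1 ty.ok
      (e4 ▸ mul_mem (mul_mem (inv_mem hu) (SK_mono s1 m)) hu))
    refine h.rel.lead_eq (g := Y r c) r1 hr s1 s2 ty.ok (ok_one _) ty.1 h.ud_e1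
      (by rw [h.rel.sq hr ty.ok]; exact one_mem _) ?_
    have := inv_mem (h.rel.SK_comm s1 (commutator_mem_commutator (inv_mem hu) m))
    rwa [commutatorElement_inv, commutatorElement_def, h.rel.inv s2 (ok_one _), inv_inv, mul_assoc, mul_assoc,
      ← mul_assoc u⁻¹, ← e4] at this
  have e3 := e2 1 (map_one ρ)
  rw [one_mul, h.ud_y1 (by norm_num)] at e3
  rcases e1 with e1 | e1
  · rw [e1, hφ 47 (by norm_num), map_one, ← h.ud_y1 (by norm_num)] at e3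
    obtain ⟨rfl, rfl⟩ := k 47 (by norm_num) (by norm_num) e3.symm
    obtain ⟨l', hl⟩ := inr_of (α := φ) (r := 47) (by norm_num) (by
      rintro _ rfl a
      refine h.inj ?_
      rw [← e1, ← h.ext 47 hr, e2 _ (h.ρι a), mul_one, mul_inv_eq_iff_eq_mul]
      exact (h.rel.SA hu _ (mem_SK le_rfl hr (h.ok_ι 47 a))).symm)
    obtain ⟨k, hk, e4⟩ := h.toFr.pin hg' e1 hl
    exact ⟨l * l', k, hk, by rw [map_mul, mul_assoc, ← e4, mul_inv_cancel_left]⟩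
  · rw [e1, hφ 47 (by norm_num), hγ 47 (by norm_num), show gm 47 = 44 by decide +kernel, map_one, one_pow,
      ite_self, ← h.ud_y1 (by norm_num)] at e3
    obtain ⟨rfl, rfl⟩ := k 44 (by norm_num) (by norm_num) e3.symm
    exact (h.ud_e1 (by simpa using ty.2.2 (by decide +kernel))).elim

/-- `E` is a field or has an idempotent moved by `τ` -/
theorem dich : Ety τ := by
  obtain ⟨w, hw⟩ := h.eps
  have two := h.rel.two
  by_cases k : ∀ e : E, e ≠ 0 → e * τ e ≠ 0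
  · refine Or.inl ⟨⟨1, 0, h.ud_e1⟩, mul_comm, fun {e} he => ?_⟩
    obtain ⟨a, ha⟩ := (h.fix (e * τ e)).1 (by rw [map_mul, h.ττ, mul_comm])
    have a0 : a ≠ 0 := fun k' => k e he (by rw [← ha, k', map_zero])
    exact ⟨τ e * ι a⁻¹, by rw [← mul_assoc, ← ha, ← map_mul, mul_inv_cancel₀ a0, map_one]⟩
  push Not at k
  obtain ⟨e, e0, e1⟩ := k
  obtain ⟨b, hb⟩ := h.ud_trE e
  have b0 : b ≠ 0 := by
    rintro rfl
    rw [map_zero] at hb
    have e2 : τ e = e := (h.rel.eq_of_add hb).symm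
    obtain ⟨a, rfl⟩ := (h.fix e).1 e2
    rw [h.τι, ← map_mul, ← map_zero ι] at e1
    exact e0 (by rw [mul_self_eq_zero.1 (h.ι_inj e1), map_zero])
  have i : ι b * ι b⁻¹ = 1 := by rw [← map_mul, mul_inv_cancel₀ b0, map_one]
  refine Or.inr ⟨e * ι b⁻¹, ?_, ?_⟩
  · have : e * e = e * ι b := by rw [← hb, mul_add, e1, add_zero]
    calc e * ι b⁻¹ * (e * ι b⁻¹) = e * e * ι b⁻¹ * ι b⁻¹ := by ring
      _ = e * (ι b * ι b⁻¹) * ι b⁻¹ := by rw [this]; ring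
      _ = _ := by rw [i, mul_one]
  · rw [map_mul, h.τι, ← i, ← hb]
    linear_combination (-ι b⁻¹) * two e

theorem fld_tau (e : ρ = τ) : Fld ρ := by
  subst e
  refine ⟨h.ud_e1, fun x hx x0 => ?_, Or.inr h.eps⟩
  obtain ⟨a, rfl⟩ := (h.fix x).1 hx
  have a0 : a ≠ 0 := fun k => x0 (by rw [k, map_zero])
  exact ⟨ι a⁻¹, h.ρι _, by rw [← map_mul, mul_inv_cancel₀ a0, map_one]⟩

end RU

end Cfsg.Agent.F4Q
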