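import Mathlib
import Cfsg.Agent.F4Q.GfD

/-! The groups `DD` (diagonal times field) and `D0` (diagonal); complements of `S₀` in a Sylow `2`-subgroup of `N(G₀)`. -/

set_option autoImplicit false

namespace Cfsg.Agent.F4Q

open Cfsg.Lie Cfsg.Agent.Chev Subgroup Cfsg.Agent.PLocal.Amb
open Cfsg.Agent.F42S (lg ip ad gm sm sr Mo aw)
open Cfsg.Agent.FinS (Rt Rg Uf)
open scoped commutatorElement


variable {E : Type*} [CommRing E] {G : Type*} [Group G] {ρ : E ≃+* E} {Y : ℕ → E → G}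
  {d d' : G} {c c' : ℕ → E} {σ σ' : E ≃+* E}

namespace Df

theorem okc (h : Df ρ Y d c σ) {r : ℕ} (hr : r < 48) {e : E} (he : Ok ρ r e) : Ok ρ r (c r * σ e) :=
  fun l => by rw [map_mul, h.ok r hr l, ← h.comm, he l]

theorem one : Df ρ Y 1 (fun _ => 1) (RingEquiv.refl E) :=
  ⟨fun _ _ => isUnit_one, fun r _ => ok_one r, fun _ => rfl, fun _ _ _ _ => by simp⟩

theorem mul (h : Df ρ Y d c σ) (h' : Df ρ Y d' c' σ') :
    Df ρ Y (d * d') (fun r => c r * σ (c' r)) (σ'.trans σ) :=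
  ⟨fun r hr => (h.unit r hr).mul ((h'.unit r hr).map σ), fun r hr => h.okc hr (h'.ok r hr),
    fun e => by rw [RingEquiv.trans_apply, RingEquiv.trans_apply, h'.comm, h.comm], fun r hr e he => by
      rw [show d * d' * Y r e * (d * d')⁻¹ = d * (d' * Y r e * d'⁻¹) * d⁻¹ by group, h'.conj r hr e he,
        h.conj r hr _ (h'.okc hr he), map_mul, RingEquiv.trans_apply, mul_assoc]⟩

theorem inv (h : Df ρ Y d c σ) : ∃ c', Df ρ Y d⁻¹ c' σ.symm := by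
  have k : ∀ e, σ.symm (ρ e) = ρ (σ.symm e) := fun e => σ.injective (by
    rw [h.comm, σ.apply_symm_apply, σ.apply_symm_apply])
  have u : ∀ r, ∃ v, r < 48 → c r * v = 1 := fun r => by
    by_cases hr : r < 48
    · obtain ⟨v, hv⟩ := (h.unit r hr).exists_right_inv
      exact ⟨v, fun _ => hv⟩
    · exact ⟨1, fun k => absurd k hr⟩
  choose v hv using u
  have ok : ∀ r < 48, Ok ρ r (σ.symm (v r)) := fun r hr l => by
    rw [← k]
    congr 1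
    have := congrArg ρ (hv r hr)
    rw [map_mul, h.ok r hr l, map_one] at this
    calc ρ (v r) = ρ (v r) * (c r * v r) := by rw [hv r hr, mul_one]
      _ = c r * ρ (v r) * v r := by ring
      _ = _ := by rw [this, one_mul]
  refine ⟨fun r => σ.symm (v r), fun r hr => (IsUnit.of_mul_eq_one_right _ (hv r hr)).map σ.symm, ok, k,
    fun r hr e he => ?_⟩
  have o : Ok ρ r (σ.symm (v r) * σ.symm e) := fun l => by rw [map_mul, ok r hr l, ← k, he l]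
  have := h.conj r hr _ o
  rw [map_mul, σ.apply_symm_apply, σ.apply_symm_apply, ← mul_assoc, hv r hr, one_mul] at this
  rw [← this]; group

theorem norm (h : Df ρ Y d c σ) {S : Set ℕ} (hS : ∀ r ∈ S, r < 48) : d ∈ 𝐍[YS ρ Y S] := by
  have k : ∀ {d c σ}, Df ρ Y d c σ → ∀ g ∈ YS ρ Y S, d * g * d⁻¹ ∈ YS ρ Y S := fun {d c σ} h g hg =>
    (YS_le (H := (YS ρ Y S).comap (MulAut.conj d).toMonoidHom)).2 (fun r hr e he => by
      change d * Y r e * d⁻¹ ∈ YS ρ Y S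
      rw [h.conj r (hS r hr) e he]; exact mem_YS hr (h.okc (hS r hr) he)) hg
  obtain ⟨c', h'⟩ := h.inv
  refine mem_normalizer_iff.2 fun g => ⟨k h g, fun hg => ?_⟩
  simpa [mul_assoc] using k h' _ hg

theorem cent (h : Df ρ Y d c (RingEquiv.refl E)) (e : ∀ r < 48, c r = 1) : d ∈ 𝐂[SK ρ Y 0] := fun g hg =>
  (YS_comm (a := d) (fun r hr x hx => by
    have := h.conj r hr.2 x hx
    rw [e r hr.2, one_mul] at this
    exact mul_inv_eq_iff_eq_mul.1 this) hg).symm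

theorem pow (h : Df ρ Y d c (RingEquiv.refl E)) (n : ℕ) :
    Df ρ Y (d ^ n) (fun r => c r ^ n) (RingEquiv.refl E) := by
  induction n with
  | zero => simpa using one
  | succ n ih => simp only [pow_succ]; exact ih.mul h

end Df

variable (ρ Y) in
/-- diagonal times field -/
def DD : Subgroup G where
  carrier := {d | ∃ c σ, Df ρ Y d c σ}
  one_mem' := ⟨_, _, Df.one⟩
  mul_mem' := fun ⟨_, _, a⟩ ⟨_, _, b⟩ => ⟨_, _, a.mul b⟩
  inv_mem' := fun ⟨_, _, a⟩ => let ⟨_, b⟩ := a.inv; ⟨_, _, b⟩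

variable (ρ Y) in
/-- diagonal -/
def D0 : Subgroup G where
  carrier := {d | ∃ c, Df ρ Y d c (RingEquiv.refl E)}
  one_mem' := ⟨_, Df.one⟩
  mul_mem' := fun ⟨_, a⟩ ⟨_, b⟩ => ⟨_, a.mul b⟩
  inv_mem' := fun ⟨_, a⟩ => let ⟨_, b⟩ := a.inv; ⟨_, b⟩

theorem DD_norm {S : Set ℕ} (hS : ∀ r ∈ S, r < 48) : DD ρ Y ≤ 𝐍[YS ρ Y S] := fun _ ⟨_, _, a⟩ => a.norm hS

theorem D0_le : D0 ρ Y ≤ DD ρ Y := fun _ ⟨_, a⟩ => ⟨_, _, a⟩

theorem spl_of [Finite G] {G0 S0 D P0 : Subgroup G} (h1 : IsSyl 2 S0 G0) (h2 : D ≤ 𝐍[G0]) (h3 : D ≤ 𝐍[S0])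
    (h4 : ∀ g ∈ 𝐍[G0], ∃ l ∈ G0, ∃ d ∈ D, g = l * d) (h5 : IsSyl 2 P0 D) (h6 : P0 ⊓ S0 = ⊥) :
    IsSyl 2 (S0 ⊔ P0) 𝐍[G0] ∧ P0 ⊓ G0 = ⊥ := by
  have n := h5.le.trans h3
  refine ⟨⟨sup_le (h1.le.trans le_normalizer) (h5.le.trans h2), h1.pgrp.to_sup_of_normal_left' h5.pgrp n,
    fun R hR k1 k2 r hr => ?_⟩, eq_bot_iff.2 (h6 ▸ le_inf inf_le_left (h1.le_of_normalizes
      h5.pgrp.to_inf_left inf_le_right (inf_le_left.trans n)))⟩
  let N := 𝐍[G0]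
  let π := QuotientGroup.mk' (G0.subgroupOf N)
  let f : D →* N ⧸ G0.subgroupOf N := π.comp (inclusion h2)
  have fs : Function.Surjective f := fun x => by
    obtain ⟨⟨g, hg⟩, rfl⟩ := QuotientGroup.mk'_surjective _ x
    obtain ⟨l, hl, d, hd, rfl⟩ := h4 g hg
    refine ⟨⟨d, hd⟩, QuotientGroup.eq.2 (mem_subgroupOf.2 ?_)⟩
    change d⁻¹ * (l * d) ∈ G0
    simpa [mul_assoc] using PLocal.Amb.conj_mem_of_mem_normalizer (inv_mem (h2 hd)) hl
  obtain ⟨Q, hQ⟩ := h5.exists_sylow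
  have := (Q.mapSurjective fs).is_maximal' ((isPGroup_subgroupOf hR N).map π) (by
    rintro _ ⟨x, hx, rfl⟩
    exact ⟨inclusion h2 x, k1 (mem_sup_right (by rw [hQ] at hx; exact hx)), rfl⟩)
  obtain ⟨x, hx, e⟩ := this.le ⟨⟨r, k2 hr⟩, hr, rfl⟩
  rw [hQ] at hx
  have m : (x : G)⁻¹ * r ∈ G0 := mem_subgroupOf.1 (QuotientGroup.eq.1 e)
  have m' := h1.max (R ⊓ G0) hR.to_inf_left (le_inf (le_sup_left.trans k1) h1.le) inf_le_right
    (mem_inf.2 ⟨mul_mem (inv_mem (k1 (mem_sup_right hx))) hr, m⟩)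
  simpa using mul_mem (mem_sup_right (S := S0) hx) (mem_sup_left m')

end Cfsg.Agent.F4Q
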