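import Cfsg.Agent.F42S.St0A

/-! In an `F₄(2)`-frame `t` is not fused to `t x₄₇ x₄₄` only. -/

set_option autoImplicit false

namespace Cfsg.Agent.F42S.OM

open Cfsg Cfsg.Agent.Comp Subgroup Cfsg.Agent.PLocal.Amb SA
open Cfsg.Agent.WG (el el_nil el_cons el_append)
open scoped commutatorElement

variable {G : Type*} [Group G] {j : L0 →* G} {t g : G}

local notation "mm" => xx 47 * xx 44

theorem g47 : gam (xx 47) = xx 44 := gam_xx (by omega)

theorem g44 : gam (xx 44) = xx 47 := gam_xx (by omega)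

theorem gam_m : gam mm = mm := by rw [map_mul, g47, g44, c4447]

theorem gam_P {p : L0} (hp : p ∈ P14) : gam p ∈ P14 :=
  cz.1 (by rw [← gam_m, ← map_mul, cz.2 hp, map_mul])

theorem mm_sq : mm * mm = 1 := V_sq (mul_mem (xx_mem_UU (by omega)) (xx_mem_UU (by omega)))

theorem czc {a : L0} (e : a * mm * a⁻¹ = mm) : a ∈ P14 :=
  cz.1 (by rw [← mul_inv_eq_iff_eq_mul]; exact e)

theorem mm_inv : (mm)⁻¹ = mm := by rw [inv_eq_iff_mul_eq_one]; exact mm_sq

theorem mm_ne : mm ≠ 1 := Q_ne (u := [47, 44]) (v := []) (by decide +kernel) ∘ fun e => by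
  simpa only [el_cons, el_nil, mul_one] using e

theorem inn_cj (h : Fr j t) {c : G} {a : L0} (e : c = j a ∨ c = t * j a) (b : L0) :
    c * j b * c⁻¹ = j (a * b * a⁻¹) := by
  rcases e with rfl | rfl
  · simp
  · rw [map_mul, map_mul, map_inv, h.tj a, mul_inv_rev, mul_assoc (j a), h.tj b]; group

theorem fixz (h : Fr j t) {c : G} (h1 : c * t = t * c) (h2 : c * j mm = j mm * c) :
    c * j (xx 47) * c⁻¹ = j (xx 47) ∨ c * j (xx 47) * c⁻¹ = j (xx 47) * j mm := by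
  rcases h.cases h1 with ⟨a, e⟩ | ⟨a, e⟩
  · left
    have ha : a ∈ P14 := czc (h.inj (by
      rw [← inn_cj h e, h2, mul_inv_cancel_right]))
    rw [inn_cj h e, P_c47 ha, mul_inv_cancel_right]
  · right
    have ha : a ∈ P14 := czc (h.inj (by
      have := e mm
      rw [gam_m] at this
      rw [← this, h2, mul_inv_cancel_right]))
    rw [e, g47, P_c44 ha, mul_inv_cancel_right, ← map_mul, ← mul_assoc, xx_sq, one_mul]

/-- `g` swaps `t` and `t m` and fixes `m`. -/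
def Gm (j : L0 →* G) (t g : G) : Prop := g * t * g⁻¹ = t * j mm ∧ g * j mm * g⁻¹ = j mm

theorem Gm.inv (hg : Gm j t g) : Gm j t g⁻¹ := by
  have e : g * (t * j mm) * g⁻¹ = t := by
    rw [← conj_mul, hg.1, hg.2, mul_assoc, ← map_mul, mm_sq, map_one, mul_one]
  exact ⟨by rw [← e]; nth_rw 2 [e]; group, by nth_rw 1 [← hg.2]; group⟩

theorem Gm.cc (hg : Gm j t g) {c : G} (h1 : Commute c t) (h2 : Commute c (j mm)) :
    Commute (g * c * g⁻¹) t ∧ Commute (g * c * g⁻¹) (j mm) := by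
  have a := h1.conj g
  have b := h2.conj g
  rw [hg.1] at a
  rw [hg.2] at b
  refine ⟨?_, b⟩
  have := a.mul_right b.inv_right
  rwa [mul_inv_cancel_right] at this

theorem Pc (h : Fr j t) {p : L0} (hp : p ∈ P14) : Commute (j p) t ∧ Commute (j p) (j mm) :=
  ⟨(h.tj p).symm, Commute.map (cz.2 hp) j⟩

theorem Gm.zl (h : Fr j t) (hg : Gm j t g) :
    g * j (xx 47) * g⁻¹ = j (xx 47) ∨ g * j (xx 47) * g⁻¹ = j (xx 44) := by
  have u : ∀ {s}, 24 ≤ s → xx s ∈ P14 := fun hs => U_P (xx_mem_UU hs)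
  obtain ⟨b, e⟩ := h.comm_mem (hg.cc (Pc h (u (s := 46) (by omega))).1 (Pc h (u (by omega))).2).1
    (hg.cc (Pc h (u (s := 24) (by omega))).1 (Pc h (u (by omega))).2).1
  have e0 : xx 46 * xx 24 * (xx 46)⁻¹ * (xx 24)⁻¹ = xx 47 := by
    have := Q_eq (u := [46, 24, 46, 24]) (v := [47]) (by decide +kernel)
    rw [xx_inv, xx_inv]
    simpa only [el_cons, el_nil, mul_one, mul_assoc] using this
  have e1 : g * j (xx 47) * g⁻¹ = j b := by
    rw [← e, ← e0]; simp only [map_mul, map_inv]; group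
  have hb : b ∈ P14 := cz.1 (h.inj (by
    have := (hg.cc (Pc h (u (s := 47) (by omega))).1 (Pc h (u (by omega))).2).2
    rw [e1] at this
    rw [map_mul j b, map_mul j _ b, this]))
  obtain ⟨m, hm, rfl⟩ := z2 (w := b) fun s hs _ => by
    have c := hg.inv.cc (Pc h (u hs)).1 (Pc h (u hs)).2
    have k : ∀ w, g⁻¹ * j (xx s) * g⁻¹⁻¹ * j (xx 47) * (g⁻¹ * j (xx s) * g⁻¹⁻¹)⁻¹ = j (xx 47) * w →
        j (xx s * b * (xx s)⁻¹) = j b * (g * w * g⁻¹) := fun w e => by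
      rw [map_mul, map_mul, map_inv, ← e1, conj_mul, ← e]; group
    have k2 : b * xx s * b⁻¹ * xx s = b * (xx s * b * (xx s)⁻¹)⁻¹ := by
      rw [mul_inv_rev, mul_inv_rev, inv_inv, xx_inv]; group
    rw [k2]
    rcases fixz h c.1 c.2 with e2 | e2
    · have := k 1 (by rw [e2, mul_one])
      rw [mul_one, mul_inv_cancel, mul_one] at this
      exact .inl (by rw [h.inj this, mul_inv_cancel])
    · have := k _ e2
      rw [hg.2, ← map_mul] at this
      refine .inr ?_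
      rw [h.inj this, cz.2 hb, mul_inv_rev, mul_inv_cancel_left, mm_inv]
  rcases bw4 hm with e2 | e2 | e2 | e2 <;> rw [e2] at e1
  · rw [map_one, conj_eq_one_iff, ← map_one j] at e1
    exact (xx_ne (by omega) (h.inj e1)).elim
  · exact .inr e1
  · exact .inl e1
  · rw [← hg.2] at e1
    exact (ncls.2.1 (h.inj (conj_injective e1) ▸ IsConj.refl _)).elim

theorem Gm.nR (h : Fr j t) (hg : Gm j t g) : ∀ x ∈ h.sub P14, g * x * g⁻¹ ∈ h.sub P14 := by
  rintro x ⟨p, hp, e⟩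
  have c : ∀ {a}, p * a = a * p → Commute x (j a) := fun {a} ha => by
    have : Commute (j p) (j a) := Commute.map ha j
    rcases e with rfl | rfl
    exacts [this, .mul_left (h.tj a) this]
  have c1 := hg.cc (h.inn_c ⟨p, e⟩) (c (cz.2 hp))
  have c2 := (c (P_c47 hp)).conj g
  obtain ⟨a, e'⟩ : Inn j t (g * x * g⁻¹) := by
    rcases hg.zl h with k | k <;> rw [k] at c2 <;> exact h.inn_of c1.1 (by omega) c2
  exact ⟨a, czc (h.inj (by
    rw [← inn_cj h e', c1.2.eq, mul_inv_cancel_right])), e'⟩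

theorem sylR [Finite G] (h : Fr j t) : IsSyl 2 (T0 j t) (h.sub P14) := by
  refine ⟨fun g hg => ?_, h.pT0, fun R hR h1 h2 g hg => ?_⟩
  · obtain ⟨u, hu, e⟩ := h.mem_T0.1 hg
    exact ⟨u, U_P hu, e⟩
  · have h3 := syl_U.max (R.comap j) (hR.comap_of_injective _ h.inj)
      (map_le_iff_le_comap.1 (le_sup_right.trans h1)) le_top
    obtain ⟨a, -, e⟩ := h2 hg
    refine h.mem_T0.2 ⟨a, h3 ?_, e⟩
    rcases e with rfl | rfl
    · exact hg
    · exact (mul_mem_cancel_left (h1 (mem_sup_left (mem_zpowers t)))).1 hg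

theorem Gm.adj [Finite G] (h : Fr j t) (hg : Gm j t g) : ∃ k ∈ 𝐍[T0 j t], Gm j t k := by
  obtain ⟨x, ⟨p, hp, e⟩, k, hk, rfl⟩ := (sylR h).frattini (g := g) (mem_normalizer_of_cj_le (by
    rintro _ ⟨x, hx, rfl⟩
    exact hg.nR h x hx))
  have c1 : Commute x t := h.inn_c ⟨p, e⟩
  have c2 : Commute x (j mm) := by
    rcases e with rfl | rfl
    exacts [(Pc h hp).2, .mul_left (h.tj _) (Pc h hp).2]
  have k : ∀ a b, Commute x b → x * k * a * (x * k)⁻¹ = b → k * a * k⁻¹ = b := fun a b c e => by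
    calc k * a * k⁻¹ = x⁻¹ * (x * k * a * (x * k)⁻¹) * x := by group
      _ = b := by rw [e, mul_assoc, ← c.eq, inv_mul_cancel_left]
  exact ⟨_, hk, k _ _ (c1.mul_right c2) hg.1, k _ _ c2 hg.2⟩

theorem Gm.normV (h : Fr j t) (hg : Gm j t g) (hk : g ∈ 𝐍[T0 j t])
    (h1 : g * j (xx 47) * g⁻¹ = j (xx 44)) (h2 : g * j (xx 44) * g⁻¹ = j (xx 47)) {v : L0}
    (hv : v ∈ UU 41) : ∃ v' ∈ UU 41, g * j v * g⁻¹ = j (gam v') := by
  have xA : ∀ {r}, r < 48 → 42 ≤ gm r → xx r ∈ (UU 42).comap gam := fun hr k => by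
    rw [mem_comap, gam_xx hr]; exact xx_mem_UU k
  obtain ⟨b, e⟩ := comJ h hk (V_com (xx_mem_UU (r := 46) (by omega)))
  have hb : b ∈ (UU 42).comap gam := by
    obtain ⟨m, -, rfl⟩ := z2s fun s h2 _ => c46K h hk h1 (.inl e) h2
    refine el_mem fun r hr => ?_
    have := bw_mem hr
    simp only [List.mem_cons, List.not_mem_nil, or_false] at this
    rcases this with rfl | rfl | rfl <;> exact xA (by omega) (by decide)
  have cw : ∀ (w : List ℕ) (r : ℕ), (∀ s ∈ w, s ∈ 17 :: 19 :: 20 :: 22 :: up 24) →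
      Q (w ++ [46]) (r :: w) = true → g * j (xx r) * g⁻¹ ∈ h.sub ((UU 42).comap gam) := fun w r hw q => by
    have hp : el xx w ∈ P14 := el_mem fun s hs => xx_mem (hw s hs)
    have e1 := Q_eq q
    rw [el_append, el_cons, el_cons, el_nil, mul_one, ← mul_inv_eq_iff_eq_mul] at e1
    obtain ⟨p, hp', e2⟩ := hg.nR h _ ⟨_, hp, .inl rfl⟩
    refine ⟨p * b * p⁻¹, ?_, ?_⟩
    · rw [mem_comap, map_mul, map_mul, map_inv]
      exact conj_mem_of_mem_normalizer (norm_V0 (gam_P hp')) hb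
    have e3 : g * j (xx r) * g⁻¹ = g * j (el xx w) * g⁻¹ * (g * j (xx 46) * g⁻¹) *
        (g * j (el xx w) * g⁻¹)⁻¹ := by rw [← e1, map_mul, map_mul, map_inv]; group
    rw [e3]
    exact cjE h e2 (.inl e)
  have hA : UU 42 ≤ ((h.sub ((UU 42).comap gam)).comap (MulAut.conj g).toMonoidHom).comap j := by
    refine UU_le.2 fun r r1 r2 => ?_
    change g * j (xx r) * g⁻¹ ∈ h.sub _
    interval_cases r
    · exact cw [25, 22, 25, 27, 20, 27, 25, 22, 25] 42 (by decide) (by decide +kernel)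
    · exact cw [27, 20, 27, 25, 22, 25] 43 (by decide) (by decide +kernel)
    · exact ⟨_, xA (by omega) (by decide), .inl h2⟩
    · exact cw [25, 22, 25] 45 (by decide) (by decide +kernel)
    · exact ⟨b, hb, .inl e⟩
    · exact ⟨_, xA (by omega) (by decide), .inl h1⟩
  obtain ⟨v', e'⟩ := comJ h hk (V_com hv)
  refine ⟨gam v', zS fun s hs => ?_, by rw [gam_gam, e']⟩
  have hs' : s < 48 ∧ gm s < 48 ∧ gm (gm s) = s ∧ gm s ∈ 17 :: 19 :: 20 :: 22 :: up 24 := by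
    revert s; decide
  obtain ⟨u, hu, e1⟩ := cmK h (H := P14) (k := g)
    (fun x hx => by simpa using hg.inv.nR h x hx) (.inl rfl) (.inl e') (s := gm s) (xx_mem hs'.2.2.2)
  obtain ⟨a, ha, e2 | e2⟩ : g * j _ * g⁻¹ ∈ h.sub _ := hA (VP hv hu)
  · rw [← h.inj (e1.trans e2), mem_comap, map_mul, map_mul, map_mul, map_inv, gam_xx hs'.2.1,
      hs'.2.2.1] at ha
    exact ha
  · exact (ne_t h (e1.trans e2)).elim

theorem oi (h : Fr j t) (hm : IsConj t (t * j mm)) (n44 : ¬ IsConj t (t * j (xx 44)))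
    (n47 : ¬ IsConj t (t * j (xx 47))) {v : L0} (hv : v ∈ UU 41) :
    (v = 1 ∨ IsConj mm v) ↔ IsConj t (t * j v) := by
  have k : ∀ p a, IsConj (t * j a) (t * j (p * a * p⁻¹)) := fun p a => isConj_iff.2 ⟨j p, by
    rw [← mul_assoc, ← h.tj, map_mul, map_mul, map_inv]; group⟩
  rcases FV hv with rfl | rfl | ⟨p, hp, rfl⟩ | ⟨p, hp, rfl⟩
  · exact iff_of_true (.inl rfl) (by rw [map_one, mul_one])
  · exact iff_of_false (fun e => e.elim (xx_ne (by omega)) fun e => ncls.2.2.2.1 e.symm) n44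
  · exact iff_of_false (fun e => e.elim (fun e => xx_ne (r := 47) (by omega) (by simpa using e))
      fun e => ncls.2.1 ((isConj_iff.2 ⟨p, rfl⟩).trans e.symm)) fun e => n47 (e.trans (k _ _).symm)
  · exact iff_of_true (.inr (isConj_iff.2 ⟨p, rfl⟩)) (hm.trans (k _ _))

theorem Gm.no [Finite G] (h : Fr j t) (hg : Gm j t g) (n44 : ¬ IsConj t (t * j (xx 44)))
    (n47 : ¬ IsConj t (t * j (xx 47))) : False := by
  obtain ⟨k, hk, hg⟩ := hg.adj h
  have hm : IsConj t (t * j mm) := isConj_iff.2 ⟨k, hg.1⟩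
  rcases (h.nz hk).1 with ⟨h1, -⟩ | ⟨h1, h2⟩
  · refine (h.sw_of_move hk h1 fun e => ?_).elim (fun ⟨x, e, _⟩ => n44 (isConj_iff.2 ⟨x, e⟩))
      fun ⟨x, e, _⟩ => n47 (isConj_iff.2 ⟨x, by rw [e, MonoidHom.comp_apply, g44]⟩)
    have := hg.1
    rw [e, mul_inv_cancel_right, left_eq_mul, ← map_one j] at this
    exact mm_ne (h.inj this)
  choose! θ t1 t2 using fun v (hv : v ∈ UU 41) => hg.normV h hk h1 h2 hv
  refine aff θ t1 (fun u hu v hv => gam_inj (h.inj ?_)) (fun v hv e => h.inj ?_) fun v hv => ?_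
  · rw [← t2 _ (mul_mem hu hv), map_mul, map_mul, map_mul, ← t2 u hu, ← t2 v hv]; group
  · have := t2 v hv
    rw [e, map_one, map_one] at this
    rw [map_one]; simpa using this
  · rw [oi h hm n44 n47 hv, oi h.dual (by rwa [MonoidHom.comp_apply, gam_m])
      (by rwa [MonoidHom.comp_apply, g44]) (by rwa [MonoidHom.comp_apply, g47])
      (mul_mem (mul_mem (xx_mem_UU (by omega)) (xx_mem_UU (by omega))) (t1 v hv))]
    have e1 : IsConj (t * j v) (t * (j.comp gam) (mm * θ v)) := isConj_iff.2 ⟨k, by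
      rw [MonoidHom.comp_apply, map_mul gam, gam_m, map_mul j, ← mul_assoc t, ← hg.1, ← t2 v hv]; group⟩
    exact ⟨fun e => e.trans e1, fun e => e.trans e1.symm⟩

/-- Double commutators. -/
def tD : List (ℕ × ℕ × ℕ × ℕ × ℕ) := [(24, 17, 27, 17, 32), (26, 17, 28, 17, 31), (31, 17, 31, 22, 28),
  (32, 17, 32, 25, 27), (33, 19, 25, 19, 37), (34, 17, 27, 27, 35), (35, 17, 28, 27, 35),
  (36, 19, 25, 19, 40), (37, 19, 37, 25, 27), (38, 17, 27, 27, 39), (39, 17, 28, 27, 39),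
  (40, 19, 40, 25, 27), (42, 17, 27, 17, 46), (43, 17, 28, 17, 45), (44, 17, 37, 27, 39),
  (45, 17, 45, 22, 28), (46, 17, 46, 25, 27), (47, 17, 31, 25, 45)]

theorem dd14 {r : ℕ} (hr : r < 48) (h1 : Mo 44 r) (h2 : Mo 47 r) :
    xx r ∈ ⁅⁅P14, P14⁆, ⁅P14, P14⁆⁆ := by
  have t1 : ∀ r < 48, Mo 44 r → Mo 47 r → r ∈ tD.map (·.1) := by decide +kernel
  have t2 : ∀ p ∈ tD, (∀ s ∈ [p.2.1, p.2.2.1, p.2.2.2.1, p.2.2.2.2], s ∈ 17 :: 19 :: 20 :: 22 :: up 24) ∧
      Q [p.1] [p.2.1, p.2.2.1, p.2.1, p.2.2.1, p.2.2.2.1, p.2.2.2.2, p.2.2.2.1, p.2.2.2.2,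
        p.2.2.1, p.2.1, p.2.2.1, p.2.1, p.2.2.2.2, p.2.2.2.1, p.2.2.2.2, p.2.2.2.1] = true := by
    decide +kernel
  obtain ⟨⟨r, a, b, c, d⟩, hp, rfl⟩ := List.mem_map.1 (t1 r hr h1 h2)
  obtain ⟨k, q⟩ := t2 _ hp
  have e : xx r = ⁅⁅xx a, xx b⁆, ⁅xx c, xx d⁆⁆ := by
    have := Q_eq q
    simp only [el_cons, el_nil, mul_one] at this
    simp only [this, commutatorElement_def, mul_inv_rev, xx_inv, mul_assoc]
  rw [e]
  exact commutator_mem_commutator
    (commutator_mem_commutator (xx_mem (k a (by simp))) (xx_mem (k b (by simp))))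
    (commutator_mem_commutator (xx_mem (k c (by simp))) (xx_mem (k d (by simp))))

end Cfsg.Agent.F42S.OM
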