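import Mathlib
import Cfsg.Agent.F4Q.Frm
import Cfsg.Agent.F4Q.St2A
import Cfsg.Agent.F42S.Rig
import Cfsg.Agent.F42S.St0A

/-! The case `q = 2`: passage to `N(O) / O`, where the frame `F42S.Fr` holds. -/

set_option autoImplicit false

namespace Cfsg.Agent.F4Q

open Cfsg.Lie Cfsg.Agent.Chev Subgroup Cfsg.Agent.PLocal.Amb
open Cfsg.Agent.F42S (lg ip ad gm sm sr Mo aw)
open Cfsg.Agent.FinS (Rt Rg Uf)
open scoped commutatorElement

universe u

variable {F : Type*} [Field F] [Finite F] [CharP F 2] {G : Type u} [Group G] [Finite G]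
  {j : Γ F →* G} {t : G} {O : Subgroup G} {γ : Γ F ≃* Γ F}

omit [Finite F] [CharP F 2] in
theorem st2_zo (hq : Nat.card F = 2) (a : F) : a = 0 ∨ a = 1 := by
  obtain ⟨y, -, hy⟩ := (Nat.card_eq_two_iff' (0 : F)).1 hq
  exact or_iff_not_imp_left.2 fun h => (hy a h).trans (hy 1 one_ne_zero).symm

/-- `θ` of `exists_two` is bijective for `|F| = 2`. -/
theorem exists_two_equiv (hq : Nat.card F = 2) :
    ∃ θ : F42S.L0 ≃* Γ F, ∀ r < 48, θ (F42S.xx r) = xx r 1 := by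
  obtain ⟨θ, hθ⟩ := exists_two (F := F)
  refine ⟨MulEquiv.ofBijective θ ⟨?_, ?_⟩, hθ⟩
  · rcases θ.normal_ker.eq_bot_or_eq_top with h | h
    · exact (MonoidHom.ker_eq_bot_iff θ).1 h
    · have : θ (F42S.xx 0) = 1 := h.ge (mem_top _)
      rw [hθ 0 (by omega)] at this
      exact absurd (relΓ.inj 0 (by omega) 1 (ok_one 0) this) one_ne_zero
  · rw [← MonoidHom.range_eq_top, eq_top_iff, ← top_eq]
    refine YS_le.2 fun r hr e _ => ?_
    rcases st2_zo hq e with rfl | rfl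
    · rw [relΓ.zero hr.2]; exact one_mem _
    · exact ⟨_, hθ r hr.2⟩

theorem Fo.eq_one (h : Fo j t O) {b : Γ F} (hb : j b ∈ O) : b = 1 :=
  h.toFr.eq_one (h.mem_iff.1 hb).1

theorem Fo.lift (h : Fo j t O) {x y : G} (hx : x * x = 1) {b : Γ F} (hy : y = j b ∨ y = t * j b)
    (e : y⁻¹ * x ∈ O) : x = y := by
  have c : Commute y (y⁻¹ * x) := by
    rcases hy with rfl | rfl
    exacts [(h.Oj _ e b).symm, (h.Ot _ e).mul_left (h.Oj _ e b).symm]
  have y2 : y * y = j (b * b) := by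
    rcases hy with rfl | rfl
    · rw [map_mul]
    · rw [← sq, (h.tj b).mul_pow, sq, h.tt, one_mul, sq, map_mul]
  have e1 : y * y * ((y⁻¹ * x) * (y⁻¹ * x)) = 1 := by
    rw [← sq, ← sq, ← c.mul_pow, mul_inv_cancel_left, sq, hx]
  have : b * b = 1 := h.eq_one (by
    rw [← y2, eq_inv_of_mul_eq_one_left e1]; exact inv_mem (mul_mem e e))
  rw [this, map_one] at y2
  have := h.inv_eq e y2 c (by rwa [mul_inv_cancel_left])
  exact (inv_mul_eq_one.1 this).symm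

theorem Fo.lift' (h : Fo j t O) {Q : Type*} [Group Q] {π : 𝐍[O] →* Q} (hk : ∀ g, π g = 1 ↔ (g : G) ∈ O)
    {g x y : 𝐍[O]} (hx : (x : G) * x = 1) {b : Γ F} (hy : (y : G) = j b ∨ (y : G) = t * j b)
    (e : π g * π x * (π g)⁻¹ = π y) : (g : G) * x * (g : G)⁻¹ = y :=
  h.lift (by rw [conj_mul, hx, mul_one, mul_inv_cancel]) hy
    ((hk (y⁻¹ * (g * x * g⁻¹))).1 (by rw [map_mul, map_mul, map_mul, map_inv, map_inv, e, inv_mul_cancel]))

/-- The frame in `N(O) / O`. -/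
theorem Fo.quot (h : Fo j t O) (θ : F42S.L0 ≃* Γ F) : ∃ (Q : Type u) (_ : Group Q) (_ : Finite Q)
    (π : 𝐍[O] →* Q) (j' : F42S.L0 →* Q) (ht : t ∈ 𝐍[O]) (hj : ∀ a, j a ∈ 𝐍[O]),
    Function.Surjective π ∧ (∀ g, π g = 1 ↔ (g : G) ∈ O) ∧ (∀ a, j' a = π ⟨j (θ a), hj _⟩) ∧
      F42S.Fr j' (π ⟨t, ht⟩) := by
  have ht : t ∈ 𝐍[O] := h.norm (Commute.refl t)
  have hj : ∀ a, j a ∈ 𝐍[O] := fun a => h.norm (h.tj a).symm
  let π := QuotientGroup.mk' (O.subgroupOf 𝐍[O])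
  have hk : ∀ g, π g = 1 ↔ (g : G) ∈ O := fun g => QuotientGroup.eq_one_iff g
  let j' := π.comp ((j.comp θ.toMonoidHom).codRestrict _ fun a => hj _)
  have e : ∀ a, j' a = π ⟨j (θ a), hj _⟩ := fun _ => rfl
  have ct : ∀ g, π g * π ⟨t, ht⟩ = π ⟨t, ht⟩ * π g → Commute (g : G) t := fun g hg =>
    mul_inv_eq_iff_eq_mul.1 (h.lift' hk (x := ⟨t, ht⟩) (y := ⟨t, ht⟩) h.tt (b := 1) (.inr (by simp))
      (by rw [hg, mul_inv_cancel_right]))
  refine ⟨_, inferInstance, inferInstance, π, j', ht, hj, QuotientGroup.mk'_surjective _, hk, e,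
    ?_, fun k => ?_, fun a => ?_, (injective_iff_map_eq_one _).2 fun a k => ?_, fun g h1 h2 => ?_,
    fun g h1 a => ?_⟩
  · rw [← map_mul, ← map_one π]; exact congrArg π (Subtype.ext h.tt)
  · have := h.odd t ((hk _).1 k)
    rw [orderOf_eq_prime (p := 2) (by rw [sq, h.tt]) h.t1] at this
    exact absurd this (by decide)
  · rw [e, ← map_mul, ← map_mul]; exact congrArg π (Subtype.ext (h.tj _))
  · exact θ.map_eq_one_iff.1 (h.eq_one ((hk _).1 k))
  · obtain ⟨g, rfl⟩ := QuotientGroup.mk'_surjective _ g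
    obtain ⟨o, ho, k⟩ := h.cen g (ct g h1) fun a => by
      obtain ⟨b, hb⟩ := h.nrm g (ct g h1) a
      have := h2 (θ.symm a)
      rw [e, ← mul_inv_eq_iff_eq_mul, ← mul_inv_eq_one, ← map_mul, ← map_inv, ← map_inv, ← map_mul,
        ← map_mul, hk] at this
      simp only [coe_mul, InvMemClass.coe_inv, MulEquiv.apply_symm_apply] at this
      rw [hb, ← map_inv, ← map_mul] at this
      rw [mul_inv_eq_one.1 (h.eq_one this)] at hb
      exact mul_inv_eq_iff_eq_mul.1 hb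
    refine k.imp (fun k => (hk g).2 (by rwa [k])) fun k => ?_
    rw [← mul_inv_eq_one, ← map_inv, ← map_mul, hk]
    simpa [k] using ho
  · obtain ⟨g, rfl⟩ := QuotientGroup.mk'_surjective _ g
    obtain ⟨b, hb⟩ := h.nrm g (ct g h1) (θ a)
    refine ⟨θ.symm b, ?_⟩
    rw [e, e, ← map_mul, ← map_inv, ← map_mul]
    exact congrArg π (Subtype.ext (by simpa using hb))

theorem st2_cZ {p z : Γ F} (hp : Commute p (xx 47 1 * xx 44 1)) (hz : z ∈ XL F {44, 47}) :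
    Commute p z := by
  have k := (cm' one_ne_zero one_ne_zero).1 hp
  refine YS_comm (fun r hr e _ => ?_) hz
  by_cases he : e = 0
  · rw [he, relΓ.zero (by rcases hr with rfl | rfl <;> omega)]; exact Commute.one_right _
  rcases hr with rfl | rfl
  · have t : ∀ r < 48, 8 ≤ ip 44 r → 15 ≤ r := by decide +kernel
    exact (c44 he).2 (YS_mono (fun r hr => And.intro (t r hr.1 hr.2.2) hr.1) k)
  · exact (c47 he).2 (YS_mono (fun r hr => And.intro hr.1 hr.2.1) k)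

theorem st2_Um {p : Γ F} (hp : p ∈ UU F 24) : Commute p (xx 47 1 * xx 44 1) := by
  have t : ∀ r < 48, 24 ≤ r → 8 ≤ ip 47 r ∧ 8 ≤ ip 44 r := by decide +kernel
  exact (cm' one_ne_zero one_ne_zero).2 (YS_mono (fun r hr => And.intro hr.2 (t r hr.2 hr.1)) hp)

theorem Fr.J_comm (h : Fr j t) {y : G} (hy : y ∈ (XL F {44, 47}).map j ⊔ K0 j t) :
    Commute y t ∧ ∀ p, Commute p (xx 47 1 * xx 44 1) → Commute y (j p) := by
  refine ⟨mem_centralizer_singleton_iff.1 ((sup_le ?_ inf_le_left : _ ≤ centralizer {t}) hy),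
    fun p hp => mem_centralizer_singleton_iff.1 ((sup_le ?_ ?_ : _ ≤ centralizer {j p}) hy)⟩
  · rintro _ ⟨z, -, rfl⟩; exact mem_centralizer_singleton_iff.2 (h.tj z).symm
  · rintro _ ⟨z, hz, rfl⟩; exact mem_centralizer_singleton_iff.2 ((st2_cZ hp hz).symm.map j)
  · exact fun k hk => mem_centralizer_singleton_iff.2 ((mem_K0.1 hk).2 p)

/-- An element permuting a set `I` with `C(I) = Z(U) × K₀` normalizes `O`. -/
theorem Fr.normJ (h : Fr j t) {g : G} {I : Set G} (h0 : t ∈ I)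
    (h1 : ∀ s < 48, Mo 44 s → Mo 47 s → ∀ e, j (xx s e) ∈ I)
    (h2 : ∀ x ∈ I, ∀ y ∈ (XL F {44, 47}).map j ⊔ K0 j t, Commute y x)
    (h3 : ∀ x ∈ I, g⁻¹ * x * g ∈ I) (h4 : ¬ Commute g t) : ∃ O, Fo j t O ∧ g ∈ 𝐍[O] := by
  refine h.nsq (A₀ := XL F {44, 47}) (fun a ha => y0_card.2 a (YS_mono (by simp [Set.subset_def]) ha))
    (mem_normalizer_of_cj_le ?_) h4
  rintro _ ⟨y, hy, rfl⟩
  have c : ∀ x ∈ I, Commute (g * y * g⁻¹) x := fun x hx => by
    have := (h2 _ (h3 x hx) y hy).conj g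
    rwa [show g * (g⁻¹ * x * g) * g⁻¹ = x by group] at this
  obtain ⟨α, e⟩ := h.hom (c t h0)
  obtain ⟨u, v, e1⟩ := rig45 (α := α) (a := 44) (l := 47) (by omega) (by omega) (by decide) (by decide)
    (by decide +kernel) fun s hs a => h.inj (by
      rw [← e, (c _ (h1 s hs.1 hs.2.1 hs.2.2 a)).eq, mul_inv_cancel_right])
  obtain ⟨k, hk, e2⟩ := h.pin (c t h0) e e1
  change g * y * g⁻¹ ∈ _
  rw [e2]
  exact mul_mem_sup (mem_map_of_mem j (mul_mem (mem_YS (by simp) (ok_refl _ _))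
    (mem_YS (by simp) (ok_refl _ _)))) hk

theorem Fr.two_move (hq : Nat.card F = 2) (hγ : Gam γ) (h : Fr j t) {k : G}
    (h1 : k ∈ 𝐍[(UU F 24).map j ⊔ zpowers t]) (h2 : Commute k (j (xx 47 1))) (h3 : ¬ Commute k t) :
    Sw j t ∨ Sw (j.comp γ.toMonoidHom) t := by
  have t1 : ∀ s < 48, Mo 44 s → Mo 47 s → 24 ≤ s := by decide +kernel
  obtain ⟨O, ho, hk⟩ := h.normJ (g := k) (I := ((UU F 24).map j ⊔ zpowers t : Subgroup G))
    (mem_sup_right (mem_zpowers t))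
    (fun s a b c e => mem_sup_left (mem_map_of_mem j (mem_SK (t1 s a b c) a (ok_refl _ _))))
    (fun x hx y hy => (mem_centralizer_singleton_iff.1 ((sup_le (by
      rintro _ ⟨u, hu, rfl⟩
      exact mem_centralizer_singleton_iff.2 ((h.J_comm hy).2 u (st2_Um hu)).symm)
      (zpowers_le.2 (mem_centralizer_singleton_iff.2 (h.J_comm hy).1.symm)) :
        _ ≤ centralizer {y}) hx)).symm)
    (fun x hx => inv_conj_mem_of_mem_normalizer h1 hx) h3
  obtain ⟨θ, hθ⟩ := exists_two_equiv hq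
  obtain ⟨Q, _, _, π, j', ht, hj, hs, hπ, e, h'⟩ := ho.quot θ
  have hU : ∀ a ∈ F42S.UU 24, θ a ∈ UU F 24 := fun a ha =>
    (F42S.UU_le (H := (UU F 24).comap θ.toMonoidHom)).2 (fun r a b => by
      change θ _ ∈ UU F 24
      rw [hθ r b]; exact mem_SK a b (ok_refl _ _)) ha
  have hT : (UU F 24).map j ⊔ zpowers t ≤ ((F42S.T0 j' (π ⟨t, ht⟩)).comap π).map 𝐍[O].subtype := by
    refine sup_le (map_le_iff_le_comap.2 (YS_le.2 fun r hr c _ => ?_))
      (zpowers_le.2 ⟨⟨t, ht⟩, mem_sup_left (mem_zpowers _), rfl⟩)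
    rcases st2_zo hq c with rfl | rfl
    · rw [relΓ.zero hr.2]; exact one_mem _
    · exact ⟨⟨_, hj _⟩, h'.mem_T0.2 ⟨_, F42S.xx_mem_UU hr.1, .inl (e _).symm⟩,
        congrArg j (hθ r hr.2)⟩
  have hN : π ⟨k, hk⟩ ∈ 𝐍[F42S.T0 j' (π ⟨t, ht⟩)] := mem_normalizer_of_cj_le (by
    rintro _ ⟨y, hy, rfl⟩
    obtain ⟨x, hx, rfl⟩ : ∃ x : 𝐍[O], (x : G) ∈ (UU F 24).map j ⊔ zpowers t ∧ y = π x := by
      obtain ⟨u, hu, rfl | rfl⟩ := h'.mem_T0.1 hy
      · exact ⟨_, mem_sup_left (mem_map_of_mem j (hU u hu)), e u⟩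
      · exact ⟨⟨t, ht⟩ * ⟨_, hj _⟩, mul_mem (mem_sup_right (mem_zpowers t))
          (mem_sup_left (mem_map_of_mem j (hU u hu))), by rw [map_mul, e]⟩
    obtain ⟨z, hz, e1⟩ := hT (PLocal.Amb.conj_mem_of_mem_normalizer h1 hx)
    have : z = ⟨k, hk⟩ * x * ⟨k, hk⟩⁻¹ := Subtype.ext e1
    rw [this, SetLike.mem_coe, mem_comap, map_mul, map_mul, map_inv] at hz
    exact hz)
  have key : ∀ r < 48, (∃ g, g * π ⟨t, ht⟩ * g⁻¹ = π ⟨t, ht⟩ * j' (F42S.xx r) ∧
      g * j' (F42S.xx r) * g⁻¹ = j' (F42S.xx r)) →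
      ∃ g, g * t * g⁻¹ = t * j (xx r 1) ∧ Commute g (j (xx r 1)) := by
    rintro r hr ⟨g, a, b⟩
    obtain ⟨g, rfl⟩ := hs g
    rw [e] at a b
    rw [← map_mul π ⟨t, ht⟩] at a
    have a' := ho.lift' hπ h.tt (.inr rfl) a
    have b' := ho.lift' hπ (by
      change j _ * j _ = 1
      rw [← map_mul, ← map_mul, F42S.xx_sq, map_one, map_one]) (.inl rfl) b
    simp only [coe_mul, hθ r hr] at a' b'
    exact ⟨g, a', mul_inv_eq_iff_eq_mul.1 b'⟩
  refine (h'.sw_of_move hN ?_ fun c => h3 ?_).imp (key 44 (by omega)) fun c => ?_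
  · rw [e, ← map_inv, ← map_mul, ← map_mul]
    exact congrArg π (Subtype.ext (by simp [hθ, h2.eq]))
  · exact mul_inv_eq_iff_eq_mul.1 (ho.lift' hπ (g := ⟨k, hk⟩) (x := ⟨t, ht⟩) (y := ⟨t, ht⟩) h.tt (b := 1)
      (.inr (by simp)) (by rw [c, mul_inv_cancel_right]))
  · have : (j.comp γ.toMonoidHom) (xx 44 1) = j (xx 47 1) := by
      change j (γ _) = _
      rw [hγ 44 (by omega), if_neg (by decide), one_pow]; rfl
    rw [Sw, this]
    refine key 47 (by omega) ?_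
    rwa [F42S.Sw, MonoidHom.comp_apply, F42S.OM.g44] at c

/-- In `F₄(2)`-frames. -/
theorem only_m2 {j : F42S.L0 →* G} (h : F42S.Fr j t) {g : G}
    (h1 : g * t * g⁻¹ = t * j (F42S.xx 47 * F42S.xx 44)) (h2 : Commute g (j (F42S.xx 47 * F42S.xx 44)))
    (n44 : ¬ IsConj t (t * j (F42S.xx 44))) (n47 : ¬ IsConj t (t * j (F42S.xx 47))) : False :=
  F42S.OM.Gm.no h ⟨h1, by rw [h2.eq, mul_inv_cancel_right]⟩ n44 n47

theorem st2_dd {K H : Type*} [Group K] [Group H] (f : K →* H) {A : Subgroup K} {C : Subgroup H}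
    (hf : ∀ a ∈ A, f a ∈ C) {x : K} (hx : x ∈ ⁅⁅A, A⁆, ⁅A, A⁆⁆) : f x ∈ ⁅⁅C, C⁆, ⁅C, C⁆⁆ := by
  have := mem_map_of_mem f hx
  rw [map_commutator, map_commutator] at this
  have k : A.map f ≤ C := map_le_iff_le_comap.2 hf
  exact commutator_mono (commutator_mono k k) (commutator_mono k k) this

theorem st2_c : Commute (xx 44 1 : Γ F) (xx 47 1) :=
  relΓ.com 44 (by omega) 47 (by omega) (by decide +kernel) 1 1 (ok_one _) (ok_one _)

theorem st2_mm : (xx 47 1 * xx 44 1 : Γ F) * (xx 47 1 * xx 44 1) = 1 :=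
  y0_card.2 _ (mul_mem (mem_YS (by simp) (ok_refl _ _)) (mem_YS (by simp) (ok_refl _ _)))

omit [Finite F] [CharP F 2] [Finite G] in
theorem Fr.st2_cj (h : Fr j t) {a b : Γ F} (e : IsConj a b) : IsConj (t * j a) (t * j b) := by
  obtain ⟨l, rfl⟩ := isConj_iff.1 e
  exact isConj_iff.2 ⟨j l, by rw [← mul_assoc, ← (h.tj l).eq, map_mul, map_mul, map_inv]; group⟩

/-- `m` is not in the class `a₀` of `L_{t m}` -/
theorem Fr.st2_a (hq : Nat.card F = 2) (h : Fr j t) {g : G}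
    (h1 : g * t * g⁻¹ = t * j (xx 47 1 * xx 44 1))
    (h2 : g * j (xx 39 1 * xx 45 1) * g⁻¹ = j (xx 47 1 * xx 44 1)) :
    IsConj t (t * j (xx 44 1)) ∨ IsConj t (t * j (xx 47 1)) := by
  have : Fact (Nat.Prime 2) := ⟨Nat.prime_two⟩
  have e0 : g * (t * j (xx 39 1 * xx 45 1)) * g⁻¹ = t := by
    rw [← conj_mul, h1, h2, mul_assoc, ← map_mul, st2_mm, map_one, mul_one]
  let f := (MulAut.conj g).toMonoidHom.comp j
  have ef : ∀ a, f a = g * j a * g⁻¹ := fun _ => rfl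
  have k1 : ∀ y ∈ XL F {40, 44, 46, 47}, ∃ a, f y = j a := fun y hy =>
    h.dd (st2_dd f (fun c hc => mem_centralizer_singleton_iff.2 (by
      have := (((h.tj c).symm).mul_right
        (Commute.map (mem_centralizer_singleton_iff.1 hc) j)).conj g
      rwa [e0] at this)) (y0_le hy)) (by rw [← map_mul, y0_card.2 y hy, map_one])
  let Y := ((XL F {40, 44, 46, 47}).map f).comap j
  have hY : UU F 24 ≤ 𝐍[Y] := fun u hu => mem_normalizer_of_cj_le (by
    rintro _ ⟨y', ⟨y, hy, e⟩, rfl⟩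
    have c1 : Commute (g⁻¹ * j u * g) t := by
      have := (((h.tj u).symm).mul_right ((st2_Um hu).map j)).conj g⁻¹
      rw [← h1, inv_inv] at this
      rwa [show g⁻¹ * (g * t * g⁻¹) * g = t by group] at this
    obtain ⟨α, e1⟩ := h.hom c1
    refine ⟨α y, y0_aut α (h.inj ?_) hy, ?_⟩
    · have := ((st2_Um hu).map j).conj g⁻¹
      rw [← h2, inv_inv, show ∀ x, g⁻¹ * (g * x * g⁻¹) * g = x from fun x => by group] at this
      rw [← e1, this.eq, mul_inv_cancel_right]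
    · change _ = j (u * y' * u⁻¹)
      rw [map_mul, map_mul, map_inv, ← e, ef, ef, ← e1]; group)
  have h40 : xx 40 1 ∈ XL F {40, 44, 46, 47} := mem_YS (by simp) (ok_refl _ _)
  obtain ⟨⟨y', ⟨y, hy, e⟩, c⟩, n⟩ := ne_bot_iff_exists_ne_one.1 (inf_centralizer_ne_bot relΓ.two_SK
    (V := Y) (isPGroup_iff.2 fun y' ⟨y, hy, e⟩ => ⟨1, h.inj (by
      rw [pow_one, map_pow, ← e, ← map_pow, sq, y0_card.2 y hy, map_one, map_one])⟩) hY fun b => by
      obtain ⟨a, e⟩ := k1 _ h40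
      have : a ∈ Y := ⟨_, h40, e⟩
      rw [b, mem_bot] at this
      rw [this, map_one, ef, conj_eq_one_iff, ← map_one j] at e
      exact one_ne_zero (relΓ.inj 40 (by omega) 1 (ok_one _) (h.inj e)))
  have e2 : IsConj t (t * j y') := by
    refine (isConj_iff.2 ⟨g, e0⟩).symm.trans ((h.st2_cj (y0_conj hy)).trans (isConj_iff.2 ⟨g, ?_⟩))
    rw [map_mul j _ y, ← mul_assoc t, ← conj_mul, e0, ← e, ef]
  obtain ⟨a, b, rfl⟩ := zU.1 fun u hu => Commute.symm (c u hu)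
  rcases st2_zo hq a with rfl | rfl <;> rcases st2_zo hq b with rfl | rfl
  · exact (n (Subtype.ext (by
      change _ * _ = 1
      rw [relΓ.zero (by omega), relΓ.zero (by omega), mul_one]))).elim
  · rw [relΓ.zero (by omega), one_mul] at e2; exact .inr e2
  · rw [relΓ.zero (by omega), mul_one] at e2; exact .inl e2
  · rw [st2_c.eq, ← h2, ef] at e
    exact (y0_not hy (h.inj (conj_injective e) ▸ IsConj.refl _)).elim

theorem Fr.only_m (hq : Nat.card F = 2) (h : Fr j t) (h1 : IsConj t (t * j (xx 47 1 * xx 44 1))) :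
    IsConj t (t * j (xx 44 1)) ∨ IsConj t (t * j (xx 47 1)) := by
  obtain ⟨g₀, hg₀⟩ := isConj_iff.1 h1
  have mm : j (xx 47 1 * xx 44 1) * j (xx 47 1 * xx 44 1) = 1 := by rw [← map_mul, st2_mm, map_one]
  have m1 : j (xx 47 1 * xx 44 1) ≠ 1 := fun e => ncls.1 (by
    rw [← map_one j] at e
    rw [mul_eq_one_iff_eq_inv.1 (h.inj e), relΓ.inv (by omega) (ok_one _)])
  obtain ⟨a, ha⟩ := (h.conj g₀).dd (st2_dd j (fun c hc => mem_centralizer_singleton_iff.2 (by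
    rw [hg₀]
    exact ((h.tj c).symm).mul_right (Commute.map (mem_centralizer_singleton_iff.1 hc) j)))
    (h3 st2_mm)) mm
  change _ = g₀ * j a * g₀⁻¹ at ha
  have e0 : IsConj t (t * j a) := (isConj_iff.2 ⟨g₀, by
    rw [← conj_mul, hg₀, ← ha, mul_assoc, mm, mul_one]⟩).symm
  have adj : ∀ b, IsConj b a → ∃ g, g * t * g⁻¹ = t * j (xx 47 1 * xx 44 1) ∧
      g * j b * g⁻¹ = j (xx 47 1 * xx 44 1) := fun b c => by
    obtain ⟨l, rfl⟩ := isConj_iff.1 c
    refine ⟨g₀ * j l, ?_, by rw [ha, map_mul, map_mul, map_inv]; group⟩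
    rw [← hg₀, mul_assoc g₀, ← (h.tj l).eq]; group
  rcases cls (a := a) (h.inj (conj_injective (x := g₀) (by
      simp only [map_mul, map_one]
      rw [← conj_mul, ← ha, mm]; simp))) (fun e => m1 (by rw [ha, e]; simp)) with c | c | c | c
  · exact .inr (e0.trans (h.st2_cj c).symm)
  · exact .inl (e0.trans (h.st2_cj c).symm)
  swap
  · obtain ⟨g, a, b⟩ := adj _ c
    exact h.st2_a hq a b
  obtain ⟨g, a1, a2⟩ := adj _ c
  obtain ⟨θ, hθ⟩ := exists_two_equiv hq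
  have θm : θ (F42S.xx 47 * F42S.xx 44) = xx 47 1 * xx 44 1 := by
    rw [map_mul, hθ 47 (by omega), hθ 44 (by omega)]
  let C : Subgroup G := centralizer {t} ⊓ centralizer {j (xx 47 1 * xx 44 1)}
  have a3 : g * (t * j (xx 47 1 * xx 44 1)) * g⁻¹ = t := by
    rw [← conj_mul, a1, a2, mul_assoc, mm, mul_one]
  have hC : g ∈ 𝐍[C] := mem_normalizer_of_cj_le (by
    rintro _ ⟨c, ⟨c1, c2⟩, rfl⟩
    replace c1 : Commute c t := mem_centralizer_singleton_iff.1 c1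
    replace c2 : Commute c _ := mem_centralizer_singleton_iff.1 c2
    have d1 := (c1.mul_right c2).conj g
    have d2 := c2.conj g
    rw [a3] at d1
    rw [a2] at d2
    exact ⟨mem_centralizer_singleton_iff.2 d1, mem_centralizer_singleton_iff.2 d2⟩)
  have hD : g ∈ 𝐍[⁅⁅C, C⁆, ⁅C, C⁆⁆] :=
    le_normalizer_commutator (le_normalizer_commutator le_rfl le_rfl)
      (le_normalizer_commutator le_rfl le_rfl) hC
  obtain ⟨O, ho, hg⟩ := h.normJ (g := g) (I := {x | x = t ∨ x = t * j (xx 47 1 * xx 44 1) ∨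
      (x ∈ ⁅⁅C, C⁆, ⁅C, C⁆⁆ ∧ x * x = 1)}) (.inl rfl)
    (fun s a b c e => .inr (.inr ⟨by
      rcases st2_zo hq e with rfl | rfl
      · rw [relΓ.zero a, map_one]; exact one_mem _
      rw [← hθ s a]
      refine st2_dd (C := C) (j.comp θ.toMonoidHom) (fun p hp => ⟨?_, ?_⟩) (F42S.OM.dd14 a b c)
      · exact mem_centralizer_singleton_iff.2 (h.tj _).symm
      · rw [← θm]
        exact mem_centralizer_singleton_iff.2 (Commute.map (F42S.cz.2 hp) (j.comp θ.toMonoidHom)),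
      by rw [← map_mul, relΓ.sq a (ok_refl _ _), map_one]⟩))
    (by
      rintro x (rfl | rfl | ⟨x1, x2⟩) y hy
      · exact (h.J_comm hy).1
      · exact (h.J_comm hy).1.mul_right ((h.J_comm hy).2 _ (Commute.refl _))
      obtain ⟨p, rfl⟩ := h.dd (commutator_mono (commutator_mono inf_le_left inf_le_left)
        (commutator_mono inf_le_left inf_le_left) x1) x2
      refine (h.J_comm hy).2 p (h.inj ?_)
      rw [map_mul j p, map_mul j _ p]
      exact mem_centralizer_singleton_iff.1 (commutator_le_self _ (commutator_le_self _ x1)).2)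
    (by
      rintro x (rfl | rfl | ⟨x1, x2⟩)
      · exact .inr (.inl (by nth_rw 1 [← a3]; group))
      · exact .inl (by rw [← a1]; group)
      · exact .inr (.inr ⟨inv_conj_mem_of_mem_normalizer hD x1, by
          rw [show g⁻¹ * x * g * (g⁻¹ * x * g) = g⁻¹ * (x * x) * g by group, x2]; simp⟩))
    fun c => m1 (by rwa [c.eq, mul_inv_cancel_right, left_eq_mul] at a1)
  obtain ⟨Q, _, _, π, j', ht, hj, hs, hπ, e, h'⟩ := ho.quot θ
  have key : ∀ r < 48, IsConj (π ⟨t, ht⟩) (π ⟨t, ht⟩ * j' (F42S.xx r)) →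
      IsConj t (t * j (xx r 1)) := fun r hr c => by
    obtain ⟨g, a⟩ := isConj_iff.1 c
    obtain ⟨g, rfl⟩ := hs g
    rw [e, ← map_mul π ⟨t, ht⟩] at a
    have a' := ho.lift' hπ h.tt (.inr rfl) a
    simp only [coe_mul, hθ r hr] at a'
    exact isConj_iff.2 ⟨g, a'⟩
  by_contra n
  rw [not_or] at n
  refine only_m2 h' (g := π ⟨g, hg⟩) ?_ ?_ (fun c => n.1 (key 44 (by omega) c))
    fun c => n.2 (key 47 (by omega) c)
  · rw [e, ← map_inv, ← map_mul, ← map_mul, ← map_mul]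
    exact congrArg π (Subtype.ext (by simpa [θm] using a1))
  · rw [e]
    refine Commute.map (Subtype.ext ?_) π
    change g * j _ = j _ * g
    rw [θm, ← mul_inv_eq_iff_eq_mul, a2]

theorem Fo.yd_two (hq : Nat.card F = 2) (h : Fo j t O) (hs : Sw j t) : ∃ ε, Yd j t ε := by
  obtain ⟨g₀, a1, a2⟩ := hs
  obtain ⟨θ, hθ⟩ := exists_two_equiv hq
  obtain ⟨Q, _, _, π, j', ht, hj, hs, hπ, e, h'⟩ := h.quot θ
  obtain ⟨g, n, hn, ⟨b1, -⟩, b2, b3⟩ := h'.gd3 ⟨π ⟨g₀, h.sw_norm a1 a2⟩, by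
    rw [e, ← map_inv, ← map_mul, ← map_mul, ← map_mul]
    exact congrArg π (Subtype.ext (by simpa [hθ] using a1)), by
    rw [e, ← map_inv, ← map_mul, ← map_mul]
    exact congrArg π (Subtype.ext (by simp [hθ, a2.eq]))⟩
  obtain ⟨g, rfl⟩ := hs g
  have t1 : ∀ s < 48, lg s = false → ip 44 s = 8 → ad 44 s < 48 := by decide +kernel
  have sq : ∀ s, j (θ (F42S.xx s)) * j (θ (F42S.xx s)) = 1 := fun s => by
    rw [← map_mul, ← map_mul, F42S.xx_sq, map_one, map_one]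
  refine ⟨n, fun a => ?_⟩
  rcases st2_zo hq a with rfl | rfl
  · exact ⟨1, by simp [relΓ.zero], fun _ _ _ _ => Commute.one_left _, fun s a b c d => by
      simp [relΓ.zero (t1 s a b c)]⟩
  refine ⟨g, ?_, fun s a b c => ?_, fun s a b c d => ?_⟩
  · rw [e, ← map_mul π ⟨t, ht⟩] at b1
    simpa [hθ] using h.lift' hπ h.tt (.inr rfl) b1
  · rcases st2_zo hq c with rfl | rfl
    · rw [relΓ.zero a, map_one]; exact Commute.one_right _
    have := b2 s a b
    rw [e] at this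
    have := h.lift' hπ (sq s) (.inl rfl) this
    simp only [hθ s a] at this
    exact mul_inv_eq_iff_eq_mul.1 this
  · rcases st2_zo hq d with rfl | rfl
    · simp [relΓ.zero a, relΓ.zero (t1 s a b c)]
    have := b3 s a b c
    rw [← map_pow, ← map_mul j', e, e] at this
    have := h.lift' hπ (sq s) (.inl rfl) this
    simp only [map_mul, map_pow, hθ s a, hθ _ (t1 s a b c)] at this
    rw [this]
    interval_cases n <;> simp [relΓ.zero (t1 s a b c)]

end Cfsg.Agent.F4Q
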