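import Mathlib
import Cfsg.Agent.F4Q.GfE
import Cfsg.Agent.F4Q.St2

/-! The conjugates of `t` commuting with `t` when `ρ = τ`. -/

set_option autoImplicit false

namespace Cfsg.Agent.F4Q

open Cfsg.Lie Cfsg.Agent.Chev Subgroup Cfsg.Agent.PLocal.Amb
open Cfsg.Agent.F42S (lg ip ad gm sm sr Mo aw)
open Cfsg.Agent.FinS (Rt Rg Uf)
open scoped commutatorElement


variable {F : Type*} [Field F] [Finite F] [CharP F 2] {E : Type*} [CommRing E] {G : Type*} [Group G]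
  [Finite G] {j : Γ F →* G} {t : G} {O : Subgroup G} {ι : F →+* E} {τ : E ≃+* E} {Y : ℕ → E → G}

/-- `nf_t6`: `x_r(1) = ⁅x_a(1), x_b(1)⁆` -/
theorem perf_one : ⁅closure {g : Γ F | ∃ r < 48, g = xx r 1}, closure {g : Γ F | ∃ r < 48, g = xx r 1}⁆ =
    closure {g : Γ F | ∃ r < 48, g = xx r 1} := by
  refine le_antisymm (commutator_le.2 fun a ha b hb =>
    mul_mem (mul_mem (mul_mem ha hb) (inv_mem ha)) (inv_mem hb)) ((closure_le _).2 ?_)
  rintro _ ⟨r, hr, rfl⟩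
  obtain ⟨a, ha, b, hb, t1, t2, t3, rfl⟩ := nf_t6 r hr
  refine CA.cm_mem (a := xx a 1) (b := xx b 1) (subset_closure ⟨a, ha, rfl⟩) (subset_closure ⟨b, hb, rfl⟩) ?_
  cases hl : lg (ad a b) <;> rw [hl] at t1 t2 t3
  · simpa using (relΓ (F := F)).cs a ha b hb t1 t2 t3 1 1
  · simpa using (relΓ (F := F)).cl a ha b hb t1 t2 t3 1 1 rfl rfl

/-- `x₄₁` commutes with `x₄₇` and `x₀`; `three` -/
theorem six : (xx 47 1 * (xx 0 1 * xx 41 1) : Γ F) ^ 6 = 1 ∧ (xx 47 1 * (xx 0 1 * xx 41 1) : Γ F) ^ 3 ≠ 1 ∧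
    (xx 47 1 * (xx 0 1 * xx 41 1) : Γ F) ^ 2 ≠ 1 ∧ (xx 0 1 * xx 41 1 : Γ F) ≠ 1 := by
  have c1 : Commute (xx 47 1 * xx 0 1 : Γ F) (xx 41 1) := (cl_c 47 41 1 1).mul_left (cl_c 0 41 1 1)
  have t3 : (xx 47 1 * xx 0 1 : Γ F) ^ 3 = 1 := relΓ.three (r := 47) (by norm_num)
  have t2 : (xx 41 1 : Γ F) ^ 2 = 1 := (pow_two _).trans (relΓ.sq (by norm_num) (ok_one _))
  have n : (xx 0 1 : Γ F) ∉ UU F 24 := fun k => one_ne_zero (relΓ.neg (by norm_num) (ok_one _) k)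
  rw [← mul_assoc]
  simp only [c1.mul_pow]
  refine ⟨?_, ?_, ?_, fun k => n ?_⟩
  · rw [show 6 = 3 * 2 from rfl, pow_mul, t3, one_pow, one_mul, pow_mul', t2, one_pow]
  · rw [t3, one_mul, pow_succ, t2, one_mul]
    exact fun k => one_ne_zero (relΓ.inj 41 (by norm_num) 1 (ok_one _) k)
  · rw [t2, mul_one]
    intro k
    rw [pow_succ, k, one_mul] at t3
    exact n (eq_inv_of_mul_eq_one_right t3 ▸ inv_mem (cd_U (by norm_num) (by norm_num) 1))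
  · exact eq_inv_of_mul_eq_one_left k ▸ inv_mem (cd_U (by norm_num) (by norm_num) 1)

namespace RU
variable (h : RU j t O ι τ τ Y)
include h

/-- `cls`; `t x₄₇ x₄₄ ∼ t x₄₇` and `t x₃₉ x₄₅ ∼ t x₄₅ ∼ t x₄₇` (`ud_cl_add`, `conj_long`); `hn` -/
theorem cls_tau {a : Γ F} (ha : a * a = 1) (e : IsConj t (t * j a)) : a = 1 ∨ IsConj (xx 44 1) a := by
  by_contra! c
  refine h.hn rfl (e.trans (IsConj.symm ?_))
  have hd : ∃ k ∈ SK τ Y 0, k * (t * j (xx 47 1)) * k⁻¹ = t * j (xx 47 1) := ⟨1, one_mem _, by simp⟩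
  obtain ⟨k, -, hk⟩ : ∃ k ∈ SK τ Y 0, k * (t * j (xx 47 1)) * k⁻¹ = t * j a := by
    rcases cls ha c.1 with e | e | e | e
    · exact h.ud_cl_conj hd e
    · exact (c.2 e).elim
    · rw [← (U_comm (.inl rfl) (cd_U (r := 47) (by norm_num) (by norm_num) 1) 1).eq] at e
      exact h.ud_cl_conj (h.ud_cl_add hd (by decide +kernel) (.inl (by decide +kernel))) e
    · exact h.ud_cl_conj (h.ud_cl_add (h.ud_cl_conj hd (conj_long (r := 45) (by norm_num) (by decide +kernel)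
        one_ne_zero)) (by decide +kernel) (.inl (by decide +kernel))) e
  exact isConj_iff.2 ⟨k, hk⟩
/-- `d = g t g⁻¹` centralizes the perfect group generated by the `j x_r(1)`, so these lie in `g L g⁻¹` (`map_le` for
`Fr.conj g`).  With `b + σ b = 1`, conjugation by `j x₄₇(b)` and `j (x₀(b) x₄₁(b))` gives `d ∼ d j x₄₇(1)`,
`d ∼ d j (x₀(1) x₄₁(1))`.  By `cls_tau` both elements are short root elements of `g L g⁻¹`; `ord6`, `six`. -/
theorem not_field {d : G} (h1 : IsConj t d) {σ : F ≃+* F} (h2 : ∀ a, σ (σ a) = a) (h3 : ∃ a, σ a ≠ a)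
    (e : ∀ r < 48, ∀ a, d * j (xx r a) * d⁻¹ = j (xx r (σ a))) : False := by
  obtain ⟨g, rfl⟩ := isConj_iff.1 h1
  have h' := h.toFr.conj g
  obtain ⟨b, hb⟩ : ∃ b, σ b + b = 1 := by
    obtain ⟨a, ha⟩ := h3
    have : σ a + a ≠ 0 := fun k => ha (CharTwo.add_eq_zero.1 k)
    exact ⟨a / (σ a + a), by rw [map_div₀, map_add, h2, add_comm a, ← add_div, div_self this]⟩
  have hP : (closure {g : Γ F | ∃ r < 48, g = xx r 1}).map j ≤ centralizer {g * t * g⁻¹} := by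
    rw [map_le_iff_le_comap, closure_le]
    rintro _ ⟨r, hr, rfl⟩
    have := e r hr 1
    rw [map_one, mul_inv_eq_iff_eq_mul] at this
    exact mem_centralizer_singleton_iff.2 this.symm
  have k : ∀ z ∈ closure {g : Γ F | ∃ r < 48, g = xx r 1}, z * z = 1 → z ≠ 1 → ∀ y y' : Γ F, y' * y⁻¹ = z →
      g * t * g⁻¹ * j y * (g * t * g⁻¹)⁻¹ = j y' → ∃ a, IsConj (xx 44 1) a ∧
        j z = ((MulAut.conj g).toMonoidHom.comp j) a := fun z hz z2 z1 y y' e1 e2 => by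
    obtain ⟨a, ha⟩ := h'.map_le hP (by rw [← map_commutator, perf_one]) ⟨z, hz, rfl⟩ (by rw [← map_mul, z2, map_one])
    refine ⟨a, (h.cls_tau (h'.inj ?_) ?_).resolve_left fun c => z1 (h.inj ?_), ha⟩
    · rw [map_mul, ← ha, ← map_mul, z2, map_one, map_one]
    · have e3 : j y * (g * t * g⁻¹) * (j y)⁻¹ = g * (t * j a) * g⁻¹ := by
        rw [← conj_mul (b := g), show g * j a * g⁻¹ = j z from ha.symm, ← e1, map_mul, map_inv, ← e2, h'.inv]
        have := h'.tt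
        generalize g * t * g⁻¹ = d at this
        rw [← mul_assoc, ← mul_assoc, ← mul_assoc, this, one_mul]
      exact isConj_iff.2 ⟨g⁻¹ * (j y * g), by
        rw [show g⁻¹ * (j y * g) * t * (g⁻¹ * (j y * g))⁻¹ = g⁻¹ * (j y * (g * t * g⁻¹) * (j y)⁻¹) * g by group, e3]
        group⟩
    · rw [ha, c, map_one, map_one]
  have ad : ∀ r < 48, (xx r (σ b) * (xx r b)⁻¹ : Γ F) = xx r 1 := fun r hr => by
    rw [relΓ.inv hr (ok_refl _ _), relΓ.add r hr _ _ (ok_refl _ _) (ok_refl _ _), hb]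
  have sq : ∀ r < 48, (xx r 1 * xx r 1 : Γ F) = 1 := fun r hr => relΓ.sq hr (ok_one _)
  obtain ⟨s6, s3, s2, s1⟩ := six (F := F)
  obtain ⟨a, ha, e1⟩ := k (xx 47 1) (subset_closure ⟨47, by norm_num, rfl⟩) (sq 47 (by norm_num))
    (fun k => one_ne_zero (relΓ.inj 47 (by norm_num) 1 (ok_one _) k)) _ _ (ad 47 (by norm_num)) (e 47 (by norm_num) b)
  obtain ⟨a', ha', e2⟩ := k (xx 0 1 * xx 41 1)
    (mul_mem (subset_closure ⟨0, by norm_num, rfl⟩) (subset_closure ⟨41, by norm_num, rfl⟩))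
    (by rw [(cl_c 41 0 1 1).mul_mul_mul_comm, sq 0 (by norm_num), sq 41 (by norm_num), mul_one]) s1
    (xx 0 b * xx 41 b) (xx 0 (σ b) * xx 41 (σ b)) (by
      rw [mul_inv_rev, mul_assoc, ← mul_assoc (xx 41 (σ b)), ad 41 (by norm_num), (cl_c 41 0 1 b).inv_right.eq,
        ← mul_assoc, ad 0 (by norm_num)])
    (by rw [map_mul, map_mul, ← conj_mul, e 0 (by norm_num), e 41 (by norm_num)])
  have tr : ∀ n : ℕ, (a * a') ^ n = 1 ↔ (xx 47 1 * (xx 0 1 * xx 41 1) : Γ F) ^ n = 1 := fun n => by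
    rw [← map_eq_one_iff _ h'.inj, ← map_eq_one_iff j h.inj, map_pow, map_pow, map_mul, map_mul j, e1, e2]
  exact (ord6 (.inl rfl) ha ha' ((tr 6).2 s6)).elim (fun c => s3 ((tr 3).1 c)) fun c => s2 ((tr 2).1 c)
/-- `ud_red`.  Graph type: `t ∼ t x₄₄(1)` (`classes'`) is sent to `t ∼ t x₄₇(1)`, against `hn`.  Inner: `pin`, `inv_inn`.
Otherwise `fa_inv`, `lang`, conjugate `d` by an element of `L`, `not_field`. -/
theorem inn_tau {d : G} (h1 : IsConj t d) (h2 : Commute d t) : ∃ a, d = j a ∨ d = t * j a := by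
  obtain ⟨γ, hγ⟩ := exists_gam (F := F)
  have dd : d * d = 1 := by
    obtain ⟨g, rfl⟩ := isConj_iff.1 h1
    exact (h.toFr.conj g).tt
  obtain ⟨l, σ, φ, hφ, e | e⟩ := h.ud_red h2 hγ
  · obtain ⟨α, hα⟩ := h.toFr.hom h2
    by_cases c : ∃ l, Inr α l
    · obtain ⟨l', hl⟩ := c
      obtain ⟨k, hk, rfl⟩ := h.toFr.pin h2 hα hl
      rcases (h.toFr.inv_inn hk dd).2 with c | c
      · exact ⟨l', .inl (by rw [c, mul_one])⟩
      · exact ⟨l', .inr (by rw [c, (h.tj l').eq])⟩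
    push Not at c
    have e1 : ∀ b, α b = l * φ b * l⁻¹ := fun b => h.inj (by
      rw [map_mul, map_mul, map_inv, ← e, ← hα]; group)
    obtain ⟨s1, s2, s3⟩ := fa_inv hφ e1 (fun b => h.inj (by
      rw [← hα, ← hα, show d * (d * j b * d⁻¹) * d⁻¹ = d * d * j b * (d * d)⁻¹ by group, dd]; group)) c
    obtain ⟨g, rfl⟩ := lang s1 s2 hφ s3
    refine (h.not_field (d := (j g)⁻¹ * d * (j g)⁻¹⁻¹) (h1.trans (isConj_iff.2 ⟨_, rfl⟩)) s1 s2 fun r hr a => ?_).elim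
    rw [← hφ r hr, show (j g)⁻¹ * d * (j g)⁻¹⁻¹ * j (xx r a) * ((j g)⁻¹ * d * (j g)⁻¹⁻¹)⁻¹ =
      (j g)⁻¹ * (d * (j g * j (xx r a) * (j g)⁻¹) * d⁻¹) * j g by group, ← map_inv, ← map_mul, ← map_mul, hα, e1,
      ← map_mul, ← map_mul]
    congr 1
    simp only [map_mul, map_inv]
    group
  · obtain ⟨k, -, hk⟩ := h.classes' (.inr (IsConj.refl (xx 44 1)))
    have e1 := e (xx 44 1)
    rw [hφ 44 (by norm_num), hγ 44 (by norm_num), show gm 44 = 47 by decide +kernel, map_one, one_pow, ite_self] at e1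
    refine (h.hn rfl ((isConj_iff.2 ⟨k, hk⟩).trans (isConj_iff.2 ⟨(j l)⁻¹ * d, ?_⟩))).elim
    rw [← conj_mul, e1, ((h.tj l).symm.inv_left.mul_left h2).mul_inv_cancel]

end RU

end Cfsg.Agent.F4Q
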