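import Mathlib
import Cfsg.Agent.F4Q.GfT
import Cfsg.Agent.SLE.Aut

/-! `GF` for `ρ = τ` from `IdT`.  `N = N(G₀) = G₀ DD`. -/

set_option autoImplicit false
set_option linter.unusedSectionVars false

namespace Cfsg.Agent.F4Q

open Cfsg.Lie Cfsg.Agent.Chev Subgroup Cfsg.Agent.PLocal.Amb
open Cfsg.Agent.F42S (lg ip ad gm sm sr Mo aw)
open Cfsg.Agent.FinS (Rt Rg Uf)
open scoped commutatorElement


variable {F : Type*} [Field F] [Finite F] [CharP F 2] {E : Type*} [CommRing E] {G : Type*} [Group G]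
  [Finite G] {j : Γ F →* G} {t : G} {O : Subgroup G} {ι : F →+* E} {τ : E ≃+* E} {Y : ℕ → E → G}
  {d : G} {c : ℕ → E} {σ σ' : E ≃+* E}

theorem gu_id {H : Type*} [Group H] (b b' A A' n n' : H) : A * A' * (b * b') =
    (⁅b, A⁆ * (A * (b * n * b⁻¹ * ⁅b * b', A'⁆) * A⁻¹))⁻¹ * (b * A * n * b' * A' * n') * n'⁻¹ := by
  simp only [commutatorElement_def]; group

set_option synthInstance.maxSize 4000 in
theorem gu_tab : ∀ r < 48, ∀ s < 48, 24 ≤ r → 24 ≤ s → lg r = true → lg s = true → ad r s < 48 →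
    24 ≤ ad r s ∧ lg (ad r s) = true := by decide +kernel

namespace RU
variable (h : RU j t O ι τ τ Y)
include h

theorem gu_res {σ : E ≃+* E} (h1 : ∀ e, σ (τ e) = τ (σ e)) : ∃ s : F ≃+* F, ∀ a, σ (ι a) = ι (s a) := by
  have k : ∀ a, ∃ b, σ (ι a) = ι b := fun a =>
    ((h.fix _).1 (by rw [← h1, h.τι])).imp fun _ => Eq.symm
  choose s hs using k
  let s' : F →+* F :=
    { toFun := s
      map_one' := h.ι_inj (by rw [← hs, map_one, map_one])
      map_mul' := fun a b => h.ι_inj (by rw [← hs, map_mul, map_mul, map_mul, hs, hs])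
      map_zero' := h.ι_inj (by rw [← hs, map_zero, map_zero])
      map_add' := fun a b => h.ι_inj (by rw [← hs, map_add, map_add, map_add, hs, hs]) }
  exact ⟨RingEquiv.ofBijective s' (Finite.injective_iff_bijective.1 s'.injective), hs⟩

theorem gu_w {σ : E ≃+* E} (h1 : ∀ e, σ (τ e) = τ (σ e)) {w : E} (hw : τ w = w + 1)
    (h2 : σ (w * w + w) = w * w + w) : σ w = w ∨ σ w = w + 1 := by
  have two := h.rel.two
  obtain ⟨a, ha⟩ := (h.fix (σ w + w)).1 (by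
    rw [map_add, ← h1, hw, map_add, map_one]; linear_combination two 1)
  have e : σ w = w + ι a := by rw [ha]; linear_combination -two w
  rw [map_add, map_mul, e] at h2
  have : a * (a + 1) = 0 := h.ι_inj (by
    rw [map_mul, map_add, map_one, map_zero]; linear_combination h2 - two (w * ι a))
  rcases mul_eq_zero.1 this with k | k
  · left; rw [e, k, map_zero, add_zero]
  · right
    have := congrArg ι k
    rw [map_add, map_one, map_zero] at this
    rw [e, h.rel.eq_of_add this]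

theorem df_t : Df τ Y t (fun _ => 1) τ :=
  ⟨fun _ _ => isUnit_one, fun r _ => ok_one r, fun _ => rfl, fun r hr e he => by
    rw [one_mul, h.act r hr e he]⟩
/-- `σ w = w + ι a`, and `σ` fixes `w² + w` -/
theorem sig_tau (h1 : ∀ e, σ (τ e) = τ (σ e)) (h2 : ∀ a, σ (ι a) = ι a) : (∀ e, σ e = e) ∨ ∀ e, σ e = τ e := by
  obtain ⟨w, hw⟩ := h.eps
  obtain ⟨a, ha⟩ := (h.fix (w * w + w)).1 (by
    rw [map_add, map_mul, hw]; linear_combination h.rel.two w + h.rel.two 1)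
  refine (h.gu_w h1 hw (by rw [← ha, h2])).imp (fun k e => ?_) fun k e => ?_ <;>
    obtain ⟨a, b, rfl⟩ := h.dec hw e
  · rw [map_add, map_mul, h2, h2, k]
  · rw [map_add, map_mul, h2, h2, k, map_add, map_mul, h.τι, h.τι, hw]
/-- field: `SLE.Au.aut_comm` (`Rel.finite`).  Idempotent `ε`: `σ ε ∈ {ε, ε + 1}`, `σ` preserves `ι.range`; `dec` -/
theorem sig_comm (hE : Ety τ) (h1 : ∀ e, σ (τ e) = τ (σ e)) (h2 : ∀ e, σ' (τ e) = τ (σ' e)) (e : E) :
    σ (σ' e) = σ' (σ e) := by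
  have two := h.rel.two
  rcases hE with hE | ⟨ε, h3, h4⟩
  · let _ : Field E := hE.toField
    have := h.rel.finite
    have : CharP E 2 := CharTwo.of_one_ne_zero_of_two_eq_zero h.ud_e1 (by rw [← one_add_one_eq_two, two])
    exact SLE.Au.aut_comm σ σ' e
  obtain ⟨s, hs⟩ := h.gu_res h1
  obtain ⟨s', hs'⟩ := h.gu_res h2
  have z : ε * ε + ε = 0 := by rw [h3, two]
  have k : σ (σ' ε) = σ' (σ ε) := by
    rcases h.gu_w h1 h4 (by rw [z, map_zero]) with a | a <;>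
      rcases h.gu_w h2 h4 (by rw [z, map_zero]) with b | b <;>
      simp only [a, b, map_add, map_one]
  obtain ⟨a, b, rfl⟩ := h.dec h4 e
  simp only [map_add, map_mul, k, hs, hs', SLE.Au.aut_comm s s']
/-- `card_E`; or `u = ι a (ε + 1) + ι b ε` -/
theorem unit_pow (hE : Ety τ) {u : E} (hu : IsUnit u) : u ^ (Nat.card F ^ 2 - 1) = 1 := by
  have two := h.rel.two
  rcases hE with hE | ⟨ε, h3, h4⟩
  · let _ : Field E := hE.toField
    have := h.rel.finite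
    have := Fintype.ofFinite E
    rw [← h.card_E, Nat.card_eq_fintype_card]
    exact FiniteField.pow_card_sub_one_eq_one u hu.ne_zero
  have key : ∀ (δ : E) (x : F), δ ≠ 0 → u * δ = ι x * δ → u ^ (Nat.card F ^ 2 - 1) * δ = δ := by
    intro δ x d0 e
    have x0 : x ≠ 0 := by
      rintro rfl
      rw [map_zero, zero_mul] at e
      exact d0 (hu.mul_right_eq_zero.1 e)
    have p : ∀ n : ℕ, u ^ n * δ = ι (x ^ n) * δ := fun n => by
      induction n with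
      | zero => simp
      | succ n ih => rw [pow_succ, mul_assoc, e, mul_left_comm, ih, pow_succ', map_mul, mul_assoc]
    have := Fintype.ofFinite F
    obtain ⟨m, hm⟩ := Nat.sub_one_dvd_pow_sub_one (Nat.card F) 2
    rw [p, hm, pow_mul, Nat.card_eq_fintype_card, FiniteField.pow_card_sub_one_eq_one x x0, one_pow,
      map_one, one_mul]
  obtain ⟨a, b, e⟩ := h.dec h4 u
  have k1 := key ε (a + b) (fun k => h.ud_e1 (by rwa [k, map_zero, zero_add, eq_comm] at h4))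
    (by rw [e, map_add]; linear_combination ι b * h3)
  have k2 := key (ε + 1) a (fun k => h.ud_e1 (by
      rw [k, h.rel.eq_of_add k, map_one] at h4; exact h4))
    (by rw [e]; linear_combination ι b * h3 + ι b * two ε)
  linear_combination k1 + k2 - two (u ^ (Nat.card F ^ 2 - 1) * ε) + two ε
/-- `Df.pow`, `Df.cent`, `oddC` -/
theorem odd_D0 (hE : Ety τ) (hd : d ∈ D0 τ Y) : Odd (orderOf d) := by
  obtain ⟨c, hc⟩ := hd
  have m := (hc.pow (Nat.card F ^ 2 - 1)).cent fun r hr => h.unit_pow hE (hc.unit r hr)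
  have e : d ^ ((Nat.card F ^ 2 - 1) * Nat.card 𝐂[SK τ Y 0]) = 1 := by
    rw [pow_mul]
    exact congrArg Subtype.val (pow_card_eq_one' (x := (⟨_, m⟩ : 𝐂[SK τ Y 0])))
  refine Odd.of_dvd_nat (Odd.mul ?_ h.oddC) (orderOf_dvd_of_pow_eq_one e)
  have := Fintype.ofFinite F
  refine Nat.Even.sub_odd (Nat.one_le_pow _ _ Nat.card_pos) (Even.pow_of_ne_zero ?_ two_ne_zero) odd_one
  rw [Nat.card_eq_fintype_card, Nat.even_iff]
  exact FiniteField.even_card_of_char_two (ringChar.eq F 2)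
theorem comm_DD (hE : Ety τ) : ⁅DD τ Y, DD τ Y⁆ ≤ D0 τ Y := by
  refine commutator_le.2 ?_
  rintro a ⟨c, σ, ha⟩ b ⟨c', σ', hb⟩
  obtain ⟨c1, h1⟩ := ha.inv
  obtain ⟨c2, h2⟩ := hb.inv
  have := ((ha.mul hb).mul h1).mul h2
  rw [show σ'.symm.trans (σ.symm.trans (σ'.trans σ)) = RingEquiv.refl E from RingEquiv.ext fun e => by
    simp only [RingEquiv.trans_apply, RingEquiv.refl_apply]
    rw [h.sig_comm hE ha.comm hb.comm, σ.apply_symm_apply, σ'.apply_symm_apply]] at this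
  exact ⟨_, this⟩
/-- `Y r e * (d Y r e d⁻¹) ∈ SK (r + 1)` (`SK_comm`), `lead` for `r = 44` -/
theorem sig_S (hd : Df τ Y d c σ) (hS : d ∈ SK τ Y 24) (e : E) : σ e = e := by
  have ok : ∀ e, Ok τ 44 e := ok_short (by decide +kernel)
  have k : ∀ e, c 44 * σ e = e := fun e => h.rel.eq_of_add (h.rel.lead (r := 44) (by norm_num) (by norm_num) (ok _) (by
    have := h.rel.SK_comm (k := 44) (by norm_num) (commutator_mem_commutator hS
      (mem_SK le_rfl (by norm_num) (ok e)))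
    rwa [commutatorElement_def, hd.conj 44 (by norm_num) e (ok e), h.rel.inv (by norm_num) (ok e),
      h.rel.add 44 (by norm_num) _ _ (ok _) (ok _)] at this))
  have k1 := k 1
  rw [map_one, mul_one] at k1
  have := k e
  rwa [k1, one_mul] at this
theorem sig_sq (hd : Df τ Y d c σ) (dd : d * d = 1) (e : E) : σ (σ e) = e :=
  h.sig_S (hd.mul hd) (dd ▸ one_mem _) e

theorem gu_lead {k : ℕ} (hk : 24 ≤ k) (hk' : k < 48) {u : G} (hu : u ∈ SK τ Y k) :
    ∃ e, Ok τ k e ∧ ∃ n ∈ SK τ Y (k + 1), u = Y k e * n := by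
  obtain ⟨e, he, m⟩ := h.rel.SK_step hk hk' hu
  exact ⟨e, he, _, m, by rw [← mul_assoc, h.rel.sq hk' he, one_mul]⟩

theorem gu_cj {k : ℕ} (hk : 24 ≤ k) {y n : G} (hy : y ∈ SK τ Y 24) (hn : n ∈ SK τ Y (k + 1)) :
    y * n * y⁻¹ ∈ SK τ Y (k + 1) :=
  PLocal.Amb.conj_mem_of_mem_normalizer (h.rel.SK_norm (by omega) hy) hn
/-- `w₀ = ι a / (ι a + σ ι a)` has `w₀ + σ w₀ = 1`.  If `u ≡ Y k e` modulo `SK (k + 1)` then `c σ e = e`; conjugate by
`Y k (w₀ e)`. -/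
theorem peel1 (hd : Df τ Y d c σ) (dd : d * d = 1) (h1 : ∃ a, σ (ι a) ≠ ι a) {u : G} (hu : u ∈ SK τ Y 24)
    (e : u * d * (u * d) = 1) : ∃ k ∈ SK τ Y 24, k * (u * d) * k⁻¹ = d := by
  have two := h.rel.two
  obtain ⟨s, hs⟩ := h.gu_res hd.comm
  obtain ⟨a, ha⟩ := h1
  have ss : s (s a) = a := h.ι_inj (by rw [← hs, ← hs, h.sig_sq hd dd])
  have b0 : a + s a ≠ 0 := fun k => ha (by
    have := congrArg ι k
    rw [map_add, map_zero] at this
    rw [hs, h.rel.eq_of_add this])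
  obtain ⟨w, hw, w1⟩ : ∃ w : E, τ w = w ∧ w + σ w = 1 := ⟨ι (a / (a + s a)), h.τι _, by
    rw [hs, ← map_add, map_div₀, map_add s, ss, add_comm (s a), ← add_div, div_self b0, map_one]⟩
  have di : d⁻¹ = d := inv_eq_of_mul_eq_one_right dd
  suffices H : ∀ n m, 24 ≤ m → 48 - m = n → ∀ u ∈ SK τ Y m, u * d * (u * d) = 1 →
      ∃ k ∈ SK τ Y 24, k * (u * d) * k⁻¹ = d from H _ 24 le_rfl rfl u hu e
  intro n
  induction n with
  | zero =>
    intro m _ hn u hu _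
    rw [SK_top (by omega), mem_bot] at hu
    exact ⟨1, one_mem _, by simp [hu]⟩
  | succ n ih =>
    intro m hm hn u hu e
    have hm' : m < 48 := by omega
    obtain ⟨x, hx, v, hv, rfl⟩ := h.gu_lead hm hm' hu
    have okc := hd.okc hm' hx
    have dv := PLocal.Amb.conj_mem_of_mem_normalizer (hd.norm fun _ hr => hr.2) hv
    have e1 : c m * σ x = x := by
      refine (h.rel.eq_of_add (h.rel.lead hm hm' (Rel.ok_add hx okc) ?_)).symm
      have := inv_mem (mul_mem (h.gu_cj hm (inv_mem (mem_SK hm hm' okc)) hv) dv)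
      rw [← h.rel.add m hm' _ _ hx okc]
      convert this using 1
      rw [← hd.conj m hm' x hx, eq_inv_iff_mul_eq_one, ← e]
      conv_rhs => rw [← mul_assoc, ← mul_assoc, ← di, di, mul_assoc _ v d, ← di, di]
      nth_rewrite 8 [← di]
      group
    have ok1 : Ok τ m (w * x) := fun l => by rw [map_mul, hw, hx l]
    have ok2 : Ok τ m (σ w * x) := fun l => by rw [map_mul, ← hd.comm, hw, hx l]
    have e2 : d * Y m (w * x) * d⁻¹ = Y m (σ w * x) := by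
      rw [hd.conj m hm' _ ok1, map_mul, mul_left_comm, e1]
    have e3 : Y m (w * x) * Y m x = Y m (σ w * x) := by
      rw [h.rel.add m hm' _ _ ok1 hx]
      congr 1
      linear_combination (-x) * w1 + two (w * x)
    have e4 : Y m (w * x) * (Y m x * v * d) * (Y m (w * x))⁻¹ =
        Y m (σ w * x) * v * (Y m (σ w * x))⁻¹ * d := by
      calc _ = Y m (w * x) * Y m x * v * (d * Y m (w * x) * d⁻¹)⁻¹ * d := by group
        _ = _ := by rw [e3, e2]
    obtain ⟨k, hk, e5⟩ := ih (m + 1) (by omega) (by omega) _ (h.gu_cj hm (mem_SK hm hm' ok2) hv) (by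
      rw [← e4, conj_mul, e, mul_one, mul_inv_cancel])
    rw [← e4] at e5
    exact ⟨k * Y m (w * x), mul_mem hk (mem_SK hm hm' ok1), Eq.trans (by group) e5⟩
/-- Induction for `x = b u t`, `b ∈ B = YS {r | 24 ≤ r < 48, long}` (centralized by `t`), `u ≡ Y k e` modulo `SK (k + 1)`.
Long `k`: absorb `Y k e` into `b`.  Short `k`: `b² ≡ Y k (e + τ e)`, so `e + τ e = 0` (`lead_mem`); conjugate by `Y k (w e)`. -/
theorem peel2 {u : G} (hu : u ∈ SK τ Y 24) (e : u * t * (u * t) = 1) :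
    ∃ k ∈ SK τ Y 24, Commute (k * (u * t) * k⁻¹) t := by
  have two := h.rel.two
  obtain ⟨w, hw⟩ := h.eps
  have ti := h.toFr.inv
  have BS : YS τ Y {r | (24 ≤ r ∧ r < 48) ∧ lg r = true} ≤ SK τ Y 24 := YS_mono fun r hr => hr.1
  have Bt : ∀ b ∈ YS τ Y {r | (24 ≤ r ∧ r < 48) ∧ lg r = true}, Commute t b := fun b hb =>
    YS_comm (fun r hr e he => mul_inv_eq_iff_eq_mul.1 (by rw [h.act r hr.1.2 e he, he hr.2])) hb
  have idl : Idl {r | (24 ≤ r ∧ r < 48) ∧ lg r = true} {r | (24 ≤ r ∧ r < 48) ∧ lg r = true} :=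
    fun r hr s hs => ⟨hr.1.2, hs.1.2, by have := hr.1.1; have := hs.1.1; omega, fun k =>
      have := gu_tab r hr.1.2 s hs.1.2 hr.1.1 hs.1.1 hr.2 hs.2 k
      ⟨⟨this.1, k⟩, this.2⟩⟩
  suffices H : ∀ n m, 24 ≤ m → 48 - m = n → ∀ b ∈ YS τ Y {r | (24 ≤ r ∧ r < 48) ∧ lg r = true},
      ∀ u ∈ SK τ Y m, b * u * t * (b * u * t) = 1 → ∃ k ∈ SK τ Y 24, Commute (k * (b * u * t) * k⁻¹) t by
    simpa using H _ 24 le_rfl rfl 1 (one_mem _) u hu (by simpa using e)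
  intro n
  induction n with
  | zero =>
    intro m _ hn b hb u hu _
    rw [SK_top (by omega), mem_bot] at hu
    exact ⟨1, one_mem _, by simpa [hu] using (Bt b hb).symm.mul_left (Commute.refl t)⟩
  | succ n ih =>
    intro m hm hn b hb u hu e
    have hm' : m < 48 := by omega
    obtain ⟨x, hx, v, hv, rfl⟩ := h.gu_lead hm hm' hu
    by_cases l : lg m = true
    · rw [← mul_assoc b] at e ⊢
      exact ih (m + 1) (by omega) (by omega) _ (mul_mem hb (mem_YS (S := {r | (24 ≤ r ∧ r < 48) ∧ lg r = true}) ⟨⟨hm, hm'⟩, l⟩ hx)) v hv e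
    have ok : ∀ e, Ok τ m e := ok_short (by simpa using l)
    have mm : ∀ e, Y m e ∈ SK τ Y m := fun e => mem_SK le_rfl hm' (ok e)
    have cm : ∀ {b}, b ∈ SK τ Y 24 → ∀ e, ⁅b, Y m e⁆ ∈ SK τ Y (m + 1) := fun hb e =>
      h.rel.SK_comm hm (commutator_mem_commutator hb (mm e))
    have tv := PLocal.Amb.conj_mem_of_mem_normalizer (h.t_norm fun _ hr => hr.2) hv
    have e1 : τ x = x := by
      refine (h.rel.eq_of_add (by_contra fun k => l (h.rel.lead_mem (.inl idl) (fun _ hr => hr.1.1)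
        (mul_mem hb hb) hm hm' (ok _) k ?_).2)).symm
      have := mul_mem (inv_mem (mul_mem (cm (BS hb) x) (h.gu_cj hm (SK_mono hm (mm x))
        (mul_mem (h.gu_cj hm (BS hb) hv) (cm (BS (mul_mem hb hb)) (τ x)))))) (inv_mem tv)
      rw [← h.rel.add m hm' _ _ (ok _) (ok _)]
      have e2 : b * Y m x * v * b * Y m (τ x) * (t * v * t⁻¹) = 1 := by
        rw [← h.act m hm' x hx, ← e, ti]
        calc _ = b * Y m x * v * (b * t) * Y m x * (t * t) * v * t := by group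
          _ = _ := by rw [h.tt, ← (Bt b hb).eq]; group
      rwa [gu_id b b _ _ v (t * v * t⁻¹), e2, mul_one]
    have e2 : Y m (w * x) * t * (Y m (w * x))⁻¹ = Y m x * t := by
      rw [h.tr hm' (ok _), map_mul, hw, e1, show w * x + (w + 1) * x = x by linear_combination two (w * x)]
      exact mul_inv_eq_iff_eq_mul.1 (by rw [h.act m hm' x hx, e1])
    have e3 : Y m x * Y m (w * x) = Y m (w * x) * Y m x := by
      rw [h.rel.add m hm' _ _ (ok _) (ok _), h.rel.add m hm' _ _ (ok _) (ok _), add_comm]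
    have e4 : Y m (w * x) * (b * (Y m x * v) * t) * (Y m (w * x))⁻¹ =
        b * (⁅b⁻¹, Y m (w * x)⁆ * (Y m (w * x) * Y m x * v * (Y m (w * x) * Y m x)⁻¹)) * t := by
      calc _ = Y m (w * x) * b * Y m x * v * (Y m (w * x))⁻¹ * (Y m (w * x) * t * (Y m (w * x))⁻¹) := by group
        _ = _ := by
          rw [e2, commutatorElement_def]
          nth_rewrite 2 [← e3]
          rw [mul_inv_rev, h.rel.inv hm' hx]
          group
    obtain ⟨k, hk, e5⟩ := ih (m + 1) (by omega) (by omega) b hb _ (mul_mem (cm (inv_mem (BS hb)) (w * x))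
      (h.gu_cj hm (SK_mono hm (mul_mem (mm (w * x)) (mm x))) hv)) (by
        rw [← e4, conj_mul, e, mul_one, mul_inv_cancel])
    refine ⟨k * Y m (w * x), mul_mem hk (SK_mono hm (mm _)), ?_⟩
    rw [← e4] at e5
    convert e5 using 1
    group

theorem gu_one (hE : Ety τ) {P : Subgroup G} (hP : IsPGroup 2 P) {x : G} (hx : x ∈ P) (h0 : x ∈ D0 τ Y) :
    x = 1 := by
  obtain ⟨k, hk⟩ := isPGroup_iff.1 hP x hx
  exact orderOf_eq_one_iff.1 (Nat.eq_one_of_dvd_coprimes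
    ((Nat.coprime_two_right.2 (h.odd_D0 hE h0)).pow_right k) dvd_rfl (orderOf_dvd_of_pow_eq_one hk))

theorem gu_D0 (hd : Df τ Y d c σ) (e : ∀ e, σ e = e) : d ∈ D0 τ Y :=
  ⟨c, (RingEquiv.ext e : σ = RingEquiv.refl E) ▸ hd⟩

variable (hE : Ety τ) (i : IdT j τ Y)
include hE i

/-- `P₀ ∋ t` a Sylow `2`-subgroup of `DD`; `sig_S`, `odd_D0`, `spl_of` -/
theorem spl_tau : ∃ P0 : Subgroup G, t ∈ P0 ∧ IsSyl 2 P0 (DD τ Y) ∧ IsSyl 2 (SK τ Y 24 ⊔ P0) 𝐍[SK τ Y 0] ∧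
    P0 ⊓ SK τ Y 0 = ⊥ := by
  obtain ⟨P0, hP, tP⟩ := exists_isSyl_ge (L := DD τ Y) (isPGroup_zpowers (p := 2) ⟨1, by rw [pow_one, sq, h.tt]⟩)
    (zpowers_le.2 ⟨_, _, h.df_t⟩)
  obtain ⟨k1, k2⟩ := spl_of i.syl (DD_norm fun _ hr => hr.2) (DD_norm fun _ hr => hr.2)
    (fun g hg => let ⟨l, hl, d, c, σ, hd, e⟩ := i.dec g hg; ⟨l, hl, d, ⟨c, σ, hd⟩, e⟩) hP
    (eq_bot_iff.2 fun x hx => by
      obtain ⟨c, σ, hd⟩ := hP.le hx.1
      exact h.gu_one hE hP.pgrp hx.1 (h.gu_D0 hd (h.sig_S hd hx.2)))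
  exact ⟨P0, zpowers_le.1 tP, hP, k1, k2⟩
/-- WLOG `x = u d`, `d ∈ P₀`, `d² = 1`; `P₀` is abelian (`comm_DD`, `odd_D0`).  `σ = 1`: `d = 1`, `cls`.  `σ = τ`: `d = t`,
`peel2`.  Otherwise (`sig_tau`) `peel1`. -/
theorem cen_tau : ∀ x ∈ 𝐍[SK τ Y 0], x * x = 1 →
    ∃ k ∈ 𝐍[SK τ Y 0], x * (k * t * k⁻¹) = k * t * k⁻¹ * x := by
  intro x hx xx
  obtain ⟨P0, tP, hP, hS, h0⟩ := h.spl_tau hE i
  have S0 : SK τ Y 24 ≤ SK τ Y 0 := SK_mono (by norm_num)
  have n : P0 ≤ 𝐍[SK τ Y 24] := hP.le.trans (DD_norm fun _ hr => hr.2)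
  obtain ⟨g, hg, e⟩ := hS.exists_cj_le (isPGroup_zpowers (p := 2) ⟨1, by rw [pow_one, sq, xx]⟩) (zpowers_le.2 hx)
  obtain ⟨u, hu, d, hd, e1⟩ := (mem_sup_of_le_normalizer_left n).1 (cj_le_iff_forall.1 e x (mem_zpowers x))
  have e2 : u * d * (u * d) = 1 := by rw [← e1, conj_mul, xx, mul_one, mul_inv_cancel]
  have dd : d * d = 1 := mem_bot.1 (h0.le ⟨mul_mem hd hd, S0 (by
    have := inv_mem (mul_mem hu (PLocal.Amb.conj_mem_of_mem_normalizer (n hd) hu))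
    convert this using 1
    rw [eq_inv_iff_mul_eq_one, ← conj_eq_one_iff (a := u * (d * u * d⁻¹)), ← e2]
    group)⟩)
  suffices H : ∃ k ∈ SK τ Y 0, Commute (k * (u * d) * k⁻¹) t by
    obtain ⟨k, hk, c⟩ := H
    refine ⟨(k * g)⁻¹, inv_mem (mul_mem (le_normalizer hk) hg), ?_⟩
    have := c.map (MulAut.conj (k * g)⁻¹)
    rw [← e1] at this
    simpa [mul_assoc] using this.eq
  obtain ⟨c, σ, df⟩ := hP.le hd
  by_cases h1 : ∃ a, σ (ι a) ≠ ι a
  · obtain ⟨k, hk, e3⟩ := h.peel1 df dd h1 hu e2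
    refine ⟨k, S0 hk, e3.symm ▸ commutatorElement_eq_one_iff_commute.1 (h.gu_one hE hP.pgrp ?_
      (h.comm_DD hE (commutator_mem_commutator (hP.le hd) (hP.le tP))))⟩
    exact mul_mem (mul_mem (mul_mem hd tP) (inv_mem hd)) (inv_mem tP)
  push Not at h1
  rcases h.sig_tau df.comm h1 with h2 | h2
  · rw [h.gu_one hE hP.pgrp hd (h.gu_D0 df h2), mul_one] at e2 ⊢
    obtain ⟨k, hk, a, e3⟩ := i.cls u (S0 hu) e2
    exact ⟨k, hk, e3.symm ▸ (h.tj a).symm⟩
  · have e3 := h.gu_one hE hP.pgrp (mul_mem hd tP) (h.gu_D0 (df.mul h.df_t) fun e => by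
      rw [RingEquiv.trans_apply, h2, h.ττ])
    rw [eq_inv_of_mul_eq_one_left e3, h.toFr.inv] at e2 ⊢
    obtain ⟨k, hk, e4⟩ := h.peel2 hu e2
    exact ⟨k, S0 hk, e4⟩
/-- `SLE.Au.comm_le`, `comm_DD`, `odd_D0` -/
theorem ab_tau : ∀ x ∈ ⁅𝐍[SK τ Y 0], 𝐍[SK τ Y 0]⁆, x * x = 1 → x ∈ SK τ Y 0 := by
  intro x hx xx
  have n : DD τ Y ≤ 𝐍[SK τ Y 0] := DD_norm fun _ hr => hr.2
  have := (SLE.Au.comm_le n (M := 𝐍[SK τ Y 0]) (fun g hg => by
    obtain ⟨l, hl, d, c, σ, hd, rfl⟩ := i.dec g hg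
    exact mul_mem_sup hl ⟨c, σ, hd⟩)).trans (sup_le_sup_left (h.comm_DD hE) _) hx
  obtain ⟨l, hl, d, hd, rfl⟩ := (mem_sup_of_le_normalizer_left (D0_le.trans n)).1 this
  refine mul_mem hl (mem_of_pow_mem_of_coprime (n := 2) ?_ (Nat.coprime_two_right.2 (h.odd_D0 hE hd)))
  have := inv_mem (mul_mem hl (PLocal.Amb.conj_mem_of_mem_normalizer (n (D0_le hd)) hl))
  convert this using 1
  rw [eq_inv_iff_mul_eq_one, ← conj_eq_one_iff (a := l * (d * l * d⁻¹)), ← xx, sq]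
  group
/-- `sl2Γ`; `rt_long`, `rt_conj` -/
theorem gf_tau : GF j t τ Y := by
  have sl2 : ∀ a, τ a = a → (Y 47 1 * Y 0 a) ^ 6 = 1 →
      (Y 47 1 * Y 0 a) ^ 3 = 1 ∨ (Y 47 1 * Y 0 a) ^ 2 = 1 := fun a ha e => by
    obtain ⟨b, rfl⟩ := (h.fix a).1 ha
    rw [h.ud_y1 (by norm_num), h.ext 0 (by norm_num), ← map_mul] at e ⊢
    refine (sl2Γ b (h.inj (by rw [map_pow, e, map_one]))).imp (fun k => ?_) fun k => ?_ <;>
      rw [← map_pow, k, map_one]
  have p : Pr τ Y := ⟨h.rel, h.fld_tau rfl, i.pair, sl2⟩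
  obtain ⟨P0, -, -, hS, h0⟩ := h.spl_tau hE i
  refine ⟨h.fld_tau rfl, i.pair, sl2, i.syl, h.cen_tau hE i, h.ab_tau hE i,
    ⟨_, P0, hS, le_sup_left, le_sup_right, h0, le_rfl⟩, fun g hg _ => ?_, fun d h1 h2 => h.inn_tau h1 h2⟩
  obtain ⟨l, hl, d, c, σ, hd, rfl⟩ := i.dec g hg
  have l47 : lg 47 = true := by decide +kernel
  rw [show l * d * Y 47 1 * (l * d)⁻¹ = l * (d * Y 47 1 * d⁻¹) * l⁻¹ by group,
    hd.conj 47 (by norm_num) 1 (ok_one _), map_one, mul_one]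
  refine p.rt_conj (p.rt_long (by norm_num) l47 (hd.ok 47 (by norm_num) l47) fun k => h.ud_e1 ?_) hl
  obtain ⟨v, hv⟩ := (hd.unit 47 (by norm_num)).exists_right_inv
  rw [← hv, k, zero_mul]

end RU

end Cfsg.Agent.F4Q
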