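import Mathlib
import Cfsg.Agent.F4Q.GfE

/-! The elements `n_α(c)` from the commutator relations alone (`E` a field).  `Rel0` is `Rel` without `wn`.
`a = Y α c`, `b = Y (47 - α) (ρ c⁻¹)`, `nc = a b a`.  `μ = ρ` for short, `id` for long roots; `N c = c ρ c`, `T c = c + ρ c`. -/

set_option autoImplicit false

namespace Cfsg.Agent.F4Q

open Cfsg.Lie Cfsg.Agent.Chev Subgroup Cfsg.Agent.PLocal.Amb
open Cfsg.Agent.F42S (lg ip ad gm sm sr Mo aw)
open Cfsg.Agent.FinS (Rt Rg Uf)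
open scoped commutatorElement


variable {E : Type*} [Field E] {G : Type*} [Group G] {ρ : E ≃+* E} {Y : ℕ → E → G}

/-- `Rel` without `wn` -/
structure Rel0 (ρ : E ≃+* E) (Y : ℕ → E → G) : Prop where
  two : ∀ e : E, e + e = 0
  ρρ : ∀ e, ρ (ρ e) = e
  add : ∀ r < 48, ∀ e f, Ok ρ r e → Ok ρ r f → Y r e * Y r f = Y r (e + f)
  inj : ∀ r < 48, ∀ e, Ok ρ r e → Y r e = 1 → e = 0
  com : ∀ r < 48, ∀ s < 48, Mo r s → ∀ e f, Ok ρ r e → Ok ρ s f → Commute (Y r e) (Y s f)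
  ll : ∀ r < 48, ∀ s < 48, lg r = true → lg s = true → ip r s = 8 → ∀ e f, ρ e = e → ρ f = f →
    Commute (Y r e) (Y s f)
  c90 : ∀ r < 48, ∀ s < 48, lg r = false → lg s = false → ip r s = 8 → ∀ e f,
    Y s f * Y r e = Y r e * Y s f * Y (ad r s) (e * ρ f + ρ e * f)
  cs : ∀ r < 48, ∀ s < 48, lg r = false → lg s = false → ip r s = 6 → ∀ e f,
    Y s f * Y r e = Y r e * Y s f * Y (ad r s) (ρ (e * f))
  cl : ∀ r < 48, ∀ s < 48, lg r = true → lg s = true → ip r s = 4 → ∀ e f, ρ e = e → ρ f = f →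
    Y s f * Y r e = Y r e * Y s f * Y (ad r s) (e * f)
  cm : ∀ r < 48, ∀ s < 48, lg r = true → lg s = false → ip r s = 4 → ∀ c f, ρ c = c →
    Y s f * Y r c = Y r c * Y s f * (Y (ad r s) (c * f) * Y (ad (ad r s) s) (c * (f * ρ f)))

theorem Rel.rel0 (h : Rel ρ Y) : Rel0 ρ Y :=
  ⟨h.two, h.ρρ, h.add, h.inj, h.com, h.ll, h.c90, h.cs, h.cl, h.cm⟩

/-- `n_r(c)` -/
def nc (ρ : E ≃+* E) (Y : ℕ → E → G) (r : ℕ) (c : E) : G := Y r c * Y (47 - r) (ρ c⁻¹) * Y r c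

theorem nc_one (r : ℕ) : nc ρ Y r 1 = nY Y r := by simp [nc, nY]

theorem ia_cj {a x u : G} (aa : a * a = 1) (k : x * a = a * x * u) : MulAut.conj a x = x * u := by
  rw [MulAut.conj_apply, inv_eq_of_mul_eq_one_right aa, mul_assoc, k, ← mul_assoc, ← mul_assoc, aa, one_mul]

theorem ia_cj' {a x u : G} (aa : a * a = 1) (xx : x * x = 1) (k : a * x = x * a * u) :
    MulAut.conj a x = u * x := by
  rw [MulAut.conj_apply, ← inv_mul_eq_iff_eq_mul.2 k, mul_inv_rev, inv_eq_of_mul_eq_one_right aa,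
    inv_eq_of_mul_eq_one_right xx, mul_assoc (a * x), mul_assoc a x x, xx, mul_one]

theorem ia_cm {a x : G} (k : Commute a x) : MulAut.conj a x = x := mul_inv_eq_iff_eq_mul.2 k

theorem ia_nc (r : ℕ) (c : E) (x : G) : nc ρ Y r c * x * (nc ρ Y r c)⁻¹ =
    MulAut.conj (Y r c) (MulAut.conj (Y (47 - r) (ρ c⁻¹)) (MulAut.conj (Y r c) x)) := by
  simp only [nc, MulAut.conj_apply, mul_inv_rev, mul_assoc]

theorem ia_1 {b x y g z k : G} (h1 : Commute b x) (h2 : Commute b y) (h3 : Commute g y) :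
    x * y * b * (g * z) * k = b * (x * g) * (y * z * k) := by
  rw [← (h1.mul_right h2).eq]
  simp only [mul_assoc, h3.left_comm]

theorem ia_2 {e g u x v k : G} (h1 : Commute u g) (h2 : Commute v g) (h3 : Commute v x) :
    e * (g * u) * (x * v * k) = e * u * v * (g * x) * k := by
  rw [← h1.eq, ← h3.eq]
  simp only [mul_assoc, h2.left_comm]

/-- `id` for long, `ρ` for short roots -/
def iaMu (ρ : E ≃+* E) (b : Bool) : E ≃+* E := cond b (RingEquiv.refl E) ρ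

theorem iaMu_apply (b : Bool) (e : E) : iaMu ρ b e = if b then e else ρ e := by cases b <;> rfl

theorem iaMu_ok {r : ℕ} {e : E} (b : Bool) (he : Ok ρ r e) : Ok ρ r (iaMu ρ b e) := fun k => by
  cases b
  exacts [congrArg ρ (he k), he k]

theorem ia_mul {r : ℕ} {e f : E} (he : Ok ρ r e) (hf : Ok ρ r f) : Ok ρ r (e * f) := fun k => by
  rw [map_mul, he k, hf k]

theorem ia_inv {r : ℕ} {e : E} (he : Ok ρ r e) : Ok ρ r e⁻¹ := fun k => by rw [map_inv₀, he k]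

theorem ia_of {r s : ℕ} {e : E} (l : lg s = lg r) (he : Ok ρ r e) : Ok ρ s e := fun k => he (l ▸ k)

theorem ia_neg {r : ℕ} {c : E} (l : lg (47 - r) = lg r) (hc : Ok ρ r c) : Ok ρ (47 - r) (ρ c⁻¹) :=
  ia_of l (iaMu_ok false (ia_inv hc))

set_option synthInstance.maxSize 4000 in
theorem ia_t0 : ∀ r < 48, lg (47 - r) = lg r := by decide +kernel

set_option synthInstance.maxSize 4000 in
theorem ia_tA : ∀ α < 48, ∀ β < 48, lg α = lg β → ip α β = (if lg α then 4 else 6) → ad α β < 48 ∧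
    lg (ad α β) = lg α ∧ ip (47 - α) (ad α β) = (if lg (47 - α) then 4 else 6) ∧ ad (47 - α) (ad α β) = β ∧
    Mo α (ad α β) ∧ Mo (47 - α) β ∧ Mo β (ad α β) := by decide +kernel

set_option synthInstance.maxSize 4000 in
theorem ia_tB : ∀ α < 48, ∀ β < 48, lg α = true → lg β = false → ip α β = 4 → ad α β < 48 ∧
    ad (ad α β) β < 48 ∧ lg (ad α β) = false ∧ lg (ad (ad α β) β) = true ∧ ip (47 - α) (ad α β) = 4 ∧
    ad (47 - α) (ad α β) = β ∧ ad β (ad α β) = ad (ad α β) β ∧ Mo α (ad α β) ∧ Mo (47 - α) β ∧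
    ip (47 - α) (ad (ad α β) β) = 8 ∧ ip β (ad α β) = 8 := by decide +kernel

set_option synthInstance.maxSize 4000 in
theorem ia_tC : ∀ α < 48, ∀ β < 48, lg α = false → lg β = true → ip β α = 4 → ad β α < 48 ∧
    ad (ad β α) α < 48 ∧ lg (ad β α) = false ∧ lg (ad (ad β α) α) = true ∧ ip α (ad β α) = 8 ∧
    ad α (ad β α) = ad (ad β α) α ∧ Mo α (ad (ad β α) α) ∧ Mo (47 - α) β ∧ ip (47 - α) (ad β α) = 8 ∧
    ad (47 - α) (ad β α) = β ∧ ip (ad (ad β α) α) (47 - α) = 4 ∧ ad (ad (ad β α) α) (47 - α) = ad β α ∧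
    ad (ad β α) (47 - α) = β ∧ Mo β (ad β α) ∧ ip β (ad (ad β α) α) = 8 ∧ Mo (ad β α) (ad (ad β α) α) := by
  decide +kernel

/-- the direct cases -/
def IaD (a r s : ℕ) : Prop :=
  (lg a = lg r ∧ ip a r = (if lg a then 4 else 6) ∧ s = ad a r) ∨
  (lg a = true ∧ lg r = false ∧ ip a r = 4 ∧ s = ad a r) ∨
  (lg a = false ∧ lg r = true ∧ ip r a = 4 ∧ s = ad (ad r a) a) ∨
  (lg a = false ∧ s = r ∧ ∃ b < 48, lg b = true ∧ ip b a = 4 ∧ r = ad b a) ∨
  (s = r ∧ (lg a = true ∨ lg r = true) ∧ ((Mo a r ∧ Mo (47 - a) r) ∨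
    (lg a = true ∧ lg r = true ∧ ip a r = 8 ∧ ip (47 - a) r = 8)))

instance (a r s : ℕ) : Decidable (IaD a r s) := inferInstanceAs (Decidable (_ ∨ _))

/-- direct or inverse -/
def IaE (i r : ℕ) : Prop := r < 48 ∧ sr i r < 48 ∧ lg (sr i r) = lg r ∧
  (IaD (sm i) r (sr i r) ∨ IaD (sm i) (sr i r) r)

instance (i r : ℕ) : Decidable (IaE i r) := inferInstanceAs (Decidable (_ ∧ _))

set_option synthInstance.maxSize 4000 in
theorem ia_tD : ∀ i < 4, sm i < 48 ∧ (i < 2 ↔ lg (sm i) = false) ∧ ∀ r < 48, IaE i r ∨ ∃ p < 48, ∃ q < 48,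
    lg p = lg (sm i) ∧ lg q = lg (sm i) ∧ lg r = lg (sm i) ∧ ip p q = (if lg p then 4 else 6) ∧ ad p q = r ∧
    IaE i p ∧ IaE i q ∧ ip (sr i p) (sr i q) = (if lg (sr i p) then 4 else 6) ∧ ad (sr i p) (sr i q) = sr i r := by
  decide +kernel

variable (ρ Y) in
/-- the shape of the conclusion of `nc_conj` -/
def IaC (α : ℕ) (c : E) (r s : ℕ) : Prop := ∃ l, l ≠ 0 ∧ Ok ρ r l ∧ (c = 1 → l = 1) ∧ ∀ e, Ok ρ r e →
  nc ρ Y α c * Y r e * (nc ρ Y α c)⁻¹ = Y s (l * iaMu ρ (lg α) e)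

namespace Rel0
variable (h : Rel0 ρ Y) {α β : ℕ} {c : E}
include h

theorem zero {r : ℕ} (hr : r < 48) : Y r 0 = 1 := by
  have := h.add r hr 0 0 (ok_zero r) (ok_zero r)
  rwa [add_zero, mul_eq_left] at this
theorem sq {r : ℕ} (hr : r < 48) {e : E} (he : Ok ρ r e) : Y r e * Y r e = 1 := by
  rw [h.add r hr e e he he, h.two, h.zero hr]
theorem nc_sq (ha : α < 48) (hc : Ok ρ α c) : nc ρ Y α c * nc ρ Y α c = 1 := by
  rw [nc, mul_assoc, ← mul_assoc (Y α c), ← mul_assoc (Y α c), h.sq ha hc, one_mul, ← mul_assoc,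
    mul_assoc (Y α c), h.sq (by omega) (ia_neg (ia_t0 α ha) hc), mul_one, h.sq ha hc]
theorem mu_mu (b : Bool) (e : E) : iaMu ρ b (iaMu ρ b e) = e := by
  cases b
  exacts [h.ρρ e, rfl]
theorem c120 {r s : ℕ} (hr : r < 48) (hs : s < 48) (l : lg r = lg s) (p : ip r s = if lg r then 4 else 6) {e f : E}
    (he : Ok ρ r e) (hf : Ok ρ s f) : Y s f * Y r e = Y r e * Y s f * Y (ad r s) (iaMu ρ (lg r) (e * f)) := by
  cases k : lg r <;> rw [k] at p l
  · exact h.cs r hr s hs k l.symm p e f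
  · exact h.cl r hr s hs k l.symm p e f (he k) (hf l.symm)
/-- (A) same length, `120°`: on `X_β X_{α+β}`, `a : (e, f) ↦ (e, f + μ(c e))`, `b : (e, f) ↦ (e + μ(ρ c⁻¹ f), f)`.
The other direction follows from `nc_sq`. -/
theorem ncA (ha : α < 48) (hb : β < 48) (l : lg α = lg β) (p : ip α β = if lg α then 4 else 6) (hc : Ok ρ α c)
    (c0 : c ≠ 0) {e : E} (he : Ok ρ β e) :
    nc ρ Y α c * Y β e * (nc ρ Y α c)⁻¹ = Y (ad α β) (ρ c * if lg α then e else ρ e) := by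
  obtain ⟨g, lγ, p', e', m1, m2, m3⟩ := ia_tA α ha β hb l p
  have l0 := ia_t0 α ha
  have o' := ia_neg l0 hc
  have og : Ok ρ (ad α β) (iaMu ρ (lg α) (c * e)) := ia_of lγ (iaMu_ok _ (ia_mul hc (ia_of l he)))
  have e1 : iaMu ρ (lg α) (ρ c⁻¹ * iaMu ρ (lg α) (c * e)) = e := by
    rw [map_mul, h.mu_mu]
    cases k : lg α
    · rw [iaMu_apply, if_neg (by simp), h.ρρ, inv_mul_cancel_left₀ c0]
    · rw [iaMu_apply, if_pos rfl, ia_inv hc k, inv_mul_cancel_left₀ c0]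
  have e2 : iaMu ρ (lg α) c = ρ c := by
    cases k : lg α
    exacts [rfl, (hc k).symm]
  rw [ia_nc, ia_cj (h.sq ha hc) (h.c120 ha hb l p hc he), map_mul,
    ia_cm (h.com _ (by omega) β hb m2 _ _ o' he),
    ia_cj (h.sq (by omega) o') (h.c120 (by omega) g (l0.trans lγ.symm) p' o' og), e', l0, e1,
    ← (h.com β hb _ g m3 _ _ he og).eq, ← mul_assoc, h.sq hb he, one_mul, ia_cm (h.com α ha _ g m1 _ _ hc og),
    map_mul, e2, iaMu_apply]
/-- (B) `α` long, `β` short, `135°`; `Z = Y (α + 2β)` commutes with everything here.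
`a : Y_β(f) ↦ Y_β(f) Y_{α+β}(c f) Z(c N f)`, `b : Y_{α+β}(g) ↦ Y_{α+β}(g) Y_β(c⁻¹ g) Z(c⁻¹ N g)`, `c90`. -/
theorem ncB (ha : α < 48) (hb : β < 48) (l : lg α = true) (l' : lg β = false) (p : ip α β = 4) (hc : ρ c = c)
    (c0 : c ≠ 0) (e : E) : nc ρ Y α c * Y β e * (nc ρ Y α c)⁻¹ = Y (ad α β) (c * e) := by
  obtain ⟨g, d, lγ, lδ, p', e', e'', m1, m2, p2, p3⟩ := ia_tB α ha β hb l l' p
  have l0 := (ia_t0 α ha).trans l
  have ci : ρ c⁻¹ = c⁻¹ := by rw [map_inv₀, hc]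
  have n : ρ (c * (e * ρ e)) = c * (e * ρ e) := by rw [map_mul, map_mul, hc, h.ρρ, mul_comm e]
  have e1 : c⁻¹ * (c * e * ρ (c * e)) = c * (e * ρ e) := by rw [map_mul, hc]; field_simp
  have k := h.c90 β hb _ g l' lγ p3 e (c * e)
  rw [show e * ρ (c * e) + ρ e * (c * e) = 0 by rw [map_mul, hc, ← h.two (c * e * ρ e)]; ring, e'', h.zero d,
    mul_one] at k
  rw [ia_nc, ci, ia_cj (h.sq ha fun _ => hc) (h.cm α ha β hb l l' p c e hc),
    map_mul (MulAut.conj (Y (47 - α) c⁻¹)), map_mul (MulAut.conj (Y (47 - α) c⁻¹)),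
    ia_cm (h.com _ (by omega) β hb m2 _ _ (fun _ => ci) (ok_short l' e)),
    ia_cm (h.ll _ (by omega) _ d l0 lδ p2 _ _ ci n),
    ia_cj (h.sq (by omega) fun _ => ci) (h.cm _ (by omega) _ g l0 lγ p' _ (c * e) ci), e', e'',
    inv_mul_cancel_left₀ c0, e1, mul_assoc, mul_assoc, h.sq d fun _ => n, mul_one, k, ← mul_assoc,
    h.sq hb (ok_short l' e), one_mul, ia_cm (h.com α ha _ g m1 _ _ (fun _ => hc) (ok_short lγ _))]
/-- (C) `α` short, `β` long, `135°`: on the abelian group `X_β X_{β+α} X_{β+2α}`,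
`a : (e, g, k) ↦ (e, g + e c, k + e N c + T(g ρ c))`, `b : (e, g, k) ↦ (e + k / N c + T(g / c), g + k / ρ c, k)`. -/
theorem ncC (ha : α < 48) (hb : β < 48) (l : lg α = false) (l' : lg β = true) (p : ip β α = 4) (c0 : c ≠ 0) :
    (∀ e, ρ e = e → nc ρ Y α c * Y β e * (nc ρ Y α c)⁻¹ = Y (ad (ad β α) α) (c * ρ c * e)) ∧
      ∀ g, nc ρ Y α c * Y (ad β α) g * (nc ρ Y α c)⁻¹ = Y (ad β α) (c * ρ c⁻¹ * ρ g) := by
  obtain ⟨g, d, lγ, lδ, p1, e1, m1, m2, p2, e2, p3, e3, e4, m3, p4, m4⟩ := ia_tC α ha β hb l l' p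
  have l0 := (ia_t0 α ha).trans l
  have a' : 47 - α < 48 := by omega
  have n0 : ρ c ≠ 0 := by simpa using c0
  have two : (2 : E) = 0 := by rw [← h.two 1]; norm_num
  have oN : ∀ x e : E, ρ e = e → ρ (e * (x * ρ x)) = e * (x * ρ x) := fun x e he => by
    rw [map_mul, map_mul, he, h.ρρ, mul_comm x]
  have oT : ∀ x y : E, ρ (x * ρ y + ρ x * y) = x * ρ y + ρ x * y := fun x y => by
    rw [map_add, map_mul, map_mul, h.ρρ, h.ρρ, add_comm]
  have oA : ∀ x y : E, ρ x = x → ρ y = y → ρ (x + y) = x + y := fun x y a b => by rw [map_add, a, b]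
  have hA : ∀ e f k, ρ e = e → ρ k = k → MulAut.conj (Y α c) (Y β e * Y (ad β α) f * Y (ad (ad β α) α) k) =
      Y β e * Y (ad β α) (e * c + f) * Y (ad (ad β α) α) (e * (c * ρ c) + (c * ρ f + ρ c * f) + k) :=
    fun e f k he hk => by
      rw [map_mul, map_mul, ia_cj' (h.sq ha (ok_short l c)) (h.sq hb fun _ => he) (h.cm β hb α ha l' l p e c he),
        ia_cj (h.sq ha (ok_short l c)) (h.c90 α ha _ g l lγ p1 c f), e1,
        ia_cm (h.com α ha _ d m1 _ _ (ok_short l c) fun _ => hk),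
        ia_1 (h.com β hb _ g m3 _ _ (fun _ => he) (ok_short lγ _)) (h.ll β hb _ d l' lδ p4 _ _ he (oN c e he))
          (h.com _ g _ d m4 _ _ (ok_short lγ _) fun _ => oN c e he),
        h.add _ g _ _ (ok_short lγ _) (ok_short lγ _), h.add _ d _ _ (fun _ => oN c e he) fun _ => oT c f,
        h.add _ d _ _ (fun _ => oA _ _ (oN c e he) (oT c f)) fun _ => hk]
  have hB : ∀ x e f k, ρ e = e → ρ k = k → MulAut.conj (Y (47 - α) x)
      (Y β e * Y (ad β α) f * Y (ad (ad β α) α) k) =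
      Y β (e + (x * ρ f + ρ x * f) + k * (x * ρ x)) * Y (ad β α) (f + k * x) * Y (ad (ad β α) α) k :=
    fun x e f k he hk => by
      rw [map_mul, map_mul, ia_cm (h.com _ a' β hb m2 _ _ (ok_short l0 x) fun _ => he),
        ia_cj (h.sq a' (ok_short l0 x)) (h.c90 _ a' _ g l0 lγ p2 x f), e2,
        ia_cj' (h.sq a' (ok_short l0 x)) (h.sq d fun _ => hk) (h.cm _ d _ a' lδ l0 p3 k x hk), e3, e4,
        ia_2 (h.com β hb _ g m3 _ _ (fun _ => oT x f) (ok_short lγ _))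
          (h.com β hb _ g m3 _ _ (fun _ => oN x k hk) (ok_short lγ _))
          (h.com β hb _ g m3 _ _ (fun _ => oN x k hk) (ok_short lγ _)),
        h.add _ g _ _ (ok_short lγ _) (ok_short lγ _), h.add _ hb _ _ (fun _ => he) fun _ => oT x f,
        h.add _ hb _ _ (fun _ => oA _ _ he (oT x f)) fun _ => oN x k hk]
  have z := map_zero ρ
  have fin : ∀ e f k e' f' k' : E, e = e' → f = f' → k = k' → Y β e * Y (ad β α) f * Y (ad (ad β α) α) k =
      Y β e' * Y (ad β α) f' * Y (ad (ad β α) α) k' := fun _ _ _ _ _ _ a b c => by rw [a, b, c]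
  refine ⟨fun e he => ?_, fun f => ?_⟩
  · have k1 := hA e 0 0 he z
    rw [h.zero g, h.zero d, mul_one, mul_one, fin _ _ _ e (e * c) (e * (c * ρ c)) rfl (add_zero _) (by simp)] at k1
    have k2 := hA 0 0 _ z (oN c e he)
    rw [ia_nc, k1, hB _ _ _ _ he (oN c e he), fin _ _ _ 0 0 _ ?_ ?_ rfl, k2,
      fin _ _ _ 0 0 (c * ρ c * e) rfl (by simp) (by simp [mul_comm]), h.zero hb, h.zero g, one_mul, one_mul]
    · simp only [map_mul, map_inv₀, h.ρρ, he]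
      field_simp
      linear_combination (2 * e) * two
    · simp only [map_inv₀]
      field_simp
      linear_combination (e * c) * two
  · have k1 := hA 0 f 0 z z
    rw [h.zero hb, h.zero d, mul_one, one_mul, ← h.zero hb,
      fin _ _ _ 0 f (c * ρ f + ρ c * f) rfl (by simp) (by simp)] at k1
    rw [ia_nc, k1, hB _ _ _ _ z (oT c f), fin _ _ _ 0 (c * ρ c⁻¹ * ρ f) _ ?_ ?_ rfl, hA _ _ _ z (oT c f),
      fin _ _ _ 0 (c * ρ c⁻¹ * ρ f) 0 rfl (by simp) ?_, h.zero hb, h.zero d, one_mul, mul_one]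
    · simp only [map_mul, map_inv₀, h.ρρ]
      field_simp
      linear_combination (c * ρ f + ρ c * f) * two
    · simp only [map_inv₀, h.ρρ]
      field_simp
      linear_combination (c * ρ f + ρ c * f) * two
    · simp only [map_inv₀]
      field_simp
      linear_combination (ρ c * f) * two
theorem iaC_symm {r s : ℕ} (ha : α < 48) (hc : Ok ρ α c) (l : lg s = lg r) (k : IaC ρ Y α c r s) :
    IaC ρ Y α c s r := by
  obtain ⟨a, a0, oa, a1, k⟩ := k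
  refine ⟨iaMu ρ (lg α) a⁻¹, by simpa using a0, ia_of l (iaMu_ok _ (ia_inv oa)), fun e => by simp [a1 e],
    fun e he => ?_⟩
  have := k (iaMu ρ (lg α) (a⁻¹ * e)) (iaMu_ok _ (ia_mul (ia_inv oa) (ia_of l.symm he)))
  rw [h.mu_mu, mul_inv_cancel_left₀ a0, map_mul] at this
  rw [← this, ← mul_assoc, ← mul_assoc, h.nc_sq ha hc, one_mul, mul_assoc, ← mul_inv_rev, h.nc_sq ha hc, inv_one,
    mul_one]
theorem iaC_of {r s : ℕ} (ha : α < 48) (hc : Ok ρ α c) (c0 : c ≠ 0) (hr : r < 48) (k : IaD α r s) :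
    IaC ρ Y α c r s := by
  have n0 : ρ c ≠ 0 := by simpa using c0
  have o' := ia_neg (ia_t0 α ha) hc
  rcases k with ⟨l, p, rfl⟩ | ⟨l, l', p, rfl⟩ | ⟨l, l', p, rfl⟩ | ⟨l, rfl, b, hb, l', p, rfl⟩ | ⟨rfl, l, k⟩
  · exact ⟨ρ c, n0, ia_of l.symm (iaMu_ok false hc), fun e => by simp [e], fun e he => by
      rw [h.ncA ha hr l p hc c0 he, iaMu_apply]⟩
  · exact ⟨c, c0, ok_short l' _, id, fun e _ => by rw [h.ncB ha hr l l' p (hc l) c0, l]; rfl⟩
  · exact ⟨c * ρ c, mul_ne_zero c0 n0, fun _ => by rw [map_mul, h.ρρ, mul_comm], fun e => by simp [e],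
      fun e he => by rw [(h.ncC ha hr l l' p c0).1 e (he l'), l, iaMu_apply, he l', ite_self]⟩
  · exact ⟨c * ρ c⁻¹, mul_ne_zero c0 (by simpa using c0), ok_short (ia_tC α ha b hb l l' p).2.2.1 _,
      fun e => by simp [e], fun e _ => by rw [(h.ncC ha hb l l' p c0).2 e, l]; rfl⟩
  · refine ⟨1, one_ne_zero, ok_one _, fun _ => rfl, fun e he => ?_⟩
    have : Commute (Y α c) (Y s e) ∧ Commute (Y (47 - α) (ρ c⁻¹)) (Y s e) := by
      rcases k with k | k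
      · exact ⟨h.com α ha s hr k.1 _ _ hc he, h.com _ (by omega) s hr k.2 _ _ o' he⟩
      · have l' := (ia_t0 α ha).trans k.1
        exact ⟨h.ll α ha s hr k.1 k.2.1 k.2.2.1 _ _ (hc k.1) (he k.2.1),
          h.ll _ (by omega) s hr l' k.2.1 k.2.2.2 _ _ (o' l') (he k.2.1)⟩
    rw [ia_nc, ia_cm this.1, ia_cm this.2, ia_cm this.1, one_mul, iaMu_apply]
    rcases l with l | l
    · rw [if_pos l]
    · rw [he l, ite_self]
theorem iaC_E {i r : ℕ} (ha : sm i < 48) (hc : Ok ρ (sm i) c) (c0 : c ≠ 0) (k : IaE i r) :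
    IaC ρ Y (sm i) c r (sr i r) :=
  k.2.2.2.elim (h.iaC_of ha hc c0 k.1) fun d => h.iaC_symm ha hc k.2.2.1.symm (h.iaC_of ha hc c0 k.2.1 d)
/-- `r ≠ ± α_i`: (A), (B), (C), their inverses (`nc_sq`), or `Y r` commutes with `Y (± α_i)` (`com`, `ll`); a table by
`decide +kernel`.  `r = ± α_i`: `r = p + q` (`nf_t6`), `Y r e = ⁅Y p 1, Y q (μ e)⁆`, and the reflection preserves `ip`, `ad`. -/
theorem nc_conj {i : ℕ} (hi : i < 4) (hc : Ok ρ (sm i) c) (c0 : c ≠ 0) {r : ℕ} (hr : r < 48) :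
    ∃ l, l ≠ 0 ∧ Ok ρ r l ∧ (c = 1 → l = 1) ∧ ∀ e, Ok ρ r e →
      nc ρ Y (sm i) c * Y r e * (nc ρ Y (sm i) c)⁻¹ = Y (sr i r) (l * if i < 2 then ρ e else e) := by
  obtain ⟨ha, i2, t⟩ := ia_tD i hi
  have e : ∀ e : E, (if i < 2 then ρ e else e) = iaMu ρ (lg (sm i)) e := fun e => by
    cases k : lg (sm i)
    · rw [if_pos (i2.2 k)]; rfl
    · rw [if_neg fun x => by simp [i2.1 x] at k]; rfl
  simp only [e]
  rcases t r hr with t | ⟨p, hp, q, hq, lp, lq, lr, t1, rfl, tp, tq, t2, t3⟩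
  · exact h.iaC_E ha hc c0 t
  obtain ⟨a, a0, oa, a1, ka⟩ := h.iaC_E ha hc c0 tp
  obtain ⟨b, b0, ob, b1, kb⟩ := h.iaC_E ha hc c0 tq
  refine ⟨iaMu ρ (lg (sm i)) (a * b), by simp [a0, b0], iaMu_ok _ (ia_mul (ia_of (lr.trans lp.symm) oa)
    (ia_of (lr.trans lq.symm) ob)), fun k => by simp [a1 k, b1 k], fun f hf => ?_⟩
  have of : Ok ρ q (iaMu ρ (lg (sm i)) f) := iaMu_ok _ (ia_of (lq.trans lr.symm) hf)
  have k1 := congrArg (MulAut.conj (nc ρ Y (sm i) c)) (h.c120 hp hq (lp.trans lq.symm) t1 (ok_one p) of)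
  have k2 := h.c120 tp.2.1 tq.2.1 (by rw [tp.2.2.1, tq.2.2.1, lp, lq]) t2 (ia_of tp.2.2.1 oa)
    (ia_of tq.2.2.1 (ia_mul ob (ia_of (lq.trans lr.symm) hf)))
  simp only [map_mul, MulAut.conj_apply, ka 1 (ok_one p), kb _ of, map_one, mul_one, one_mul, lp, h.mu_mu] at k1
  rw [k2, mul_right_inj, t3, tp.2.2.1, lp, ← mul_assoc a, map_mul] at k1
  exact k1.symm
theorem rel : Rel ρ Y :=
  ⟨h.two, h.ρρ, h.add, h.inj, h.com, h.ll, h.c90, h.cs, h.cl, h.cm, fun i hi r hr e he => by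
    obtain ⟨l, -, -, l1, k⟩ := h.nc_conj hi (ok_one _) one_ne_zero hr
    rw [← nc_one (ρ := ρ), k e he, l1 rfl, one_mul]⟩

end Rel0

end Cfsg.Agent.F4Q
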