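import Mathlib
import Cfsg.Agent.F4Q.I2A
import Cfsg.Agent.KSG.PresBN

/-! Bruhat decomposition from the relations (`E` a field); blueprint `F42S/Id1A`, `Lr.bruhat`; `F42S/Id1`, `Lr.sub`, `Lr.ker_le`. -/

set_option autoImplicit false

namespace Cfsg.Agent.F4Q

open Cfsg.Lie Cfsg.Agent.Chev Subgroup Cfsg.Agent.PLocal.Amb
open Cfsg.Agent.F42S (lg ip ad gm sm sr Mo aw)
open Cfsg.Agent.FinS (Rt Rg Uf)
open scoped commutatorElement


set_option synthInstance.maxSize 4000 in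
theorem i2r_t : ∀ r < 48, ∀ s < 48, (lg r = false → lg s = false → ip r s = 8 → ad r s < 48) ∧
    (lg r = false → lg s = false → ip r s = 6 → ad r s < 48 ∧ lg (ad r s) = false) ∧
    (lg r = true → lg s = true → ip r s = 4 → ad r s < 48) ∧
    (lg r = true → lg s = false → ip r s = 4 → ad r s < 48 ∧ lg (ad r s) = false ∧ ad (ad r s) s < 48) := by
  decide +kernel

theorem i2r_neg {w : List ℕ} (hw : ∀ i ∈ w, i < 4) {r : ℕ} (hr : r < 48) : aw w (47 - r) = 47 - aw w r := by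
  induction w with
  | nil => rfl
  | cons i w ih =>
    rw [List.forall_mem_cons] at hw
    rw [F42S.aw_cons, F42S.aw_cons, ih hw.2, (F42S.tab_sr i hw.1 _ (F42S.aw_lt hw.2 hr)).2.2.2.1]

theorem i2r_lg : ∀ r < 48, (24 ≤ r → ¬ ad 47 r < 48) ∧ ∃ u < 48, 24 ≤ u ∧ lg u = lg r := by decide +kernel

section
variable {E : Type*} [CommRing E] {G : Type*} [Group G] {ρ : E ≃+* E} {Y : ℕ → E → G}

theorem i2r_ok {i r : ℕ} (hi : i < 4) (hr : r < 48) {e : E} (he : Ok ρ r e) :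
    Ok ρ (sr i r) (if i < 2 then ρ e else e) := fun a => by
  rw [(F42S.tab_sr i hi _ hr).2.2.1] at a
  split_ifs <;> simp only [he a]

theorem i2r_mu (hρ : ∀ e, ρ (ρ e) = e) (i : ℕ) (e : E) :
    (if i < 2 then ρ (if i < 2 then ρ e else e) else (if i < 2 then ρ e else e)) = e := by
  split_ifs
  exacts [hρ e, rfl]

theorem i2r_inj {G' : Type*} [Group G'] (θ : G →* G') (hθ : Function.Injective θ) {Z : ℕ → E → G'}
    (k : ∀ r < 48, ∀ e, Ok ρ r e → θ (Y r e) = Z r e) (h : Rel ρ Z) : Rel ρ Y := by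
  have cm : ∀ {a b : G}, Commute (θ a) (θ b) → Commute a b := fun {a b} c => hθ (by
    rw [map_mul, map_mul]; exact c)
  have n : ∀ i < 4, θ (nY Y (sm i)) = nY Z (sm i) := fun i hi => by
    have t := (F42S.tab_sm i hi).1
    rw [nY, nY, map_mul, map_mul, k _ t _ (ok_one _), k _ (by omega) _ (ok_one _)]
  refine ⟨h.two, h.ρρ, fun r hr e f a b => hθ ?_, fun r hr e a b => h.inj r hr e a ?_,
    fun r hr s hs a e f b c => cm ?_, fun r hr s hs a b c e f d d' => cm ?_, fun r hr s hs a b c e f => hθ ?_,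
    fun r hr s hs a b c e f => hθ ?_, fun r hr s hs a b c e f d d' => hθ ?_, fun r hr s hs a b c e f d => hθ ?_,
    fun i hi r hr e he => hθ ?_⟩
  · rw [map_mul, k r hr e a, k r hr f b, k r hr _ (Rel.ok_add a b), h.add r hr e f a b]
  · rw [← k r hr e a, b, map_one]
  · rw [k r hr e b, k s hs f c]; exact h.com r hr s hs a e f b c
  · rw [k r hr e fun _ => d, k s hs f fun _ => d']; exact h.ll r hr s hs a b c e f d d'
  · rw [map_mul, map_mul, map_mul, k r hr e (ok_short a _), k s hs f (ok_short b _),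
      k _ ((i2r_t r hr s hs).1 a b c) _ fun _ => by rw [map_add, map_mul, map_mul, h.ρρ, h.ρρ, add_comm]]
    exact h.c90 r hr s hs a b c e f
  · have t := (i2r_t r hr s hs).2.1 a b c
    rw [map_mul θ, map_mul θ, map_mul θ, k r hr e (ok_short a _), k s hs f (ok_short b _), k _ t.1 _ (ok_short t.2 _)]
    exact h.cs r hr s hs a b c e f
  · rw [map_mul, map_mul, map_mul, k r hr e fun _ => d, k s hs f fun _ => d',
      k _ ((i2r_t r hr s hs).2.2.1 a b c) _ fun _ => by rw [map_mul, d, d']]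
    exact h.cl r hr s hs a b c e f d d'
  · have t := (i2r_t r hr s hs).2.2.2 a b c
    rw [map_mul, map_mul, map_mul, map_mul, k r hr e fun _ => d, k s hs f (ok_short b _),
      k _ t.1 _ (ok_short t.2.1 _), k _ t.2.2 _ fun _ => by rw [map_mul, map_mul, d, h.ρρ, mul_comm (ρ f)]]
    exact h.cm r hr s hs a b c e f d
  · rw [map_mul, map_mul, map_inv, n i hi, k r hr e he, k _ (F42S.tab_sr i hi r hr).1 _ (i2r_ok hi hr he)]
    exact h.wn i hi r hr e he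

theorem i2r_nn (h : Rel ρ Y) {r : ℕ} (hr : r < 48) : nY Y r * nY Y r = 1 := by
  have a := h.sq hr (ok_one (ρ := ρ) r)
  have b := h.sq (r := 47 - r) (by omega) (ok_one (ρ := ρ) _)
  calc nY Y r * nY Y r = Y r 1 * (Y (47 - r) 1 * (Y r 1 * Y r 1) * Y (47 - r) 1) * Y r 1 := by
        simp only [nY, mul_assoc]
    _ = 1 := by rw [a, mul_one, b, mul_one, a]

theorem i2r_app (v w : List ℕ) : ww Y (v ++ w) = ww Y v * ww Y w := by simp [ww]

theorem i2r_rev (h : Rel ρ Y) {w : List ℕ} (hw : ∀ i ∈ w, i < 4) : ww Y w.reverse = (ww Y w)⁻¹ := by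
  induction w with
  | nil => simp [ww]
  | cons i w ih =>
    rw [List.forall_mem_cons] at hw
    rw [List.reverse_cons, i2r_app, ih hw.2, ww_cons, ww_cons, mul_inv_rev,
      inv_eq_of_mul_eq_one_right (i2r_nn h (F42S.tab_sm i hw.1).1)]
    simp [ww]

theorem i2r_nD (h : Rel ρ Y) {i : ℕ} (hi : i < 4) {k : G} (hk : k ∈ D0 ρ Y) :
    nY Y (sm i) * k * (nY Y (sm i))⁻¹ ∈ D0 ρ Y := by
  obtain ⟨c, hc⟩ := hk
  have o : ∀ r < 48, ∀ {e}, Ok ρ (sr i r) e → Ok ρ r (if i < 2 then ρ e else e) := fun r hr e he => by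
    have := i2r_ok hi (F42S.tab_sr i hi r hr).1 he
    rwa [(F42S.tab_sr i hi r hr).2.1] at this
  refine ⟨fun r => if i < 2 then ρ (c (sr i r)) else c (sr i r), fun r hr => ?_,
    fun r hr => o r hr (hc.ok _ (F42S.tab_sr i hi r hr).1), fun _ => rfl, fun r hr e he => ?_⟩
  · have := hc.unit _ (F42S.tab_sr i hi r hr).1
    split_ifs
    exacts [this.map ρ, this]
  · obtain ⟨r1, r2, -⟩ := F42S.tab_sr i hi r hr
    have a := h.wn i hi r hr e he
    have b := hc.conj _ r1 _ (i2r_ok hi hr he)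
    have d := h.wn i hi _ r1 _ (hc.okc r1 (i2r_ok hi hr he))
    have nn := inv_eq_of_mul_eq_one_right (i2r_nn h (F42S.tab_sm i hi).1)
    rw [← b, ← a, r2, nn] at d
    have e1 : (if i < 2 then ρ (c (sr i r) * (RingEquiv.refl E) (if i < 2 then ρ e else e))
        else c (sr i r) * (RingEquiv.refl E) (if i < 2 then ρ e else e)) =
        (if i < 2 then ρ (c (sr i r)) else c (sr i r)) * (RingEquiv.refl E) e := by
      split_ifs
      · rw [RingEquiv.refl_apply, RingEquiv.refl_apply, map_mul, h.ρρ]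
      · rfl
    rw [← e1, ← d, mul_inv_rev, mul_inv_rev, inv_inv, nn]
    simp only [mul_assoc]

theorem i2r_DS {S : Set ℕ} (hS : ∀ r ∈ S, r < 48) {k : G} (hk : k ∈ D0 ρ Y) {u : G} (hu : u ∈ YS ρ Y S) :
    k * u * k⁻¹ ∈ YS ρ Y S :=
  PLocal.Amb.conj_mem_of_mem_normalizer (DD_norm hS (D0_le hk)) hu

end

section
variable {E : Type*} [CommRing E] {G : Type*} [Group G] {ρ : E ≃+* E} {Y : ℕ → E → G}

open Classical in
/-- the family inside `G₀` -/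
noncomputable def res (ρ : E ≃+* E) (Y : ℕ → E → G) (r : ℕ) (e : E) : SK ρ Y 0 :=
  if k : Y r e ∈ SK ρ Y 0 then ⟨Y r e, k⟩ else 1

theorem coe_res {r : ℕ} (hr : r < 48) {e : E} (he : Ok ρ r e) : (res ρ Y r e : G) = Y r e := by
  have k : Y r e ∈ SK ρ Y 0 := mem_SK (Nat.zero_le _) hr he
  rw [res, dif_pos k]
theorem YS_congr {G' : Type*} [Group G'] (θ : G →* G') {Z : ℕ → E → G'}
    (h : ∀ r < 48, ∀ e, Ok ρ r e → θ (Y r e) = Z r e) {S : Set ℕ} (hS : ∀ r ∈ S, r < 48) :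
    (YS ρ Y S).map θ = YS ρ Z S :=
  le_antisymm (map_le_iff_le_comap.2 (YS_le.2 fun r hr e he => by
    rw [mem_comap, h r (hS r hr) e he]; exact mem_YS hr he))
    (YS_le.2 fun r hr e he => ⟨_, mem_YS hr he, h r (hS r hr) e he⟩)
theorem res_mem {S : Set ℕ} (hS : ∀ r ∈ S, r < 48) (g : SK ρ Y 0) :
    g ∈ YS ρ (res ρ Y) S ↔ (g : G) ∈ YS ρ Y S := by
  rw [← YS_congr (Y := res ρ Y) (SK ρ Y 0).subtype (fun r hr e he => coe_res hr he) hS]
  exact (mem_map_iff_mem (subtype_injective _)).symm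
theorem res_top : SK ρ (res ρ Y) 0 = ⊤ := eq_top_iff.2 fun g _ => (res_mem (fun _ hr => hr.2) g).2 g.2
theorem Rel.res' (h : Rel ρ Y) : Rel ρ (res ρ Y) :=
  i2r_inj (SK ρ Y 0).subtype (subtype_injective _) (fun _ hr _ he => coe_res hr he) h
theorem Rel.prod (h : Rel ρ Y) {G' : Type*} [Group G'] {Z : ℕ → E → G'} (z : Rel ρ Z) :
    Rel ρ fun r e => (Y r e, Z r e) :=
  ⟨h.two, h.ρρ, fun r hr e f a b => Prod.ext (h.add r hr e f a b) (z.add r hr e f a b),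
    fun r hr e a b => h.inj r hr e a (congrArg Prod.fst b),
    fun r hr s hs a e f b c => Prod.ext (h.com r hr s hs a e f b c) (z.com r hr s hs a e f b c),
    fun r hr s hs a b c e f d d' => Prod.ext (h.ll r hr s hs a b c e f d d') (z.ll r hr s hs a b c e f d d'),
    fun r hr s hs a b c e f => Prod.ext (h.c90 r hr s hs a b c e f) (z.c90 r hr s hs a b c e f),
    fun r hr s hs a b c e f => Prod.ext (h.cs r hr s hs a b c e f) (z.cs r hr s hs a b c e f),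
    fun r hr s hs a b c e f d d' => Prod.ext (h.cl r hr s hs a b c e f d d') (z.cl r hr s hs a b c e f d d'),
    fun r hr s hs a b c e f d => Prod.ext (h.cm r hr s hs a b c e f d) (z.cm r hr s hs a b c e f d),
    fun i hi r hr e he => Prod.ext (h.wn i hi r hr e he) (z.wn i hi r hr e he)⟩

end

variable {E : Type*} [Field E] {G : Type*} [Group G] {ρ : E ≃+* E} {Y : ℕ → E → G}

namespace Rel
variable (h : Rel ρ Y)
include h

/-- `nc_conj` and `wn` -/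
theorem nc_D0 {i : ℕ} (hi : i < 4) {c : E} (hc : Ok ρ (sm i) c) (c0 : c ≠ 0) :
    nc ρ Y (sm i) c * nY Y (sm i) ∈ D0 ρ Y := by
  have key := fun r (hr : r < 48) => h.rel0.nc_conj hi hc c0 (F42S.tab_sr i hi r hr).1
  choose! l l0 l1 _ l3 using key
  refine ⟨l, fun r hr => (l0 r hr).isUnit, fun r hr a => l1 r hr ?_, fun _ => rfl, fun r hr e he => ?_⟩
  · rw [(F42S.tab_sr i hi r hr).2.2.1, a]
  · have d := l3 r hr _ (i2r_ok hi hr he)
    rw [i2r_mu h.ρρ, (F42S.tab_sr i hi r hr).2.1, ← h.wn i hi r hr e he] at d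
    rw [RingEquiv.refl_apply, ← d]
    group
theorem ww_D0 {w : List ℕ} (hw : ∀ i ∈ w, i < 4) {k : G} (hk : k ∈ D0 ρ Y) :
    ww Y w * k * (ww Y w)⁻¹ ∈ D0 ρ Y := by
  induction w with
  | nil => simpa [ww] using hk
  | cons i w ih =>
    rw [List.forall_mem_cons] at hw
    convert i2r_nD h hw.1 (ih hw.2) using 1
    rw [ww_cons]; group
/-- `KSG.BN.bruhat` with `H = D0`, `s i = nY Y (sm i)` (an involution), `A i = YS {sm i}`; `hU`: `step` with
`S' = {r | 24 ≤ r < 48, r ≠ sm i}` (`nf_t5`, `norm`); `hone`: `s Y_α(c) s⁻¹ = Y_{-α}(c') = Y_α(d) nc(d) Y_α(d)` for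
`d = ρ c'⁻¹`. -/
theorem bruhat (ht : SK ρ Y 0 = ⊤) (g : G) : ∃ u ∈ SK ρ Y 24, ∃ k ∈ D0 ρ Y, ∃ w : List ℕ, (∀ i ∈ w, i < 4) ∧
    ∃ u' ∈ SK ρ Y 24, g = u * k * ww Y w * u' := by
  let N : Subgroup G :=
    { carrier := {g | ∃ k ∈ D0 ρ Y, ∃ w : List ℕ, (∀ i ∈ w, i < 4) ∧ g = k * ww Y w}
      one_mem' := ⟨1, one_mem _, [], by simp, by simp [ww]⟩
      mul_mem' := by
        rintro _ _ ⟨k, hk, w, hw, rfl⟩ ⟨k', hk', w', hw', rfl⟩
        exact ⟨_, mul_mem hk (h.ww_D0 hw hk'), w ++ w', List.forall_mem_append.2 ⟨hw, hw'⟩, by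
          rw [i2r_app]; group⟩
      inv_mem' := by
        rintro _ ⟨k, hk, w, hw, rfl⟩
        have hw' : ∀ i ∈ w.reverse, i < 4 := by simpa using hw
        exact ⟨_, h.ww_D0 hw' (inv_mem hk), _, hw', by rw [i2r_rev h hw]; group⟩ }
  have s := fun i : Fin 4 => (F42S.tab_sm i i.2).1
  have nX : ∀ n ∈ N, ∃ π : ℕ → ℕ, ∀ r < 48, π r < 48 ∧ π (47 - r) = 47 - π r ∧
      ∀ c, Ok ρ r c → ∃ d, Ok ρ (π r) d ∧ n * Y r c * n⁻¹ = Y (π r) d := by
    rintro _ ⟨k, ⟨c, hk⟩, w, hw, rfl⟩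
    refine ⟨aw w, fun r hr => ⟨F42S.aw_lt hw hr, i2r_neg hw hr, fun e he => ?_⟩⟩
    have o := ok_tp (F42S.aw_tab hw hr hr).1 w he
    exact ⟨_, hk.okc (F42S.aw_lt hw hr) o, by rw [← hk.conj _ (F42S.aw_lt hw hr) _ o, ← h.ww_conj hw hr he]; group⟩
  have hHU : ∀ k ∈ D0 ρ Y, ∀ u ∈ SK ρ Y 24, k * u * k⁻¹ ∈ SK ρ Y 24 := fun k hk u hu =>
    i2r_DS (fun _ hr => hr.2) hk hu
  suffices H : ∃ b ∈ SK ρ Y 24 ⊔ D0 ρ Y, ∃ n ∈ N, ∃ b' ∈ SK ρ Y 24 ⊔ D0 ρ Y, g = b * n * b' by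
    obtain ⟨b, hb, _, ⟨k, hk, w, hw, rfl⟩, b', hb', e⟩ := H
    obtain ⟨u, hu, k1, hk1, rfl⟩ := KSG.BN.exists_mul_of_conj hHU hb
    obtain ⟨u', hu', k2, hk2, rfl⟩ := KSG.BN.exists_mul_of_conj hHU hb'
    exact ⟨u, hu, _, mul_mem (mul_mem hk1 hk) (h.ww_D0 hw hk2), w, hw, _, hHU _ (inv_mem hk2) _ hu', by
      rw [e]; group⟩
  refine KSG.BN.bruhat (U := SK ρ Y 24) (H := D0 ρ Y) (N := N) (A := fun i : Fin 4 => YS ρ Y {sm i})
    (s := fun i => nY Y (sm i)) (fun i => YS_mono (by rintro _ rfl; exact ⟨(nf_t5 i i.2).1, s i⟩)) hHU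
    (fun i k hk u hu => i2r_DS (by rintro _ rfl; exact s i) hk hu)
    (fun k hk => ⟨k, hk, [], by simp, by simp [ww]⟩)
    (fun i => ⟨1, one_mem _, [i], by simp, by simp [ww]⟩) (fun i => i2r_nn h (s i) ▸ one_mem _)
    (fun i u hu => ?_) (fun i x hx x1 => ?_) (fun i n hn => ?_) (fun K k1 _ k3 => ?_) g
  · obtain ⟨t1, t2, t3⟩ := nf_t5 i i.2
    have id : Idl {r | 24 ≤ r ∧ r < 48} {r | 24 ≤ r ∧ r < 48 ∧ r ≠ sm i} := fun r ⟨a, b⟩ s ⟨c, d, _⟩ =>
      ⟨b, d, by omega, fun k => ⟨a.trans ((nf_t2 r b s d).2.2.1 a c).1.le, k, (t3 r b a).2 s d c⟩⟩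
    obtain ⟨e, he, k⟩ := h.step (S' := {r | 24 ≤ r ∧ r < 48 ∧ r ≠ sm i}) (s i)
      (fun r hr => (em (r = sm i)).imp_right fun a => ⟨hr.1, hr.2, a⟩)
      ((YS_mono (by rintro _ rfl; exact ⟨t1, s i⟩)).trans (h.norm id fun r hr => id r ⟨hr.1, hr.2.1⟩)) (inv_mem hu)
    have k1 : YS ρ Y {r | 24 ≤ r ∧ r < 48 ∧ r ≠ sm i} ≤
        (SK ρ Y 24).comap (MulAut.conj (nY Y (sm i))).toMonoidHom :=
      YS_le.2 fun r ⟨a, b, c⟩ f hf => by
        change nY Y (sm i) * Y r f * (nY Y (sm i))⁻¹ ∈ SK ρ Y 24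
        rw [h.wn i i.2 r b f hf]
        exact mem_SK ((t3 r b a).1 c) (F42S.tab_sr i i.2 r b).1 (i2r_ok i.2 b hf)
    exact ⟨(Y (sm i) e * u⁻¹)⁻¹, k1 (inv_mem k), Y (sm i) e, mem_YS (Set.mem_singleton _) he, by group⟩
  · obtain ⟨c, hc, rfl⟩ := (h.mem_one (s i)).1 hx
    have c0 : c ≠ 0 := fun e => x1 (by rw [e, h.zero (s i)])
    have o := i2r_ok i.2 (s i) hc
    have w := h.wn i i.2 _ (s i) c hc
    have c1 : (if (i : ℕ) < 2 then ρ c else c) ≠ 0 := by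
      split_ifs
      exacts [by simpa using c0, c0]
    generalize (if (i : ℕ) < 2 then ρ c else c) = c' at o w c1
    have o' : Ok ρ (sm i) (ρ c'⁻¹) := fun a => by
      rw [h.ρρ, map_inv₀, o (by rw [(F42S.tab_sr i i.2 _ (s i)).2.2.1, a])]
    refine ⟨_, mem_YS (Set.mem_singleton _) o', _, h.nc_D0 i.2 o' (by simpa using c1), _, mem_YS (Set.mem_singleton _) o', ?_⟩
    have a := h.sq (s i) o'
    rw [w, (nf_t5 i i.2).2.1, mul_assoc (Y _ _), mul_assoc _ (nY _ _), i2r_nn h (s i), mul_one, nc, ← map_inv₀,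
      inv_inv, h.ρρ, ← mul_assoc, ← mul_assoc, a, one_mul, mul_assoc, a, mul_one]
  · obtain ⟨π, hπ⟩ := nX _ (inv_mem hn)
    simp only [inv_inv] at hπ
    by_cases e : 24 ≤ π (sm i)
    · left
      intro x hx
      obtain ⟨c, hc, rfl⟩ := (h.mem_one (s i)).1 hx
      obtain ⟨d, hd, k⟩ := (hπ _ (s i)).2.2 c hc
      exact k ▸ mem_SK e (hπ _ (s i)).1 hd
    · right
      intro x hx
      obtain ⟨c, hc, rfl⟩ := (h.mem_one (s i)).1 hx
      have o := i2r_ok i.2 (s i) hc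
      rw [(nf_t5 i i.2).2.1] at o
      obtain ⟨d, hd, k⟩ := (hπ (47 - sm i) (by omega)).2.2 _ o
      rw [h.wn i i.2 _ (s i) c hc, (nf_t5 i i.2).2.1, k]
      exact mem_SK (by rw [(hπ _ (s i)).2.1]; omega) (hπ _ (by omega)).1 hd
  · refine top_le_iff.1 (ht ▸ YS_le.2 fun r hr c hc => ?_)
    obtain ⟨u, u1, u2, u3⟩ := (i2r_lg r hr.2).2
    refine F42S.ind1 (P := fun r => ∀ c, Ok ρ r c → Y r c ∈ K) (fun i hi r hr p c hc => ?_) u1 hr.2 u3
      (fun c hc => k1 (mem_SK u2 u1 hc)) c hc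
    have o := i2r_ok hi (F42S.tab_sr i hi r hr).1 hc
    rw [(F42S.tab_sr i hi r hr).2.1] at o
    rw [← i2r_mu h.ρρ i c, ← h.wn i hi r hr _ o]
    exact mul_mem (mul_mem (k3 ⟨i, hi⟩) (p _ o)) (inv_mem (k3 ⟨i, hi⟩))
/-- `bruhat` for `res ρ Y`; `SA`, `ww_conj` -/
theorem pair2 : ∀ k ∈ SK ρ Y 0, ∃ u ∈ SK ρ Y 24, ∃ r < 48, ∃ e, Ty ρ r e ∧
    ∀ a, ρ a = a → k * Y 47 a * k⁻¹ = u * Y r (a * e) * u⁻¹ := by
  intro g hg
  have z := h.res'
  obtain ⟨u, hu, k, ⟨c, hk⟩, w, hw, u', hu', e⟩ := z.bruhat res_top ⟨g, hg⟩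
  have l47 : lg 47 = true := by decide +kernel
  have r1 := F42S.aw_lt hw (r := 47) (by omega)
  have r2 : lg (aw w 47) = true := (F42S.aw_tab hw (r := 47) (s := 47) (by omega) (by omega)).1.trans l47
  refine ⟨u, (res_mem (fun _ hr => hr.2) u).1 hu, aw w 47, r1, c (aw w 47),
    ⟨(hk.unit _ r1).ne_zero, hk.ok _ r1, fun a => by simp [r2] at a⟩, fun a ha => ?_⟩
  have o : Ok ρ 47 a := fun _ => ha
  have e1 : res ρ Y 47 a * u' = u' * res ρ Y 47 a := YS_comm (fun r hr f hf =>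
    z.comm (by omega) hr.2 (by have := hr.1; omega) ((i2r_lg r hr.2).1 hr.1) o hf) hu'
  have e2 := z.ww_conj hw (by omega) o
  rw [show tp ρ w a = a by unfold tp; split_ifs; exacts [ha, rfl]] at e2
  have e3 := hk.conj _ r1 a fun _ => ha
  rw [RingEquiv.refl_apply, mul_comm (c _)] at e3
  have e4 : (⟨g, hg⟩ : SK ρ Y 0) * res ρ Y 47 a * (⟨g, hg⟩ : SK ρ Y 0)⁻¹ = u * res ρ Y (aw w 47) (a * c (aw w 47)) * u⁻¹ := by
    rw [e, ← e3, ← e2, mul_assoc _ u', ← e1]; group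
  have e5 := congrArg Subtype.val e4
  rwa [coe_mul, coe_mul, coe_mul, coe_mul, coe_inv, coe_inv, coe_res (by omega) o,
    coe_res r1 fun _ => by rw [map_mul, ha, hk.ok _ r1 r2]] at e5

end Rel

end Cfsg.Agent.F4Q
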