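import Mathlib
import Cfsg.Agent.F4Q.I2R

/-! Two groups with the same relations (`E` a finite field); blueprint `F42S/Id1`, `Lr.ker_le`, `Rl.idf1`. -/

set_option autoImplicit false

namespace Cfsg.Agent.F4Q

open Cfsg.Lie Cfsg.Agent.Chev Subgroup Cfsg.Agent.PLocal.Amb
open Cfsg.Agent.F42S (lg ip ad gm sm sr Mo aw)
open Cfsg.Agent.FinS (Rt Rg Uf)
open scoped commutatorElement


variable {E : Type*} [Field E] [Finite E] {G M : Type*} [Group G] [Finite G] [Group M] [Finite M] {ρ : E ≃+* E}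
  {Y : ℕ → E → G} {Z : ℕ → E → M}

omit [Finite E] in
theorem i2c_pow (two : ∀ e : E, e + e = 0) {a : E} {m : ℕ} (h : a ^ 2 ^ m = 1) : a = 1 := by
  induction m with
  | zero => simpa using h
  | succ m ih =>
    rw [pow_succ, pow_mul, sq_eq_one_iff] at h
    exact ih (h.elim id fun e => e.trans (neg_eq_of_add_eq_zero_left (two 1)))

omit [Finite E] [Finite G] in
theorem Rel.i2c_nab (h : Rel ρ Y) (c : ∀ a ∈ SK ρ Y 0, ∀ b ∈ SK ρ Y 0, a * b = b * a) : False := by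
  have e : ⁅SK ρ Y 0, SK ρ Y 0⁆ = ⊥ := commutator_eq_bot_iff_le_centralizer.2 fun a ha b hb => c b hb a ha
  rw [h.perf] at e
  exact one_ne_zero (h.inj 47 (by omega) 1 (ok_one _) (mem_bot.1 (e.le (mem_SK (by omega) (by omega) (ok_one _)))))

namespace Rel
variable (h : Rel ρ Y) (z : Rel ρ Z)
include h z

/-- `exists_lead`, `lead` in `M` -/
theorem inj_S (θ : G →* M) (hZ : ∀ r < 48, ∀ e, Ok ρ r e → θ (Y r e) = Z r e) {u : G} (hu : u ∈ SK ρ Y 24)
    (e : θ u = 1) : u = 1 := by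
  by_contra u1
  obtain ⟨r, f, r1, r2, ok, f0, m⟩ := h.exists_lead hu u1
  have := (YS_congr θ hZ fun _ hr => hr.2).le (mem_map_of_mem θ m)
  rw [map_mul, e, mul_one, hZ r r2 f ok] at this
  exact f0 (z.lead r1 r2 ok this)
/-- `g = u k n u'` (`bruhat`), `n = ww Y w`.  `θ n = θ(k⁻¹ u⁻¹ u'⁻¹)` normalizes `SK ρ Z 24`, so `w` acts trivially (`neg`,
`aw_id`); for short `r ≥ 24`, `Z r (tp ρ w e) ≡ Z r (c e)` modulo `SK (r + 1)` (`SK_comm`, `lead`), so `tp ρ w e = e` and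
`n ∈ D0`.  So `g = u k`; `k ^ (|E| - 1)` is central (`Df.pow`, `Df.cent`), `θ k` is a `2`-element, so `θ k = 1`,
`u = 1`, and `k` is central (`Rel.eq` in `M`). -/
theorem ker_le (ht : SK ρ Y 0 = ⊤) (θ : G →* M) (hZ : ∀ r < 48, ∀ e, Ok ρ r e → θ (Y r e) = Z r e)
    (m4 : center M = ⊥) (m5 : SK ρ Z 0 = ⊤) : θ.ker ≤ center G := fun g hg => by
  have m : ∀ k, (SK ρ Y k).map θ = SK ρ Z k := fun k => YS_congr θ hZ fun _ hr => hr.2
  obtain ⟨u, hu, k, ⟨c, hk⟩, w, hw, u', hu', rfl⟩ := h.bruhat ht g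
  have hv : (u' * u)⁻¹ ∈ SK ρ Y 24 := inv_mem (mul_mem hu' hu)
  have e0 : θ (k * ww Y w) = θ (u' * u)⁻¹ := by
    rw [MonoidHom.mem_ker] at hg
    simp only [map_mul, map_inv] at hg ⊢
    rw [show (θ u' * θ u)⁻¹ = (θ u)⁻¹ * 1 * (θ u')⁻¹ by group, ← hg]
    group
  have hv' := (m 24).le (mem_map_of_mem θ hv)
  generalize ev : θ (u' * u)⁻¹ = v at e0 hv'
  have ok : ∀ r < 48, ∀ e, Ok ρ r e → Ok ρ (aw w r) (tp ρ w e) := fun r hr e he =>
    ok_tp (F42S.aw_tab hw hr hr).1 w he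
  have e1 : ∀ r < 48, ∀ e, Ok ρ r e → k * ww Y w * Y r e * (k * ww Y w)⁻¹ =
      Y (aw w r) (c (aw w r) * tp ρ w e) := fun r hr e he => by
    have := hk.conj _ (F42S.aw_lt hw hr) _ (ok r hr e he)
    rw [RingEquiv.refl_apply, ← h.ww_conj hw hr he] at this
    rw [← this]; group
  have e2 : ∀ r < 48, ∀ e, Ok ρ r e → v * Z r e * v⁻¹ = Z (aw w r) (c (aw w r) * tp ρ w e) := fun r hr e he => by
    rw [← hZ _ (F42S.aw_lt hw hr) (c (aw w r) * tp ρ w e) (hk.okc (F42S.aw_lt hw hr) (ok r hr e he)),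
      ← e1 r hr e he, map_mul θ _ _⁻¹,
      map_mul θ _ (Y r e), map_inv, e0, hZ r hr e he]
  have t1 : tp ρ w (1 : E) = 1 := by unfold tp; split_ifs <;> simp
  have a1 : ∀ r < 48, aw w r = r := aw_id hw fun r r1 r2 => not_lt.1 fun l => by
    have := PLocal.Amb.conj_mem_of_mem_normalizer (le_normalizer hv') (mem_SK (Y := Z) r1 r2 (ok_one (ρ := ρ) r))
    rw [e2 r r2 1 (ok_one r), t1, mul_one] at this
    exact (hk.unit _ (F42S.aw_lt hw r2)).ne_zero (z.neg l (hk.ok _ (F42S.aw_lt hw r2)) this)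
  have e3 : ∀ e, c 44 * tp ρ w e = e := fun e => by
    have o : ∀ e, Ok ρ 44 e := ok_short (by decide +kernel)
    have := z.SK_comm (k := 44) (by omega)
      (commutator_mem_commutator hv' (mem_SK (Y := Z) le_rfl (by omega) (o e)))
    rw [commutatorElement_def, e2 44 (by omega) e (o e), a1 44 (by omega), z.inv (by omega) (o e),
      z.add 44 (by omega) _ _ (o _) (o _)] at this
    exact z.eq_of_add (z.lead (by omega) (by omega) (o _) this)
  have e4 : ∀ e, tp ρ w e = e := fun e => by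
    have := e3 1
    rw [t1, mul_one] at this
    simpa [this] using e3 e
  have d : Df ρ Y (k * ww Y w) c (RingEquiv.refl E) :=
    ⟨hk.unit, hk.ok, hk.comm, fun r hr e he => by rw [e1 r hr e he, a1 r hr, e4]; rfl⟩
  obtain ⟨n, hn⟩ := isPGroup_iff.1 z.two_SK v hv'
  have d1 : k * ww Y w ∈ 𝐂[SK ρ Y 0] := d.cent fun r hr => i2c_pow z.two (m := n) (by
    have := congrArg θ ((d.pow (2 ^ n)).conj r hr 1 (ok_one r))
    have o := (d.pow (2 ^ n)).okc hr (ok_one r)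
    rw [map_mul, map_mul, map_inv, map_pow, e0, hn, hZ r hr _ o, hZ r hr _ (ok_one r), one_mul, inv_one,
      mul_one] at this
    simpa using (z.eq hr (ok_one r) o this).symm)
  have d2 : k * ww Y w ∈ center G := mem_center_iff.2 fun g => d1 g (ht.ge (mem_top g))
  have v1 : v = 1 := mem_bot.1 (m4.le (mem_center_iff.2 fun y => by
    obtain ⟨y, -, rfl⟩ := (m 0).ge (m5.ge (mem_top y))
    rw [← e0, ← map_mul, mem_center_iff.1 d2, map_mul]))
  have u1 := inv_eq_one.1 (h.inj_S z θ hZ hv (ev.trans v1))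
  rwa [mul_assoc u, mem_center_iff.1 d2, mul_assoc, mul_eq_one_comm.1 u1, mul_one]
/-- The diagonal trick: `Γ' = SK 0` of `res` of `prod`, projections `p, q`; `ker q ≤ Z(Γ')` (`ker_le`; `Z(M) = 1` as `M` is
perfect), `q (ker p) = ⊥` or `⊤`, and `⊤` makes the perfect group `G₀ ∋ Y 47 1 ≠ 1` abelian. -/
theorem exists_onto [IsSimpleGroup M] (m5 : SK ρ Z 0 = ⊤) : ∃ θ : SK ρ Y 0 →* M, Function.Surjective θ ∧
    θ.ker ≤ center (SK ρ Y 0) ∧ ∀ r < 48, ∀ e, Ok ρ r e → θ (res ρ Y r e) = Z r e := by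
  have hW := h.prod z
  let W : ℕ → E → G × M := fun r e => (Y r e, Z r e)
  let p := (MonoidHom.fst G M).comp (SK ρ W 0).subtype
  let q := (MonoidHom.snd G M).comp (SK ρ W 0).subtype
  have p1 : ∀ r < 48, ∀ e, Ok ρ r e → p (res ρ W r e) = Y r e := fun r a e b =>
    congrArg Prod.fst (coe_res (Y := W) a b)
  have q1 : ∀ r < 48, ∀ e, Ok ρ r e → q (res ρ W r e) = Z r e := fun r a e b =>
    congrArg Prod.snd (coe_res (Y := W) a b)
  have p3 : p.range = SK ρ Y 0 := by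
    rw [MonoidHom.range_eq_map, ← res_top]; exact YS_congr p p1 fun _ hr => hr.2
  have q3 : Function.Surjective q := MonoidHom.range_eq_top.1 (by
    rw [MonoidHom.range_eq_map, ← res_top, ← m5]; exact YS_congr q q1 fun _ hr => hr.2)
  have zM : center M = ⊥ := (center M).normal_of_characteristic.eq_bot_or_eq_top.resolve_right fun k =>
    z.i2c_nab fun a _ b _ => mem_center_iff.1 (k.ge (mem_top _)) _
  have kq := hW.res'.ker_le z res_top q q1 zM m5
  have kp : p.ker ≤ q.ker := (Subgroup.map_eq_bot_iff _).1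
    ((p.normal_ker.map q q3).eq_bot_or_eq_top.resolve_right fun k => h.i2c_nab fun a ha b hb => by
      obtain ⟨a, rfl⟩ := p3.ge ha
      obtain ⟨b, rfl⟩ := p3.ge hb
      obtain ⟨d, d1, d2⟩ := k.ge (mem_top (q a))
      have := congrArg p (mem_center_iff.1 (kq (x := a * d⁻¹) (by simp [d2])) b)
      simpa [show p d = 1 from d1] using this.symm)
  let p' : SK ρ W 0 →* SK ρ Y 0 := p.codRestrict _ fun y => p3.le ⟨y, rfl⟩
  have s : Function.Surjective p' := fun ⟨y, hy⟩ => by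
    obtain ⟨y, rfl⟩ := p3.ge hy
    exact ⟨y, rfl⟩
  let θ := p'.liftOfSurjective s ⟨q, fun y hy => kp (congrArg Subtype.val hy)⟩
  have e : ∀ y, θ (p' y) = q y := fun y => MonoidHom.liftOfRightInverse_comp_apply _ _ _ _ y
  refine ⟨θ, fun m => ?_, fun y hy => ?_, fun r hr f hf => ?_⟩
  · obtain ⟨y, rfl⟩ := q3 m
    exact ⟨_, e y⟩
  · obtain ⟨y, rfl⟩ := s y
    refine mem_center_iff.2 fun g => ?_
    obtain ⟨g, rfl⟩ := s g
    rw [← map_mul, ← map_mul, mem_center_iff.1 (kq (x := y) (by rwa [MonoidHom.mem_ker, ← e])) g]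
  · rw [show res ρ Y r f = p' (res ρ W r f) from
      Subtype.ext ((coe_res hr hf).trans (p1 r hr f hf).symm), e, q1 r hr f hf]

end Rel

end Cfsg.Agent.F4Q
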