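import Mathlib
import Cfsg.Agent.F4Q.GfE

/-! Identification for the type `F₄(q²)`: `ρ = 1`, `E` a field, `G₀ = ψ (Γ E)`. -/

set_option autoImplicit false
set_option linter.unusedSectionVars false

namespace Cfsg.Agent.F4Q

open Cfsg.Lie Cfsg.Agent.Chev Subgroup Cfsg.Agent.PLocal.Amb
open Cfsg.Agent.F42S (lg ip ad gm sm sr Mo aw)
open Cfsg.Agent.FinS (Rt Rg Uf)
open scoped commutatorElement


variable {F : Type*} [Field F] [Finite F] [CharP F 2] {E : Type*} [Field E] [Finite E] [CharP E 2] {G : Type*}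
  [Group G] [Finite G] {j : Γ F →* G} {t : G} {O : Subgroup G} {ι : F →+* E} {τ : E ≃+* E} {Y : ℕ → E → G}
  {ψ : Γ E →* G}

/-- the parametrization of `G₀` -/
structure Ps (ψ : Γ E →* G) (Y : ℕ → E → G) : Prop where
  inj : Function.Injective ψ
  map : ∀ r < 48, ∀ e, ψ (xx r e) = Y r e

theorem Ps.SK (p : Ps ψ Y) (k : ℕ) : (UU E k).map ψ = SK (I0 E) Y k :=
  le_antisymm (map_le_iff_le_comap.2 (YS_le.2 fun r hr e he => by rw [mem_comap, p.map r hr.2]; exact mem_YS hr he))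
    (YS_le.2 fun r hr e he => ⟨_, mem_YS hr he, p.map r hr.2 e⟩)
theorem Ps.range (p : Ps ψ Y) : ψ.range = F4Q.SK (I0 E) Y 0 := by
  rw [← p.SK 0, top_eq, ← MonoidHom.range_eq_map]
theorem Ps.hom (p : Ps ψ Y) {g : G} (hg : g ∈ 𝐍[F4Q.SK (I0 E) Y 0]) :
    ∃ α : Γ E ≃* Γ E, ∀ a, g * ψ a * g⁻¹ = ψ (α a) := by
  have k : ∀ a, ∃ b, g * ψ a * g⁻¹ = ψ b := fun a => by
    have := PLocal.Amb.conj_mem_of_mem_normalizer hg (p.range.le ⟨a, rfl⟩)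
    rw [← p.range] at this
    exact this.imp fun _ => Eq.symm
  choose f hf using k
  have hm : ∀ a b, f (a * b) = f a * f b := fun a b => p.inj (by
    rw [map_mul, ← hf, ← hf, ← hf, map_mul, conj_mul])
  have hi : Function.Injective (MonoidHom.mk' f hm) := fun a b e => p.inj (by
    have : g * ψ a * g⁻¹ = g * ψ b * g⁻¹ := by rw [hf, hf]; exact congrArg ψ e
    simpa using this)
  exact ⟨MulEquiv.ofBijective _ (Finite.injective_iff_bijective.1 hi), hf⟩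

/-- `g` acts on `G₀` as `α` -/
def I4A (ψ : Γ E →* G) (g : G) (α : MulAut (Γ E)) : Prop := ∀ a, g * ψ a * g⁻¹ = ψ (α a)

theorem I4A.one : I4A ψ 1 1 := fun a => by simp
theorem I4A.mul {g g' : G} {α β : MulAut (Γ E)} (h : I4A ψ g α) (h' : I4A ψ g' β) : I4A ψ (g * g') (α * β) := fun a => by
  rw [MulAut.mul_apply, ← h, ← h']; group
theorem I4A.inv {g : G} {α : MulAut (Γ E)} (h : I4A ψ g α) : I4A ψ g⁻¹ α⁻¹ := fun a => by
  have := h (α⁻¹ a)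
  rw [MulAut.apply_inv_self] at this
  rw [← this]; group
theorem I4A.pow {g : G} {α : MulAut (Γ E)} (h : I4A ψ g α) (n : ℕ) : I4A ψ (g ^ n) (α ^ n) := by
  induction n with
  | zero => simpa using I4A.one
  | succ n ih => rw [pow_succ, pow_succ]; exact ih.mul h
theorem I4A.conj (l : Γ E) : I4A ψ (ψ l) (MulAut.conj l) := fun a => by simp
theorem I4A.uniq (p : Ps ψ Y) {g : G} {α β : MulAut (Γ E)} (h : I4A ψ g α) (h' : I4A ψ g β) : α = β :=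
  MulEquiv.ext fun a => p.inj ((h a).symm.trans (h' a))
theorem Ps.i4_mem (p : Ps ψ Y) {x : G} : x ∈ F4Q.SK (I0 E) Y 0 ↔ ∃ a, ψ a = x := by rw [← p.range]; rfl
theorem I4A.norm (p : Ps ψ Y) {g : G} {α : MulAut (Γ E)} (h : I4A ψ g α) : g ∈ 𝐍[SK (I0 E) Y 0] :=
  mem_normalizer_of_cj_le (cj_le_iff_forall.2 fun y hy => by
    obtain ⟨a, rfl⟩ := p.i4_mem.1 hy
    exact p.i4_mem.2 ⟨_, (h a).symm⟩)
theorem I4A.cen (p : Ps ψ Y) {g : G} (h : I4A ψ g 1) : g ∈ 𝐂[SK (I0 E) Y 0] := mem_centralizer_iff.2 fun y hy => by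
  obtain ⟨a, rfl⟩ := p.i4_mem.1 hy
  exact (mul_inv_eq_iff_eq_mul.1 (h a)).symm
theorem I4A.sq (p : Ps ψ Y) {g : G} {α : MulAut (Γ E)} (h : I4A ψ g α) (e : g * g = 1) : α * α = 1 :=
  (h.mul h).uniq p (e ▸ I4A.one)

theorem i4_inr {α : MulAut (Γ E)} (h : α * α = 1) : ∃ l, Inr (α.trans α) l :=
  ⟨1, fun b => by simpa using DFunLike.congr_fun h b⟩

theorem i4_dih {c t : G} (tt : t * t = 1) (h : c * t * (c * t) = 1) {n : ℕ} (hn : Odd n) (hc : c ^ n = 1) :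
    ∃ m : ℕ, c * t = c ^ m * t * (c ^ m)⁻¹ := by
  obtain ⟨m, rfl⟩ := hn
  have e : SemiconjBy t c⁻¹ c := by
    have i : t⁻¹ = t := inv_eq_of_mul_eq_one_right tt
    rw [SemiconjBy, ← inv_eq_of_mul_eq_one_right h, mul_inv_rev, i]
  refine ⟨m + 1, ?_⟩
  rw [← inv_pow, mul_assoc, (e.pow_right (m + 1)).eq, ← mul_assoc, ← pow_add,
    show m + 1 + (m + 1) = 2 * m + 1 + 1 by ring, pow_succ _ (2 * m + 1), hc, one_mul]

namespace RU
variable (h : RU j t O ι τ (I0 E) Y) (p : Ps ψ Y)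
include h p

/-- `pairΓ`, `sl2Γ` -/
theorem pr4 : Pr (I0 E) Y := by
  refine ⟨h.rel, ⟨one_ne_zero, fun e _ e0 => ⟨e⁻¹, rfl, mul_inv_cancel₀ e0⟩, .inl fun _ => rfl⟩, fun k hk => ?_, fun a _ e => ?_⟩
  · obtain ⟨l, rfl⟩ := p.i4_mem.1 hk
    obtain ⟨u, hu, s, hs, l1, e, e0, k⟩ := pairΓ (r := 47) (.inr rfl) l
    refine ⟨ψ u, (p.SK 24).le (mem_map_of_mem ψ hu), s, hs, e, ⟨e0, fun _ => rfl, fun l2 => ?_⟩, fun a _ => ?_⟩
    · exact absurd (l1.symm.trans l2) (by decide +kernel)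
    · rw [← p.map 47 (by omega), ← p.map s hs]
      simpa only [map_mul, map_inv] using congrArg ψ (k a)
  · rw [← p.map 47 (by omega), ← p.map 0 (by omega), ← map_mul, ← map_pow, map_eq_one_iff ψ p.inj] at e
    rw [← p.map 47 (by omega), ← p.map 0 (by omega), ← map_mul, ← map_pow, ← map_pow, map_eq_one_iff ψ p.inj,
      map_eq_one_iff ψ p.inj]
    exact sl2Γ a e
theorem syl4 : IsSyl 2 (SK (I0 E) Y 24) (SK (I0 E) Y 0) := by
  have := (sylΓ (F := E)).map ψ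
  rwa [p.SK, ← MonoidHom.range_eq_map, p.range] at this
theorem i4_odd {c : G} (hc : I4A ψ c 1) : ∃ n, Odd n ∧ c ^ n = 1 :=
  ⟨_, h.oddC, congrArg Subtype.val (pow_card_eq_one' (x := (⟨c, hc.cen p⟩ : 𝐂[SK (I0 E) Y 0])))⟩
/-- `g = ψ(l) c` with `c ∈ C(G₀)` of odd order (`oddC`) -/
theorem mem4 {g : G} (h2 : g * g = 1) {l : Γ E} (e : ∀ a, g * ψ a * g⁻¹ = ψ (l * a * l⁻¹)) : g = ψ l := by
  have a : I4A ψ ((ψ l)⁻¹ * g) 1 := by
    have := (I4A.conj (ψ := ψ) l).inv.mul (show I4A ψ g (MulAut.conj l) from e)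
    rwa [inv_mul_cancel] at this
  obtain ⟨n, hn, k⟩ := h.i4_odd p a
  have c : Commute (ψ l) ((ψ l)⁻¹ * g) := (mul_inv_eq_iff_eq_mul.1 (a l)).symm
  have e1 : g = ψ (l ^ n) := by
    rw [← frm_odd h2 hn, ← mul_inv_cancel_left (ψ l) g, c.mul_pow, k, mul_one, map_pow]
  rw [e1, ← map_inv, ← map_mul] at a
  have e2 : l⁻¹ * l ^ n = 1 := eq_one_of_comm fun r _ b => p.inj (by
    rw [map_mul _ (l⁻¹ * l ^ n), map_mul _ _ (l⁻¹ * l ^ n)]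
    exact mul_inv_eq_iff_eq_mul.1 (a _))
  rw [e1, ← inv_mul_eq_one.1 e2]
/-- `cls` in `Γ E`; `ψ (x_r(1)) = j (x_r(1))` -/
theorem cls4 : ∀ x ∈ SK (I0 E) Y 0, x * x = 1 → ∃ k ∈ SK (I0 E) Y 0, ∃ a, k * x * k⁻¹ = j a := by
  intro x hx h2
  obtain ⟨a, rfl⟩ := p.i4_mem.1 hx
  by_cases a1 : a = 1
  · exact ⟨1, one_mem _, 1, by simp [a1]⟩
  have k : ∀ (b : Γ E) (b' : Γ F), ψ b = j b' → IsConj b a → ∃ k ∈ SK (I0 E) Y 0, ∃ a', k * ψ a * k⁻¹ = j a' :=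
    fun b b' e c => by
      obtain ⟨d, hd⟩ := isConj_iff.1 c
      exact ⟨ψ d⁻¹, p.i4_mem.2 ⟨_, rfl⟩, b', by rw [← e, ← hd]; simp [mul_assoc]⟩
  have y : ∀ r < 48, ψ (xx r 1) = j (xx r 1) := fun r hr => (p.map r hr 1).trans (h.ud_y1 hr)
  rcases cls (p.inj (by rw [map_mul, h2, map_one])) a1 with e | e | e | e
  · exact k _ _ (y 47 (by omega)) e
  · exact k _ _ (y 44 (by omega)) e
  · exact k _ (xx 47 1 * xx 44 1) (by rw [map_mul, map_mul, y 47 (by omega), y 44 (by omega)]) e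
  · exact k _ (xx 39 1 * xx 45 1) (by rw [map_mul, map_mul, y 39 (by omega), y 45 (by omega)]) e
/-- `out_comm`: the elements inducing inner automorphisms form a subgroup containing the commutators; `mem4` -/
theorem ab4 : ∀ x ∈ ⁅𝐍[SK (I0 E) Y 0], 𝐍[SK (I0 E) Y 0]⁆, x * x = 1 → x ∈ SK (I0 E) Y 0 := by
  let I : Subgroup G :=
    { carrier := {g | ∃ l, I4A ψ g (MulAut.conj l)}
      one_mem' := ⟨1, by simpa using I4A.one⟩
      mul_mem' := fun ⟨l, a⟩ ⟨l', b⟩ => ⟨l * l', by simpa using a.mul b⟩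
      inv_mem' := fun ⟨l, a⟩ => ⟨l⁻¹, by simpa using a.inv⟩ }
  have k : ⁅𝐍[SK (I0 E) Y 0], 𝐍[SK (I0 E) Y 0]⁆ ≤ I := commutator_le.2 fun g hg g' hg' => by
    obtain ⟨α, hα⟩ := p.hom hg
    obtain ⟨β, hβ⟩ := p.hom hg'
    obtain ⟨l, e⟩ := out_comm α β
    refine ⟨l, fun a => (((I4A.mul hα hβ).mul (I4A.inv hα)).mul (I4A.inv hβ) a).trans ?_⟩
    simp [e]
  intro x hx h2
  obtain ⟨l, e⟩ := k hx
  exact p.i4_mem.2 ⟨l, (h.mem4 p h2 e).symm⟩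
/-- `out_odd` -/
theorem rtN4 : ∀ g ∈ 𝐍[SK (I0 E) Y 0], Odd (orderOf g) →
    g * Y 47 1 * g⁻¹ ∈ Rt (SK (I0 E) Y 0) (Y 47 1) := by
  intro g hg o
  obtain ⟨α, hα⟩ := p.hom hg
  have e : (α : MulAut (Γ E)) ^ orderOf g = 1 := (I4A.pow hα _).uniq p (pow_orderOf_eq_one g ▸ I4A.one)
  obtain ⟨c, hc⟩ := isConj_iff.1 (out_odd α o ⟨1, fun b => by rw [e]; simp⟩)
  refine ⟨ψ c, p.i4_mem.2 ⟨c, rfl⟩, ?_⟩
  rw [← p.map 47 (by omega), hα, ← hc, map_mul, map_mul, map_inv]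
theorem i4_t : ∃ β : MulAut (Γ E), I4A ψ t β ∧ Fa τ β ∧ β * β = 1 ∧ ¬ ∃ l, Inr β l := by
  obtain ⟨β, hβ⟩ := p.hom (h.t_norm fun _ hr => hr.2)
  refine ⟨β, hβ, fun r hr a => p.inj ?_, I4A.sq p hβ h.tt, fun ⟨l, e⟩ => h.tn' (h.syl4 p) (p.i4_mem.2
    ⟨l, (h.mem4 p h.tt fun a => (hβ a).trans (congrArg ψ (e a))).symm⟩)⟩
  rw [← hβ, p.map r hr, p.map r hr, h.act r hr a (ok_refl r a)]
/-- `out_two` for `x`, `t`; `t` is not inner (`mem4`, `tn'`).  `x` inner: `mem4`, `cls4`.  Otherwise `x` acts as `l φ_τ l⁻¹`;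
`fa_inv`, `lang`: a conjugate of `x` is `c t`, `c ∈ C(G₀)` of odd order inverted by `t`, so `c t = cᵐ t c⁻ᵐ`. -/
theorem cen4 : ∀ x ∈ 𝐍[SK (I0 E) Y 0], x * x = 1 →
    ∃ k ∈ 𝐍[SK (I0 E) Y 0], x * (k * t * k⁻¹) = k * t * k⁻¹ * x := by
  intro x hx h2
  obtain ⟨α, hα⟩ := p.hom hx
  obtain ⟨β, hβ, fβ, b2, nβ⟩ := h.i4_t p
  have a2 := I4A.sq p hα h2
  by_cases c : ∃ l, Inr α l
  · obtain ⟨l, e⟩ := c
    obtain ⟨k, hk, a, e1⟩ := h.cls4 p x (p.i4_mem.2 ⟨l, (h.mem4 p h2 fun a => (hα a).trans (congrArg ψ (e a))).symm⟩) h2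
    refine ⟨k⁻¹, inv_mem (le_normalizer hk), ?_⟩
    calc _ = k⁻¹ * (k * x * k⁻¹ * t) * k := by group
      _ = _ := by rw [e1, ← (h.tj a).eq, ← e1]; group
  obtain ⟨l, e⟩ := ((out_two α β (i4_inr a2) (i4_inr b2)).resolve_left c).resolve_left nβ
  have bb : ∀ b, β (β b) = b := fun b => DFunLike.congr_fun b2 b
  have e' : ∀ b, α b = β l * β b * (β l)⁻¹ := fun b => by
    rw [← map_inv, ← map_mul, ← map_mul, ← e b]
    exact (bb _).symm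
  obtain ⟨k1, k2, k3⟩ := fa_inv fβ e' (fun b => DFunLike.congr_fun a2 b) fun l e => c ⟨l, e⟩
  obtain ⟨g, hg⟩ := lang k1 k2 fβ k3
  have y : I4A ψ ((ψ g)⁻¹ * x * ψ g * t⁻¹) 1 := by
    have := (((I4A.conj (ψ := ψ) g).inv.mul hα).mul (I4A.conj g)).mul hβ.inv
    refine fun a => (this a).trans (congrArg ψ ?_)
    obtain ⟨a, rfl⟩ := β.surjective a
    simp only [MulAut.mul_apply, MulAut.inv_apply_self, MulAut.conj_apply, MulAut.conj_inv_apply, e', hg, map_mul, map_inv,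
      MulAut.one_apply]
    group
  obtain ⟨n, hn, k⟩ := h.i4_odd p y
  obtain ⟨m, e1⟩ := i4_dih h.tt (by
    rw [inv_mul_cancel_right]
    calc _ = (ψ g)⁻¹ * (x * x) * ψ g := by group
      _ = 1 := by rw [h2, mul_one, inv_mul_cancel]) hn k
  rw [inv_mul_cancel_right] at e1
  have m1 := pow_mem (centralizer_le_normalizer' _ (y.cen p)) m
  generalize ((ψ g)⁻¹ * x * ψ g * t⁻¹) ^ m = d at e1 m1
  refine ⟨ψ g * d, mul_mem ((I4A.conj g).norm p) m1, ?_⟩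
  rw [show ψ g * d * t * (ψ g * d)⁻¹ = x by
    calc _ = ψ g * (d * t * d⁻¹) * (ψ g)⁻¹ := by group
      _ = x := by rw [← e1]; group]
/-- `spl_of` with `D = {d | ∃ n : ℕ, d` acts as `γ ^ n}` (`cd_gen`, `cd_pow`, `Gam.XL`; a subgroup, being a submonoid of a
finite group).  If `d = ψ(l) ∈ D`, `l ∈ U`, then (`rg_cj`, `rg_lead`) `γ ^ n = 1`, so `l = 1`. -/
theorem spl4 : ∃ P P0 : Subgroup G, IsSyl 2 P 𝐍[SK (I0 E) Y 0] ∧ SK (I0 E) Y 24 ≤ P ∧ P0 ≤ P ∧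
    P0 ⊓ SK (I0 E) Y 0 = ⊥ ∧ P ≤ SK (I0 E) Y 24 ⊔ P0 := by
  obtain ⟨γ, hγ⟩ := exists_gam (F := E)
  have : Finite (MulAut (Γ E)) := Finite.of_injective _ (DFunLike.coe_injective (F := MulAut (Γ E)))
  let D : Subgroup G :=
    { carrier := {d | ∃ α ∈ zpowers (γ : MulAut (Γ E)), I4A ψ d α}
      one_mem' := ⟨1, one_mem _, I4A.one⟩
      mul_mem' := fun ⟨_, a, a'⟩ ⟨_, b, b'⟩ => ⟨_, mul_mem a b, a'.mul b'⟩
      inv_mem' := fun ⟨_, a, a'⟩ => ⟨_, inv_mem a, a'.inv⟩ }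
  obtain ⟨P0, hP⟩ := exists_isSyl 2 D
  have gU : ∀ n : ℕ, ∀ u ∈ UU E 24, ((γ : MulAut (Γ E)) ^ n) u ∈ UU E 24 := fun n u hu => by
    induction n with
    | zero => exact hu
    | succ n ih =>
      rw [pow_succ', MulAut.mul_apply]
      exact (hγ.XL (fun _ h => h.2) clsC_gm (fun _ h => h.2) _).2 ih
  obtain ⟨k1, k2⟩ := spl_of (h.syl4 p) (D := D) (fun d ⟨_, _, a⟩ => a.norm p) (fun d ⟨α, a, a'⟩ =>
    mem_normalizer_of_cj_le (cj_le_iff_forall.2 fun y hy => by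
      obtain ⟨n, rfl⟩ := mem_powers_iff_mem_zpowers.2 a
      obtain ⟨u, hu, rfl⟩ := (p.SK 24).ge hy
      rw [a']
      exact (p.SK 24).le (mem_map_of_mem ψ (gU n u hu)))) (fun g hg => by
    obtain ⟨α, hα⟩ := p.hom hg
    obtain ⟨l, n, e⟩ := cd_gen hγ α
    refine ⟨ψ l, p.i4_mem.2 ⟨l, rfl⟩, (ψ l)⁻¹ * g, ⟨_, npow_mem_zpowers _ n, ?_⟩, by group⟩
    have := (I4A.conj (ψ := ψ) l).inv.mul hα
    rwa [e, inv_mul_cancel_left] at this) hP (eq_bot_iff.2 fun x hx => by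
    obtain ⟨α, a, a'⟩ := hP.le hx.1
    obtain ⟨n, rfl⟩ := mem_powers_iff_mem_zpowers.2 a
    obtain ⟨u, hu, rfl⟩ := (p.SK 24).ge hx.2
    have e : ∀ b, ((γ : MulAut (Γ E)) ^ n) b = u * b * u⁻¹ := fun b =>
      DFunLike.congr_fun (a'.uniq p (I4A.conj u)) b
    obtain ⟨k, rfl | rfl⟩ := Nat.even_or_odd' n
    · have e1 : ∀ a : E, a ^ 2 ^ k = a := fun a => relΓ.eq (r := 47) (by omega) (ok_refl _ _) (ok_refl _ _) (by
        rw [← cd_pow hγ k (by omega), e, (cd_z hu 0 a).2])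
      rw [eq_one_of_comm (g := u) fun r hr a => mul_inv_eq_iff_eq_mul.1 (by rw [← e, cd_pow hγ k hr, e1]), map_one]
      exact one_mem _
    · have := e (xx 47 1)
      rw [pow_succ', MulAut.mul_apply, cd_pow hγ k (by omega), one_pow, hγ 47 (by omega), show gm 47 = 44 by decide +kernel,
        if_pos (by decide +kernel)] at this
      exact absurd (isConj_iff.2 ⟨u, this.symm⟩) ncls.1)
  exact ⟨_, P0, k1, le_sup_left, le_sup_right, k2, le_rfl⟩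
/-- `cent`, `out_two`.  `d` inner: `mem4`, `cls4`, `noL`.  `d t` inner: `mem4`, `fixG'`, `inv_inn`. -/
theorem inn4 {d : G} (h1 : IsConj t d) (h2 : Commute d t) : ∃ a, d = j a ∨ d = t * j a := by
  have dd : d * d = 1 := by
    obtain ⟨c, rfl⟩ := isConj_iff.1 h1
    rw [conj_mul, h.tt, mul_one, mul_inv_cancel]
  obtain ⟨α, hα⟩ := p.hom (h.cent h2)
  obtain ⟨β, hβ, -, b2, nβ⟩ := h.i4_t p
  rcases out_two α β (i4_inr (I4A.sq p hα dd)) (i4_inr b2) with ⟨l, e⟩ | e | ⟨l, e⟩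
  · obtain ⟨k, -, a, e1⟩ := h.cls4 p d (p.i4_mem.2 ⟨l, (h.mem4 p dd fun a => (hα a).trans (congrArg ψ (e a))).symm⟩) dd
    exact absurd (h1.trans (isConj_iff.2 ⟨k, e1⟩)) (h.noL a)
  · exact absurd e nβ
  · have td : t * d * (t * d) = 1 := by rw [h2.mul_mul_mul_comm, h.tt, dd, mul_one]
    obtain ⟨a, k, hk, e1⟩ := h.fixG' (h.pr4 p) (p.i4_mem.2
      ⟨l, (h.mem4 p td fun a => (hβ.mul hα a).trans (congrArg ψ (e a))).symm⟩) ((Commute.refl t).mul_left h2)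
    have e2 : d = t * (j a * k) := by rw [← e1, ← mul_assoc, h.tt, one_mul]
    obtain rfl | rfl := (h.toFr.inv_inn hk (e1 ▸ td)).2
    · exact ⟨a, .inr (by rw [e2, mul_one])⟩
    · exact ⟨a, .inl (by rw [e2, ← (h.tj a).eq, ← mul_assoc, h.tt, one_mul])⟩

end RU

/-- `exists_hom` -/
theorem RU.id4 (h : RU j t O ι τ (I0 E) Y) :
    GF j t (I0 E) Y ∧ Nonempty (SK (I0 E) Y 0 ≃* chevF4.group E) := by
  obtain ⟨ψ, h1, h2⟩ := exists_hom h.rel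
  have p : Ps ψ Y := ⟨h1, h2⟩
  have f := h.pr4 p
  exact ⟨⟨f.fld, f.pair, f.sl2, h.syl4 p, h.cen4 p, h.ab4 p, h.spl4 p, h.rtN4 p, fun _ => h.inn4 p⟩,
    ⟨(MulEquiv.subgroupCongr p.range.symm).trans (MonoidHom.ofInjective h1).symm⟩⟩

end Cfsg.Agent.F4Q
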