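import Mathlib
import Cfsg.Agent.F4Q.Frm
import Cfsg.Agent.WfT.Bas

/-! The local conditions `WfT.Loc` for `F₄(q)`. -/

set_option autoImplicit false
set_option linter.unusedSectionVars false

namespace Cfsg.Agent.F4Q

open Cfsg.Lie Cfsg.Agent.Chev Subgroup Cfsg.Agent.PLocal.Amb
open Cfsg.Agent.F42S (lg ip ad gm sm sr Mo aw)
open Cfsg.Agent.WfS (Zt)
open scoped commutatorElement

variable {F : Type*} [Field F] [Finite F] [CharP F 2] {G : Type*} [Group G] [Finite G]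

namespace SpL

variable {K : Subgroup (Γ F)} {u : Γ F} {r s k : ℕ}

/-- `r` is the leading root of `u` -/
def Ld (r : ℕ) (u : Γ F) : Prop := ∃ e ≠ 0, xx r e * u ∈ UU F (r + 1)

theorem Ld.dec (hr : r < 48) (h : Ld r u) : ∃ e ≠ 0, ∃ g ∈ UU F (r + 1), u = xx r e * g :=
  let ⟨e, e0, h⟩ := h; ⟨e, e0, _, h, by rw [← mul_assoc, rg_sq hr, one_mul]⟩

theorem Ld.step (c : 24 ≤ r ∧ r < 48 ∧ 24 ≤ s ∧ s < 48 ∧ Nz r s ∧ ad r s = k) (h : Ld r u) :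
    Ld k ⁅u, xx s (1 : F)⁆ := by
  obtain ⟨c1, c2, c3, c4, c5, rfl⟩ := c
  obtain ⟨e, e0, g, hg, rfl⟩ := h.dec c2
  obtain ⟨e', e1, -, e2⟩ := relΓ.comm_nz c1 c2 c3 c4 c5 (ok_refl r e) e0
  have lo := ((nf_t2 r c2 s c4).2.2.1 c1 c3).1
  have n := relΓ (F := F).SK_norm (k := ad r s + 1) (by omega)
  have h1 := PLocal.Amb.conj_mem_of_mem_normalizer
    (n (mul_mem (cd_U (r := ad r s) (by omega) c5.1 e') (cd_U c1 c2 e)))
    (relΓ.comm_lead c1 c2 c3 c4 c5.1 hg (ok_refl s 1))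
  refine ⟨e', e1, ?_⟩
  convert mul_mem h1 e2 using 1
  simp only [commutatorElement_def]
  group

theorem cm_peel {G : Type*} [Group G] {x g y : G} (h : Commute y g) : ⁅x * g, y⁆ = ⁅x, y⁆ := by
  rw [commutatorElement_def, commutatorElement_def, mul_assoc x, ← h.eq]; group

/-- some `u` has the leading root `r` and `⁅u, U⁆ ≤ K` -/
def LR (K : Subgroup (Γ F)) (r : ℕ) : Prop := ∃ u : Γ F, Ld r u ∧ ∀ y ∈ UU F 24, ⁅u, y⁆ ∈ K

theorem cm_K (hK : UU F 24 ≤ 𝐍[K]) (hu : u ∈ K) : ∀ y ∈ UU F 24, ⁅u, y⁆ ∈ K := fun y hy => by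
  have := mul_mem hu (PLocal.Amb.conj_mem_of_mem_normalizer (hK hy) (inv_mem hu))
  rwa [← mul_assoc, ← mul_assoc] at this

theorem LR.step (hK : UU F 24 ≤ 𝐍[K]) (s k : ℕ) (h : LR K r)
    (c : 24 ≤ r ∧ r < 48 ∧ 24 ≤ s ∧ s < 48 ∧ Nz r s ∧ ad r s = k := by decide +kernel) : LR K k :=
  let ⟨_, h1, h2⟩ := h
  ⟨_, h1.step c, cm_K hK (h2 _ (cd_U c.2.2.1 c.2.2.2.1 1))⟩

theorem k46 (a m : F) : ⁅xx 46 a, xx 24 m⁆ = (xx 47 (m * a) : Γ F) := RZ.kl 24 46 47 (by decide +kernel) a m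

theorem LR.z44 (h : LR K 40) (a : F) : xx 44 a ∈ K := by
  obtain ⟨u, h1, h2⟩ := h
  obtain ⟨e, e0, g, hg, rfl⟩ := h1.dec (by norm_num)
  have := h2 _ (cd_U (r := 33) (by norm_num) (by norm_num) (a / e))
  rwa [cm_peel (RZ.cU (by decide +kernel) _ hg), RZ.k40, div_mul_cancel₀ _ e0] at this

theorem LR.z47 (h : LR K 46) (a : F) : xx 47 a ∈ K := by
  obtain ⟨u, h1, h2⟩ := h
  obtain ⟨e, e0, g, hg, rfl⟩ := h1.dec (by norm_num)
  have := h2 _ (cd_U (r := 24) (by norm_num) (by norm_num) (a / e))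
  rwa [cm_peel (RZ.cU (by decide +kernel) _ hg), k46, div_mul_cancel₀ _ e0] at this

theorem LR.both (hK : UU F 24 ≤ 𝐍[K]) (h1 : 24 ≤ r) (h2 : r < 27) (h : LR K r) (a b : F) :
    xx 44 a * xx 47 b ∈ K := by
  have k : LR K 29 → xx 44 a ∈ K := fun h => ((h.step hK 33 36).step hK 30 40).z44 a
  obtain rfl | rfl | rfl : r = 24 ∨ r = 25 ∨ r = 26 := by omega
  · exact mul_mem (k (h.step hK 28 29)) ((((h.step hK 41 42).step hK 30 45).step hK 25 46).z47 b)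
  · exact mul_mem (k ((h.step hK 27 28).step hK 24 29)) ((h.step hK 45 46).z47 b)
  · exact mul_mem (k (h.step hK 27 29)) (((h.step hK 41 43).step hK 30 46).z47 b)

theorem tab : ∀ r < 48, 24 ≤ r → r = 40 ∨ r = 44 ∨ r = 46 ∨ r = 47 ∨
    ∃ s < 48, 24 ≤ s ∧ Nz r s ∧ r < ad r s ∧ ad r s ≠ 44 ∧ ad r s ≠ 47 := by decide +kernel

theorem LR.one (hK : UU F 24 ≤ 𝐍[K]) (n : ℕ) : ∀ r, r + n = 47 → 24 ≤ r → r ≠ 44 → r ≠ 47 → LR K r →
    (∀ a, xx 44 a ∈ K) ∨ ∀ a, xx 47 a ∈ K := by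
  induction n using Nat.strong_induction_on with
  | _ n ih =>
  intro r e h1 h2 h3 h
  rcases tab r (by omega) h1 with rfl | c | rfl | c | ⟨s, s1, s2, s3, s4, s5, s6⟩
  exacts [.inl h.z44, (h2 c).elim, .inr h.z47, (h3 c).elim,
    ih (47 - ad r s) (by have := s3.1; omega) (ad r s) (by have := s3.1; omega) (by omega) s5 s6
      (h.step hK s _ ⟨h1, by omega, s2, s1, s3, rfl⟩)]

theorem one (hK : UU F 24 ≤ 𝐍[K]) (hu : u ∈ UU F 24) (h : u ∈ K) :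
    (∃ a b, u = xx 44 a * xx 47 b) ∨ (∀ a, xx 44 a ∈ K) ∨ ∀ a, xx 47 a ∈ K := by
  have k : ∀ u ∈ UU F 24, (∀ y ∈ UU F 24, ⁅u, y⁆ ∈ K) → ¬ Ld 44 u →
      (∃ b, u = xx 47 b) ∨ (∀ a, xx 44 a ∈ K) ∨ ∀ a, xx 47 a ∈ K := fun u hu h n => by
    by_cases u1 : u = 1
    · exact .inl ⟨0, by rw [u1, xx_zero]⟩
    obtain ⟨r, e, r1, r2, -, e0, m⟩ := relΓ.exists_lead hu u1
    by_cases c : r = 47
    · subst c
      rw [SK_top le_rfl, mem_bot] at m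
      exact .inl ⟨e, by rw [eq_inv_of_mul_eq_one_right m, relΓ.inv r2 (ok_refl _ _)]⟩
    exact .inr (LR.one hK (47 - r) r (by omega) r1 (fun c => n ⟨e, e0, c ▸ m⟩) c ⟨u, ⟨e, e0, m⟩, h⟩)
  by_cases c : Ld 44 u
  · obtain ⟨e, -, g, hg, rfl⟩ := c.dec (by norm_num)
    refine (k g (SK_mono (by norm_num) hg) (fun y hy => ?_) fun ⟨e', e0, m⟩ => e0 (RZ.ld (by norm_num)
      ((mul_mem_cancel_right hg).1 m))).imp_left fun ⟨b, e⟩ => ⟨_, b, by rw [e]⟩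
    have := cm_K hK h y hy
    rwa [(U_comm (.inl rfl) (SK_mono (by norm_num) hg) e).eq, cm_peel (U_comm (.inl rfl) hy e).symm] at this
  · exact (k u hu (cm_K hK h) c).imp_left fun ⟨b, e⟩ => ⟨0, b, by rw [xx_zero, one_mul, e]⟩

theorem out24 (α : Γ F ≃* Γ F) (h : ∀ b ∈ UU F 24, α b ∈ UU F 24) :
    (∃ l, Inr α l) ∨ ∃ c, Ld 24 (α (xx 24 c) * (xx 24 c)⁻¹) := by
  obtain ⟨γ, hγ⟩ := exists_gam (F := F)
  obtain ⟨l, σ, φ, hφ, e⟩ := aut hγ α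
  have : l ∈ 𝐍[UU F 24] := by
    rcases e with e | e
    · exact clsC_nrm (clsC_fa hφ 24) fun b hb => e b ▸ h b hb
    · exact clsC_nrm (ψ := φ.trans γ) (fun b => (hγ.XL (fun _ h => h.2) clsC_gm (fun _ h => h.2) _).trans
        (clsC_fa hφ 24 b)) fun b hb => (e b ▸ h b hb : l * γ (φ b) * l⁻¹ ∈ _)
  obtain ⟨u, hu, t, χ, ht, rfl⟩ := norm_U this
  have cj : ∀ b : Γ F, u * t * b * (u * t)⁻¹ = u * (t * b * t⁻¹) * u⁻¹ := fun b => by group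
  have n := relΓ (F := F).SK_norm (k := 25) (by omega)
  have x24 : ∀ c : F, xx 24 c ∈ UU F 24 := cd_U le_rfl (by norm_num)
  rcases e with e | e
  · by_cases k : ∀ a, a + χ 24 * σ a = 0
    · have k0 : 1 = χ 24 := by simpa using relΓ.eq_of_add (k 1)
      have k1 : ∀ a, σ a = a := fun a => by simpa [← k0] using (relΓ.eq_of_add (k a)).symm
      exact .inl ⟨u * t, fun b => by rw [e, clsC_id (φ := φ) fun r hr a => by rw [hφ r hr, k1]]⟩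
    obtain ⟨c, hc⟩ := not_forall.1 k
    refine .inr ⟨c, _, hc, ?_⟩
    have := PLocal.Amb.conj_mem_of_mem_normalizer (n (x24 c)) (rg_cj le_rfl (by norm_num) hu (χ 24 * σ c))
    rw [e, cj, hφ 24 (by norm_num), ht.conj 24 (by norm_num),
      ← relΓ.add 24 (by norm_num) _ _ (ok_refl _ _) (ok_refl _ _)]
    simpa only [mul_assoc] using this
  · refine .inr ⟨1, 1, one_ne_zero, ?_⟩
    rw [e, cj, hφ 24 (by norm_num), hγ 24 (by norm_num), show gm 24 = 33 by decide +kernel,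
      ht.conj 33 (by norm_num), ← mul_assoc]
    exact PLocal.Amb.conj_mem_of_mem_normalizer (n (x24 1))
      (PLocal.Amb.conj_mem_of_mem_normalizer (n hu) (cd_U (by norm_num) (by norm_num) _))

theorem der (h : CA.St1 (List.range' 24 24) k) (a : F) : xx k a ∈ ⁅UU F 24, UU F 24⁆ :=
  h.mem (fun r hr => by
    rw [List.mem_range'_1] at hr
    exact ⟨by omega, cd_U hr.1 (by omega)⟩) a

theorem cder (hu : u ∈ UU F 24) (h : ∀ y ∈ ⁅UU F 24, UU F 24⁆, Commute u y) :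
    u ∈ XL F {40, 44, 46, 47} := by
  have t1 : ∀ r ∈ [40, 44, 46, 47], ∀ s < 48, CA.St1 (List.range' 24 24) s →
      24 ≤ r ∧ r < 48 ∧ 24 ≤ s ∧ s < 48 ∧ ¬ Nz r s := by decide +kernel
  have t2 : ∀ r < 48, 24 ≤ r → r ∈ [40, 44, 46, 47] ∨
      ∃ s < 48, CA.St1 (List.range' 24 24) s ∧ 24 ≤ s ∧ Nz r s := by decide +kernel
  refine relΓ.kill (Ψ := {s | s < 48 ∧ CA.St1 (List.range' 24 24) s}) hu (fun s hs => h _ (der hs.2 1))
    (fun r hr s hs e _ => RZ.c0 (t1 r (by simpa using hr) s hs.1 hs.2) e 1) fun r r1 r2 => ?_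
  exact (t2 r r2 r1).imp (by simp) fun ⟨s, a, b, c, d⟩ => ⟨s, ⟨a, b⟩, c, a, d⟩

variable {φ : Γ F →* G} {P : Subgroup G} {x z : G} {α : Γ F ≃* Γ F}

theorem hom (i : Function.Injective φ) (hx : x ∈ 𝐍[φ.range]) :
    ∃ α : Γ F ≃* Γ F, ∀ a, x * φ a * x⁻¹ = φ (α a) := by
  choose f hf using fun a => PLocal.Amb.conj_mem_of_mem_normalizer hx (show φ a ∈ φ.range from ⟨a, rfl⟩)
  have hm : ∀ a b, f (a * b) = f a * f b := fun a b => i (by
    rw [map_mul, hf, hf, hf, map_mul, conj_mul])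
  have hi : Function.Injective (MonoidHom.mk' f hm) := fun a b e => i (by
    have : x * φ a * x⁻¹ = x * φ b * x⁻¹ := by rw [← hf, ← hf]; exact congrArg φ e
    simpa using this)
  exact ⟨MulEquiv.ofBijective _ (Finite.injective_iff_bijective.1 hi), fun a => (hf a).symm⟩

theorem cent {l : Γ F} (e : ∀ a, x * φ a * x⁻¹ = φ (l * a * l⁻¹)) : (φ l)⁻¹ * x ∈ 𝐂[φ.range] := by
  rintro _ ⟨a, rfl⟩
  have := e a
  rw [map_mul, map_mul, map_inv] at this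
  calc φ a * ((φ l)⁻¹ * x) = (φ l)⁻¹ * (φ l * φ a * (φ l)⁻¹) * x := by group
    _ = _ := by rw [← this]; group

theorem triv (i : Function.Injective φ) (h : φ u ∈ 𝐂[φ.range]) : u = 1 :=
  eq_one_of_comm fun _ _ _ => i (by rw [map_mul, map_mul]; exact (h _ ⟨_, rfl⟩).symm)

/-- the context -/
structure Lc (φ : Γ F →* G) (P : Subgroup G) : Prop where
  i : Function.Injective φ
  pg : IsPGroup 2 P
  nr : P ≤ 𝐍[φ.range]
  map : P ⊓ φ.range = (UU F 24).map φ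

namespace Lc

variable (h : Lc φ P)
include h

theorem mem (hu : u ∈ UU F 24) : φ u ∈ P ⊓ φ.range := h.map ▸ mem_map_of_mem φ hu

theorem ex (hx : x ∈ P ⊓ φ.range) : ∃ u ∈ UU F 24, φ u = x := by rwa [h.map] at hx

theorem mem' (hu : φ u ∈ P) : u ∈ UU F 24 :=
  let ⟨_, h1, e⟩ := h.ex ⟨hu, u, rfl⟩; h.i e ▸ h1

theorem nT : P ≤ 𝐍[P ⊓ φ.range] := le_normalizer_inf le_normalizer h.nr

theorem memZ : z ∈ Zt (P ⊓ φ.range) ↔ ∃ a b, z = φ (xx 44 a * xx 47 b) := by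
  refine ⟨fun hz => ?_, ?_⟩
  · obtain ⟨u, -, rfl⟩ := h.ex hz.1
    obtain ⟨a, b, rfl⟩ := (zU (y := u)).1 fun y hy => h.i (by
      rw [map_mul, map_mul]; exact (hz.2 _ (h.mem hy)).symm)
    exact ⟨a, b, rfl⟩
  · rintro ⟨a, b, rfl⟩
    refine ⟨h.mem (mul_mem (cd_U (by norm_num) (by norm_num) a) (cd_U (by norm_num) (by norm_num) b)),
      fun x hx => ?_⟩
    obtain ⟨u, hu, rfl⟩ := h.ex hx
    exact ((zU.2 ⟨a, b, rfl⟩ u hu).map φ).symm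

theorem sqZ (hz : z ∈ Zt (P ⊓ φ.range)) : z * z = 1 := by
  obtain ⟨a, b, rfl⟩ := h.memZ.1 hz
  rw [← map_mul, y0_card.2 _ (mul_mem (cd_x (by simp) a) (cd_x (by simp) b)), map_one]

theorem actU (hx : x ∈ P) (e : ∀ a, x * φ a * x⁻¹ = φ (α a)) : ∀ b ∈ UU F 24, α b ∈ UU F 24 := fun b hb =>
  h.mem' (e b ▸ mul_mem (mul_mem hx (h.mem hb).1) (inv_mem hx))

theorem lin (hx : x ∈ P) (e : ∀ a, x * φ a * x⁻¹ = φ (α a)) (hl : ∃ l, Inr α l) :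
    ∃ u ∈ UU F 24, ∃ c ∈ 𝐂[φ.range], x = φ u * c := by
  obtain ⟨l, hl⟩ := hl
  have e1 : ∀ a, x * φ a * x⁻¹ = φ (l * a * l⁻¹) := fun a => by rw [e, hl]
  have c := cent e1
  obtain ⟨n, hn⟩ := isPGroup_iff.1 h.pg x hx
  refine ⟨l, zpowers_le.1 (sylΓ.le_of_normalizes (isPGroup_zpowers ⟨n, triv h.i ?_⟩) le_top (zpowers_le.2
    (mem_normalizer_of_cj_le (cj_le_iff_forall.2 fun b hb => hl b ▸ h.actU hx e b hb)))), _, c, by group⟩
  have c1 : Commute (φ l) ((φ l)⁻¹ * x) := c _ ⟨l, rfl⟩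
  have c2 := c1.mul_pow (2 ^ n)
  rw [mul_inv_cancel_left, hn] at c2
  rw [map_pow, eq_inv_of_mul_eq_one_left c2.symm]
  exact inv_mem (pow_mem c _)

theorem lin' (hx : x ∈ P) (e : ∀ a, x * φ a * x⁻¹ = φ (α a)) (hl : ∃ l, Inr α l) :
    x ∈ (P ⊓ φ.range) ⊔ 𝐂[φ.range] := by
  obtain ⟨u, hu, c, hc, rfl⟩ := h.lin hx e hl
  exact mul_mem_sup (h.mem hu) hc

theorem fix (hx : x ∈ P) (hr : r < 48) (hc : ∀ a, φ (xx r a) * x = x * φ (xx r a)) :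
    ∃ u ∈ UU F 24, ∃ c ∈ 𝐂[φ.range], x = φ u * c := by
  obtain ⟨α, e⟩ := hom h.i (h.nr hx)
  refine h.lin hx e (inr_of hr ?_)
  rintro _ rfl a
  exact h.i (by rw [← e, ← hc, mul_inv_cancel_right])

theorem der' : ⁅P ⊓ φ.range, P ⊓ φ.range⁆ = ⁅UU F 24, UU F 24⁆.map φ := by rw [h.map, map_commutator]

theorem nK {V : Subgroup G} (hn : P ⊓ φ.range ≤ 𝐍[V]) : UU F 24 ≤ 𝐍[V.comap φ] := fun y hy =>
  mem_normalizer_of_cj_le (cj_le_iff_forall.2 fun w hw => by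
    rw [mem_comap, map_mul, map_mul, map_inv]
    exact PLocal.Amb.conj_mem_of_mem_normalizer (hn (h.mem hy)) hw)

theorem zf {V : Subgroup G} (hV : V ≤ P) (hn : P ⊓ φ.range ≤ 𝐍[V]) :
    V ≤ (UU F 27).map φ ⊔ 𝐂[φ.range] ∨ Zt (P ⊓ φ.range) ≤ V := by
  refine or_iff_not_imp_left.2 fun hv z hz => ?_
  obtain ⟨f, hf, nf⟩ := SetLike.not_le_iff_exists.1 hv
  obtain ⟨a, b, rfl⟩ := h.memZ.1 hz
  have cm : ∀ y ∈ UU F 24, f * φ y * f⁻¹ * (φ y)⁻¹ ∈ V := fun y hy => by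
    have := mul_mem hf (PLocal.Amb.conj_mem_of_mem_normalizer (hn (h.mem hy)) (inv_mem hf))
    rwa [← mul_assoc, ← mul_assoc] at this
  obtain ⟨α, e⟩ := hom h.i (h.nr (hV hf))
  rcases out24 α (h.actU (hV hf) e) with hl | ⟨c, hc⟩
  · obtain ⟨u, hu, c, hc, rfl⟩ := h.lin (hV hf) e hl
    have nu : u ∉ UU F 27 := fun k => nf (mul_mem_sup (mem_map_of_mem φ k) hc)
    obtain ⟨r, d, r1, r2, -, d0, m⟩ := relΓ.exists_lead hu fun k => nu (k ▸ one_mem _)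
    refine LR.both (h.nK hn) r1 (not_le.1 fun k => nu ((mul_mem_cancel_left (cd_U k r2 d)).1
      (SK_mono (by omega) m))) ⟨u, ⟨d, d0, m⟩, fun y hy => ?_⟩ a b
    have := cm y hy
    rw [← commutatorElement_def, cm_peel (hc _ ⟨y, rfl⟩)] at this
    rwa [mem_comap, map_commutatorElement]
  · refine LR.both (h.nK hn) le_rfl (by norm_num) ⟨_, hc, cm_K (h.nK hn) ?_⟩ a b
    rw [mem_comap, map_mul, map_inv, ← e]
    exact cm _ (cd_U le_rfl (by norm_num) c)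

theorem c3 {V : Subgroup G} (hV : V ≤ P ⊓ φ.range) (hn : P ⊓ φ.range ≤ 𝐍[V])
    (hl : ¬ V < Zt (P ⊓ φ.range)) : P ⊓ 𝐂[V] ≤ (P ⊓ φ.range) ⊔ 𝐂[φ.range] := fun x hx => by
  have k : (∀ a, xx 44 a ∈ V.comap φ) ∨ ∀ a, xx 47 a ∈ V.comap φ := by
    by_cases c : V ≤ Zt (P ⊓ φ.range)
    · refine .inl fun a => (c.lt_or_eq.resolve_left hl).ge (h.memZ.2 ⟨a, 0, ?_⟩)
      rw [xx_zero, mul_one]
    obtain ⟨v, hv, nv⟩ := SetLike.not_le_iff_exists.1 c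
    obtain ⟨u, hu, rfl⟩ := h.ex (hV hv)
    exact (one (h.nK hn) hu hv).resolve_left fun ⟨a, b, e⟩ => nv (h.memZ.2 ⟨a, b, by rw [e]⟩)
  obtain ⟨u, hu, c, hc, e⟩ := k.elim (fun k => h.fix hx.1 (by norm_num) fun a => hx.2 _ (k a))
    fun k => h.fix hx.1 (by norm_num) fun a => hx.2 _ (k a)
  exact e ▸ mul_mem_sup (h.mem hu) hc

theorem loc : WfT.Loc φ.range P := by
  refine ⟨fun x hx hc => ?_, fun z hz => ?_, ⟨_, inf_le_left, fun a ha => h.sqZ ha,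
    le_normalizer_inf h.nT (le_normalizer_centralizer h.nT), ?_⟩, commutator_le.2 fun x hx y hy => ?_,
    ⟨_, fun k => ?_, fun V => h.zf⟩, fun V => h.c3, commutator_le.2 fun x hx y hy => ?_⟩
  · obtain ⟨α, e⟩ := hom h.i (h.nr hx)
    obtain ⟨a, b, hl⟩ := rigZ (α := α) fun s hs c => h.i (by
      rw [← e, ← hc _ (h.mem (cd_U hs.1 hs.2 c)), mul_inv_cancel_right])
    have z := h.memZ.2 ⟨a, b, rfl⟩
    refine ⟨_, z, ?_⟩
    have := cent (fun a => (e a).trans (congrArg φ (hl a)))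
    rwa [inv_eq_of_mul_eq_one_right (h.sqZ z), hc _ z.1] at this
  · obtain ⟨a, b, rfl⟩ := h.memZ.1 hz
    exact h.der' ▸ mem_map_of_mem φ (mul_mem (der (by decide +kernel) a) (der (by decide +kernel) b))
  · have n : ∀ a b : F, xx 44 1 * xx 47 a ≠ xx 44 0 * xx 47 b := fun a b e => cd_nl (r := 44) (by norm_num)
      (by norm_num) one_ne_zero (cd_U (r := 47) (by norm_num) (by norm_num) a)
      (by rw [e, xx_zero, one_mul]; exact cd_U (by norm_num) (by norm_num) b)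
    change 2 < Nat.card (Zt (P ⊓ φ.range))
    have := Fintype.ofFinite (Zt (P ⊓ φ.range))
    rw [Nat.card_eq_fintype_card, Fintype.two_lt_card_iff]
    refine ⟨⟨_, h.memZ.2 ⟨1, 0, rfl⟩⟩, ⟨_, h.memZ.2 ⟨0, 0, rfl⟩⟩, ⟨_, h.memZ.2 ⟨0, 1, rfl⟩⟩,
      fun e => n _ _ (h.i (congrArg Subtype.val e)), fun e => n _ _ (h.i (congrArg Subtype.val e)),
      fun e => zero_ne_one (relΓ.eq (r := 47) (by norm_num) (ok_refl _ _) (ok_refl _ _)
        (mul_left_cancel (h.i (congrArg Subtype.val e))))⟩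
  · obtain ⟨α, e1⟩ := hom h.i (h.nr hx)
    obtain ⟨β, e2⟩ := hom h.i (h.nr hy)
    obtain ⟨l, e3⟩ := out_comm α β
    refine h.lin' (α := MulAut.conj l) (commutator_le_self P (commutator_mem_commutator hx hy)) (fun a => ?_)
      ⟨l, fun _ => rfl⟩
    obtain ⟨a, rfl⟩ := β.surjective a
    obtain ⟨a, rfl⟩ := α.surjective a
    rw [MulAut.conj_apply, ← e3, ← e1, ← e2, ← e2, ← e1, commutatorElement_def]
    group
  · obtain ⟨_, ⟨u, hu, rfl⟩, c, hc, e⟩ := (mem_sup_of_le_normalizer_left ((centralizer_anti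
      (map_le_range φ _)).trans (centralizer_le_normalizer' _))).1
      (k (h.der' ▸ mem_map_of_mem φ (der (k := 26) (by decide +kernel) 1)))
    have e1 : u⁻¹ * xx 26 1 = 1 := triv h.i (by rw [map_mul, map_inv, e, inv_mul_cancel_left]; exact hc)
    exact one_ne_zero (RZ.ld (r := 26) (by norm_num) (inv_mul_eq_one.1 e1 ▸ hu))
  · have k : ∀ x ∈ P ⊓ 𝐂[⁅P ⊓ φ.range, P ⊓ φ.range⁆], ∃ u ∈ XL F {40, 44, 46, 47}, ∃ c ∈ 𝐂[φ.range],
        x = φ u * c := fun x hx => by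
      have k : ∀ y ∈ ⁅UU F 24, UU F 24⁆, φ y * x = x * φ y := fun y hy =>
        hx.2 _ (h.der' ▸ mem_map_of_mem φ hy)
      obtain ⟨u, hu, c, hc, rfl⟩ := h.fix hx.1 (r := 44) (by norm_num) fun a => k _ (der (by decide +kernel) a)
      refine ⟨u, cder hu fun y hy => h.i ?_, c, hc, rfl⟩
      have := k y hy
      rw [mul_assoc, ← hc _ ⟨y, rfl⟩, ← mul_assoc, ← mul_assoc, mul_left_inj] at this
      rw [map_mul, map_mul, this]
    obtain ⟨u, hu, c, hc, rfl⟩ := k x hx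
    obtain ⟨v, hv, d, hd, rfl⟩ := k y hy
    rw [frm_comm (hc _ ⟨u, rfl⟩).symm (hc _ ⟨v, rfl⟩).symm (hd _ ⟨u, rfl⟩).symm (hd _ ⟨v, rfl⟩).symm,
      commutatorElement_eq_one_iff_commute.2 ((cd_com hu hv).map φ), one_mul]
    exact commutator_le_self _ (commutator_mem_commutator hc hd)

end Lc

theorem loc (i : Function.Injective φ) (hP : IsPGroup 2 P) (hn : P ≤ 𝐍[φ.range])
    (h : IsSyl 2 (P ⊓ φ.range) φ.range) : WfT.Loc φ.range P := by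
  have h1 := (sylΓ (F := F)).map φ
  rw [← MonoidHom.range_eq_map] at h1
  obtain ⟨g, hg, e⟩ := h1.exists_cj_eq h
  have e1 := cj_eq_iff.2 (le_normalizer hg)
  have := (Lc.loc ⟨i, isPGroup_cj g hP, by rw [← e1, normalizer_cj]; exact cj_mono g hn,
    by rw [← e, cj_inf, e1]⟩).cj g⁻¹
  rwa [cj_inv_cj, cj_eq_iff.2 (le_normalizer (inv_mem hg))] at this

end SpL

end Cfsg.Agent.F4Q
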