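import Mathlib
import Cfsg.Agent.F4Q.SyB

/-! The twisted case `ε = 1`: assembly of `RU` with `ρ = τ`. -/

set_option autoImplicit false
set_option linter.unusedSectionVars false

namespace Cfsg.Agent.F4Q

open Cfsg.Lie Cfsg.Agent.Chev Subgroup Cfsg.Agent.PLocal.Amb
open Cfsg.Agent.F42S (lg ip ad gm sm sr Mo aw)
open Cfsg.Agent.FinS (Rt Rg Uf)
open scoped commutatorElement


universe u
variable {F : Type u} [Field F] [Finite F] [CharP F 2] {G : Type*} [Group G] [Finite G]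
  {j : Γ F →* G} {t : G} {O : Subgroup G} {γ : Γ F ≃* Γ F} {g g' : ℕ → F → G}

theorem rua_t0 : ∀ r < 48, Mo r r := by decide +kernel

set_option synthInstance.maxSize 4000 in
theorem rua_t1 : ∀ r < 48, ∀ s < 48, Mo r s → Mo s r ∧ (lg r = false → lg s = false → s = r ∨ ip r s = 10) := by
  decide +kernel

set_option synthInstance.maxSize 4000 in
theorem rua_t2 : ∀ r < 48, ∀ s < 48, lg r = false → lg s = false → ip r s = 8 → ad r s < 48 ∧ lg (ad r s) = true ∧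
    ad s r = ad r s ∧ ip s r = 8 ∧ Mo (ad r s) r ∧ Mo (ad r s) s := by decide +kernel

set_option synthInstance.maxSize 4000 in
theorem rua_t3 : ∀ r < 48, ∀ s < 48, lg r = true → lg s = false → ip r s = 4 → ad r s < 48 ∧ lg (ad r s) = false ∧
    ip (ad r s) s = 8 := by decide +kernel

theorem rua_sw {a b z : G} (bb : b * b = 1) (h : b * a * b = a * z) (c : Commute z b) : b * a = a * b * z := by
  rw [mul_assoc, ← c.eq, ← mul_assoc, ← h, mul_assoc, bb, mul_one]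

theorem rua_sw2 {a b z : G} (aa : a * a = 1) (h : a * b * a = b * z) : b * a = a * b * z := by
  rw [mul_assoc, ← h, ← mul_assoc, ← mul_assoc, aa, one_mul]

theorem rua_cm {a b y k w m₁ m₂ m₃ : G} (e1 : y * a = a * y * (k * m₂)) (e2 : b * a = a * b * (w * m₃))
    (e3 : k * b = b * m₁ * k) (c1 : k * m₁ = m₁ * k) (c2 : m₁ * w = w * m₁) (c3 : m₂ * w = w * m₂)
    (c4 : m₂ * b = b * m₂) : y * b * a = a * (y * b) * (k * w * (m₁ * (m₂ * m₃))) :=
  calc _ = y * a * b * (w * m₃) := by rw [mul_assoc, e2]; group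
    _ = a * y * k * (m₂ * b) * (w * m₃) := by rw [e1]; group
    _ = a * y * (k * b) * (m₂ * w) * m₃ := by rw [c4]; group
    _ = a * y * b * (m₁ * k) * w * m₂ * m₃ := by rw [e3, c3]; group
    _ = a * y * b * k * (m₁ * w) * m₂ * m₃ := by rw [← c1]; group
    _ = _ := by rw [c2]; group

/-- central commutators are biadditive -/
theorem rua_bi {x : F} {A B Z : QuadraticAlgebra F x 1 → G}
    {φ : QuadraticAlgebra F x 1 → QuadraticAlgebra F x 1 → QuadraticAlgebra F x 1}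
    (hA : ∀ e f, A e * A f = A (e + f)) (hB : ∀ e f, B e * B f = B (e + f)) (hZ : ∀ e f, Z e * Z f = Z (e + f))
    (h1 : ∀ e e' f, φ (e + e') f = φ e' f + φ e f) (h2 : ∀ e f f', φ e (f + f') = φ e f + φ e f')
    (cA : ∀ w e, Commute (Z w) (A e)) (cB : ∀ w e, Commute (Z w) (B e))
    (h : ∀ e f, (∃ a, e = ⟨0, a⟩ ∨ e = ⟨a, 0⟩) → (∃ a, f = ⟨0, a⟩ ∨ f = ⟨a, 0⟩) → B f * A e = A e * B f * Z (φ e f))
    (e f : QuadraticAlgebra F x 1) : B f * A e = A e * B f * Z (φ e f) := by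
  have d : ∀ e : QuadraticAlgebra F x 1, e = ⟨0, e.im⟩ + ⟨e.re, 0⟩ := fun e => by ext <;> simp
  have k : ∀ f, (∃ a, f = ⟨0, a⟩ ∨ f = ⟨a, 0⟩) → B f * A e = A e * B f * Z (φ e f) := fun f hf => by
    rw [d e, ← hA, h1, ← hZ, ← mul_assoc, h _ f ⟨_, .inl rfl⟩ hf, mul_assoc, (cA _ _).eq, ← mul_assoc, mul_assoc (A _),
      h _ f ⟨_, .inr rfl⟩ hf]
    simp only [mul_assoc]
  rw [d f, ← hB, h2, ← hZ, mul_assoc, k _ ⟨_, .inr rfl⟩, ← mul_assoc, ← mul_assoc, k _ ⟨_, .inl rfl⟩, mul_assoc _ (Z _),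
    (cB _ _).eq]
  simp only [mul_assoc]

/-- the root elements -/
noncomputable def ruY (j : Γ F →* G) (g : ℕ → F → G) (x : F) (r : ℕ) (e : QuadraticAlgebra F x 1) : G :=
  (if lg r = true then 1 else g r e.im) * j (xx r e.re)

section
variable {x ρ : F} {r s : ℕ}

theorem ruY_l (h : lg r = true) (e : QuadraticAlgebra F x 1) : ruY j g x r e = j (xx r e.re) := by
  rw [ruY, if_pos h, one_mul]

theorem ruY_s (h : lg r = false) (e : QuadraticAlgebra F x 1) : ruY j g x r e = g r e.im * j (xx r e.re) := by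
  rw [ruY, if_neg (by simp [h])]

theorem rua_fix {e : QuadraticAlgebra F x 1} : starRingAut e = e ↔ e.im = 0 :=
  ⟨fun h => by simpa using congrArg QuadraticAlgebra.re h, fun h => by ext <;> simp [h]⟩

theorem rua_xc (hr : r < 48) (hs : s < 48) (m : Mo r s) (a b : F) : Commute (j (xx r a)) (j (xx s b)) :=
  (relΓ.com r hr s hs m a b (ok_refl _ _) (ok_refl _ _)).map j

namespace RA
variable (h : RA j t O 1 ρ g)
include h

theorem ru_g (hr : Sh r) (a : F) : ruY j g x r ⟨0, a⟩ = g r a := by rw [ruY_s hr.2, xx_zero, map_one, mul_one]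

theorem ru_x (hr : r < 48) (a : F) : ruY j g x r ⟨a, 0⟩ = j (xx r a) := by
  cases l : lg r
  · rw [ruY_s l, h.zero ⟨hr, l⟩, one_mul]
  · rw [ruY_l l]

theorem ru_add (hr : r < 48) (e f : QuadraticAlgebra F x 1) :
    ruY j g x r e * ruY j g x r f = ruY j g x r (e + f) := by
  cases l : lg r
  · rw [ruY_s l, ruY_s l, ruY_s l, mul_assoc, ← mul_assoc (j _), ← (h.cm ⟨hr, l⟩ hr (rua_t0 r hr) _ _).eq, mul_assoc,
      sya_add hr, ← mul_assoc, h.add r ⟨hr, l⟩]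
    rfl
  · rw [ruY_l l, ruY_l l, ruY_l l, sya_add hr]
    rfl

theorem ru_com (hr : r < 48) (hs : s < 48) (m : Mo r s) (e f : QuadraticAlgebra F x 1) :
    Commute (ruY j g x r e) (ruY j g x s f) := by
  obtain ⟨m', k⟩ := rua_t1 r hr s hs m
  have c := rua_xc (j := j) hr hs m e.re f.re
  cases l : lg r <;> cases l' : lg s
  · rw [ruY_s l, ruY_s l']
    refine (Commute.mul_right ?_ (h.cm ⟨hr, l⟩ hs m _ _)).mul_left ((h.cm ⟨hs, l'⟩ hr m' _ _).symm.mul_right c)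
    obtain rfl | k := k l l'
    · exact (h.add s ⟨hr, l⟩ _ _).trans (add_comm e.im f.im ▸ (h.add s ⟨hr, l⟩ _ _).symm)
    · exact h.c60 ⟨hr, l⟩ ⟨hs, l'⟩ k _ _
  · rw [ruY_s l, ruY_l l']
    exact (h.cm ⟨hr, l⟩ hs m _ _).mul_left c
  · rw [ruY_l l, ruY_s l']
    exact (h.cm ⟨hs, l'⟩ hr m' _ _).symm.mul_right c
  · rwa [ruY_l l, ruY_l l']

theorem ru_c90 (hr : Sh r) (hs : Sh s) (p : ip r s = 8) (e f : QuadraticAlgebra F x 1) :
    ruY j g x s f * ruY j g x r e = ruY j g x r e * ruY j g x s f *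
      ruY j g x (ad r s) (e * starRingAut f + starRingAut e * f) := by
  obtain ⟨k1, k2, k3, k4, m1, m2⟩ := rua_t2 r hr.1 s hs.1 hr.2 hs.2 p
  refine rua_bi (φ := fun e f => e * starRingAut f + starRingAut e * f) (h.ru_add hr.1) (h.ru_add hs.1) (h.ru_add k1)
    (fun _ _ _ => by rw [map_add]; ring) (fun _ _ _ => by rw [map_add]; ring) (h.ru_com k1 hr.1 m1)
    (h.ru_com k1 hs.1 m2) ?_ e f
  rintro _ _ ⟨a, rfl | rfl⟩ ⟨b, rfl | rfl⟩ <;> rw [ruY_l k2] <;> simp only [h.ru_g hr, h.ru_g hs, h.ru_x hr.1, h.ru_x hs.1]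
  · simpa [xx_zero, CharTwo.add_self_eq_zero] using (h.c90 hs hr k4 b a).eq
  · simpa using rua_sw2 (h.sq hr a) (h.or hr hs p a b)
  · simpa [k3, mul_comm b a] using rua_sw (h.sq hs b) (h.or hs hr k4 b a)
      (k3 ▸ (h.cm hs k1 (rua_t1 _ k1 _ hs.1 m2).1 _ _).symm)
  · simpa using congrArg j (relΓ.c90 r hr.1 s hs.1 hr.2 hs.2 p a b)

theorem ru_cs (hr : Sh r) (hs : Sh s) (p : ip r s = 6) (e f : QuadraticAlgebra F (1 + ρ) 1) :
    ruY j g (1 + ρ) s f * ruY j g (1 + ρ) r e = ruY j g (1 + ρ) r e * ruY j g (1 + ρ) s f *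
      ruY j g (1 + ρ) (ad r s) (starRingAut (e * f)) := by
  have e3 : S3 r s (ad r s) := ⟨hr.1, hs.1, hr.2, hs.2, p, rfl⟩
  obtain ⟨-, -, hk, e3', -, -, -, p2, -, -, m1, m3, m2, -⟩ := e3.tab
  refine rua_bi (φ := fun e f => starRingAut (e * f)) (h.ru_add hr.1) (h.ru_add hs.1) (h.ru_add hk.1)
    (fun _ _ _ => by rw [add_mul, map_add]; exact add_comm _ _) (fun _ _ _ => by rw [mul_add, map_add]) (h.ru_com hk.1 hr.1 m1)
    (h.ru_com hk.1 hs.1 m2) ?_ e f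
  rintro _ _ ⟨a, rfl | rfl⟩ ⟨b, rfl | rfl⟩ <;> rw [ruY_s hk.2] <;>
    simp only [h.ru_g hr, h.ru_g hs, h.ru_x hr.1, h.ru_x hs.1]
  · have := rua_sw (h.sq hs b) ((h.y120 r s _ e3 a b).trans (mul_assoc _ _ _))
      ((h.c60 hk hs p2 _ _).mul_left (h.cm hs hk.1 m3 _ _).symm)
    rw [show ρ * (a * b) = (1 + ρ) * a * b + a * b by linear_combination (-(a * b)) * CharTwo.two_eq_zero (R := F)] at this
    simpa [CharTwo.neg_eq] using this
  · simpa [CharTwo.neg_eq] using rua_sw (sya_sq hs.1 b) ((h.x120 r s _ e3 a b).trans (mul_assoc _ _ _))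
      ((h.cm hk hs.1 m2 _ _).mul_left (rua_xc hk.1 hs.1 m2 _ _))
  · simpa [CharTwo.neg_eq, mul_comm b a] using rua_sw2 (sya_sq hr.1 a) ((h.x120 s r _ e3' b a).trans (mul_assoc _ _ _))
  · simpa [h.zero hk] using congrArg j (relΓ.cs r hr.1 s hs.1 hr.2 hs.2 p a b)

theorem ru_cm (hr : r < 48) (l : lg r = true) (hs : Sh s) (p : ip r s = 4) (c : F) (f : QuadraticAlgebra F (1 + ρ) 1) :
    ruY j g (1 + ρ) s f * ruY j g (1 + ρ) r ⟨c, 0⟩ = ruY j g (1 + ρ) r ⟨c, 0⟩ * ruY j g (1 + ρ) s f *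
      (ruY j g (1 + ρ) (ad r s) (⟨c, 0⟩ * f) * ruY j g (1 + ρ) (ad (ad r s) s) (⟨c, 0⟩ * (f * starRingAut f))) := by
  obtain ⟨k1, k2, p'⟩ := rua_t3 r hr s hs.1 l hs.2 p
  obtain ⟨n1, n2, -, -, m1, m2⟩ := rua_t2 _ k1 s hs.1 k2 hs.2 p'
  obtain ⟨u, v⟩ := f
  have e1 := rua_sw2 (sya_sq hr c) ((h.x135 hs hr l p v c).trans (mul_assoc _ _ _))
  have e2 := congrArg j (relΓ.cm r hr s hs.1 l hs.2 p c u rfl)
  have e3 := h.or ⟨k1, k2⟩ hs p' (v * c) u
  have e4 := h.sq ⟨k1, k2⟩ (v * c)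
  have c1 := fun a => (h.cm ⟨k1, k2⟩ n1 (rua_t1 _ n1 _ k1 m1).1 (v * c) a).eq
  have c2 := fun a => (rua_xc (j := j) n1 k1 m1 a (c * u)).eq
  have c3 := fun a => (rua_xc (j := j) n1 hs.1 m2 a u).eq
  have e5 : (⟨c, 0⟩ * (⟨u, v⟩ * starRingAut ⟨u, v⟩) : QuadraticAlgebra F (1 + ρ) 1).re =
      1 * (v * c) * u + ((1 + ρ) * (c * v ^ 2) + c * (u * u)) := by
    simp [CharTwo.neg_eq]; ring
  simp only [map_mul, RingEquiv.refl_apply] at e2
  rw [ruY_l l, ruY_s hs.2, ruY_s k2, ruY_l n2, e5, ← sya_add n1, ← sya_add n1,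
    show (⟨c, 0⟩ * ⟨u, v⟩ : QuadraticAlgebra F (1 + ρ) 1).im = v * c by simp [mul_comm],
    show (⟨c, 0⟩ * ⟨u, v⟩ : QuadraticAlgebra F (1 + ρ) 1).re = c * u by simp]
  exact rua_cm e1 e2 (by rw [← e3, mul_assoc, e4, mul_one]) (c1 _) (c2 _) (c2 _) (c3 _)

theorem ru_rel : Rel starRingAut (ruY j g (1 + ρ)) := by
  have d : ∀ {e : QuadraticAlgebra F (1 + ρ) 1}, starRingAut e = e → ∃ a, e = ⟨a, 0⟩ := fun {e} k =>
    ⟨e.re, QuadraticAlgebra.ext rfl (rua_fix.1 k)⟩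
  refine ⟨fun e => by ext <;> exact CharTwo.add_self_eq_zero _, star_star, fun r hr e f _ _ => h.ru_add hr e f,
    fun r hr e he k => ?_, fun r hr s hs m e f _ _ => h.ru_com hr hs m e f, fun r hr s hs l l' p e f _ _ => ?_,
    fun r hr s hs l l' p => h.ru_c90 ⟨hr, l⟩ ⟨hs, l'⟩ p, fun r hr s hs l l' p => h.ru_cs ⟨hr, l⟩ ⟨hs, l'⟩ p,
    fun r hr s hs l l' p e f he hf => ?_, fun r hr s hs l l' p c f hc => ?_, fun i hi r hr e he => ?_⟩
  · have k1 : e.im = 0 := by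
      cases l : lg r
      · rw [ruY_s l] at k
        exact h.eq_zero ⟨hr, l⟩ (eq_inv_of_mul_eq_one_left k ▸ (h.tj _).inv_right)
      · exact rua_fix.1 (he l)
    obtain ⟨a, rfl⟩ := d (rua_fix.2 k1)
    rw [h.ru_x hr, ← map_one j] at k
    rw [relΓ.inj r hr a (ok_refl _ _) (h.inj k)]
    rfl
  · rw [ruY_l l, ruY_l l']
    exact (relΓ.ll r hr s hs l l' p _ _ rfl rfl).map j
  · obtain ⟨a, rfl⟩ := d he
    obtain ⟨b, rfl⟩ := d hf
    have k : ad r s < 48 := by clear * - hr hs l l' p; revert r s; decide +kernel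
    rw [show (⟨a, 0⟩ * ⟨b, 0⟩ : QuadraticAlgebra F (1 + ρ) 1) = ⟨a * b, 0⟩ by ext <;> simp, h.ru_x hr, h.ru_x hs, h.ru_x k]
    simpa using congrArg j (relΓ.cl r hr s hs l l' p a b rfl rfl)
  · obtain ⟨a, rfl⟩ := d hc
    exact h.ru_cm hr l ⟨hs, l'⟩ p a f
  · have s := (F42S.tab_sm i hi).1
    have t4 := F42S.tab_sr i hi r hr
    have e1 : nY (ruY j g (1 + ρ)) (sm i) = j (nY xx (sm i)) := by
      rw [nY, nY, map_mul, map_mul, ← h.ru_x (x := 1 + ρ) s, ← h.ru_x (x := 1 + ρ) (r := 47 - sm i) (by omega)]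
      rfl
    have e2 := congrArg j (xx_wn (F := F) hi hr e.re)
    rw [map_mul, map_mul, map_inv] at e2
    rw [e1]
    cases l : lg r
    · rw [ruY_s l, ruY_s (t4.2.2.1.trans l), ← conj_mul, h.wn i hi r ⟨hr, l⟩, e2, mul_assoc, sya_add t4.1]
      split_ifs <;> simp [CharTwo.neg_eq, add_comm]
    · rw [he l, ite_self, ruY_l l, ruY_l (t4.2.2.1.trans l), e2]

end RA

end

/-- `E = QuadraticAlgebra F (1 + ρ) 1` (`ω² = 1 + ρ + ω`), `τ ω = ω + 1` (`star`), `ω τ(ω) = 1 + ρ`,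
`Y r e = g r e.im * j (xx r e.re)` for short `r` and `j (xx r e.re)` for long `r`.  `Rel`: `relΓ`, `cm, or, c60,
c90, x120, y120, x135, wn` (for `cs, c90` the commutators are central, so biadditive; for `cm` conjugate
`g s v * x s u` by `x r c` factor by factor).  `nY Y r = j (nY xx r)`.  `noL` is `Fr.noL`. -/
theorem RA.ru_one {ρ : F} (h : RA j t O 1 ρ g) (hn : ¬ IsConj t (t * j (xx 47 1))) :
    ∃ (E : Type u) (_ : CommRing E) (_ : Finite E) (ι : F →+* E) (τ : E ≃+* E) (Y : ℕ → E → G),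
      RU j t O ι τ τ Y := by
  refine ⟨QuadraticAlgebra F (1 + ρ) 1, inferInstance, Finite.of_equiv _ (QuadraticAlgebra.equivProd _ _).symm,
    algebraMap _ _, starRingAut, ruY j g (1 + ρ), h.toFo, h.ru_rel, fun r hr a => h.ru_x hr a, fun a => rua_fix.2 rfl,
    fun r hr e he => ?_, star_star, fun e => rua_fix.trans ⟨fun k => ⟨e.re, QuadraticAlgebra.ext rfl k.symm⟩, ?_⟩,
    ⟨⟨0, 1⟩, by ext <;> simp [CharTwo.neg_eq, QuadraticAlgebra.re_one, QuadraticAlgebra.im_one]⟩, .inl rfl, fun o ho r hr e _ => ?_, fun _ => hn, h.noL⟩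
  · cases l : lg r
    · rw [ruY_s l, ruY_s l, ← conj_mul, (h.tj _).eq, mul_inv_cancel_right, h.toFr.inv, h.tc ⟨hr, l⟩, mul_assoc, sya_add hr]
      simp [CharTwo.neg_eq, add_comm]
    · rw [he l, ruY_l l, (h.tj _).eq, mul_inv_cancel_right]
  · rintro ⟨a, rfl⟩
    rfl
  · cases l : lg r
    · rw [ruY_s l]
      exact ((h.zh r ⟨hr, l⟩ _).cO o ho).symm.mul_right (h.Oj o ho _)
    · rw [ruY_l l]
      exact h.Oj o ho _

end Cfsg.Agent.F4Q
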