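import Mathlib
import Cfsg.Agent.F4Q.DbB

/-! Both root lengths are doubled: assembly of `RU` with `ρ = 1`. -/

set_option autoImplicit false
set_option linter.unusedSectionVars false

namespace Cfsg.Agent.F4Q

open Cfsg.Lie Cfsg.Agent.Chev Subgroup Cfsg.Agent.PLocal.Amb
open Cfsg.Agent.F42S (lg ip ad gm sm sr Mo aw)
open Cfsg.Agent.FinS (Rt Rg Uf)
open scoped commutatorElement


universe u
variable {F : Type u} [Field F] [Finite F] [CharP F 2] {G : Type*} [Group G] [Finite G]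
  {j : Γ F →* G} {t : G} {O : Subgroup G} {γ : Γ F ≃* Γ F} {g g' : ℕ → F → G}

omit [Finite G] in
theorem rb_h1 {A B Z : G} (a : A * A = 1) (e : A * B * A = B * Z) : B * A = A * B * Z := by
  rw [mul_assoc, ← e, ← mul_assoc, ← mul_assoc, a, one_mul]

omit [Finite G] in
theorem rb_h2 {A B Z : G} (b : B * B = 1) (c : Commute B Z) (e : B * A * B = A * Z) :
    B * A = A * B * Z := by
  rw [mul_assoc, c.eq, ← mul_assoc, ← e, mul_assoc, b, mul_one]

omit [Finite F] [CharP F 2] [Finite G] in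
/-- biadditivity -/
theorem rb_bi {ρ : F} {A B : QuadraticAlgebra F ρ 1 → G}
    {Z : QuadraticAlgebra F ρ 1 → QuadraticAlgebra F ρ 1 → G}
    (aA : ∀ e e', A e * A e' = A (e + e')) (aB : ∀ e e', B e * B e' = B (e + e'))
    (z1 : ∀ e e' f, Z e f * Z e' f = Z (e + e') f) (z2 : ∀ e f f', Z e f * Z e f' = Z e (f + f'))
    (cA : ∀ a e f, Commute (A a) (Z e f)) (cB : ∀ a e f, Commute (B a) (Z e f))
    (h11 : ∀ a b, B ⟨b, 0⟩ * A ⟨a, 0⟩ = A ⟨a, 0⟩ * B ⟨b, 0⟩ * Z ⟨a, 0⟩ ⟨b, 0⟩)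
    (h12 : ∀ a b, B ⟨0, b⟩ * A ⟨a, 0⟩ = A ⟨a, 0⟩ * B ⟨0, b⟩ * Z ⟨a, 0⟩ ⟨0, b⟩)
    (h21 : ∀ a b, B ⟨b, 0⟩ * A ⟨0, a⟩ = A ⟨0, a⟩ * B ⟨b, 0⟩ * Z ⟨0, a⟩ ⟨b, 0⟩)
    (h22 : ∀ a b, B ⟨0, b⟩ * A ⟨0, a⟩ = A ⟨0, a⟩ * B ⟨0, b⟩ * Z ⟨0, a⟩ ⟨0, b⟩) (e f) :
    B f * A e = A e * B f * Z e f := by
  have sp (e : QuadraticAlgebra F ρ 1) : e = ⟨e.re, 0⟩ + ⟨0, e.im⟩ := by ext <;> simp
  have k1 {e e' f} (h : B f * A e = A e * B f * Z e f) (h' : B f * A e' = A e' * B f * Z e' f) :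
      B f * A (e + e') = A (e + e') * B f * Z (e + e') f := by
    rw [← aA, ← mul_assoc, h, mul_assoc, ← (cA _ _ _).eq, ← mul_assoc, mul_assoc (A e), h', add_comm e,
      ← z1]
    simp only [mul_assoc]
  have k2 {e f f'} (h : B f * A e = A e * B f * Z e f) (h' : B f' * A e = A e * B f' * Z e f') :
      B (f + f') * A e = A e * B (f + f') * Z e (f + f') := by
    rw [← aB, mul_assoc, h', ← mul_assoc, ← mul_assoc, h, mul_assoc _ _ (B f'), ← (cB _ _ _).eq, ← z2]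
    simp only [mul_assoc]
  rw [sp e, sp f]
  exact k1 (k2 (h11 _ _) (h12 _ _)) (k2 (h21 _ _) (h22 _ _))

set_option synthInstance.maxSize 4000 in
theorem rb_t1 : ∀ r < 48, 8 ≤ ip r r ∧ ∀ s < 48, 8 ≤ ip r s → (s ≠ 47 - r ∧ ¬ Nz r s) ∧ ip s r = ip r s := by
  decide +kernel

set_option synthInstance.maxSize 4000 in
theorem rb_t2 : ∀ r < 48, ∀ s < 48, lg r = lg s → ip r s = (if lg r then 4 else 6) →
    ad r s < 48 ∧ ad s r = ad r s ∧ ip s r = ip r s ∧ 8 ≤ ip r (ad r s) ∧ 8 ≤ ip s (ad r s) := by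
  decide +kernel

set_option synthInstance.maxSize 4000 in
theorem rb_t3 : ∀ r < 48, ∀ s < 48, lg r = true → lg s = false → ip r s = 4 →
    ad r s < 48 ∧ ad (ad r s) s < 48 ∧ 8 ≤ ip r (ad r s) ∧ 8 ≤ ip s (ad r s) ∧
    8 ≤ ip r (ad (ad r s) s) ∧ 8 ≤ ip s (ad (ad r s) s) ∧ 8 ≤ ip (ad r s) (ad (ad r s) s) ∧
    8 ≤ ip (ad (ad r s) s) (ad r s) := by
  decide +kernel

theorem rb_t4 : ∀ i < 4, sm i < 48 := by decide +kernel

/-- the root elements over `E` -/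
noncomputable def rbY (j : Γ F →* G) (g : ℕ → F → G) (ρ : F) (r : ℕ) (e : QuadraticAlgebra F ρ 1) : G :=
  g r e.im * j (xx r e.re)

namespace Db
variable {ρ : F} (h : Db j t O ρ ρ g) {r s : ℕ}
include h

theorem rb_0 (hr : r < 48) : g r 0 = 1 := by
  have := h.add' r hr 0 0
  rwa [add_zero, mul_eq_left] at this

theorem rb_x (hr : r < 48) (a : F) : rbY j g ρ r ⟨a, 0⟩ = j (xx r a) := by
  rw [rbY, h.rb_0 hr, one_mul]

omit h in
theorem rb_y (r : ℕ) (a : F) : rbY j g ρ r ⟨0, a⟩ = g r a := by rw [rbY, xx_zero, map_one, mul_one]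

theorem rb_add (hr : r < 48) (e f : QuadraticAlgebra F ρ 1) :
    rbY j g ρ r e * rbY j g ρ r f = rbY j g ρ r (e + f) := by
  rw [rbY, rbY, rbY, QuadraticAlgebra.re_add, QuadraticAlgebra.im_add, ← h.add' r hr, ← sya_add hr,
    mul_assoc, ← mul_assoc (j _), ← (h.cm' r hr r hr (rb_t1 r hr).1 _ _).eq]
  simp only [mul_assoc]

theorem rb_sq (hr : r < 48) (a : F) : g r a * g r a = 1 := by
  rw [h.add' r hr, CharTwo.add_self_eq_zero, h.rb_0 hr]

theorem rb_com (hr : r < 48) (hs : s < 48) (p : 8 ≤ ip r s) (e f : QuadraticAlgebra F ρ 1) :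
    Commute (rbY j g ρ r e) (rbY j g ρ s f) := by
  obtain ⟨n, p'⟩ := (rb_t1 r hr).2 s hs p
  have c : Commute (g r e.im) (g s f.im) := by
    rcases p.lt_or_eq with p | p
    · exact h.cc r hr s hs (.inl p) _ _
    by_cases l : lg r = lg s
    · exact h.cc r hr s hs (.inr ⟨p.symm, l⟩) _ _
    cases l' : lg r
    · exact h.c90m ⟨hr, l'⟩ hs (by simpa [l'] using l) p.symm _ _
    · exact (h.c90m ⟨hs, by simpa [l'] using l⟩ hr l' (p'.trans p.symm) _ _).symm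
  exact (c.mul_right (h.cm' r hr s hs p _ _)).mul_left
    ((h.cm' s hs r hr (p' ▸ p) _ _).symm.mul_right ((xx_comm hr hs n _ _).map j))

/-- roots of the same length at `120°` -/
theorem rb_120 (hr : r < 48) (hs : s < 48) (l : lg r = lg s) (p : ip r s = if lg r then 4 else 6)
    (e f : QuadraticAlgebra F ρ 1) : rbY j g ρ s f * rbY j g ρ r e =
      rbY j g ρ r e * rbY j g ρ s f * rbY j g ρ (ad r s) (e * f) := by
  have key {r s : ℕ} (hr : r < 48) (hs : s < 48) (l : lg r = lg s) (p : ip r s = if lg r then 4 else 6) :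
      (∀ b c, j (xx s c) * g r b * j (xx s c) = g r b * g (ad r s) (b * c)) ∧
      (∀ b c, g s c * g r b * g s c = g r b * (g (ad r s) (b * c) * j (xx (ad r s) (ρ * (b * c))))) ∧
      ∀ b c : F, j (xx s c) * j (xx r b) = j (xx r b) * j (xx s c) * j (xx (ad r s) (b * c)) := by
    cases l' : lg r <;> simp only [l'] at l p
    · refine ⟨fun b c => ?_, fun b c => ?_, fun b c => ?_⟩
      · rw [h.x120 r s _ ⟨hr, hs, l', l.symm, p, rfl⟩, zero_mul, xx_zero, map_one, mul_one]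
      · rw [h.y120 r s _ ⟨hr, hs, l', l.symm, p, rfl⟩, mul_assoc]
      · rw [← map_mul, relΓ.cs r hr s hs l' l.symm p, map_mul, map_mul]; rfl
    · refine ⟨h.xl r hr s hs l' l.symm p, fun b c => ?_, fun b c => ?_⟩
      · rw [h.yl r hr s hs l' l.symm p, mul_assoc]
      · rw [← map_mul, relΓ.cl r hr s hs l' l.symm p _ _ rfl rfl, map_mul, map_mul]
  obtain ⟨hk, e1, e2, p1, p2⟩ := rb_t2 r hr s hs l p
  obtain ⟨k1, k2, k3⟩ := key hr hs l p
  obtain ⟨k4, -⟩ := key hs hr l.symm (by rw [e2, ← l, p])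
  refine rb_bi (Z := fun e f => rbY j g ρ (ad r s) (e * f)) (h.rb_add hr) (h.rb_add hs)
    (fun e e' f => by rw [h.rb_add hk, add_mul]) (fun e f f' => by rw [h.rb_add hk, mul_add])
    (fun a e f => h.rb_com hr hk p1 _ _) (fun a e f => h.rb_com hs hk p2 _ _)
    (fun a b => ?_) (fun a b => ?_) (fun a b => ?_) (fun a b => ?_) e f
  · rw [h.rb_x hr, h.rb_x hs, k3, ← h.rb_x hk]
    congr 2; ext <;> simp
  · refine rb_h1 (by rw [h.rb_x hr, sya_sq hr]) ?_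
    rw [h.rb_x hr, rb_y, k4, e1, ← rb_y (j := j) (g := g) (ρ := ρ) (ad r s)]
    congr 2; ext <;> simp [mul_comm]
  · refine rb_h2 (by rw [h.rb_x hs, sya_sq hs]) (h.rb_com hs hk p2 _ _) ?_
    rw [h.rb_x hs, rb_y, k1, ← rb_y (j := j) (g := g) (ρ := ρ) (ad r s)]
    congr 2; ext <;> simp
  · refine rb_h2 (by rw [rb_y, h.rb_sq hs]) (h.rb_com hs hk p2 _ _) ?_
    rw [rb_y, rb_y, k2, rbY]
    simp [mul_assoc]

/-- roots at `135°` -/
theorem rb_135 (h1 : X1 j g ρ) (h2 : X2 j g 0) (hr : r < 48) (hs : s < 48) (l : lg r = true)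
    (l' : lg s = false) (p : ip r s = 4) (e f : QuadraticAlgebra F ρ 1) :
    rbY j g ρ s f * rbY j g ρ r e = rbY j g ρ r e * rbY j g ρ s f *
      (rbY j g ρ (ad r s) (e * f) * rbY j g ρ (ad (ad r s) s) (e * (f * f))) := by
  obtain ⟨hm, hn, p1, p2, p3, p4, p5, p6⟩ := rb_t3 r hr s hs l l' p
  have two (e : QuadraticAlgebra F ρ 1) : e + e = 0 := by ext <;> simp [CharTwo.add_self_eq_zero]
  have z (a b c d) : rbY j g ρ (ad r s) a * rbY j g ρ (ad (ad r s) s) b *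
      (rbY j g ρ (ad r s) c * rbY j g ρ (ad (ad r s) s) d) =
      rbY j g ρ (ad r s) (a + c) * rbY j g ρ (ad (ad r s) s) (b + d) := by
    rw [← h.rb_add hm, ← h.rb_add hn, mul_assoc, ← mul_assoc _ (rbY j g ρ (ad r s) c),
      ← (h.rb_com hm hn p5 _ _).eq]
    simp only [mul_assoc]
  have cB (a e f) : Commute (rbY j g ρ s a)
      (rbY j g ρ (ad r s) e * rbY j g ρ (ad (ad r s) s) f) :=
    (h.rb_com hs hm p2 _ _).mul_right (h.rb_com hs hn p4 _ _)
  have cA (a e f) : Commute (rbY j g ρ r a)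
      (rbY j g ρ (ad r s) e * rbY j g ρ (ad (ad r s) s) f) :=
    (h.rb_com hr hm p1 _ _).mul_right (h.rb_com hr hn p3 _ _)
  refine rb_bi (Z := fun e f => rbY j g ρ (ad r s) (e * f) * rbY j g ρ (ad (ad r s) s) (e * (f * f)))
    (h.rb_add hr) (h.rb_add hs) (fun e e' f => by rw [z, add_mul, add_mul]) (fun e f f' => ?_)
    (fun a e f => cA _ _ _) (fun a e f => cB _ _ _)
    (fun a b => ?_) (fun a b => ?_) (fun a b => ?_) (fun a b => ?_) e f
  · rw [z, mul_add]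
    congr 2
    linear_combination (-e) * two (f * f')
  · rw [h.rb_x hr, h.rb_x hs, ← map_mul, relΓ.cm r hr s hs l l' p _ _ rfl, map_mul, map_mul, map_mul,
      ← h.rb_x hm, ← h.rb_x hn]
    congr 3 <;> ext <;> simp
  · refine rb_h1 (by rw [h.rb_x hr, sya_sq hr]) ?_
    rw [h.rb_x hr, rb_y, h1 r hr s hs l l' p, rbY, rbY]
    simp [mul_assoc, xx_zero, pow_two, mul_left_comm]
  · refine rb_h2 (by rw [h.rb_x hs, sya_sq hs]) (cB _ _ _) ?_
    rw [h.rb_x hs, rb_y, h2 r hr s hs l l' p, rbY, rbY]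
    simp [mul_assoc, xx_zero, pow_two]
  · refine rb_h1 (by rw [rb_y, h.rb_sq hr]) ?_
    rw [rb_y, rb_y, (h.y4 h1 h2).2 r hr s hs l l' p, rbY, rbY, mul_assoc _ (g (ad (ad r s) s) _),
      (h.cm' _ hn _ hm p6 _ _).eq]
    simp only [mul_assoc, QuadraticAlgebra.re_mul, QuadraticAlgebra.im_mul]
    congr 2
    · congr 1; ring
    congr 1
    · congr 2; ring
    congr 1
    · congr 1; ring
    · congr 2; linear_combination (ρ ^ 2 * a * b ^ 2) * CharTwo.two_eq_zero (R := F)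

end Db

/-- `E = QuadraticAlgebra F ρ 1` (`ω² = ρ + ω`, `ω³ = ρ + (1 + ρ) ω`), `τ ω = ω + 1` (`star`),
`Y r e = g r e.im * j (xx r e.re)`.  `Rel`: `relΓ`, the fields of `Db`, `c90m`, `X1, X2, y4` (for `cs, cl` the
commutators are central, so biadditive; for `cm` conjugate `Y s f` by `x r u`, then by `g r v`).  `noL` is `Fr.noL`;
`hn` is vacuous (`τ ≠ 1`). -/
theorem Db.ru {ρ : F} (h : Db j t O ρ ρ g) (h1 : X1 j g ρ) (h2 : X2 j g 0) :
    ∃ (E : Type u) (_ : CommRing E) (_ : Finite E) (ι : F →+* E) (τ : E ≃+* E) (Y : ℕ → E → G),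
      RU j t O ι τ (RingEquiv.refl E) Y := by
  have two (e : QuadraticAlgebra F ρ 1) : e + e = 0 := by ext <;> simp [CharTwo.add_self_eq_zero]
  have ti : t⁻¹ = t := inv_eq_of_mul_eq_one_left h.tt
  refine ⟨QuadraticAlgebra F ρ 1, inferInstance, Finite.of_equiv _ (QuadraticAlgebra.equivProd ρ 1).symm,
    algebraMap F _, starRingAut, rbY j g ρ, h.toFo, ⟨two, fun _ => rfl, fun r hr e f _ _ => h.rb_add hr e f,
      fun r hr e _ k => ?_, fun r hr s hs p e f _ _ => h.rb_com hr hs (p.elim le_of_lt fun p => p.1.ge) e f,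
      fun r hr s hs _ _ p e f _ _ => h.rb_com hr hs p.ge e f, fun r hr s hs l l' p e f => ?_,
      fun r hr s hs l l' p e f => h.rb_120 hr hs (l.trans l'.symm) (by simp [l, p]) e f,
      fun r hr s hs l l' p e f _ _ => h.rb_120 hr hs (l.trans l'.symm) (by simp [l, p]) e f,
      fun r hr s hs l l' p e f _ => h.rb_135 h1 h2 hr hs l l' p e f, fun i hi r hr e _ => ?_⟩,
    fun r hr a => h.rb_x hr a, fun _ => rfl, fun r hr e _ => ?_, star_star, fun e => ?_,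
    ⟨⟨0, 1⟩, by ext <;> simp [CharTwo.neg_eq, QuadraticAlgebra.re_one, QuadraticAlgebra.im_one]⟩, .inr rfl,
    fun o ho r hr e _ => (h.cO' r hr _ o ho).mul_right (h.Oj o ho _), fun k => ?_, h.toFr.noL⟩
  · have k1 : g r e.im = j (xx r e.re) := by
      rw [eq_inv_of_mul_eq_one_left k, inv_eq_of_mul_eq_one_left (sya_sq hr _)]
    have k2 := h.ct' r hr e.im
    rw [k1, ← (h.tj _).eq, mul_assoc, sya_sq hr, mul_right_inj, ← map_one j] at k2
    have k3 := relΓ.inj r hr _ (ok_refl _ _) (h.inj k2).symm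
    rw [k3, h.rb_0 hr, ← map_one j] at k1
    exact QuadraticAlgebra.ext (relΓ.inj r hr _ (ok_refl _ _) (h.inj k1).symm) k3
  · rw [RingEquiv.refl_apply, RingEquiv.refl_apply, two, (h.rb_com hr hs p.ge e f).eq]
    have := h.rb_x (sya_or r hr s hs l l' p) 0
    rw [xx_zero, map_one] at this
    exact (mul_one _).symm.trans (congrArg _ this.symm)
  · have e1 : nY (rbY j g ρ) (sm i) = j (nY xx (sm i)) := by
      rw [nY, nY, map_mul, map_mul, ← h.rb_x (rb_t4 i hi), ← h.rb_x (by omega : 47 - sm i < 48)]; rfl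
    rw [e1, RingEquiv.refl_apply, ite_self, rbY, rbY, ← h.wn' i hi r hr, ← xx_wn hi hr, map_mul, map_mul,
      map_inv]
    group
  · have k : t * g r e.im * t⁻¹ = g r e.im * j (xx r e.im) := by
      rw [(h.cm' r hr r hr (rb_t1 r hr).1 _ _).eq, ← mul_right_inj t, ← mul_assoc t (j _), ← h.ct' r hr,
        mul_assoc (g r _ * t), h.rb_sq hr, ti, ← mul_assoc, ← mul_assoc, h.tt, one_mul, mul_one]
    rw [rbY, rbY, starRingAut_apply, QuadraticAlgebra.re_star, QuadraticAlgebra.im_star, CharTwo.neg_eq,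
      one_mul, add_comm, ← sya_add hr, ← mul_assoc, ← mul_assoc, ← k, mul_assoc _ t⁻¹,
      (h.tj _).inv_left.eq, ← mul_assoc]
  · refine ⟨fun k => ⟨e.re, QuadraticAlgebra.ext rfl ?_⟩, ?_⟩
    · simpa [eq_comm] using congrArg QuadraticAlgebra.re k
    · rintro ⟨a, rfl⟩; ext <;> simp
  · simpa using congrArg (fun σ : _ ≃+* _ => (σ (⟨0, 1⟩ : QuadraticAlgebra F ρ 1)).re) k

end Cfsg.Agent.F4Q
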