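import Mathlib
import Cfsg.Agent.F4Q.St2
import Cfsg.Agent.Inv.ZStarCor

/-! Step 0: `t` is fused to `t x` for a root element `x`.  `D = t^G`, `m = x₄₇(1) x₄₄(1)`,
`a₀ = x₃₉(1) x₄₅(1)`. -/

set_option autoImplicit false

namespace Cfsg.Agent.F4Q

open Cfsg.Lie Cfsg.Agent.Chev Subgroup Cfsg.Agent.PLocal.Amb
open Cfsg.Agent.F42S (lg ip ad gm sm sr Mo aw)
open Cfsg.Agent.FinS (Rt Rg Uf)
open scoped commutatorElement


variable {F : Type*} [Field F] [Finite F] [CharP F 2] {G : Type*} [Group G] [Finite G]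
  {X : Subgroup G} {j : Γ F →* G} {t : G} {γ : Γ F ≃* Γ F}

theorem s0_sq (r : ℕ) (hr : r < 48) (a : F) : (xx r a : Γ F) * xx r a = 1 := relΓ.sq hr (ok_refl _ _)

theorem s0_add (r : ℕ) (hr : r < 48) (a b : F) : (xx r a : Γ F) * xx r b = xx r (a + b) :=
  relΓ.add r hr a b (ok_refl _ _) (ok_refl _ _)

theorem s0_ne (r : ℕ) (hr : r < 48) {a : F} (ha : a ≠ 0) : (xx r a : Γ F) ≠ 1 :=
  fun e => ha (relΓ.inj r hr a (ok_refl _ _) e)

theorem s0_zero (r : ℕ) (hr : r < 48) : (xx r (0 : F) : Γ F) = 1 := relΓ.zero hr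

theorem s0_com (a b : F) : (xx 44 a : Γ F) * xx 47 b = xx 47 b * xx 44 a :=
  (relΓ.comm (by omega) (by omega) (by omega) (by decide +kernel) (ok_refl _ _) (ok_refl _ _)).eq

theorem s0_ne' {a b : F} (hb : b ≠ 0) : (xx 44 a : Γ F) ≠ xx 47 b := fun e => by
  have ha : a ≠ 0 := by
    rintro rfl
    rw [s0_zero 44 (by omega)] at e
    exact s0_ne 47 (by omega) hb e.symm
  have h1 := conj_long (r := 47) (by omega) (by decide +kernel) hb
  have h2 := conj_short (r := 44) (by omega) (by decide +kernel) ha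
  exact (ncls (F := F)).1 (h1.trans (e ▸ h2.symm))

theorem s0_mem {r : ℕ} (hr : r < 48) {g : G} : g ∈ (XL F {r}).map j ↔ ∃ a, g = j (xx r a) :=
  ⟨fun ⟨_, hy, e⟩ => let ⟨a, _, e'⟩ := (relΓ.mem_one hr).1 hy; ⟨a, by rw [← e, e']⟩,
    fun ⟨a, e⟩ => ⟨_, (relΓ.mem_one hr).2 ⟨a, ok_refl _ _, rfl⟩, e.symm⟩⟩

theorem s0_norm {r : ℕ} (hr : r < 48) {g : G} (h : ∀ a, ∃ b, g * j (xx r a) * g⁻¹ = j (xx r b)) :
    g ∈ 𝐍[(XL F {r}).map j] :=
  mem_normalizer_of_cj_le (cj_le_iff_forall.2 fun x hx => by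
    obtain ⟨a, rfl⟩ := (s0_mem hr).1 hx
    exact (s0_mem hr).2 (h a))

omit [Finite G] in
theorem s0_sqc {x y : G} (h : IsConj x y) (hx : x * x = 1) : y * y = 1 := by
  obtain ⟨c, rfl⟩ := isConj_iff.1 h
  rw [conj_mul, hx, mul_one, mul_inv_cancel]

omit [Finite G] in
theorem s0_cj (g x : G) : IsConj x (g * x * g⁻¹) := isConj_iff.2 ⟨g, rfl⟩

omit [Finite G] in
theorem s0_com2 {x y : G} (hx : x * x = 1) (hy : y * y = 1) (h : x * y * (x * y) = 1) : Commute x y := by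
  have := inv_eq_of_mul_eq_one_right h
  rw [mul_inv_rev, inv_eq_of_mul_eq_one_right hx, inv_eq_of_mul_eq_one_right hy] at this
  exact this.symm

omit [Finite F] [CharP F 2] [Finite G] in
theorem Fr.s0_conj (h : Fr j t) (c a : Γ F) : j c * (t * j a) * (j c)⁻¹ = t * j (c * a * c⁻¹) := by
  rw [← mul_assoc, ← (h.tj c).eq, map_mul, map_mul, map_inv]
  group

omit [Finite F] [CharP F 2] [Finite G] in
theorem Fr.s0_cls (h : Fr j t) {a b : Γ F} (e : IsConj a b) : IsConj (t * j a) (t * j b) := by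
  obtain ⟨c, rfl⟩ := isConj_iff.1 e
  exact isConj_iff.2 ⟨j c, h.s0_conj c a⟩

omit [Finite F] [CharP F 2] [Finite G] in
theorem Fr.s0_fix (h : Fr j t) (c : Γ F) : j c * t * (j c)⁻¹ = t := by
  rw [← (h.tj c).eq, mul_inv_cancel_right]

/-- an inner involution `x` with `t x ∈ D` lies in `L` -/
theorem Fr.s0_inn (h : Fr j t) {x : G} (h1 : x * x = 1) (h2 : Commute x t) (h3 : IsConj t (t * x))
    {α : Γ F ≃* Γ F} (e : ∀ a, x * j a * x⁻¹ = j (α a)) {l : Γ F} (hl : Inr α l) :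
    ∃ a, a * a = 1 ∧ x = j a := by
  obtain ⟨k, hk, rfl⟩ := h.pin h2 e hl
  obtain ⟨h4, rfl | rfl⟩ := h.inv_inn hk h1
  · exact ⟨l, h4, mul_one _⟩
  · refine absurd ?_ (h.noL l)
    rwa [← (h.tj l).eq, ← mul_assoc, h.tt, one_mul] at h3

omit [Finite F] [CharP F 2] [Finite G] in
theorem s0_back {g : G} {a : Γ F}
    (h : IsConj t (g * t * g⁻¹ * ((MulAut.conj g).toMonoidHom.comp j) a)) : IsConj t (t * j a) := by
  have e : g * t * g⁻¹ * ((MulAut.conj g).toMonoidHom.comp j) a = g * (t * j a) * g⁻¹ := by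
    change g * t * g⁻¹ * (g * j a * g⁻¹) = _
    group
  rw [e] at h
  exact h.trans (s0_cj g _).symm

/-- elements of `N(j U)` permute the two central root groups -/
theorem Fr.s0_aut (h : Fr j t) {g : G} (hg : g ∈ 𝐍[(UU F 24).map j]) :
    ((∀ a, ∃ b, g * j (xx 44 a) * g⁻¹ = j (xx 44 b)) ∧ ∀ a, ∃ b, g * j (xx 47 a) * g⁻¹ = j (xx 47 b)) ∨
    ((∀ a, ∃ b, g * j (xx 44 a) * g⁻¹ = j (xx 47 b)) ∧ ∀ a, ∃ b, g * j (xx 47 a) * g⁻¹ = j (xx 44 b)) := by
  let e := (UU F 24).equivMapOfInjective j h.inj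
  let θ : UU F 24 ≃* UU F 24 := (e.trans (((UU F 24).map j).normalizerMonoidHom ⟨g, hg⟩)).trans e.symm
  have hθ : ∀ u : UU F 24, g * j u * g⁻¹ = j (θ u) := fun u => by
    have : e (θ u) = ((UU F 24).map j).normalizerMonoidHom ⟨g, hg⟩ (e u) := e.apply_symm_apply _
    exact (congrArg Subtype.val this).symm
  have key : ∀ r s, 24 ≤ r → r < 48 → s < 48 → (∀ y : UU F 24, y.1 ∈ XL F {r} → (θ y).1 ∈ XL F {s}) →
      ∀ a, ∃ b, g * j (xx r a) * g⁻¹ = j (xx s b) := fun r s h1 h2 h3 H a => by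
    obtain ⟨b, -, hb⟩ := (relΓ.mem_one h3).1 (H ⟨xx r a, mem_SK h1 h2 (ok_refl _ _)⟩
      ((relΓ.mem_one h2).2 ⟨a, ok_refl _ _, rfl⟩))
    exact ⟨b, hb ▸ hθ ⟨xx r a, _⟩⟩
  exact (autU θ).imp
    (fun a => ⟨key _ _ (by omega) (by omega) (by omega) a.1, key _ _ (by omega) (by omega) (by omega) a.2⟩)
    fun a => ⟨key _ _ (by omega) (by omega) (by omega) a.1, key _ _ (by omega) (by omega) (by omega) a.2⟩

theorem Fr.s0_nz (h : Fr j t) {g : G} {r s : ℕ} (hr : r < 48) (hs : s < 48) {a b : F} (ha : a ≠ 0)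
    (e : g * j (xx r a) * g⁻¹ = j (xx s b)) : b ≠ 0 := by
  rintro rfl
  rw [s0_zero s hs, map_one, conj_eq_one_iff, ← map_one j] at e
  exact s0_ne r hr ha (h.inj e)

omit [CharP F 2] in
theorem s0_three (hq : Nat.card F ≠ 2) : ∃ c : F, c ≠ 0 ∧ c ≠ 1 := by
  by_contra hn
  refine hq (Nat.card_eq_two_iff.2 ⟨0, 1, zero_ne_one, Set.eq_univ_of_forall fun c => ?_⟩)
  by_contra r
  exact hn ⟨c, fun e => r (Or.inl e), fun e => r (Or.inr e)⟩

omit [Finite F] in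
theorem s0_one_add {c : F} (h : c ≠ 1) : 1 + c ≠ 0 := fun e =>
  h (by rw [← CharTwo.neg_eq c]; exact (eq_neg_of_add_eq_zero_left e).symm)

/-- `O(G) = 1`, `Z(G) = 1` (`O(G) ⊓ X = 1`, `cenX`); Glauberman's `Z*` theorem. -/
theorem Top.fused (h : Top X j t) : ∃ d, IsConj t d ∧ Commute d t ∧ d ≠ t := by
  by_contra hn
  have o2 : orderOf t = 2 := orderOf_eq_prime (by rw [pow_two, h.tt]) h.t1
  have iso : Cfsg.IsIsolatedInvolution t := ⟨o2, fun g hg => by_contra fun r => hn ⟨_, s0_cj g t, hg.symm, r⟩⟩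
  have := h.nrmX
  have := h.simple
  have hO : Cfsg.oddCore G ⊓ X = ⊥ := by
    rcases (inferInstance : ((Cfsg.oddCore G).subgroupOf X).Normal).eq_bot_or_eq_top with e | e
    · exact disjoint_iff.1 (subgroupOf_eq_bot.1 e)
    · exfalso
      have h1 := Grp.orderOf_coprime_of_mem_pPrimeCore (p := 2) (x := j (xx 44 1))
        (subgroupOf_eq_top.1 e (h.le _))
      rw [orderOf_injective j h.inj, orderOf_eq_prime (p := 2) (by rw [pow_two, s0_sq 44 (by omega)])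
        (s0_ne 44 (by omega) one_ne_zero)] at h1
      exact absurd h1 (by decide)
  have hO' : Cfsg.oddCore G ≤ X := (le_centralizer_iff.1 (commutator_eq_bot_iff_le_centralizer.1
    (eq_bot_iff.2 ((commutator_le_inf X (Cfsg.oddCore G)).trans (inf_comm X _ ▸ hO).le)))).trans h.cenX
  have hc : ∀ g, t * g = g * t := fun g => by
    have h1 := Cfsg.Agent.Inv.ZStar.commutator_mem_oddCore_of_isolated iso g
    have h2 := mem_bot.1 (hO.le ⟨h1, hO' h1⟩)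
    rwa [mul_inv_eq_one, mul_inv_eq_iff_eq_mul] at h2
  have tX : t ∈ X := h.cenX fun g _ => (hc g).symm
  rcases (inferInstance : (center X).Normal).eq_bot_or_eq_top with e | e
  · exact h.t1 (congrArg Subtype.val (mem_bot.1 (e.le (mem_center_iff.2 fun g : X =>
      Subtype.ext (hc g).symm : (⟨t, tX⟩ : X) ∈ center X))))
  · exact h.nab ⟨⟨fun a b => mem_center_iff.1 (e.ge (mem_top b)) a⟩⟩

/-- If `d` is inner: `pin`, `inv_inn`, `noL`.  Otherwise `outer4`: `w_i = j (y_i α y_i)`, `d w_i = d^{y_i}`,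
`d w₁ w₂ = d^{y₁ y₂}`; by `out_two` in the frame of `d` one of `w₁, w₂, w₁ w₂` is inner there. -/
theorem Fr.fused_inn (h : Fr j t) {d : G} (h1 : IsConj t d) (h2 : Commute d t) (h3 : d ≠ t) :
    ∃ a, a ≠ 1 ∧ a * a = 1 ∧ IsConj t (t * j a) := by
  have dd := s0_sqc h1 h.tt
  obtain ⟨α, hα⟩ := h.hom h2
  by_cases hi : ∃ l, Inr α l
  · obtain ⟨l, hl⟩ := hi
    have e : t * (t * d) = d := by rw [← mul_assoc, h.tt, one_mul]
    obtain ⟨a, h4, h5⟩ := h.s0_inn (x := t * d)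
      (by rw [mul_assoc, ← mul_assoc d, h2.eq, mul_assoc t, dd, mul_one, h.tt])
      ((Commute.refl t).mul_left h2) (by rwa [e]) (α := α) (fun a => by
        calc t * d * j a * (t * d)⁻¹ = t * (d * j a * d⁻¹) * t⁻¹ := by group
          _ = j (α a) := by rw [hα, (h.tj _).eq, mul_inv_cancel_right]) hl
    refine ⟨a, fun r => h3 ?_, h4, by rwa [← h5, e]⟩
    rw [← e, h5, r, map_one, mul_one]
  have di : d⁻¹ = d := inv_eq_of_mul_eq_one_right dd
  obtain ⟨W, hW, y₁, m1, y₂, m2, n1, n2, n3⟩ := outer4 α (fun b => h.inj (by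
    rw [← hα, ← hα, di]
    calc d * (d * j b * d) * d = (d * d) * j b * (d * d) := by group
      _ = j b := by rw [dd, one_mul, mul_one])) fun l hl => hi ⟨l, hl⟩
  obtain ⟨g, rfl⟩ := isConj_iff.1 h1
  have h' := h.conj g
  generalize hd : g * t * g⁻¹ = d at *
  have cW : ∀ {x y}, x ∈ W → y ∈ W → x * y = y * x := fun a b =>
    (s0_com2 (hW _ a).1 (hW _ b).1 (hW _ (mul_mem a b)).1).eq
  have k1 : ∀ y ∈ W, IsConj d (j (y * α y) * d) := fun y hy => isConj_iff.2 ⟨j y, by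
    rw [map_mul, ← hα, ← map_inv, inv_eq_of_mul_eq_one_right (hW y hy).1]
    group⟩
  have k2 : ∀ y ∈ W, j (y * α y) * j (y * α y) = 1 := fun y hy => by
    rw [← map_mul, (hW _ (mul_mem hy (hW y hy).2)).1, map_one]
  have k3 : ∀ y ∈ W, Commute (j (y * α y)) d := fun y hy => s0_com2 (k2 y hy) dd (s0_sqc (k1 y hy) dd)
  have k4 : ∀ y ∈ W, y * α y ≠ 1 → ∀ (β : Γ F ≃* Γ F) (l : Γ F), (∀ a, j (y * α y) *
      ((MulAut.conj g).toMonoidHom.comp j) a * (j (y * α y))⁻¹ = ((MulAut.conj g).toMonoidHom.comp j) (β a)) →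
      Inr β l → ∃ a, a ≠ 1 ∧ a * a = 1 ∧ IsConj t (t * j a) := fun y hy n β l e hl => by
    have h4 : IsConj d (d * j (y * α y)) := (k3 y hy).eq ▸ k1 y hy
    obtain ⟨a, h5, h6⟩ := h'.s0_inn (k2 y hy) (k3 y hy) h4 e hl
    refine ⟨a, fun r => n (h.inj ?_), h5, s0_back (g := g) ?_⟩
    · rw [h6, r, map_one, map_one]
    · rw [hd, ← h6]
      exact h1.trans h4
  have k5 : ∀ y ∈ W, ∀ β : Γ F ≃* Γ F, (∀ a, j (y * α y) *
      ((MulAut.conj g).toMonoidHom.comp j) a * (j (y * α y))⁻¹ = ((MulAut.conj g).toMonoidHom.comp j) (β a)) →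
      ∃ l, Inr (β.trans β) l := fun y hy β e => ⟨1, fun b => h'.inj (by
    rw [MulEquiv.trans_apply, ← e, ← e, one_mul, inv_one, mul_one]
    have := k2 y hy
    generalize j (y * α y) = x at this
    generalize ((MulAut.conj g).toMonoidHom.comp j) b = u
    rw [inv_eq_of_mul_eq_one_right this]
    calc x * (x * u * x) * x = (x * x) * u * (x * x) := by group
      _ = _ := by rw [this, one_mul, mul_one])⟩
  obtain ⟨β₁, e1⟩ := h'.hom (k3 y₁ m1)
  obtain ⟨β₂, e2⟩ := h'.hom (k3 y₂ m2)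
  rcases out_two β₁ β₂ (k5 y₁ m1 β₁ e1) (k5 y₂ m2 β₂ e2) with ⟨l, hl⟩ | ⟨l, hl⟩ | ⟨l, hl⟩
  · exact k4 y₁ m1 n1 β₁ l e1 hl
  · exact k4 y₂ m2 n2 β₂ l e2 hl
  · have e3 : y₂ * y₁ * α (y₂ * y₁) = y₂ * α y₂ * (y₁ * α y₁) := by
      rw [map_mul, mul_assoc, ← mul_assoc y₁, cW m1 (hW _ m2).2]
      group
    refine k4 (y₂ * y₁) (mul_mem m2 m1) (fun r => n3 ?_) _ l (fun a => ?_) hl
    · rw [e3] at r
      rw [← inv_eq_of_mul_eq_one_right r, inv_eq_of_mul_eq_one_right (hW _ (mul_mem m2 (hW _ m2).2)).1]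
    · rw [MulEquiv.trans_apply, ← e2, ← e1, e3, map_mul j (y₂ * α y₂)]
      group

/-- Suppose not, so `t j(b) ∈ D` iff `b = 1` or `b ∼ a₀` for involutions `b` (`cls`).  `d = t a₀ = g t g⁻¹`,
`j' = g j g⁻¹`.  `j a₀ ∈ L_d` (`h3`, `dd`) is in the class `a₀` there; adjust `g` so that
`j' a₀ = j a₀`.  `Y = j' Y₀ ≤ C_{L_d}(a₀)'' ≤ C(t)''` lies in `L` (`y0_le`, `dd`), is normalized by
`C_L(a₀) ≤ C(d)` (`y0_aut`).  For `1 ≠ y ∈ Y`: `t y = d a₀ y ∈ D` (`y0_conj`), `t a₀ y = d y ∉ D`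
(`y0_not`).  `pure_a`. -/
theorem Fr.not_only_a (h : Fr j t) (h1 : IsConj t (t * j (xx 39 1 * xx 45 1))) :
    IsConj t (t * j (xx 44 1)) ∨ IsConj t (t * j (xx 47 1)) ∨
      IsConj t (t * j (xx 47 1 * xx 44 1)) := by
  by_contra hn
  generalize ha : (xx 39 1 * xx 45 1 : Γ F) = a₀ at h1
  have k1 : ∀ b, b * b = 1 → b ≠ 1 → IsConj t (t * j b) → IsConj a₀ b := fun b b2 b1 e => by
    rcases cls b2 b1 with c | c | c | c
    · exact absurd (Or.inr (Or.inl (e.trans (h.s0_cls c).symm))) hn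
    · exact absurd (Or.inl (e.trans (h.s0_cls c).symm)) hn
    · exact absurd (Or.inr (Or.inr (e.trans (h.s0_cls c).symm))) hn
    · exact ha ▸ c
  have a2 : a₀ * a₀ = 1 := h.inj (by
    have := s0_sqc h1 h.tt
    rwa [mul_assoc, ← mul_assoc (j a₀), ← (h.tj a₀).eq, mul_assoc t, ← mul_assoc, h.tt, one_mul, ← map_mul,
      ← map_one j] at this)
  have a1 : a₀ ≠ 1 := fun e => y0_not (F := F) (one_mem _) (by rw [ha, e])
  have ta : t * j a₀ * j a₀ = t := by rw [mul_assoc, ← map_mul, a2, map_one, mul_one]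
  have dd2 : ∀ (f : Γ F →* G) (s : G), (∀ c, Commute c a₀ → Commute (f c) s) → ∀ y,
      y ∈ ⁅⁅centralizer ({a₀} : Set (Γ F)), centralizer ({a₀} : Set (Γ F))⁆,
        ⁅centralizer ({a₀} : Set (Γ F)), centralizer ({a₀} : Set (Γ F))⁆⁆ →
      f y ∈ ⁅⁅centralizer ({s} : Set G), centralizer {s}⁆, ⁅centralizer ({s} : Set G), centralizer {s}⁆⁆ :=
    fun f s H y hy => by
      have h2 : (centralizer ({a₀} : Set (Γ F))).map f ≤ centralizer {s} := by
        rintro _ ⟨c, hc, rfl⟩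
        exact mem_centralizer_singleton_iff.2 (H c (mem_centralizer_singleton_iff.1 hc))
      have h3 := mem_map_of_mem f hy
      rw [map_commutator, map_commutator] at h3
      exact commutator_mono (commutator_mono h2 h2) (commutator_mono h2 h2) h3
  have cd : ∀ c, Commute c a₀ → Commute (j c) (t * j a₀) := fun c hc =>
    (h.tj c).symm.mul_right (hc.map j)
  obtain ⟨g, e1, e2⟩ : ∃ g, g * t * g⁻¹ = t * j a₀ ∧ g * j a₀ * g⁻¹ = j a₀ := by
    obtain ⟨g, hg⟩ := isConj_iff.1 h1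
    have h' := h.conj g
    obtain ⟨b, hb⟩ := h'.dd (hg ▸ dd2 j _ cd a₀ (h3 a2)) (by rw [← map_mul, a2, map_one])
    have b2 : b * b = 1 := h'.inj (by rw [map_mul, ← hb, ← map_mul, a2, map_one, map_one])
    have b1 : b ≠ 1 := fun e => a1 (h.inj (by rw [hb, e, map_one, map_one]))
    obtain ⟨c, rfl⟩ := isConj_iff.1 (k1 b b2 b1 (s0_back (g := g) (by rw [← hb, hg, ta])))
    refine ⟨g * j c, ?_, ?_⟩
    · rw [← hg]
      nth_rewrite 2 [← h.s0_fix c]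
      group
    · refine Eq.trans ?_ hb.symm
      change _ = g * j (c * a₀ * c⁻¹) * g⁻¹
      rw [map_mul, map_mul, map_inv]
      group
  have h' := h.conj g
  have ej : ∀ y, ((MulAut.conj g).toMonoidHom.comp j) y = g * j y * g⁻¹ := fun _ => rfl
  generalize (MulAut.conj g).toMonoidHom.comp j = j' at h' ej
  have e3 : j' a₀ = j a₀ := (ej _).trans e2
  have k2 : ∀ y, IsConj (t * j y) (t * j a₀ * j' y) := fun y => isConj_iff.2 ⟨g, by
    rw [← e1, ej]; group⟩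
  have k3 : ∀ y ∈ XL F {40, 44, 46, 47}, ∃ b, j' y = j b := fun y hy =>
    h.dd (dd2 j' t (fun c hc => by
      rw [← ta]
      exact (e1 ▸ (h'.tj c).symm).mul_right (e3 ▸ hc.map j')) y (ha ▸ y0_le hy))
      (by rw [← map_mul, y0_card.2 y hy, map_one])
  have mp : (((XL F {40, 44, 46, 47}).map j').comap j).map j = (XL F {40, 44, 46, 47}).map j' :=
    map_comap_eq_self (by
      rintro _ ⟨y, hy, rfl⟩
      obtain ⟨b, hb⟩ := k3 y hy
      exact ⟨b, hb.symm⟩)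
  have sq : ∀ y ∈ ((XL F {40, 44, 46, 47}).map j').comap j, y * y = 1 := by
    rintro y ⟨z, hz, e⟩
    exact h.inj (by rw [map_mul, ← e, ← map_mul, y0_card.2 z hz, map_one, map_one])
  refine pure_a (Y := ((XL F {40, 44, 46, 47}).map j').comap j) ?_ sq (fun c hc => ?_) ?_
  · rw [← card_map_of_injective h.inj, mp, card_map_of_injective h'.inj]
    exact y0_card.1
  · rw [ha] at hc
    have hc' : Commute c a₀ := mem_centralizer_singleton_iff.1 hc
    obtain ⟨α, hα⟩ := h'.hom (e1.symm ▸ cd c hc')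
    have h4 : α a₀ = a₀ := h'.inj (by rw [← hα, e3, (hc'.map j).eq, mul_inv_cancel_right])
    refine mem_normalizer_of_cj_le (cj_le_iff_forall.2 ?_)
    rintro y ⟨z, hz, e⟩
    exact ⟨α z, y0_aut α (ha.symm ▸ h4) hz, by rw [← hα, e, map_mul, map_mul, map_inv]⟩
  · intro y hy y1
    have y2 := sq y hy
    obtain ⟨z, hz, e⟩ := hy
    rw [ha]
    refine ⟨k1 y y2 y1 ?_, fun r => y0_not hz ?_⟩
    · have h4 := (h1.trans (h.s0_cls (ha ▸ y0_conj hz))).trans (k2 _)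
      rwa [map_mul, e3, ← mul_assoc, ta, e] at h4
    · rw [ha]
      refine k1 z (y0_card.2 z hz) (fun s => y1 (h.inj (by rw [← e, s, map_one, map_one]))) ?_
      have h4 := h1.trans (h.s0_cls r)
      rw [map_mul, ← mul_assoc, ← e] at h4
      exact h4.trans (k2 z).symm

/-- `C_L(z) ≥ U` is perfect, so `j U ≤ L_d` (`map_le`) is a Sylow subgroup of `L_d`; adjust by `L_d`. -/
theorem Fr.mv (h : Fr j t) {z : Γ F} {P : Subgroup (Γ F)} (h1 : UU F 24 ≤ P) (h2 : ⁅P, P⁆ = P)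
    (h3 : ∀ p ∈ P, Commute p z) (h4 : IsConj t (t * j z)) :
    ∃ g ∈ 𝐍[(UU F 24).map j], g * t * g⁻¹ = t * j z := by
  obtain ⟨g, hg⟩ := isConj_iff.1 h4
  have h' := h.conj g
  have ej : ∀ y, ((MulAut.conj g).toMonoidHom.comp j) y = g * j y * g⁻¹ := fun _ => rfl
  generalize (MulAut.conj g).toMonoidHom.comp j = j' at h' ej
  have hP : P.map j ≤ centralizer {g * t * g⁻¹} := by
    rintro _ ⟨p, hp, rfl⟩
    rw [hg]
    exact mem_centralizer_singleton_iff.2 ((h.tj p).symm.mul_right ((h3 p hp).map j))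
  have hU : (UU F 24).map j ≤ j'.range := map_le_iff_le_comap.2 (YS_le.2 fun r hr e he => by
    obtain ⟨a, ha⟩ := h'.map_le hP (by rw [← map_commutator, h2]) (mem_map_of_mem j (h1 (mem_YS hr he)))
      (by rw [← map_mul, s0_sq r hr.2, map_one])
    exact ⟨a, ha.symm⟩)
  have mp : (((UU F 24).map j).comap j').map j' = (UU F 24).map j := map_comap_eq_self hU
  have cd : Nat.card (((UU F 24).map j).comap j') = Nat.card (UU F 24) := by
    rw [← card_map_of_injective h'.inj, mp, card_map_of_injective h.inj]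
  have hV : IsSyl 2 (((UU F 24).map j).comap j') ⊤ :=
    sylΓ.of_card_ge ((sylΓ.pgrp.map j).comap_of_injective j' h'.inj) le_top cd.ge
  obtain ⟨c, -, hc⟩ := hV.exists_cj_eq sylΓ
  refine ⟨g * j c, mem_normalizer_of_cj_le (cj_le_iff_forall.2 ?_), ?_⟩
  · rintro _ ⟨u, hu, rfl⟩
    have h5 : j' (c * u * c⁻¹) ∈ (UU F 24).map j := hc.le (conj_mem_cj c hu)
    rw [ej, map_mul, map_mul, map_inv] at h5
    convert h5 using 1
    group
  · rw [← hg]
    nth_rewrite 2 [← h.s0_fix c]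
    group

/-- `q = 2`: `only_m`.  `q > 2`: `mv` (`perf14`), `autU`: `g` maps `t x₄₄(a)` to `t m x₄₄(a')` or
`t m x₄₇(a')`; choose `a ≠ 0` with `a' ≠ 1`; this is in `D` (`conj_m`), so `t x₄₄(a) ∈ D`. -/
theorem Fr.root_of_m (h : Fr j t) (h1 : IsConj t (t * j (xx 47 1 * xx 44 1))) :
    IsConj t (t * j (xx 44 1)) ∨ IsConj t (t * j (xx 47 1)) := by
  by_cases hq : Nat.card F = 2
  · exact h.only_m hq h1
  obtain ⟨g, hg, e⟩ := h.mv (P := XL F {r | r < 48 ∧ 8 ≤ ip 47 r ∧ 8 ≤ ip 44 r})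
    (YS_mono fun r hr => ⟨hr.2, (show ∀ r < 48, 24 ≤ r → 8 ≤ ip 47 r ∧ 8 ≤ ip 44 r by decide +kernel)
      r hr.2 hr.1⟩) (perf14 hq) (fun p hp => (cm' one_ne_zero one_ne_zero).2 hp) h1
  obtain ⟨c, c0, c1⟩ := s0_three hq
  have key : ∀ s < 48, (∀ a, ∃ b, g * j (xx 44 a) * g⁻¹ = j (xx s b)) →
      ∃ a b, a ≠ 0 ∧ 1 + b ≠ 0 ∧ g * j (xx 44 a) * g⁻¹ = j (xx s b) := fun s _ H => by
    obtain ⟨b, hb⟩ := H 1
    obtain ⟨b', hb'⟩ := H c
    by_cases r : b = 1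
    · refine ⟨c, b', c0, s0_one_add fun r' => c1 ?_, hb'⟩
      rw [r', ← r, ← hb, mul_left_inj, mul_right_inj] at hb'
      exact relΓ.eq (by omega) (ok_refl _ _) (ok_refl _ _) (h.inj hb')
    · exact ⟨1, b, one_ne_zero, s0_one_add r, hb⟩
  have fin : ∀ (a : F) (y : Γ F), a ≠ 0 → g * j (xx 44 a) * g⁻¹ = j y →
      IsConj (xx 47 1 * xx 44 1) (xx 47 1 * xx 44 1 * y) → IsConj t (t * j (xx 44 1)) := fun a y ha e1 e2 => by
    have h2 := h1.trans (h.s0_cls e2)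
    rw [map_mul, ← mul_assoc, ← e, ← e1, conj_mul] at h2
    exact (h2.trans (s0_cj g _).symm).trans
      (h.s0_cls (conj_short (r := 44) (by omega) (by decide +kernel) ha)).symm
  left
  rcases h.s0_aut hg with ⟨H, -⟩ | ⟨H, -⟩
  · obtain ⟨a, b, ha, hb, e1⟩ := key 44 (by omega) H
    refine fin a _ ha e1 ?_
    rw [mul_assoc, s0_add 44 (by omega)]
    exact conj_m one_ne_zero hb
  · obtain ⟨a, b, ha, hb, e1⟩ := key 47 (by omega) H
    refine fin a _ ha e1 ?_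
    rw [mul_assoc, s0_com, ← mul_assoc, s0_add 47 (by omega)]
    exact conj_m hb one_ne_zero

/-- If `g ∈ N(j U)` normalizes `j X₄₄` and `g t g⁻¹ = t x₄₄(a)`, `a ≠ 0`, multiply by torus elements. -/
theorem Fr.sw_of (h : Fr j t) {g : G} {a : F} (ha : a ≠ 0) (h1 : g ∈ 𝐍[(XL F {44}).map j])
    (h2 : g * t * g⁻¹ = t * j (xx 44 a)) : Sw j t := by
  obtain ⟨c, hc⟩ := (s0_mem (by omega)).1 (PLocal.Amb.conj_mem_of_mem_normalizer (inv_mem h1)
    ((s0_mem (r := 44) (by omega)).2 ⟨a, rfl⟩))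
  have c0 := h.s0_nz (by omega) (by omega) ha hc
  obtain ⟨k₁, χ₁, t1, e1, -⟩ := tor2 (r := 44) (s := 47) (by omega) (by omega) (by omega) (by omega)
    (inv_ne_zero ha) (one_ne_zero' F)
  obtain ⟨k₂, χ₂, t2, e2, -⟩ := tor2 (r := 44) (s := 47) (by omega) (by omega) (by omega) (by omega)
    c0 (one_ne_zero' F)
  have f1 : k₁ * xx 44 a * k₁⁻¹ = xx 44 1 := by rw [t1.conj 44 (by omega), e1, inv_mul_cancel₀ ha]
  have f2 : k₂ * xx 44 1 * k₂⁻¹ = xx 44 c := by rw [t2.conj 44 (by omega), e2, mul_one]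
  refine ⟨j k₁ * g * j k₂, ?_, ?_⟩
  · rw [← f1, ← h.s0_conj, ← h2]
    nth_rewrite 2 [← h.s0_fix k₂]
    group
  · refine mul_inv_eq_iff_eq_mul.1 ?_
    calc _ = j k₁ * (g * j (k₂ * xx 44 1 * k₂⁻¹) * g⁻¹) * (j k₁)⁻¹ := by
          rw [map_mul, map_mul, map_inv]; group
      _ = j (k₁ * xx 44 a * k₁⁻¹) := by
          rw [f2, ← hc, map_mul, map_mul, map_inv]; group
      _ = _ := by rw [f1]

/-- `mv` (`perf44`), `autU`.  If `g` swaps `X₄₄`, `X₄₇` then `k = g²` fixes both groups and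
`k t k⁻¹ = t x₄₄(1) x₄₇(b)`, `b ≠ 0`.  `q = 2`: `two_move`.  `q > 2`: pick `a ≠ 0, 1` and a torus element `h`
with `χ 44 = 1 + a`, `χ 47 = 1`: `k⁻¹ h k` maps `t` to `t x₄₄(a')`, `a' ≠ 0`; `sw_of`. -/
theorem Fr.sw_of_root (hγ : Gam γ) (h : Fr j t) (h1 : IsConj t (t * j (xx 44 1))) :
    Sw j t ∨ Sw (j.comp γ.toMonoidHom) t := by
  obtain ⟨g, hg, e⟩ := h.mv (P := UU F 15) (SK_mono (by omega)) perf44
    (fun p hp => (c44 one_ne_zero).2 hp) h1
  rcases h.s0_aut hg with ⟨H, -⟩ | ⟨H1, H2⟩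
  · exact Or.inl (h.sw_of one_ne_zero (s0_norm (by omega) H) e)
  obtain ⟨b, hb⟩ := H1 1
  have b0 := h.s0_nz (by omega) (by omega) one_ne_zero hb
  have e2 : g * g * t * (g * g)⁻¹ = t * j (xx 44 1 * xx 47 b) := by
    rw [map_mul, ← mul_assoc, ← e, ← hb, conj_mul, ← e]
    group
  have f44 : ∀ a, ∃ b, g * g * j (xx 44 a) * (g * g)⁻¹ = j (xx 44 b) := fun a => by
    obtain ⟨c, hc⟩ := H1 a
    obtain ⟨d, hd⟩ := H2 c
    exact ⟨d, by rw [← hd, ← hc]; group⟩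
  have f47 : ∀ a, ∃ b, g * g * j (xx 47 a) * (g * g)⁻¹ = j (xx 47 b) := fun a => by
    obtain ⟨c, hc⟩ := H2 a
    obtain ⟨d, hd⟩ := H1 c
    exact ⟨d, by rw [← hd, ← hc]; group⟩
  have hk := mul_mem hg hg
  generalize g * g = k at e2 f44 f47 hk
  by_cases hq : Nat.card F = 2
  · refine h.two_move hq hγ (k := k) (mem_normalizer_of_cj_le ?_) ?_ fun r => ?_
    · rw [cj_sup, cj_of_mem_normalizer hk]
      refine sup_le le_sup_left (cj_le_iff.2 (zpowers_le.2 (mem_cj.2 ?_)))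
      rw [inv_inv, e2]
      exact mul_mem (mem_sup_right (mem_zpowers t)) (mem_sup_left (mem_map_of_mem j
        (mul_mem (mem_SK (by omega) (by omega) (ok_refl _ _)) (mem_SK (by omega) (by omega) (ok_refl _ _)))))
    · obtain ⟨d, hd⟩ := f47 1
      have d0 := h.s0_nz (by omega) (by omega) one_ne_zero hd
      obtain ⟨y, -, hy⟩ := (Nat.card_eq_two_iff' (0 : F)).1 hq
      rw [hy d d0, ← hy 1 one_ne_zero] at hd
      exact mul_inv_eq_iff_eq_mul.1 hd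
    · rw [r.eq, mul_inv_cancel_right, left_eq_mul, ← map_one j] at e2
      have := inv_eq_of_mul_eq_one_right (h.inj e2)
      rw [inv_eq_of_mul_eq_one_right (s0_sq 44 (by omega) 1)] at this
      exact s0_ne' b0 this
  obtain ⟨c, c0, c1⟩ := s0_three hq
  obtain ⟨p, χ, tp, e3, e4⟩ := tor2 (r := 44) (s := 47) (by omega) (by omega) (by omega) (by omega)
    (s0_one_add c1) (one_ne_zero' F)
  have n := s0_norm (by omega) f44
  obtain ⟨d, hd⟩ := (s0_mem (by omega)).1 (PLocal.Amb.conj_mem_of_mem_normalizer (inv_mem n)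
    ((s0_mem (r := 44) (by omega)).2 ⟨c, rfl⟩))
  refine Or.inl (h.sw_of (g := k⁻¹ * j p * k⁻¹⁻¹) (h.s0_nz (by omega) (by omega) c0 hd) ?_ ?_)
  · refine mul_mem (mul_mem (inv_mem n) (s0_norm (by omega) fun a => ⟨χ 44 * a, ?_⟩)) (inv_mem (inv_mem n))
    rw [← map_inv, ← map_mul, ← map_mul, tp.conj 44 (by omega)]
  · have e5 : p * (xx 44 1 * xx 47 b) * p⁻¹ = xx 44 1 * xx 47 b * xx 44 c := by
      rw [← conj_mul, tp.conj 44 (by omega), tp.conj 47 (by omega), e3, e4, mul_one, one_mul, mul_assoc,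
        ← s0_com, ← mul_assoc, s0_add 44 (by omega)]
    calc _ = k⁻¹ * (j p * (k * t * k⁻¹) * (j p)⁻¹) * k := by group
      _ = k⁻¹ * (k * t * k⁻¹ * j (xx 44 c)) * k := by
          rw [e2, h.s0_conj, e5, map_mul j _ (xx 44 c), mul_assoc t]
      _ = _ := by rw [← hd]; group

/-- `γ²` is a field automorphism fixing `x₄₄(1)` -/
theorem sw_gam2 (hγ : Gam γ) :
    Sw ((j.comp γ.toMonoidHom).comp γ.toMonoidHom) t ↔ Sw j t := by
  have e : ((j.comp γ.toMonoidHom).comp γ.toMonoidHom) (xx 44 1) = j (xx 44 1) := by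
    change j (γ (γ (xx 44 1))) = _
    rw [hγ.sq (by omega), one_pow]
  unfold Sw
  rw [e]

omit [Finite G] in
theorem s0_gam (hγ : Gam γ) : (j.comp γ.toMonoidHom) (xx 44 1) = j (xx 47 1) := by
  change j (γ (xx 44 1)) = _
  rw [hγ 44 (by omega), one_pow, ite_self, show gm 44 = 47 by decide +kernel]

theorem Top.sw (hγ : Gam γ) (h : Top X j t) : Sw j t ∨ Sw (j.comp γ.toMonoidHom) t := by
  have k : IsConj t (t * j (xx 44 1)) ∨ IsConj t (t * j (xx 47 1)) → Sw j t ∨ Sw (j.comp γ.toMonoidHom) t :=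
    fun r => r.elim (h.toFr.sw_of_root hγ) fun r =>
      (((h.toFr.comp γ).sw_of_root hγ (by rwa [s0_gam hγ])).imp_right (sw_gam2 hγ).1).symm
  obtain ⟨d, h1, h2, h3⟩ := h.fused
  obtain ⟨a, a1, a2, e⟩ := h.toFr.fused_inn h1 h2 h3
  refine k ?_
  rcases cls a2 a1 with c | c | c | c <;> have := e.trans (h.toFr.s0_cls c).symm
  · exact Or.inr this
  · exact Or.inl this
  · exact h.toFr.root_of_m this
  · rcases h.toFr.not_only_a this with r | r | r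
    exacts [Or.inl r, Or.inr r, h.toFr.root_of_m r]

/-- `mv` for `x₄₇(1)`, `autU`.  If `g` swaps the root groups, let `g x₄₄(a) g⁻¹ = x₄₇(1)` and `g₀` map `t`
to `t x₄₄(a)` fixing `x₄₄(a)` (torus conjugate of the element of `Sw`); use `(g g₀ g⁻¹)⁻¹`. -/
theorem Fr.both (hγ : Gam γ) (h : Fr j t) (hs : Sw j t) (h1 : IsConj t (t * j (xx 47 1))) :
    Sw (j.comp γ.toMonoidHom) t := by
  obtain ⟨g, hg, e⟩ := h.mv (P := XL F {r | r < 48 ∧ 8 ≤ ip 47 r})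
    (YS_mono fun r hr => ⟨hr.2, (show ∀ r < 48, 24 ≤ r → 8 ≤ ip 47 r by decide +kernel)
      r hr.2 hr.1⟩) perf47 (fun p hp => (c47 one_ne_zero).2 hp) h1
  rcases h.s0_aut hg with ⟨-, H⟩ | ⟨-, H⟩
  · have e1 : ∀ a, (j.comp γ.toMonoidHom) (xx 44 a) = j (xx 47 (a ^ 2)) := fun a => by
      change j (γ (xx 44 a)) = _
      rw [hγ 44 (by omega), if_neg (by decide +kernel), show gm 44 = 47 by decide +kernel]
    refine (h.comp γ).sw_of one_ne_zero (s0_norm (by omega) fun a => ?_) (by rwa [s0_gam hγ])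
    obtain ⟨b, hb⟩ := H (a ^ 2)
    obtain ⟨c, hc⟩ := surjective_frobenius F 2 b
    exact ⟨c, by rw [e1, e1, hb, ← hc, frobenius_def]⟩
  obtain ⟨a, ha⟩ : ∃ a, g⁻¹ * j (xx 47 1) * g⁻¹⁻¹ = j (xx 44 a) := by
    rcases h.s0_aut (inv_mem hg) with ⟨-, H'⟩ | ⟨-, H'⟩
    · obtain ⟨b, hb⟩ := H' 1
      obtain ⟨c, hc⟩ := H b
      refine absurd (h.inj ?_) (s0_ne' (a := c) (one_ne_zero' F))
      rw [← hc, ← hb]
      group
    · exact H' 1
  obtain ⟨p, χ, tp, e3, -⟩ := tor2 (r := 44) (s := 47) (by omega) (by omega) (by omega) (by omega)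
    (h.s0_nz (by omega) (by omega) one_ne_zero ha) (one_ne_zero' F)
  obtain ⟨g₁, e4, e5⟩ := hs
  have e6 : p * xx 44 1 * p⁻¹ = xx 44 a := by rw [tp.conj 44 (by omega), e3, mul_one]
  have e7 : j (xx 47 1) = g * (j p * j (xx 44 1) * (j p)⁻¹) * g⁻¹ := by
    rw [← map_inv, ← map_mul, ← map_mul, e6, ← ha]
    group
  have e8 : g * j p * g₁ * (g * j p)⁻¹ * (t * j (xx 47 1)) * (g * j p * g₁ * (g * j p)⁻¹)⁻¹ = t := by
    calc _ = g * j p * (g₁ * ((j p)⁻¹ * (g⁻¹ * (g * t * g⁻¹) * g) * (j p)⁻¹⁻¹) * g₁⁻¹) * (g * j p)⁻¹ := by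
          rw [e]; group
      _ = g * j p * (t * j (xx 44 1)) * (g * j p)⁻¹ := by
          rw [show g⁻¹ * (g * t * g⁻¹) * g = t by group, ← map_inv, h.s0_fix, e4]
      _ = g * (j p * t * (j p)⁻¹) * g⁻¹ * j (xx 47 1) := by rw [e7]; group
      _ = t := by rw [h.s0_fix, e, mul_assoc, ← map_mul, s0_sq 47 (by omega), map_one, mul_one]
  refine ⟨(g * j p * g₁ * (g * j p)⁻¹)⁻¹, ?_, ?_⟩
  · rw [s0_gam hγ]
    nth_rewrite 1 [← e8]
    group
  · rw [s0_gam hγ, e7, show g * (j p * j (xx 44 1) * (j p)⁻¹) * g⁻¹ = g * j p * j (xx 44 1) * (g * j p)⁻¹ by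
      group]
    exact (e5.map (MulAut.conj (g * j p))).inv_left

end Cfsg.Agent.F4Q
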