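import Mathlib
import Cfsg.Agent.F4Q.St2

/-! Step 1, kit: `P = UU 15 = C(x₄₄)`, `Q = UU 33`, `V = UU 41 = Z(Q)` (`cQ`), Levi roots `15..32`;
`n₂₄, n₂₅, n₂₇ ∈ P` (`sm 3 = 24`, `sm 2 = 25`, `sm 1 = 27`). -/

set_option autoImplicit false

namespace Cfsg.Agent.F4Q

open Cfsg.Lie Cfsg.Agent.Chev Subgroup Cfsg.Agent.PLocal.Amb
open Cfsg.Agent.F42S (lg ip ad gm sm sr Mo aw)
open Cfsg.Agent.FinS (Rt Rg Uf)
open scoped commutatorElement


variable {F : Type*} [Field F] [Finite F] [CharP F 2] {θ : Γ F → Γ F}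

/-- an injective endomorphism of `P` that is trivial on `P / Q` and preserves `V` -/
structure Ac (θ : Γ F → Γ F) : Prop where
  mul : ∀ p ∈ UU F 15, ∀ q ∈ UU F 15, θ (p * q) = θ p * θ q
  inj : ∀ p ∈ UU F 15, θ p = 1 → p = 1
  Q : ∀ p ∈ UU F 15, θ p * p⁻¹ ∈ UU F 33
  V : ∀ v ∈ UU F 41, θ v ∈ UU F 41

theorem s1_nrm {k : ℕ} (hk : k = 33 ∨ k = 41) : UU F 15 ≤ 𝐍[UU F k] := by
  have t : ∀ k ∈ [33, 41], ∀ r < 48, 15 ≤ r → ∀ s < 48, k ≤ s → ∀ m ∈ F42S.cm r s, k ≤ m ∧ m < 48 := by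
    decide +kernel
  have t' := t k (by simpa using hk)
  exact relΓ.norm0 (fun _ => rfl)
    (fun r hr s hs => ⟨hr.2, hs.2, by have := hr.1; have := hs.1; omega, t' r hr.2 hr.1 s hs.2 hs.1⟩)
    fun r hr s hs => ⟨hr.2, hs.2, by have := hr.1; have := hs.1; omega,
      t' r hr.2 (by have := hr.1; omega) s hs.2 hs.1⟩

/-- `P` normalizes `Q` -/
theorem s1_nQ {p u : Γ F} (hp : p ∈ UU F 15) (hu : u ∈ UU F 33) : p * u * p⁻¹ ∈ UU F 33 :=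
  PLocal.Amb.conj_mem_of_mem_normalizer (s1_nrm (.inl rfl) hp) hu

/-- `P` normalizes `V` -/
theorem s1_nV {p u : Γ F} (hp : p ∈ UU F 15) (hu : u ∈ UU F 41) : p * u * p⁻¹ ∈ UU F 41 :=
  PLocal.Amb.conj_mem_of_mem_normalizer (s1_nrm (.inr rfl) hp) hu

omit [Finite F] [CharP F 2] in
theorem s1_QP {u : Γ F} (hu : u ∈ UU F 33) : u ∈ UU F 15 := SK_mono (by omega) hu

omit [Finite F] [CharP F 2] in
theorem s1_VQ {u : Γ F} (hu : u ∈ UU F 41) : u ∈ UU F 33 := SK_mono (by omega) hu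

/-- `V` is central in `Q` -/
theorem s1_cV {v u : Γ F} (hv : v ∈ UU F 41) (hu : u ∈ UU F 33) : Commute v u := by
  have t : ∀ r < 48, 41 ≤ r → ∀ s < 48, 33 ≤ s → ¬ Nz r s := by decide +kernel
  exact (YS_comm (fun r hr e _ =>
    (RZ.cU ⟨by omega, by have := hr.1; omega, hr.2, t r hr.2 hr.1⟩ e hu).symm) hv).symm

/-- `X₄₄` is central in `P` -/
theorem s1_c44 {p : Γ F} (hp : p ∈ UU F 15) (c : F) : Commute p (xx 44 c) := Fr.frm_c15 hp c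

/-- `V` is elementary abelian -/
theorem s1_sqV {v : Γ F} (hv : v ∈ UU F 41) : v * v = 1 := by
  induction hv using closure_induction with
  | mem g hg =>
    obtain ⟨r, hr, e, -, rfl⟩ := hg
    exact rg_sq hr.2 e
  | one => exact mul_one _
  | mul a b ha hb h1 h2 => rw [(s1_cV hb (s1_VQ ha)).mul_mul_mul_comm, h1, h2, mul_one]
  | inv a _ h1 => rw [← mul_inv_rev, h1, inv_one]

/-- `⁅Q, Q⁆ ≤ X₄₄` -/
theorem s1_QQ {u w : Γ F} (hu : u ∈ UU F 33) (hw : w ∈ UU F 33) : ∃ a, ⁅u, w⁆ = xx 44 a := by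
  have t : ∀ r < 48, 33 ≤ r → ∀ s < 48, 33 ≤ s → ∀ m ∈ F42S.cm r s, m = 44 := by decide +kernel
  have n : UU F 33 ≤ 𝐍[XL F {44}] := le_trans (fun _ hu => mem_centralizer_iff.2 fun _ hz =>
    (YS_comm (fun r hr e _ => by
      obtain rfl : r = 44 := hr
      exact s1_c44 (s1_QP hu) e) hz).symm) (centralizer_le_normalizer' _)
  have k := (YS_le (H := RZ.Hc n u).2 (fun s hs f _ => ⟨RZ.mU hs f, RZ.swap
    (YS_le (H := RZ.Hc n (xx s f)).2 (fun r hr e _ => ⟨RZ.mU hr e, relΓ.cmem hs.2 hr.2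
      (by have := hr.1; have := hs.1; omega) (ok_refl _ _) (ok_refl _ _)
      (fun m hm c _ => RZ.mX (S := {44}) (t s hs.2 hs.1 r hr.2 hr.1 m hm) c) (.inl fun _ => rfl)⟩) hu).2⟩) hw).2
  obtain ⟨a, -, e⟩ := (relΓ.mem_one (by omega)).1 k
  exact ⟨a, e⟩

omit [Finite F] [CharP F 2] in
/-- `n_r ∈ P` for the Levi roots -/
theorem s1_nY {r : ℕ} (h1 : 15 ≤ r) (h2 : r ≤ 32) : nY xx r ∈ UU F 15 :=
  mul_mem (mul_mem (RZ.mU (by omega) _) (RZ.mU (by omega) _)) (RZ.mU (by omega) _)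

omit [Finite F] [CharP F 2] in
/-- Weyl words in `1, 2, 3` lie in `P` -/
theorem s1_ww {w : List ℕ} (hw : ∀ i ∈ w, 1 ≤ i ∧ i < 4) : ww xx w ∈ UU F 15 :=
  list_prod_mem fun x hx => by
    obtain ⟨i, hi, rfl⟩ := List.mem_map.1 hx
    have := (by decide : ∀ i < 4, 1 ≤ i → 15 ≤ sm i ∧ sm i ≤ 32) i (hw i hi).2 (hw i hi).1
    exact s1_nY this.1 this.2

/-- torus elements with `χ 44 = 1` lie in `P` -/
theorem Tor.memP {h : Γ F} {χ : ℕ → F} (t : Tor h χ) (e : χ 44 = 1) : h ∈ UU F 15 :=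
  (c44 one_ne_zero).1 (mul_inv_eq_iff_eq_mul.1 (by rw [t.conj 44 (by omega), e, one_mul]))

/-- normal form in `V` -/
theorem s1_nfV {v : Γ F} (hv : v ∈ UU F 41) : ∃ c : ℕ → F, v = pr xx [41, 42, 43, 44, 45, 46, 47] c :=
  RZ.nfl _ (fun r hr => by
    have h1 := hr.1
    have h2 := hr.2
    interval_cases r <;> simp) (by decide +kernel) hv

namespace Ac
variable (h : Ac θ)
include h

omit [Finite F] [CharP F 2]

theorem mem {p : Γ F} (hp : p ∈ UU F 15) : θ p ∈ UU F 15 :=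
  (mul_mem_cancel_right (inv_mem hp)).1 (s1_QP (h.Q p hp))

theorem memQ {p : Γ F} (hp : p ∈ UU F 33) : θ p ∈ UU F 33 :=
  (mul_mem_cancel_right (inv_mem hp)).1 (h.Q p (s1_QP hp))

theorem map_one : θ 1 = 1 := by
  have := h.mul 1 (one_mem _) 1 (one_mem _)
  rwa [mul_one, left_eq_mul] at this

theorem map_inv {p : Γ F} (hp : p ∈ UU F 15) : θ p⁻¹ = (θ p)⁻¹ :=
  eq_inv_of_mul_eq_one_left (by rw [← h.mul _ (inv_mem hp) _ hp, inv_mul_cancel, h.map_one])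

theorem map_conj {p q : Γ F} (hp : p ∈ UU F 15) (hq : q ∈ UU F 15) :
    θ (p * q * p⁻¹) = θ p * θ q * (θ p)⁻¹ := by
  rw [h.mul _ (mul_mem hp hq) _ (inv_mem hp), h.mul _ hp _ hq, h.map_inv hp]

theorem map_comm {p q : Γ F} (hp : p ∈ UU F 15) (hq : q ∈ UU F 15) : θ ⁅p, q⁆ = ⁅θ p, θ q⁆ := by
  rw [commutatorElement_def, h.mul _ (mul_mem (mul_mem hp hq) (inv_mem hp)) _ (inv_mem hq), h.map_conj hp hq,
    h.map_inv hq, commutatorElement_def]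

theorem map_pow {p : Γ F} (hp : p ∈ UU F 15) (n : ℕ) : θ (p ^ n) = θ p ^ n := by
  induction n with
  | zero => rw [pow_zero, pow_zero, h.map_one]
  | succ n ih => rw [pow_succ, h.mul _ (pow_mem hp n) _ hp, ih, pow_succ]

theorem commute {p q : Γ F} (hp : p ∈ UU F 15) (hq : q ∈ UU F 15) (e : Commute p q) :
    Commute (θ p) (θ q) := by
  rw [Commute, SemiconjBy, ← h.mul _ hp _ hq, e.eq, h.mul _ hq _ hp]

theorem eq {p q : Γ F} (hp : p ∈ UU F 15) (hq : q ∈ UU F 15) (e : θ p = θ q) : p = q :=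
  mul_inv_eq_one.1 (h.inj _ (mul_mem hp (inv_mem hq)) (by
    rw [h.mul _ hp _ (inv_mem hq), h.map_inv hq, e, mul_inv_cancel]))

/-- `θ p = q p`, `q ∈ Q` -/
theorem exQ {p : Γ F} (hp : p ∈ UU F 15) : ∃ q ∈ UU F 33, θ p = q * p :=
  ⟨_, h.Q p hp, (inv_mul_cancel_right _ _).symm⟩

end Ac

/-- `θ` commutes with the action of `P` on `V` -/
theorem Ac.eqV (h : Ac θ) {p v : Γ F} (hp : p ∈ UU F 15) (hv : v ∈ UU F 41) :
    θ (p * v * p⁻¹) = p * θ v * p⁻¹ := by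
  obtain ⟨q, hq, e⟩ := h.exQ hp
  rw [h.map_conj hp (s1_QP (s1_VQ hv)), e, show q * p * θ v * (q * p)⁻¹ = q * (p * θ v * p⁻¹) * q⁻¹ by group,
    ← (s1_cV (s1_nV hp (h.V v hv)) hq).eq, mul_inv_cancel_right]

/-- `θ` commutes with the action of `P` on `Q / X₄₄` -/
theorem Ac.eqQ (h : Ac θ) {p u : Γ F} (hp : p ∈ UU F 15) (hu : u ∈ UU F 33) :
    ∃ a, θ (p * u * p⁻¹) = p * θ u * p⁻¹ * xx 44 a := by
  obtain ⟨q, hq, e⟩ := h.exQ hp
  have m := s1_nQ hp (h.memQ hu)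
  obtain ⟨a, ha⟩ := s1_QQ hq m
  refine ⟨a, ?_⟩
  rw [h.map_conj hp (s1_QP hu), e, show q * p * θ u * (q * p)⁻¹ = q * (p * θ u * p⁻¹) * q⁻¹ by group,
    (s1_c44 (s1_QP m) a).eq, ← ha, commutatorElement_def, inv_mul_cancel_right]

/-- composing with conjugation by an element of `Q` -/
theorem Ac.cj (h : Ac θ) {q : Γ F} (hq : q ∈ UU F 33) : Ac fun p => q * θ p * q⁻¹ := by
  refine ⟨fun a ha b hb => by rw [h.mul a ha b hb]; group, fun p hp e => h.inj p hp (by simpa using e),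
    fun p hp => ?_, fun v hv => s1_nV (s1_QP hq) (h.V v hv)⟩
  have := mul_mem (mul_mem hq (h.Q p hp)) (s1_nQ hp (inv_mem hq))
  rwa [show q * (θ p * p⁻¹) * (p * q⁻¹ * p⁻¹) = q * θ p * q⁻¹ * p⁻¹ by group] at this

end Cfsg.Agent.F4Q
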