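import Mathlib
import Cfsg.Agent.F4Q.S1D

/-! Step 1 (part of `F4Q/St1`; kit: `F4Q/S1D`, `Nf`, `Mod`, `Rig`, `RigZ`): `O₂(P) = Q`. -/

set_option autoImplicit false

namespace Cfsg.Agent.F4Q

open Cfsg.Lie Cfsg.Agent.Chev Subgroup Cfsg.Agent.PLocal.Amb
open Cfsg.Agent.F42S (lg ip ad gm sm sr Mo aw)
open Cfsg.Agent.FinS (Rt Rg Uf)
open scoped commutatorElement


variable {F : Type*} [Field F] [Finite F] [CharP F 2] {θ : Γ F → Γ F}

/-- the roots left after a step -/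
def s1a_nx (i : ℕ) (T : List ℕ) : List ℕ := (T.filter (· ≠ sm i)).map (sr i)

/-- the check along a word -/
def s1a_chk : List ℕ → List ℕ → Bool
  | [], T => decide (∀ r ∈ T, 33 ≤ r ∧ r < 48)
  | i :: w, T => decide (1 ≤ i ∧ i < 4 ∧ ∀ r ∈ T, r < 48 ∧ 24 ≤ r ∧ ∀ s ∈ T, ∀ k ∈ F42S.cm r s, k ∈ T) &&
      s1a_chk w (s1a_nx i T)

set_option synthInstance.maxSize 1000 in
theorem s1a_t : ∀ i < 4, ∀ r < 48, 24 ≤ r → ∀ s < 48, 24 ≤ s → ∀ k ∈ F42S.cm r s,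
    24 ≤ k ∧ k < 48 ∧ k ≠ sm i := by decide +kernel

theorem s1a_step {R : Subgroup (Γ F)} (h0 : R ≤ UU F 24) (h2 : UU F 15 ≤ 𝐍[R]) {i : ℕ} {T : List ℕ}
    (hd : 1 ≤ i ∧ i < 4 ∧ ∀ r ∈ T, r < 48 ∧ 24 ≤ r ∧ ∀ s ∈ T, ∀ k ∈ F42S.cm r s, k ∈ T)
    (h : R ≤ XL F {r | r ∈ T}) : R ≤ XL F {r | r ∈ s1a_nx i T} := by
  intro g hg
  have hn : ww xx [i] ∈ UU F 15 := s1_ww (by simpa using ⟨hd.1, hd.2.1⟩)
  have e0 : ww xx [i] = nY (xx (F := F)) (sm i) := by simp [ww]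
  have hg' : (ww xx [i])⁻¹ * g * ww xx [i] ∈ R := inv_conj_mem_of_mem_normalizer (h2 hn) hg
  have e1 : g = ww xx [i] * ((ww xx [i])⁻¹ * g * ww xx [i]) * (ww xx [i])⁻¹ := by group
  generalize (ww xx [i])⁻¹ * g * ww xx [i] = g' at hg' e1
  have k1 := relΓ.simple_out hd.2.1 (h0 hg') (by rw [← e0, ← e1]; exact h0 hg)
  have id : Idl0 {r | r ∈ T} {r | r ∈ T} := fun r hr s hs => by
    have a := hd.2.2 r hr
    have b := hd.2.2 s hs
    exact ⟨a.1, b.1, by omega, a.2.2 s hs⟩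
  have t := s1a_t
  have id' : Idl0 {r | 24 ≤ r ∧ r < 48 ∧ r ≠ sm i} {r | 24 ≤ r ∧ r < 48 ∧ r ≠ sm i} := fun r hr s hs =>
    ⟨hr.2.1, hs.2.1, by have := hr.1; have := hs.1; omega, t i hd.2.1 r hr.2.1 hr.1 s hs.2.1 hs.1⟩
  obtain ⟨c, hc, ec⟩ := relΓ.nf0 (fun _ => rfl) id (fun r hr => (hd.2.2 r hr).2.1) (h hg')
  obtain ⟨c', hc', ec'⟩ := relΓ.nf0 (fun _ => rfl) id' (fun r hr => hr.1) k1
  have si : 24 ≤ sm i ∧ sm i < 48 := (by decide : ∀ i < 4, 24 ≤ sm i ∧ sm i < 48) i hd.2.1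
  have k2 : c (sm i) = 0 := by
    rw [relΓ.nf_inj (fun r => ok_refl _ _) (fun r => ok_refl _ _) (ec.symm.trans ec') si.1 si.2]
    exact hc' _ fun k => k.2.2 rfl
  have k3 : g' ∈ XL F {r | r ∈ T.filter (· ≠ sm i)} := by
    rw [ec]
    refine Rel.pr_mem fun r hr => ?_
    have r1 : r < 48 := by
      have := List.mem_range'_1.1 hr
      omega
    by_cases a : r ∈ T
    · by_cases b : r = sm i
      · rw [b, k2, relΓ.zero si.2]
        exact one_mem _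
      · exact RZ.mX (by simpa using ⟨a, b⟩) _
    · rw [hc r a, relΓ.zero r1]
      exact one_mem _
  have k4 := rg_map (w := [i]) (by simpa using hd.2.1)
    (fun r hr => (hd.2.2 r (List.mem_of_mem_filter hr)).1) k3
  rw [← e1] at k4
  exact k4

theorem s1a_run {R : Subgroup (Γ F)} (h0 : R ≤ UU F 24) (h2 : UU F 15 ≤ 𝐍[R]) (w : List ℕ) :
    ∀ T : List ℕ, s1a_chk w T = true → R ≤ XL F {r | r ∈ T} → R ≤ UU F 33 := by
  induction w with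
  | nil =>
    intro T hT h
    exact h.trans (YS_mono fun r hr => of_decide_eq_true hT r hr)
  | cons i w ih =>
    intro T hT h
    rw [s1a_chk, Bool.and_eq_true] at hT
    exact ih _ hT.2 (s1a_step h0 h2 (of_decide_eq_true hT.1) h)

/-- `R ⊔ U` is a `2`-group, so `R ≤ U` (`sylΓ`).  The `n_i` (`i = 1, 2, 3`) lie in `P` (`s1_nY`, `s1_ww`), so normalize
`R`.  Either: `R ≤ n U n⁻¹ = Q U_L⁻` for `n = ww xx w`, `w` the longest word in `1, 2, 3` (`-1` on the Levi roots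
`15..32`), and `U ⊓ U⁻ = 1`.  Or: if `R ≤ XL S` (`S` closed, positive) then `R ≤ XL (S \ {sm i})` (`Rel.simple_out`,
`nf0`, `nf_inj`), so `R ≤ XL (sr i '' (S \ {sm i}))` (`rg_map`); nine steps along the longest word. -/
theorem o2P {R : Subgroup (Γ F)} (h1 : R ≤ UU F 15) (h2 : UU F 15 ≤ 𝐍[R]) (h3 : IsPGroup 2 R) :
    R ≤ UU F 33 := by
  haveI : Fact (Nat.Prime 2) := ⟨Nat.prime_two⟩
  have h0 : R ≤ UU F 24 :=
    sylΓ.le_of_le_normalizer h3 le_top ((SK_mono (by omega)).trans h2)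
  exact s1a_run h0 h2 [1, 2, 3, 1, 2, 3, 1, 2, 3] (List.range' 24 24) (by decide +kernel)
    fun g hg => rg_U (h0 hg)

end Cfsg.Agent.F4Q
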