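import Mathlib
import Cfsg.Agent.F4Q.S1D

/-! Step 1 (part of `F4Q/St1`; kit: `F4Q/S1D`, `Nf`, `Mod`, `Rig`, `RigZ`): `θ` on `Q / V`. -/

set_option autoImplicit false

namespace Cfsg.Agent.F4Q

open Cfsg.Lie Cfsg.Agent.Chev Subgroup Cfsg.Agent.PLocal.Amb
open Cfsg.Agent.F42S (lg ip ad gm sm sr Mo aw)
open Cfsg.Agent.FinS (Rt Rg Uf)
open scoped commutatorElement


variable {F : Type*} [Field F] [Finite F] [CharP F 2] {θ : Γ F → Γ F}

/-- congruence modulo `V` -/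
def EV (a b : Γ F) : Prop := a⁻¹ * b ∈ UU F 41

omit [Finite F] [CharP F 2] in
theorem EV.symm {a b : Γ F} (h : EV a b) : EV b a := by
  have := inv_mem h
  rwa [mul_inv_rev, inv_inv] at this

omit [Finite F] [CharP F 2] in
theorem EV.trans {a b c : Γ F} (h : EV a b) (h' : EV b c) : EV a c := by
  have := mul_mem h h'
  rwa [show a⁻¹ * b * (b⁻¹ * c) = a⁻¹ * c by group] at this

theorem EV.conj {p a b : Γ F} (hp : p ∈ UU F 15) (h : EV a b) : EV (p * a * p⁻¹) (p * b * p⁻¹) := by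
  have := s1_nV hp h
  rwa [show p * (a⁻¹ * b) * p⁻¹ = (p * a * p⁻¹)⁻¹ * (p * b * p⁻¹) by group] at this

theorem EV.mul {a a' b b' : Γ F} (hb : b ∈ UU F 15) (h : EV a a') (h' : EV b b') : EV (a * b) (a' * b') := by
  have := mul_mem (s1_nV (inv_mem hb) h) h'
  rwa [show b⁻¹ * (a⁻¹ * a') * b⁻¹⁻¹ * (b⁻¹ * b') = (a * b)⁻¹ * (a' * b') by group] at this

omit [Finite F] [CharP F 2] in
theorem Ac.evMap (h : Ac θ) {a b : Γ F} (ha : a ∈ UU F 15) (hb : b ∈ UU F 15) (e : EV a b) :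
    EV (θ a) (θ b) := by
  have := h.V _ e
  rwa [h.mul _ (inv_mem ha) _ hb, h.map_inv ha] at this

theorem Ac.evConj (h : Ac θ) {p u : Γ F} (hp : p ∈ UU F 15) (hu : u ∈ UU F 33) :
    EV (p * θ u * p⁻¹) (θ (p * u * p⁻¹)) := by
  obtain ⟨a, e⟩ := h.eqQ hp hu
  rw [EV, e, inv_mul_cancel_left]
  exact RZ.mU (by omega) a

theorem s1b_c40 {u y : Γ F} (hu : u ∈ UU F 24) (hy : y ∈ UU F 40) : ⁅u, y⁆ ∈ UU F 41 :=
  relΓ.SK_comm (k := 40) (by omega) (commutator_mem_commutator hu hy)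

theorem Ac.top40 (h : Ac θ) (a : F) : ∃ b, EV (xx 40 b) (θ (xx 40 a)) := by
  have t : ∀ r < 40, 24 ≤ r → ∃ s < 48, 24 ≤ s ∧ Nz r s ∧ ad r s < 41 := by decide +kernel
  have m40 : xx 40 a ∈ UU F 40 := RZ.mU (by omega) a
  have mQ : xx 40 a ∈ UU F 33 := RZ.mU (by omega) a
  have gQ := h.memQ mQ
  have k : θ (xx 40 a) ∈ UU F 40 := by
    refine relΓ.kill' (Ψ := {s | 24 ≤ s ∧ s < 48}) (k := 41) (by omega) (SK_mono (by omega) gQ)
      (fun s hs => ?_) (fun s hs => hs)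
      (fun r hr => ⟨by have := hr.1; omega, hr.2, fun s hs e _ =>
        RZ.swap (s1b_c40 (RZ.mU hs 1) (RZ.mU hr e))⟩) fun r h1 h2 => ?_
    · have pU : xx s 1 ∈ UU F 24 := RZ.mU hs 1
      have pP : xx s 1 ∈ UU F 15 := SK_mono (by omega) pU
      have e1 : EV (xx s 1 * xx 40 a * (xx s 1)⁻¹) (xx 40 a) := by
        have := s1b_c40 pU (inv_mem m40)
        rwa [show ⁅xx s (1 : F), (xx 40 a)⁻¹⁆ = (xx s 1 * xx 40 a * (xx s 1)⁻¹)⁻¹ * xx 40 a by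
          rw [commutatorElement_def]; group] at this
      have e2 := (h.evConj pP mQ).trans (h.evMap (s1_QP (s1_nQ pP mQ)) (s1_QP mQ) e1)
      have := s1_nV (s1_QP gQ) e2
      rwa [show θ (xx 40 a) * ((xx s 1 * θ (xx 40 a) * (xx s 1)⁻¹)⁻¹ * θ (xx 40 a)) * (θ (xx 40 a))⁻¹ =
        ⁅θ (xx 40 a), xx s (1 : F)⁆ by rw [commutatorElement_def]; group] at this
    · by_cases hr : r < 40
      · obtain ⟨s, s1, s2, s3⟩ := t r hr h1
        exact .inr ⟨s, ⟨s2, s1⟩, s3⟩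
      · exact .inl ⟨by omega, h2⟩
  obtain ⟨e, -, he⟩ := relΓ.SK_step (by omega) (by omega) k
  exact ⟨e, by rwa [EV, relΓ.inv (by omega) (ok_refl _ _)]⟩

theorem Ac.move40 (h : Ac θ) {a b : F} (e : EV (xx 40 b) (θ (xx 40 a))) {r : ℕ} (h1 : 33 ≤ r) (h2 : r ≤ 40) :
    EV (xx r b) (θ (xx r a)) := by
  have t : ∀ r ≤ 40, 33 ≤ r → ∃ w ∈ [[], [1], [2, 1], [3, 2, 1], [1, 2, 1], [3, 1, 2, 1], [2, 3, 1, 2, 1],
      [1, 2, 3, 1, 2, 1]], (∀ i ∈ w, 1 ≤ i ∧ i < 4) ∧ aw w 40 = r := by decide +kernel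
  obtain ⟨w, -, hw, rfl⟩ := t r h2 h1
  have := (e.conj (s1_ww hw)).trans (h.evConj (s1_ww hw) (RZ.mU (by omega) a))
  rwa [xx_ww (fun i hi => (hw i hi).2) (by omega), xx_ww (fun i hi => (hw i hi).2) (by omega)] at this

theorem s1b_27 (d a : F) : (xx 27 d * xx 39 a * (xx 27 d)⁻¹ : Γ F) = xx 39 a * xx 40 (a * d) := by
  have t : lg 39 = false ∧ lg 27 = false ∧ ip 39 27 = 6 ∧ ad 39 27 = 40 ∧ ¬ Nz 27 40 := by decide +kernel
  have := relΓ.cs 39 (by omega) 27 (by omega) t.1 t.2.1 t.2.2.1 a d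
  rw [t.2.2.2.1] at this
  rw [this, mul_assoc (xx 39 a), (RZ.c0 ⟨by omega, by omega, by omega, by omega, t.2.2.2.2⟩ _ _).eq,
    ← mul_assoc, mul_inv_cancel_right]
  rfl

/-- `θ` commutes with the action of `P` on `Q / V` (`Ac.eqQ`).  `θ(x₄₀(a)) V` is fixed by `U`, so it is `x₄₀(σ a) V`
(`Rel.kill'` with `Ψ = 24..47`, `T = 40..47`, `k = 41`; `SK_step`); the words `ww xx w` in `1, 2, 3` (`s1_ww`, `xx_ww`)
move `40` to all of `33..40`; `x₂₇(d) x₃₉(a) x₂₇(d) = x₃₉(a) x₄₀(a d)` (`Rel.cs`) gives `σ(a d) = σ(a) d` (`RZ.ld`).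
`s = σ 1 ≠ 0`: otherwise `θ x₄₄(1) = ⁅θ x₄₀(1), θ x₃₃(1)⁆ = 1` (`RZ.k40`, `s1_cV`). -/
theorem Ac.one (h : Ac θ) : ∃ s ≠ 0, ∀ r, 33 ≤ r → r ≤ 40 → ∀ a,
    xx r (s * a) * θ (xx r a) ∈ UU F 41 := by
  choose σ hσ using h.top40
  have lin : ∀ d, σ d = σ 1 * d := fun d => by
    have pP : xx 27 d ∈ UU F 15 := RZ.mU (by omega) d
    have e1 := ((h.move40 (hσ 1) (r := 39) (by omega) (by omega)).conj pP).trans
      (h.evConj pP (RZ.mU (r := 39) (by omega) 1))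
    rw [s1b_27, s1b_27, one_mul, h.mul _ (RZ.mU (by omega) _) _ (RZ.mU (by omega) _)] at e1
    have e2 := e1.trans (EV.mul (RZ.mU (by omega) _) (h.move40 (hσ 1) (r := 39) (by omega) (by omega)) (hσ d)).symm
    rw [EV, show ∀ x y z : Γ F, (x * y)⁻¹ * (x * z) = y⁻¹ * z by intros; group,
      relΓ.inv (by omega) (ok_refl _ _), relΓ.add 40 (by omega) _ _ (ok_refl _ _) (ok_refl _ _)] at e2
    exact (relΓ.eq_of_add (RZ.ld (r := 40) (by omega) e2)).symm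
  refine ⟨σ 1, fun s0 => ?_, fun r h1 h2 a => ?_⟩
  · have e := hσ 1
    rw [s0, xx_zero, EV, inv_one, one_mul] at e
    have k := h.map_comm (RZ.mU (r := 40) (by omega) (1 : F)) (RZ.mU (r := 33) (by omega) (1 : F))
    rw [RZ.k40, (s1_cV e (h.memQ (RZ.mU (by omega) _))).commutator_eq, mul_one] at k
    exact one_ne_zero (relΓ.inj 44 (by omega) 1 (ok_refl _ _) (h.inj _ (RZ.mU (by omega) _) k))
  · have := h.move40 (hσ a) h1 h2
    rwa [lin a, EV, relΓ.inv (by omega) (ok_refl _ _)] at this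

end Cfsg.Agent.F4Q
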