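import Mathlib
import Cfsg.Agent.F4Q.S1D

/-! Step 1 (part of `F4Q/St1`; kit: `F4Q/S1D`, `Nf`, `Mod`, `Rig`, `RigZ`): `θ` on `V`. -/

set_option autoImplicit false

namespace Cfsg.Agent.F4Q

open Cfsg.Lie Cfsg.Agent.Chev Subgroup Cfsg.Agent.PLocal.Amb
open Cfsg.Agent.F42S (lg ip ad gm sm sr Mo aw)
open Cfsg.Agent.FinS (Rt Rg Uf)
open scoped commutatorElement


variable {F : Type*} [Field F] [Finite F] [CharP F 2] {θ : Γ F → Γ F}

theorem s1c_add {r : ℕ} (hr : r < 48) (a b : F) : xx r a * xx r b = xx r (a + b) :=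
  relΓ.add r hr a b (ok_refl _ _) (ok_refl _ _)

theorem s1c_cm {G : Type*} [Group G] {a b v w : G} (h1 : Commute v b) (h2 : Commute v w) (h3 : Commute w a)
    (h4 : Commute v a) (h5 : Commute w b) : ⁅a * v, b * w⁆ = ⁅a, b⁆ := by
  have e1 : ⁅a * v, b * w⁆ = a * (v * (b * w) * v⁻¹) * a⁻¹ * (b * w)⁻¹ := by
    rw [commutatorElement_def]; group
  rw [e1, (h1.mul_right h2).eq, mul_inv_cancel_right, commutatorElement_def, mul_inv_rev, ← mul_assoc,
    ← mul_assoc, mul_assoc (a * b), h3.inv_right.eq, ← mul_assoc, mul_inv_cancel_right]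

theorem Ac.fix44 (h : Ac θ)
    (h1 : ∀ r, 33 ≤ r → r ≤ 40 → ∀ a, xx r a * θ (xx r a) ∈ UU F 41) (c : F) : θ (xx 44 c) = xx 44 c := by
  have k : ∀ r, r < 48 → ∀ a, θ (xx r a) = xx r a * (xx r a * θ (xx r a)) := fun r hr a => by
    rw [← mul_assoc, rg_sq hr, one_mul]
  have m1 : (xx 40 c : Γ F) ∈ UU F 33 := RZ.mU (by omega) _
  have m2 : (xx 33 1 : Γ F) ∈ UU F 33 := RZ.mU (by omega) _
  have v1 := h1 40 (by omega) le_rfl c
  have v2 := h1 33 le_rfl (by omega) 1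
  have e := RZ.k40 c (1 : F)
  rw [one_mul] at e
  rw [← e, h.map_comm (s1_QP m1) (s1_QP m2), k 40 (by omega), k 33 (by omega)]
  exact s1c_cm (s1_cV v1 m2) (s1_cV v1 (s1_VQ v2)) (s1_cV v2 m1) (s1_cV v1 m1) (s1_cV v2 m2)

theorem Ac.long (h : Ac θ) : ∃ α β : F → F, ∀ l ∈ [41, 42, 43, 45, 46, 47], ∀ c,
    θ (xx l c) = xx 44 (β c) * xx l (α c) := by
  have k : ∀ c, ∃ a b, θ (xx 47 c) = xx 44 a * xx 47 b := fun c => zU.1 fun u hu => by
    have m : (xx 47 c : Γ F) ∈ UU F 41 := RZ.mU (by omega) _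
    have e := h.eqV (SK_mono (by omega) hu : u ∈ UU F 15) m
    rw [← (RZ.cZ (RZ.mX (by simp) c) hu).eq, mul_inv_cancel_right] at e
    exact (mul_inv_eq_iff_eq_mul.1 e.symm).symm
  choose β α k using k
  have t : ∀ l ∈ [41, 42, 43, 45, 46, 47], ∃ w ∈ [[], [3], [2, 3], [1, 2, 3], [2, 1, 2, 3], [3, 2, 1, 2, 3]],
      aw w 47 = l ∧ ∀ i ∈ w, 1 ≤ i ∧ i < 4 := by decide +kernel
  refine ⟨α, β, fun l hl c => ?_⟩
  obtain ⟨w, -, rfl, hw⟩ := t l hl
  have hw' : ∀ i ∈ w, i < 4 := fun i hi => (hw i hi).2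
  rw [← xx_ww hw' (by omega : 47 < 48), h.eqV (s1_ww hw) (RZ.mU (by omega) _), k, ← conj_mul,
    xx_ww hw' (by omega : 47 < 48), (s1_c44 (s1_ww hw) _).eq, mul_inv_cancel_right]

theorem s1c_cj (c f : F) : (xx 20 f * xx 45 c * (xx 20 f)⁻¹ : Γ F) =
    xx 45 c * (xx 44 (c * f) * xx 43 (c * (f * f))) := by
  have e := relΓ.cm (ρ := I0 F) 45 (by omega) 20 (by omega) (by decide) (by decide) (by decide +kernel) c f rfl
  rw [show ad 45 20 = 44 by decide +kernel, show ad 44 20 = 43 by decide +kernel] at e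
  have c1 : Commute (xx 20 f : Γ F) (xx 44 (c * f) * xx 43 (c * (f * f))) :=
    (s1_c44 (RZ.mU (by omega) _) _).mul_right (relΓ.comm (by omega) (by omega) (by omega)
      (by decide +kernel) (ok_refl _ _) (ok_refl _ _))
  rw [e, mul_assoc (xx 45 c), RingEquiv.refl_apply, c1.eq, ← mul_assoc, mul_inv_cancel_right]

/-- `θ` fixes `x₄₄(a b) = ⁅x₄₀(b), x₃₃(a)⁆` (`RZ.k40`, `s1_cV`) and commutes with the action of `P` on `V` (`Ac.eqV`):
`θ x₄₇(c) ∈ Z(U)` (`zU`), so `θ x_l(c) = x_l(α c) x₄₄(β c)` for all long `l ≥ 41` (`s1_ww`, `xx_ww`, `s1_c44`).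
`x₂₀(d) x₄₅(c) x₂₀(d) = x₄₅(c) x₄₄(c d) x₄₃(c d²)` (`Rel.cm`): `α(c d²) = α(c) d²`, `α(c) d = c d + β(c d²)`
(`nf_inj` or `RZ.ld`); so `α c = α₀ c` (all `c` are squares), `β(e²) = (α₀ + 1) e² = (α₀ + 1) e` for all `e`, so
`α₀ = 1` (`q ≠ 2`: some `e ≠ 0, 1`), `β = 0`. -/
theorem Ac.fixV (hq : Nat.card F ≠ 2) (h : Ac θ)
    (h1 : ∀ r, 33 ≤ r → r ≤ 40 → ∀ a, xx r a * θ (xx r a) ∈ UU F 41) : ∀ v ∈ UU F 41, θ v = v := by
  have f44 := h.fix44 h1
  obtain ⟨α, β, k⟩ := h.long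
  have mP : ∀ {r : ℕ}, 15 ≤ r ∧ r < 48 → ∀ a : F, xx r a ∈ UU F 15 := fun hr a => RZ.mU hr a
  have key : ∀ c f, α (c * (f * f)) = α c * (f * f) ∧ α c * f = c * f + β (c * (f * f)) := fun c f => by
    have e := h.eqV (mP (r := 20) (by omega) f) (RZ.mU (k := 41) (r := 45) (by omega) c)
    rw [s1c_cj, h.mul _ (mP (by omega) _) _ (mul_mem (mP (by omega) _) (mP (by omega) _)),
      h.mul _ (mP (by omega) _) _ (mP (by omega) _), f44, k 45 (by simp), k 43 (by simp), ← conj_mul,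
      s1c_cj, (s1_c44 (mP (by omega) _) _).eq, mul_inv_cancel_right, mul_assoc, mul_right_inj,
      mul_right_inj, ← mul_assoc, s1c_add (by omega)] at e
    have e2 : (xx 43 (α (c * (f * f)) + α c * (f * f)) : Γ F) =
        xx 44 (c * f + β (c * (f * f)) + α c * f) := by
      rw [← s1c_add (by omega), ← s1c_add (r := 44) (by omega) (c * f + _),
        eq_inv_mul_iff_mul_eq.2 e, relΓ.inv (by omega) (ok_refl _ _), mul_assoc, mul_assoc,
        rg_sq (by omega), mul_one]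
    have e3 : α (c * (f * f)) + α c * (f * f) = 0 :=
      RZ.ld (r := 43) (by omega) (by rw [e2]; exact RZ.mU (by omega) _)
    rw [e3, xx_zero] at e2
    exact ⟨relΓ.eq_of_add e3,
      (relΓ.eq_of_add (relΓ.inj 44 (by omega) _ (ok_refl _ _) e2.symm)).symm⟩
  have two : ∀ e : F, e + e = 0 := relΓ.two
  have a1 : ∀ f, α (f * f) = α 1 * (f * f) := fun f => by simpa using (key 1 f).1
  have b1 : ∀ f, β (f * f) = α 1 * f + f := fun f => by
    have := (key 1 f).2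
    rw [one_mul, one_mul] at this
    rw [this, add_comm f, add_assoc, two, add_zero]
  have a0 : α 1 = 1 := by
    obtain ⟨e, e0, e1⟩ : ∃ e : F, e ≠ 0 ∧ e ≠ 1 := by
      by_contra hc
      push Not at hc
      exact hq (Nat.card_eq_two_iff' (0 : F) |>.2 ⟨1, one_ne_zero, fun y hy => hc y hy⟩)
    have := (key (e * e) 1).2
    simp only [mul_one] at this
    rw [a1, b1] at this
    have e3 : (α 1 - 1) * (e * (e - 1)) = 0 := by linear_combination this + two e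
    exact sub_eq_zero.1 ((mul_eq_zero.1 e3).resolve_right (mul_ne_zero e0 (sub_ne_zero.2 e1)))
  have fx : ∀ c, α c = c ∧ β c = 0 := fun c => by
    obtain ⟨d, hd⟩ := (bijective_frobenius F 2).2 c
    rw [frobenius_def, pow_two] at hd
    rw [← hd, a1, b1, a0, one_mul, one_mul, two]
    exact ⟨rfl, rfl⟩
  intro v hv
  induction hv using closure_induction with
  | mem g hg =>
    obtain ⟨r, hr, e, -, rfl⟩ := hg
    by_cases c : r = 44
    · rw [c, f44]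
    · have r1 := hr.1
      have r2 := hr.2
      rw [k r (by interval_cases r <;> simp_all), (fx e).1, (fx e).2, xx_zero, one_mul]
  | one => exact h.map_one
  | mul a b ha hb h1 h2 => rw [h.mul a (s1_QP (s1_VQ ha)) b (s1_QP (s1_VQ hb)), h1, h2]
  | inv a ha h1 => rw [h.map_inv (s1_QP (s1_VQ ha)), h1]

end Cfsg.Agent.F4Q
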