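import Mathlib
import Cfsg.Agent.F4Q.S1D

/-! Step 1 (part of `F4Q/St1`; kit: `F4Q/S1D`, `Nf`, `Mod`, `Rig`, `RigZ`): `θ` on `Q`. -/

set_option autoImplicit false

namespace Cfsg.Agent.F4Q

open Cfsg.Lie Cfsg.Agent.Chev Subgroup Cfsg.Agent.PLocal.Amb
open Cfsg.Agent.F42S (lg ip ad gm sm sr Mo aw)
open Cfsg.Agent.FinS (Rt Rg Uf)
open scoped commutatorElement


variable {F : Type*} [Field F] [Finite F] [CharP F 2] {θ : Γ F → Γ F}

namespace S1e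

/-- `q x_r(a) q⁻¹ = x_r(a) x₄₄(μ a)` -/
def Cj (q : Γ F) (r : ℕ) (μ : F) : Prop := ∀ a, q * xx r a * q⁻¹ = xx r a * xx 44 (μ * a)

theorem ad44 (a b : F) : (xx 44 a : Γ F) * xx 44 b = xx 44 (a + b) :=
  relΓ.add 44 (by omega) a b (ok_refl _ _) (ok_refl _ _)

theorem cz {p : Γ F} (hp : p ∈ UU F 15) (x : Γ F) (c : F) :
    p * (x * xx 44 c) * p⁻¹ = p * x * p⁻¹ * xx 44 c := by
  rw [← mul_assoc, mul_assoc (p * x), ← (s1_c44 (inv_mem hp) c).eq, ← mul_assoc]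

theorem Cj.one (r : ℕ) : Cj (1 : Γ F) r 0 := fun a => by
  rw [zero_mul, xx_zero, mul_one, inv_one, one_mul, mul_one]

theorem Cj.mul {p q : Γ F} {r : ℕ} {μ ν : F} (hp : p ∈ UU F 33) (h1 : Cj p r μ) (h2 : Cj q r ν) :
    Cj (p * q) r (μ + ν) := fun a => by
  rw [show p * q * xx r a * (p * q)⁻¹ = p * (q * xx r a * q⁻¹) * p⁻¹ by group, h2, cz (s1_QP hp), h1,
    mul_assoc, ad44, add_mul]

theorem Cj.inv {p : Γ F} {r : ℕ} {μ : F} (hp : p ∈ UU F 33) (h1 : Cj p r μ) : Cj p⁻¹ r μ := fun a => by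
  have e := cz (s1_QP hp) (xx r a) (μ * a)
  rw [h1, mul_assoc (xx r a) (xx 44 _) (xx 44 _), rg_sq (r := 44) (by omega), mul_one] at e
  nth_rw 1 [← e]
  group

set_option synthInstance.maxSize 4000 in
theorem Cj.gen {r s : ℕ} (hr : 33 ≤ r ∧ r ≤ 40) (hs : 33 ≤ s ∧ s < 48) (m : F) :
    Cj (xx s m) r (if s + r = 73 then m else 0) := fun a => by
  have t : ∀ r < 41, 33 ≤ r → ∀ s < 48, 33 ≤ s → (s + r = 73 → lg r = false ∧ lg s = false ∧ ip r s = 6 ∧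
      ad r s = 44) ∧ (s + r ≠ 73 → ¬ Nz s r) := by decide +kernel
  obtain ⟨t1, t2⟩ := t r (by omega) hr.1 s hs.2 hs.1
  split_ifs with k
  · obtain ⟨a1, a2, a3, a4⟩ := t1 k
    have e := (relΓ (F := F)).cs r (by omega) s hs.2 a1 a2 a3 a m
    rw [a4] at e
    rw [e, mul_assoc (xx r a), (s1_c44 (RZ.mU (k := 15) (r := s) (by omega) m) _).eq, ← mul_assoc,
      mul_inv_cancel_right, mul_comm m a]
    rfl
  · rw [zero_mul, xx_zero, mul_one,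
      (RZ.c0 ⟨by omega, hs.2, by omega, by omega, t2 k⟩ m a).eq, mul_inv_cancel_right]

theorem Cj.ex {r : ℕ} (hr : 33 ≤ r ∧ r ≤ 40) {q : Γ F} (hq : q ∈ UU F 33) : ∃ μ, Cj q r μ := by
  induction hq using closure_induction with
  | mem g hg =>
    obtain ⟨s, hs, e, -, rfl⟩ := hg
    exact ⟨_, Cj.gen hr hs e⟩
  | one => exact ⟨_, Cj.one r⟩
  | mul a b ha _ h1 h2 =>
    obtain ⟨μ, h1⟩ := h1
    obtain ⟨ν, h2⟩ := h2
    exact ⟨_, h1.mul ha h2⟩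
  | inv a ha h1 =>
    obtain ⟨μ, h1⟩ := h1
    exact ⟨_, h1.inv ha⟩

theorem Cj.pr {r : ℕ} (hr : 33 ≤ r ∧ r ≤ 40) (c : ℕ → F) (l : List ℕ) (hl : ∀ s ∈ l, 33 ≤ s ∧ s < 48) :
    Cj (pr xx l c) r (l.map fun s => if s + r = 73 then c s else 0).sum := by
  induction l with
  | nil => exact Cj.one r
  | cons s l ih =>
    rw [pr_cons, List.map_cons, List.sum_cons]
    exact (Cj.gen hr (hl s List.mem_cons_self) _).mul (RZ.mU (hl s List.mem_cons_self) _)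
      (ih fun t ht => hl t (List.mem_cons_of_mem _ ht))

theorem exq (φ : ℕ → F) : ∃ q ∈ UU F 33, ∀ r, 33 ≤ r → r ≤ 40 → Cj q r (φ r) := by
  refine ⟨pr xx [33, 34, 35, 36, 37, 38, 39, 40] fun s => φ (73 - s),
    Rel.pr_mem fun s hs => RZ.mU (by simp at hs; omega) _, fun r h1 h2 => ?_⟩
  have := Cj.pr (F := F) ⟨h1, h2⟩ (fun s => φ (73 - s)) [33, 34, 35, 36, 37, 38, 39, 40] (by simp)
  interval_cases r <;> simpa using this

theorem kl (r s t : ℕ) (h : r < 48 ∧ s < 48 ∧ lg r = true ∧ lg s = true ∧ ip r s = 4 ∧ ad r s = t ∧ t < 48 ∧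
    (r ≠ 47 - t ∧ ¬ Nz t r) ∧ s ≠ 47 - t ∧ ¬ Nz t s) (m : F) :
    ⁅xx s (1 : F), xx r m⁆ = (xx t m : Γ F) := by
  obtain ⟨h1, h2, h3, h4, h5, rfl, h6, h7, h8⟩ := h
  have e := RZ.of_rel ((relΓ (F := F)).cl r h1 s h2 h3 h4 h5 m 1 rfl rfl) (xx_comm h6 h2 h8 _ _)
    (xx_comm h6 h1 h7 _ _)
  rwa [mul_one] at e

theorem k0 (r s : ℕ) (h : r < 48 ∧ s < 48 ∧ r ≠ 47 - s ∧ ¬ Nz s r) (m : F) :
    ⁅xx s (1 : F), xx r m⁆ = (1 : Γ F) := (xx_comm h.2.1 h.1 h.2.2 _ _).commutator_eq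

theorem cmV {x g l : Γ F} (hx : x ∈ UU F 15) (hg : g ∈ UU F 41) (hl : l ∈ UU F 41) :
    ⁅x, g * l⁆ = ⁅x, g⁆ * ⁅x, l⁆ := by
  have m : ⁅x, l⁆ ∈ UU F 41 := by
    rw [commutatorElement_def]
    exact mul_mem (s1_nV hx hl) (inv_mem hl)
  rw [RZ.cmul, (s1_cV hg (s1_VQ m)).eq, mul_inv_cancel_right]

theorem cmpr {x : Γ F} (hx : x ∈ UU F 15) (c : ℕ → F) (l : List ℕ) (hl : ∀ s ∈ l, 41 ≤ s ∧ s < 48) :
    ⁅x, pr xx l c⁆ = (l.map fun s => ⁅x, xx s (c s)⁆).prod := by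
  induction l with
  | nil => simp [pr]
  | cons s l ih =>
    have hl' : ∀ t ∈ l, 41 ≤ t ∧ t < 48 := fun t ht => hl t (List.mem_cons_of_mem _ ht)
    rw [pr_cons, List.map_cons, List.prod_cons, cmV hx (RZ.mU (hl s List.mem_cons_self) _)
      (Rel.pr_mem fun t ht => RZ.mU (hl' t ht) _), ih hl']

theorem zz {t t' : ℕ} (h : 41 ≤ t ∧ t < 44 ∧ 44 < t' ∧ t' < 48) {c c' d : F}
    (e : (xx t c * xx t' c' : Γ F) = xx 44 d) : c = 0 ∧ c' = 0 := by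
  have h1 : c = 0 := RZ.ld (r := t) (by omega) (by
    rw [← mul_mem_cancel_right (RZ.mU (k := t + 1) (r := t') (by omega) c'), e]
    exact RZ.mU (by omega) _)
  rw [h1, xx_zero, one_mul] at e
  have h2 : d = 0 := RZ.ld (r := 44) (by omega) (e ▸ RZ.mU (by omega) _)
  rw [h2, xx_zero] at e
  exact ⟨h1, relΓ.inj t' h.2.2.2 c' (ok_refl _ _) e⟩

/-- an element of `V` centralized modulo `X₄₄` by `x₂₁(1)`, `x₂₄(1)`, `x₂₅(1)` lies in `X₄₄` -/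
theorem inZ {v : Γ F} (hv : v ∈ UU F 41) (h : ∀ s ∈ [21, 24, 25], ∃ d, ⁅xx s (1 : F), v⁆ = xx 44 d) :
    ∃ d, v = xx 44 d := by
  obtain ⟨c, rfl⟩ := s1_nfV hv
  obtain ⟨d1, e1⟩ := h 21 (by simp)
  obtain ⟨d2, e2⟩ := h 24 (by simp)
  obtain ⟨d3, e3⟩ := h 25 (by simp)
  rw [cmpr (RZ.mU (by omega) _) _ _ (by simp)] at e1 e2 e3
  simp only [List.map_cons, List.map_nil, List.prod_cons, List.prod_nil, mul_one] at e1 e2 e3
  rw [k0 41 21 (by decide +kernel), k0 42 21 (by decide +kernel), kl 43 21 41 (by decide +kernel),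
    k0 44 21 (by decide +kernel), k0 45 21 (by decide +kernel), k0 46 21 (by decide +kernel),
    kl 47 21 45 (by decide +kernel)] at e1
  rw [kl 41 24 42 (by decide +kernel), k0 42 24 (by decide +kernel), k0 43 24 (by decide +kernel),
    k0 44 24 (by decide +kernel), k0 45 24 (by decide +kernel), kl 46 24 47 (by decide +kernel),
    k0 47 24 (by decide +kernel)] at e2
  rw [k0 41 25 (by decide +kernel), kl 42 25 43 (by decide +kernel), k0 43 25 (by decide +kernel),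
    k0 44 25 (by decide +kernel), kl 45 25 46 (by decide +kernel), k0 46 25 (by decide +kernel),
    k0 47 25 (by decide +kernel)] at e3
  simp only [one_mul, mul_one] at e1 e2 e3
  obtain ⟨a1, a2⟩ := zz (by omega) e1
  obtain ⟨a3, a4⟩ := zz (by omega) e2
  obtain ⟨a5, a6⟩ := zz (by omega) e3
  exact ⟨c 44, by simp [pr, a1, a2, a3, a4, a5, a6, xx_zero]⟩

theorem t40 (h : Ac θ) {a : F} (h1 : xx 40 a * θ (xx 40 a) ∈ UU F 41) :
    ∃ d, θ (xx 40 a) = xx 40 a * xx 44 d := by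
  obtain ⟨d, e⟩ := inZ h1 fun s hs => by
    have t : s < 48 ∧ 15 ≤ s ∧ 40 ≠ 47 - s ∧ ¬ Nz s 40 := by
      revert s; decide +kernel
    have c : Commute (xx s (1 : F)) (xx 40 a) := xx_comm t.1 (by omega) t.2.2 _ _
    have hp : xx s (1 : F) ∈ UU F 15 := RZ.mU ⟨t.2.1, t.1⟩ _
    obtain ⟨b, e⟩ := h.eqQ hp (RZ.mU (k := 33) (r := 40) (by omega) a)
    rw [c.eq, mul_inv_cancel_right] at e
    have mq := h.memQ (RZ.mU (k := 33) (r := 40) (by omega) a)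
    refine ⟨b, RZ.peel ?_ c (s1_c44 (RZ.mU (by omega) _) b)⟩
    generalize θ (xx 40 a) = y at e mq
    have e2 : xx s (1 : F) * y * (xx s 1)⁻¹ = xx 44 b * y := by
      rw [← (s1_c44 (s1_QP mq) b).eq]
      nth_rw 2 [e]
      rw [mul_assoc _ (xx 44 b), rg_sq (r := 44) (by omega), mul_one]
    rw [commutatorElement_def, e2, mul_inv_cancel_right]
  exact ⟨d, by rw [← e, ← mul_assoc, rg_sq (r := 40) (by omega), one_mul]⟩

theorem tr (h : Ac θ) {f : F → F} (hf : ∀ a, θ (xx 40 a) = xx 40 a * xx 44 (f a)) {r : ℕ}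
    (hr : 33 ≤ r ∧ r ≤ 40) : ∃ μ, ∀ a, θ (xx r a) = xx r a * xx 44 (μ * a + f a) := by
  have t : ∀ r < 41, 33 ≤ r → ∃ w ∈ [[], [1], [2, 1], [3, 2, 1], [1, 3, 2, 1], [1, 2, 1], [3, 1, 2, 1],
      [2, 1, 3, 2, 1], [1, 2, 1, 3, 2, 1]], (∀ i ∈ w, 1 ≤ i ∧ i < 4) ∧ aw w 40 = r := by decide +kernel
  obtain ⟨w, -, hw, e⟩ := t r (by omega) hr.1
  have hn : ww xx w ∈ UU F 15 := s1_ww hw
  obtain ⟨q, hq, eq⟩ := h.exQ hn
  obtain ⟨μ, hμ⟩ := Cj.ex hr hq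
  refine ⟨μ, fun a => ?_⟩
  have e1 := xx_ww (fun i hi => (hw i hi).2) (r := 40) (by omega) a
  rw [e] at e1
  have e2 := h.map_conj hn (RZ.mU (k := 15) (r := 40) (by omega) a)
  rw [e1, hf, eq, cz (mul_mem (s1_QP hq) hn),
    show ∀ x, q * ww xx w * x * (q * ww xx w)⁻¹ = q * (ww xx w * x * (ww xx w)⁻¹) * q⁻¹ from fun x => by group,
    e1, hμ, mul_assoc, ad44] at e2
  exact e2

theorem lin (h : Ac θ) {f : F → F} (hf : ∀ a, θ (xx 40 a) = xx 40 a * xx 44 (f a)) :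
    ∃ κ, ∀ a, f a = κ * a := by
  obtain ⟨μ, hμ⟩ := tr h hf (r := 39) (by omega)
  have hp : xx 27 (1 : F) ∈ UU F 15 := RZ.mU (by omega) _
  obtain ⟨q, hq, eq⟩ := h.exQ hp
  obtain ⟨ν, hν⟩ := Cj.ex (r := 39) (by omega) hq
  obtain ⟨κ, hκ⟩ := Cj.ex (r := 40) (by omega) hq
  refine ⟨ν + κ, fun a => ?_⟩
  have e1 : (xx 27 1 * xx 39 a * (xx 27 1)⁻¹ : Γ F) = xx 39 a * xx 40 a := by
    have e := (relΓ (F := F)).cs 39 (by omega) 27 (by omega) (by decide +kernel) (by decide +kernel)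
      (by decide +kernel) a 1
    rw [show ad 39 27 = 40 by decide +kernel, mul_one] at e
    rw [e, mul_assoc (xx 39 a), (RZ.c0 (r := 27) (s := 40) (by decide +kernel) _ _).eq, ← mul_assoc,
      mul_inv_cancel_right]
    rfl
  have m39 : xx 39 a ∈ UU F 15 := RZ.mU (by omega) _
  have m40 : xx 40 a ∈ UU F 15 := RZ.mU (by omega) _
  have e2 := h.map_conj hp m39
  rw [e1, h.mul _ m39 _ m40, hf, hμ, eq, cz (mul_mem (s1_QP hq) hp),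
    show ∀ x, q * xx 27 1 * x * (q * xx 27 1)⁻¹ = q * (xx 27 1 * x * (xx 27 1)⁻¹) * q⁻¹ from fun x => by group,
    e1, ← conj_mul, hν, hκ] at e2
  simp only [mul_assoc] at e2
  rw [mul_right_inj, ← mul_assoc (xx 44 _) (xx 40 a), ← mul_assoc (xx 44 _) (xx 40 a), ← (s1_c44 m40 _).eq,
    ← (s1_c44 m40 _).eq] at e2
  simp only [mul_assoc, mul_right_inj, ad44] at e2
  have e3 := relΓ.eq (r := 44) (by omega) (ok_refl _ _) (ok_refl _ _) e2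
  linear_combination e3

end S1e

open S1e in
/-- `θ x₄₀(a) = x₄₀(a) v`, `v ∈ V`; `x_s(c)` commutes with `x₄₀(a)` for `s = 21..26`, so `⁅v, x_s(c)⁆ ∈ X₄₄`
(`Ac.eqQ`), so `v = x₄₄(f a)` (`s1_nfV`; `A₂` on `V / X₄₄ = 3 + 3*`).  For `q ∈ Q`, `33 ≤ r ≤ 40` there is `μ` with
`q x_r(a) q⁻¹ = x_r(a) x₄₄(μ a)` for all `a` (closure induction; `x_{73 - r}(m)` gives `μ = m`, the other
generators `μ = 0`).  So `θ x_r(a) = x_r(a) x₄₄(f a + μ_r a)` (`θ n = q n`, `Ac.exQ`, `n = ww xx w ∈ P` moves `40` to `r`),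
and `f` is linear (apply `θ` to `x₂₇(1) x₃₉(a) x₂₇(1) = x₃₉(a) x₄₀(a)`, `θ x₂₇(1) = q' x₂₇(1)`).  So
`θ x_r(a) = x_r(a) x₄₄(φ_r a)`; `q = ∏ x_{73 - r}(φ_r)`; closure induction on `u`. -/
theorem Ac.two' (h : Ac θ) (h1 : ∀ r, 33 ≤ r → r ≤ 40 → ∀ a, xx r a * θ (xx r a) ∈ UU F 41)
    (h2 : ∀ v ∈ UU F 41, θ v = v) : ∃ q ∈ UU F 33, ∀ u ∈ UU F 33, θ u = q * u * q⁻¹ := by
  choose f hf using fun a => t40 h (h1 40 (by omega) le_rfl a)
  obtain ⟨κ, hκ⟩ := lin h hf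
  have k : ∀ r, ∃ φ : F, 33 ≤ r → r ≤ 40 → ∀ a, θ (xx r a) = xx r a * xx 44 (φ * a) := fun r => by
    by_cases hr : 33 ≤ r ∧ r ≤ 40
    · obtain ⟨μ, hμ⟩ := tr h hf hr
      exact ⟨μ + κ, fun _ _ a => by rw [hμ, hκ, add_mul]⟩
    · exact ⟨0, fun a b => absurd ⟨a, b⟩ hr⟩
  choose φ hφ using k
  obtain ⟨q, hq, e⟩ := exq φ
  refine ⟨q, hq, fun u hu => ?_⟩
  induction hu using closure_induction with
  | mem g hg =>
    obtain ⟨s, hs, a, -, rfl⟩ := hg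
    by_cases k : s ≤ 40
    · rw [hφ s hs.1 k, e s hs.1 k]
    · have m : xx s a ∈ UU F 41 := RZ.mU ⟨by omega, hs.2⟩ a
      rw [h2 _ m, ← (s1_cV m hq).eq, mul_inv_cancel_right]
  | one => rw [h.map_one, mul_one, mul_inv_cancel]
  | mul a b ha hb h3 h4 => rw [h.mul _ (s1_QP ha) _ (s1_QP hb), h3, h4, conj_mul]
  | inv a ha h3 => rw [h.map_inv (s1_QP ha), h3, conj_inv]

end Cfsg.Agent.F4Q
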