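import Mathlib
import Cfsg.Agent.F4Q.S1D

/-! Step 1, torus kit. -/

set_option autoImplicit false

namespace Cfsg.Agent.F4Q

open Cfsg.Lie Cfsg.Agent.Chev Subgroup Cfsg.Agent.PLocal.Amb
open Cfsg.Agent.F42S (lg ip ad gm sm sr Mo aw)
open Cfsg.Agent.FinS (Rt Rg Uf)
open scoped commutatorElement


variable {F : Type*} [Field F] [Finite F] [CharP F 2] {θ : Γ F → Γ F} {k : Γ F} {χ : ℕ → F}

theorem Tor.ad (t : Tor k χ) (r s x : ℕ) (e : r < 48 ∧ s < 48 ∧ ad r s = x ∧ x < 48) : χ x = χ r * χ s := by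
  rw [← e.2.2.1]
  exact t.mul _ e.1 _ e.2.1 (by omega)

theorem Tor.pr (t : Tor k χ) {l : List ℕ} (hl : ∀ r ∈ l, r < 48) (c : ℕ → F) :
    k * pr xx l c * k⁻¹ = pr xx l fun r => χ r * c r := by
  induction l with
  | nil => simp [F4Q.pr]
  | cons a l ih =>
    rw [List.forall_mem_cons] at hl
    rw [pr_cons, pr_cons, ← conj_mul, ih hl.2, t.conj a hl.1]

/-- the fixed points of a torus element in `UU m` -/
theorem Tor.fix (t : Tor k χ) {m : ℕ} (hm : 24 ≤ m) {v : Γ F} (hv : v ∈ UU F m) (e : Commute k v)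
    {S : Set ℕ} (hS : ∀ r, m ≤ r → r < 48 → χ r = 1 → r ∈ S) : v ∈ XL F S := by
  obtain ⟨c, -, c0, rfl⟩ := relΓ.nf (idl_up (fun r hr => ⟨hm.trans hr.1, hr.2⟩) hm)
    (fun r hr => hm.trans hr.1) hv
  have e1 := t.pr (l := List.range' 24 24) (by decide) c
  rw [e.eq, mul_inv_cancel_right] at e1
  refine Rel.pr_mem fun r hr => ?_
  rw [List.mem_range'_1] at hr
  by_cases c1 : c r = 0
  · rw [c1, xx_zero]
    exact one_mem _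
  have e2 := relΓ.nf_inj (fun r => ok_refl r _) (fun r => ok_refl r _) e1 hr.1 hr.2
  exact RZ.mX (hS r (not_lt.1 fun l => c1 (c0 r fun a => absurd a.1 (not_le.2 l))) hr.2
    ((mul_eq_right₀ c1).1 e2.symm)) _

/-- the values of a character in terms of `χ 27, χ 28, χ 29, χ 44` -/
theorem Tor.val (t : Tor k χ) :
    (χ 45 = χ 44 * χ 27 ∧ χ 46 = χ 44 * χ 28 ∧ χ 47 = χ 44 * χ 29) ∧
    (χ 43 = χ 44 * (χ 27)⁻¹ ∧ χ 42 = χ 44 * (χ 28)⁻¹ ∧ χ 41 = χ 44 * (χ 29)⁻¹) ∧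
    (χ 20 = (χ 27)⁻¹ ∧ χ 19 = (χ 28)⁻¹ ∧ χ 18 = (χ 29)⁻¹) ∧
    (χ 24 = χ 29 * (χ 28)⁻¹ ∧ χ 25 = χ 28 * (χ 27)⁻¹ ∧ χ 26 = χ 29 * (χ 27)⁻¹) ∧
    (χ 23 = χ 28 * (χ 29)⁻¹ ∧ χ 22 = χ 27 * (χ 28)⁻¹ ∧ χ 21 = χ 27 * (χ 29)⁻¹) ∧
    (χ 30 = χ 28 * χ 27 ∧ χ 31 = χ 29 * χ 27 ∧ χ 32 = χ 29 * χ 28) ∧
    (χ 17 = (χ 28)⁻¹ * (χ 27)⁻¹ ∧ χ 16 = (χ 29)⁻¹ * (χ 27)⁻¹ ∧ χ 15 = (χ 29)⁻¹ * (χ 28)⁻¹) ∧
    χ 44 = χ 33 ^ 2 * (χ 27 * χ 28 * χ 29) := by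
  have a20 : χ 20 = (χ 27)⁻¹ := t.neg 27 (by omega)
  have a19 : χ 19 = (χ 28)⁻¹ := t.neg 28 (by omega)
  have a18 : χ 18 = (χ 29)⁻¹ := t.neg 29 (by omega)
  refine ⟨⟨t.ad 44 27 45 (by decide +kernel), t.ad 44 28 46 (by decide +kernel),
      t.ad 44 29 47 (by decide +kernel)⟩,
    ⟨a20 ▸ t.ad 44 20 43 (by decide +kernel), a19 ▸ t.ad 44 19 42 (by decide +kernel),
      a18 ▸ t.ad 44 18 41 (by decide +kernel)⟩, ⟨a20, a19, a18⟩,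
    ⟨a19 ▸ t.ad 29 19 24 (by decide +kernel), a20 ▸ t.ad 28 20 25 (by decide +kernel),
      a20 ▸ t.ad 29 20 26 (by decide +kernel)⟩,
    ⟨a18 ▸ t.ad 28 18 23 (by decide +kernel), a19 ▸ t.ad 27 19 22 (by decide +kernel),
      a18 ▸ t.ad 27 18 21 (by decide +kernel)⟩,
    ⟨t.ad 28 27 30 (by decide +kernel), t.ad 29 27 31 (by decide +kernel), t.ad 29 28 32 (by decide +kernel)⟩,
    ⟨a19 ▸ a20 ▸ t.ad 19 20 17 (by decide +kernel), a18 ▸ a20 ▸ t.ad 18 20 16 (by decide +kernel),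
      a18 ▸ a19 ▸ t.ad 18 19 15 (by decide +kernel)⟩, ?_⟩
  rw [t.ad 33 40 44 (by decide +kernel), t.ad 37 29 40 (by decide +kernel), t.ad 34 28 37 (by decide +kernel),
    t.ad 33 27 34 (by decide +kernel)]
  ring

/-- the torus `T₁ ≤ P`: `χ 44 = 1`, and `χ 27, χ 28, χ 29` are arbitrary -/
theorem exists_T1 {a b c : F} (ha : a ≠ 0) (hb : b ≠ 0) (hc : c ≠ 0) :
    ∃ (k : Γ F) (χ : ℕ → F), Tor k χ ∧ χ 44 = 1 ∧ χ 27 = a ∧ χ 28 = b ∧ χ 29 = c := by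
  obtain ⟨d, hd⟩ := (bijective_frobenius F 2).2 (a * b * c)⁻¹
  rw [frobenius_def] at hd
  have n : a * b * c ≠ 0 := mul_ne_zero (mul_ne_zero ha hb) hc
  obtain ⟨k, χ, t, e1, e2, e3, e4⟩ := exists_tor (c * b⁻¹) (b * a⁻¹) a d (mul_ne_zero hc (inv_ne_zero hb))
    (mul_ne_zero hb (inv_ne_zero ha)) ha fun e => inv_ne_zero n (by rw [← hd, e, zero_pow two_ne_zero])
  have e5 : χ 28 = b := by rw [t.ad 25 27 28 (by decide +kernel), e2, e3, inv_mul_cancel_right₀ ha]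
  have e6 : χ 29 = c := by rw [t.ad 24 28 29 (by decide +kernel), e1, e5, inv_mul_cancel_right₀ hb]
  exact ⟨k, χ, t, by rw [t.val.2.2.2.2.2.2.2, e4, e3, e5, e6, hd, inv_mul_cancel₀ n], e3, e5, e6⟩

theorem s1_three (hq : Nat.card F ≠ 2) : ∃ c : F, c ≠ 0 ∧ c ≠ 1 := by
  by_contra hn
  refine hq (Nat.card_eq_two_iff.2 ⟨0, 1, zero_ne_one, Set.eq_univ_of_forall fun c => ?_⟩)
  by_contra r
  exact hn ⟨c, fun e => r (Or.inl e), fun e => r (Or.inr e)⟩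

/-- if `θ` fixes `Q` then `θ p ∈ p V` -/
theorem Ac.exV (h : Ac θ) (h1 : ∀ u ∈ UU F 33, θ u = u) {p : Γ F} (hp : p ∈ UU F 15) :
    ∃ v ∈ UU F 41, θ p = p * v := by
  refine ⟨p⁻¹ * θ p, cQ fun s h2 h3 c => ?_, (mul_inv_cancel_left _ _).symm⟩
  have m : xx s c ∈ UU F 33 := RZ.mU ⟨h2, h3⟩ c
  have e := h.map_conj hp (s1_QP m)
  rw [h1 _ (s1_nQ hp m), h1 _ m] at e
  calc p⁻¹ * θ p * xx s c = p⁻¹ * (θ p * xx s c * (θ p)⁻¹) * θ p := by group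
    _ = _ := by rw [← e]; group

end Cfsg.Agent.F4Q
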