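import Mathlib
import Cfsg.Agent.F4Q.S1T

/-! Step 1 (part of `F4Q/St1`; kit: `F4Q/S1D`, `S1T`): `θ` on the torus `T₁`. -/

set_option autoImplicit false

namespace Cfsg.Agent.F4Q

open Cfsg.Lie Cfsg.Agent.Chev Subgroup Cfsg.Agent.PLocal.Amb
open Cfsg.Agent.F42S (lg ip ad gm sm sr Mo aw)
open Cfsg.Agent.FinS (Rt Rg Uf)
open scoped commutatorElement


variable {F : Type*} [Field F] [Finite F] [CharP F 2] {θ : Γ F → Γ F}

omit [Finite F] [CharP F 2] in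
theorem s1f_mem {l : List ℕ} (hl : ∀ r ∈ l, 41 ≤ r ∧ r < 48) (c : ℕ → F) : pr xx l c ∈ UU F 41 := by
  induction l with
  | nil => exact one_mem _
  | cons a l ih =>
    rw [List.forall_mem_cons] at hl
    rw [pr_cons]
    exact mul_mem (RZ.mU hl.1 _) (ih hl.2)

theorem s1f_mul {l : List ℕ} (hl : ∀ r ∈ l, 41 ≤ r ∧ r < 48) (c d : ℕ → F) :
    (pr xx l c * pr xx l d : Γ F) = pr xx l fun r => c r + d r := by
  induction l with
  | nil => simp [F4Q.pr]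
  | cons a l ih =>
    rw [List.forall_mem_cons] at hl
    rw [pr_cons, pr_cons, pr_cons,
      (s1_cV (s1f_mem hl.2 c) (s1_VQ (RZ.mU hl.1 (d a)))).mul_mul_mul_comm, ih hl.2,
      relΓ.add a hl.1.2 _ _ (ok_refl _ _) (ok_refl _ _)]

theorem s1f_b (h : Ac θ) {k : Γ F} {χ : ℕ → F} (t : Tor k χ) (e : χ 44 = 1) {b : F}
    (eb : θ k = k * xx 44 b) : θ k = k := by
  have m := t.memP e
  have e1 := h.map_pow m (orderOf k)
  rw [pow_orderOf_eq_one, h.map_one, eb, (s1_c44 m b).mul_pow, pow_orderOf_eq_one, one_mul] at e1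
  obtain ⟨n, hn⟩ := t.odd
  rw [hn, pow_succ, pow_mul, pow_two, s1_sqV (RZ.mU (r := 44) (by omega) b), one_pow, one_mul] at e1
  rw [eb, ← e1, mul_one]

/-- Take `h₀ ∈ T₁` with `χ 27 = χ 28 = χ 29 = ω ≠ 0, 1` (`exists_T1`, `s1_three`, `Tor.memP`), so `χ r ≠ 1` for
`r = 41..47`, `r ≠ 44` (`Tor.val`).  `θ h₀ = h₀ v₀` (`Ac.exV`), `v₀ = ∏ x_r(c_r)` (`s1_nfV`); for
`v = ∏_{r ≠ 44} x_r(d_r)`, `d_r ((χ r)⁻¹ + 1) = c_r`: `v⁻¹ θ h₀ v = h₀ x₄₄(c₄₄)` (`Tor.pr`, `s1_cV`, `s1_sqV`).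
If `k ∈ T₁` and `θ' k = k x₄₄(b)` (`θ' = v⁻¹ θ v`, `Ac.cj`) then `b = 0`: take the odd power `n = orderOf k`
(`Tor.odd`, `Ac.map_pow`, `s1_c44`).  So `θ' h₀ = h₀`.  For `k ∈ T₁`: `θ' k = k v'` commutes with `h₀` (`Tor.comm`,
`Ac.commute`), so `v' ∈ X₄₄` (`Tor.fix`), so `θ' k = k`. -/
theorem Ac.threeT (hq : Nat.card F ≠ 2) (h : Ac θ) (h1 : ∀ u ∈ UU F 33, θ u = u) :
    ∃ v ∈ UU F 41, ∀ k χ, Tor k χ → χ 44 = 1 → θ k = v * k * v⁻¹ := by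
  obtain ⟨ω, ω0, ω1⟩ := s1_three hq
  obtain ⟨g, ψ, t0, e44, e27, e28, e29⟩ := exists_T1 ω0 ω0 ω0
  have hP := t0.memP e44
  have hne : ∀ r, 41 ≤ r → r < 48 → ψ r = 1 → r ∈ ({44} : Set ℕ) := by
    obtain ⟨⟨a5, a6, a7⟩, ⟨a3, a2, a1⟩, -⟩ := t0.val
    rw [e44, one_mul] at a1 a2 a3 a5 a6 a7
    rw [e27] at a5 a3
    rw [e28] at a6 a2
    rw [e29] at a7 a1
    have ω2 : ω⁻¹ ≠ 1 := fun e => ω1 (inv_eq_one.1 e)
    intro r r1 r2 e
    interval_cases r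
    · exact absurd (a1.symm.trans e) ω2
    · exact absurd (a2.symm.trans e) ω2
    · exact absurd (a3.symm.trans e) ω2
    · rfl
    · exact absurd (a5.symm.trans e) ω1
    · exact absurd (a6.symm.trans e) ω1
    · exact absurd (a7.symm.trans e) ω1
  obtain ⟨v₀, hv₀, e0⟩ := h.exV h1 hP
  obtain ⟨c, rfl⟩ := s1_nfV hv₀
  have hl : ∀ r ∈ [41, 42, 43, 44, 45, 46, 47], 41 ≤ r ∧ r < 48 := by decide
  obtain ⟨d, hd⟩ : ∃ d : ℕ → F, ∀ r, 41 ≤ r → r < 48 → r ≠ 44 → (ψ r)⁻¹ * d r + c r + d r = 0 := by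
    refine ⟨fun r => c r / ((ψ r)⁻¹ + 1), fun r r1 r2 r3 => ?_⟩
    have n : (ψ r)⁻¹ + 1 ≠ 0 := fun e => r3 (hne r r1 r2 (inv_eq_one.1 (by
      rw [add_eq_zero_iff_eq_neg, CharTwo.neg_eq] at e
      exact e)))
    rw [add_right_comm, ← add_one_mul, mul_div_cancel₀ _ n, CharTwo.add_self_eq_zero]
  have hv := s1f_mem hl d
  have e1 := t0.inv.pr (fun r hr => (hl r hr).2) d
  have e2 := s1f_mul hl (fun r => (ψ r)⁻¹ * d r) c
  have e3 := s1f_mul hl (fun r => (ψ r)⁻¹ * d r + c r) d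
  rw [← e2, ← e1, inv_inv] at e3
  have e4 : (pr xx [41, 42, 43, 44, 45, 46, 47] fun r => (ψ r)⁻¹ * d r + c r + d r : Γ F) =
      xx 44 ((ψ 44)⁻¹ * d 44 + c 44 + d 44) := by
    simp only [pr_cons, hd 41 (by omega) (by omega) (by omega), hd 42 (by omega) (by omega) (by omega),
      hd 43 (by omega) (by omega) (by omega), hd 45 (by omega) (by omega) (by omega),
      hd 46 (by omega) (by omega) (by omega), hd 47 (by omega) (by omega) (by omega), xx_zero, one_mul]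
    exact mul_one _
  rw [e4] at e3
  have sq := s1_sqV hv
  generalize pr xx [41, 42, 43, 44, 45, 46, 47] d = v at *
  generalize pr xx [41, 42, 43, 44, 45, 46, 47] c = v₀ at *
  have h' := h.cj (s1_VQ hv)
  have h1' : ∀ u ∈ UU F 33, (fun p => v * θ p * v⁻¹) u = u := fun u hu => by
    show v * θ u * v⁻¹ = u
    rw [h1 u hu, (s1_cV hv hu).eq, mul_inv_cancel_right]
  have f0 : v * θ g * v⁻¹ = g := s1f_b h' t0 e44 (by
    show v * θ g * v⁻¹ = g * _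
    rw [← e3, e0, inv_eq_of_mul_eq_one_right sq]
    group)
  refine ⟨v⁻¹, inv_mem hv, fun k χ t e => ?_⟩
  have kP := t.memP e
  obtain ⟨v', hv', e5⟩ := h'.exV h1' kP
  have c1 := h'.commute hP kP (t0.comm t)
  rw [f0, e5] at c1
  have c2 : Commute g v' := by
    have := (t0.comm t).inv_right.mul_right c1
    rwa [inv_mul_cancel_left] at this
  obtain ⟨b, -, eb⟩ := (relΓ.mem_one (by omega)).1 (t0.fix (by omega) hv' c2 hne)
  have e6 : v * θ k * v⁻¹ = k := s1f_b h' t e (eb ▸ e5)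
  calc θ k = v⁻¹ * (v * θ k * v⁻¹) * v⁻¹⁻¹ := by group
    _ = _ := by rw [e6]

end Cfsg.Agent.F4Q
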