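import Mathlib
import Cfsg.Agent.F4Q.S1T

/-! Step 1 (part of `F4Q/St1`; kit: `F4Q/S1D`, `S1T`): `θ` on the Levi root groups. -/

set_option autoImplicit false

namespace Cfsg.Agent.F4Q

open Cfsg.Lie Cfsg.Agent.Chev Subgroup Cfsg.Agent.PLocal.Amb
open Cfsg.Agent.F42S (lg ip ad gm sm sr Mo aw)
open Cfsg.Agent.FinS (Rt Rg Uf)
open scoped commutatorElement


variable {F : Type*} [Field F] [Finite F] [CharP F 2] {θ : Γ F → Γ F} {k : Γ F} {χ : ℕ → F} {s : ℕ}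

theorem s1g_tor (h : Ac θ) (h2 : ∀ k χ, Tor k χ → χ 44 = 1 → θ k = k) (s1 : 15 ≤ s) (s2 : s ≤ 32) (t : Tor k χ)
    (e : χ 44 = 1) (c : F) : θ (xx s (χ s * c)) = k * θ (xx s c) * k⁻¹ := by
  rw [← t.conj s (by omega), h.map_conj (t.memP e) (RZ.mU (by omega) c), h2 k χ t e]

theorem s1g_fix (h : Ac θ) (h1 : ∀ u ∈ UU F 33, θ u = u) (h2 : ∀ k χ, Tor k χ → χ 44 = 1 → θ k = k) (s1 : 15 ≤ s)
    (s2 : s ≤ 32) {a b d : F} (ha : a ≠ 0) (hb : b ≠ 0) (hd : d ≠ 0) {S : Set ℕ}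
    (H : ∀ k χ, Tor k χ → χ 27 = a → χ 28 = b → χ 29 = d → χ s = 1) (h44 : 44 ∈ S) (ha' : a = 1 → 43 ∈ S ∧ 45 ∈ S)
    (hb' : b = 1 → 42 ∈ S ∧ 46 ∈ S) (hd' : d = 1 → 41 ∈ S ∧ 47 ∈ S) (c : F) :
    ∃ v ∈ XL F S, θ (xx s c) = xx s c * v := by
  obtain ⟨k, χ, t, e, rfl, rfl, rfl⟩ := exists_T1 ha hb hd
  obtain ⟨v, hv, ev⟩ := h.exV h1 (RZ.mU (k := 15) (r := s) (by omega) c)
  have := s1g_tor h h2 s1 s2 t e c
  rw [H k χ t rfl rfl rfl, one_mul, ev, ← conj_mul, t.conj s (by omega), H k χ t rfl rfl rfl, one_mul,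
    mul_right_inj, eq_mul_inv_iff_mul_eq] at this
  refine ⟨v, t.fix (by omega) hv this.symm fun r a b c => ?_, ev⟩
  obtain ⟨⟨a1, a2, a3⟩, ⟨a4, a5, a6⟩, -⟩ := t.val
  rw [e, one_mul] at a1 a2 a3 a4 a5 a6
  interval_cases r
  exacts [(hd' (inv_eq_one.1 (a6 ▸ c))).1, (hb' (inv_eq_one.1 (a5 ▸ c))).1, (ha' (inv_eq_one.1 (a4 ▸ c))).1, h44,
    (ha' (a1 ▸ c)).2, (hb' (a2 ▸ c)).2, (hd' (a3 ▸ c)).2]

theorem s1g_fin (hq : Nat.card F ≠ 2) (h : Ac θ) (h2 : ∀ k χ, Tor k χ → χ 44 = 1 → θ k = k) (s1 : 15 ≤ s) (s2 : s ≤ 32)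
    {l : List ℕ} (hl : 44 ∉ l ∧ (∀ r ∈ l, ∀ s ∈ l, 24 ≤ r ∧ r < 48 ∧ ¬ ad r s < 48) ∧ ∀ r ∈ l, r ≠ 47 - s ∧ ¬ Nz s r)
    (H : ∀ c, ∃ w ∈ XL F {r | r ∈ l}, ∃ b, θ (xx s c) = xx s c * (w * xx 44 b)) (c : F) :
    ∃ w ∈ XL F {r | r ∈ l}, θ (xx s c) = xx s c * w := by
  choose w hw β e using H
  have P : XL F {r | r ∈ l} ≤ UU F 15 := YS_mono fun r hr => by have := hl.2.1 r hr r hr; exact ⟨by omega, this.2.1⟩
  have u : ∀ a ∈ XL F {r | r ∈ l}, ∀ a' ∈ XL F {r | r ∈ l}, ∀ b b', a * xx 44 b = a' * xx 44 b' → b = b' :=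
    fun a ha a' ha' b b' e => relΓ.eq_of_add (RZ.nm (S := {r | r ∈ l}) (fun _ h => h) hl.2.1 (by omega) hl.1 (by
      rw [← relΓ.add 44 (by omega) _ _ (ok_refl _ _) (ok_refl _ _), eq_inv_mul_of_mul_eq e, mul_assoc, mul_assoc,
        relΓ.sq (by omega) (ok_refl _ _), mul_one]
      exact mul_mem (inv_mem ha) ha'))
  have ad : ∀ c d, β (c + d) = β c + β d := fun c d => u _ (hw _) _ (mul_mem (hw c) (hw d)) _ _ (by
    have m := h.mul _ (RZ.mU (k := 15) (r := s) (by omega) c) _ (RZ.mU (k := 15) (r := s) (by omega) d)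
    have c1 : Commute (xx s d) (w c * xx 44 (β c)) := (YS_comm (fun r hr _ _ =>
      xx_comm (by omega) (hl.2.1 r hr r hr).2.1 (hl.2.2 r hr) _ _) (hw c)).mul_right (s1_c44 (RZ.mU (by omega) _) _)
    rwa [relΓ.add s (by omega) _ _ (ok_refl _ _) (ok_refl _ _), e, e, e, c1.symm.mul_mul_mul_comm,
      relΓ.add s (by omega) _ _ (ok_refl _ _) (ok_refl _ _), mul_right_inj, (s1_c44 (P (hw d)) _).symm.mul_mul_mul_comm,
      relΓ.add 44 (by omega) _ _ (ok_refl _ _) (ok_refl _ _)] at m)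
  have sc : ∀ c ≠ 0, β c = β 1 := fun c hc => by
    obtain ⟨k, χ, t, e1, e2⟩ := tor2 (r := 44) (s := s) (by omega) (by omega) (by omega) (by omega) one_ne_zero hc
    have := s1g_tor h h2 s1 s2 t e1 1
    rw [e, e, ← conj_mul, ← conj_mul, t.conj s (by omega), t.conj 44 (by omega), mul_right_inj, e1, e2, mul_one,
      one_mul] at this
    exact u _ (hw _) _ (PLocal.Amb.conj_mem_of_mem_normalizer (t.norm fun r hr => (hl.2.1 r hr r hr).2.1) (hw 1)) _ _ this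
  obtain ⟨ω, ω0, ω1⟩ := s1_three hq
  have b1 : β 1 = 0 := by
    rw [← sc (ω + 1) fun e => ω1 (relΓ.eq_of_add e), ad, sc ω ω0, relΓ.two]
  have : β c = 0 := by
    by_cases hc : c = 0
    exacts [by simpa [hc] using ad 0 0, (sc c hc).trans b1]
  exact ⟨w c, hw c, by rw [e, this, xx_zero, mul_one]⟩

theorem Ac.threeL (hq : Nat.card F ≠ 2) (h : Ac θ) (h1 : ∀ u ∈ UU F 33, θ u = u)
    (h2 : ∀ k χ, Tor k χ → χ 44 = 1 → θ k = k) {s : ℕ} (s1 : 15 ≤ s) (s2 : s ≤ 32) (s3 : lg s = true) (c : F) :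
    θ (xx s c) = xx s c := by
  obtain ⟨ω, ω0, ω1⟩ := s1_three hq
  have i0 := inv_ne_zero ω0
  have i1 : ω⁻¹ ≠ 1 := fun e => ω1 (inv_eq_one.1 e)
  obtain ⟨w, hw, e⟩ := s1g_fin hq h h2 s1 s2 (l := []) (by simp) (fun c => by
    obtain ⟨v, hv, e⟩ : ∃ v ∈ XL F {44}, θ (xx s c) = xx s c * v := by
      rcases (show s ∈ [21, 22, 23, 24, 25, 26] ∨ s ∈ [16, 17, 30, 31] ∨ s ∈ [15, 32]
        by revert s3; interval_cases s <;> decide +kernel) with a | a | a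
      on_goal 1 => refine s1g_fix h h1 h2 s1 s2 ω0 ω0 ω0 (fun k χ t a1 a2 a3 => ?_) (by simp) (absurd · ω1) (absurd · ω1) (absurd · ω1) c
      on_goal 2 => refine s1g_fix h h1 h2 s1 s2 i0 ω0 ω0 (fun k χ t a1 a2 a3 => ?_) (by simp) (absurd · i1) (absurd · ω1) (absurd · ω1) c
      on_goal 3 => refine s1g_fix h h1 h2 s1 s2 ω0 i0 ω0 (fun k χ t a1 a2 a3 => ?_) (by simp) (absurd · ω1) (absurd · i1) (absurd · ω1) c
      all_goals
        have := t.val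
        fin_cases a <;> simp [this, a1, a2, a3, ω0]
    obtain ⟨b, -, rfl⟩ := (relΓ.mem_one (by omega)).1 hv
    exact ⟨1, one_mem _, b, by rw [e, one_mul]⟩) c
  rw [e, mem_bot.1 (YS_le.2 (fun r hr => by simp at hr) hw), mul_one]

theorem Ac.threeS (hq : Nat.card F ≠ 2) (h : Ac θ) (h1 : ∀ u ∈ UU F 33, θ u = u)
    (h2 : ∀ k χ, Tor k χ → χ 44 = 1 → θ k = k) {s : ℕ} (s1 : 15 ≤ s) (s2 : s ≤ 32) (s3 : lg s = false) :
    ∃ e, ∀ c, θ (xx s c) = xx s c * xx (ad 44 s) (e * c) := by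
  obtain ⟨ω, ω0, ω1⟩ := s1_three hq
  obtain ⟨p, hp, m, ⟨p1, p2⟩, ⟨m1, m2⟩, hl, r1, r2, r3, r4, cs⟩ : ∃ p, ad 44 s = p ∧ ∃ m, (41 ≤ p ∧ p < 48) ∧ (41 ≤ m ∧ m < 48) ∧
      (44 ∉ [p] ∧ (∀ r ∈ [p], ∀ s ∈ [p], 24 ≤ r ∧ r < 48 ∧ ¬ ad r s < 48) ∧ ∀ r ∈ [p], r ≠ 47 - s ∧ ¬ Nz s r) ∧
      lg m = true ∧ ip m s = 4 ∧ ad m s = 44 ∧ (p = 88 - m) ∧
      (s ∈ [20, 27] ∧ m ∈ [43, 45] ∨ s ∈ [19, 28] ∧ m ∈ [42, 46] ∨ s ∈ [18, 29] ∧ m ∈ [41, 47]) :=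
    ⟨_, rfl, ad 44 (47 - s), by revert s3; interval_cases s <;> decide +kernel⟩
  have n : ∀ {S T : Set ℕ}, (∀ r ∈ S, 41 ≤ r ∧ r < 48) → (∀ r ∈ T, 41 ≤ r ∧ r < 48) → XL F S ≤ 𝐍[XL F T] := fun hS hT =>
    le_trans (fun _ a => mem_centralizer_iff.2 fun _ b => (s1_cV (YS_mono hT b) (s1_VQ (YS_mono hS a))).eq)
      (centralizer_le_normalizer' _)
  have sq : ∀ r < 48, ∀ c : F, (xx r c : Γ F) * xx r c = 1 := fun r hr c => relΓ.sq hr (ok_refl _ _)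
  have key := s1g_fin hq h h2 s1 s2 hl fun c => by
    obtain ⟨v, hv, e⟩ : ∃ v ∈ XL F {m, p, 44}, θ (xx s c) = xx s c * v := by
      rcases cs with ⟨a, b⟩ | ⟨a, b⟩ | ⟨a, b⟩
      on_goal 1 => refine s1g_fix h h1 h2 s1 s2 one_ne_zero ω0 ω0 (fun k χ t a1 a2 a3 => ?_) (by simp) (fun _ => by
        fin_cases b <;> simp [r4]) (absurd · ω1) (absurd · ω1) c
      on_goal 2 => refine s1g_fix h h1 h2 s1 s2 ω0 one_ne_zero ω0 (fun k χ t a1 a2 a3 => ?_) (by simp) (absurd · ω1) (fun _ => by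
        fin_cases b <;> simp [r4]) (absurd · ω1) c
      on_goal 3 => refine s1g_fix h h1 h2 s1 s2 ω0 ω0 one_ne_zero (fun k χ t a1 a2 a3 => ?_) (by simp) (absurd · ω1) (absurd · ω1) (fun _ => by
        fin_cases b <;> simp [r4]) c
      all_goals
        have := t.val
        fin_cases a <;> simp [this, a1, a2, a3]
    obtain ⟨δ, -, v1⟩ := relΓ.step (S' := {p, 44}) m2 (fun _ h => h) (n (by simp [m1, m2]) (by simp [p1, p2])) hv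
    obtain ⟨ε, -, v2⟩ := relΓ.step (S' := {44}) p2 (fun _ h => h) (n (by simp [p1, p2]) (by simp)) v1
    obtain ⟨β, -, v3⟩ := (relΓ.mem_one (by omega)).1 v2
    have ev : v = xx m δ * (xx p ε * xx 44 β) := by rw [← v3, ← mul_assoc (xx p ε), sq p p2, one_mul, ← mul_assoc, sq m m2, one_mul]
    by_cases hc : c = 0
    · exact ⟨1, one_mem _, 0, by rw [hc, xx_zero, xx_zero, h.map_one, mul_one, mul_one]⟩
    have i := h.mul _ (RZ.mU (k := 15) (r := s) (by omega) c) _ (RZ.mU (k := 15) (r := s) (by omega) c)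
    have vv : v * v = 1 := s1_sqV (YS_mono (by simp [Set.subset_def, p1, p2, m1, m2]) hv)
    have cv : Commute (xx s c) v := by
      rw [sq s (by omega), h.map_one, e] at i
      rw [Commute, SemiconjBy, eq_inv_of_mul_eq_one_left i.symm, mul_inv_rev, inv_eq_of_mul_eq_one_left vv,
        inv_eq_of_mul_eq_one_left (sq s (by omega) c)]
    have cm := cv.mul_right ((xx_comm (by omega) p2 (hl.2.2 p (by simp)) c ε).mul_right
      (s1_c44 (RZ.mU (by omega) c) β)).inv_right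
    rw [ev, mul_inv_cancel_right, Commute, SemiconjBy, relΓ.cm m m2 s (by omega) r1 s3 r2 δ c rfl, r3, hp, mul_eq_left,
      mul_eq_one_iff_eq_inv] at cm
    have := RZ.nm (S := {r | r ∈ [p]}) (fun _ h => h) hl.2.1 (by omega) hl.1 (by rw [cm]; exact inv_mem (RZ.mX (by simp) _))
    rw [(mul_eq_zero.1 this).resolve_right hc, xx_zero, one_mul] at ev
    exact ⟨_, RZ.mX (by simp) ε, β, ev ▸ e⟩
  obtain ⟨w, hw, e⟩ := key 1
  obtain ⟨ε, -, rfl⟩ := (relΓ.mem_one p2).1 (YS_mono (by simp) hw)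
  refine ⟨ε, fun c => ?_⟩
  by_cases hc : c = 0
  · rw [hc, mul_zero, xx_zero, xx_zero, h.map_one, mul_one]
  obtain ⟨k, χ, t, e1, e2⟩ := tor2 (r := 44) (s := s) (by omega) (by omega) (by omega) (by omega) one_ne_zero hc
  have := s1g_tor h h2 s1 s2 t e1 1
  rwa [e, ← conj_mul, t.conj s (by omega), t.conj p p2, t.ad 44 s p ⟨by omega, by omega, hp, p2⟩, e1, e2, mul_one,
    one_mul, mul_comm c, ← hp] at this

end Cfsg.Agent.F4Q
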