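import Mathlib
import Cfsg.Agent.F4Q.St2
import Cfsg.Agent.F4Q.S1a
import Cfsg.Agent.F4Q.S1b
import Cfsg.Agent.F4Q.S1c
import Cfsg.Agent.F4Q.S1e
import Cfsg.Agent.F4Q.S1f
import Cfsg.Agent.F4Q.S1g

/-! Step 1: translations along `X₄₄` (blueprint for `q = 2`: `F42S/Rig`, `gd1`–`gd3`).  `P = UU 15 = C(x₄₄)`,
`Q = UU 33`, `V = UU 41 = Z(Q)` (`cQ`), Levi roots `15..32`; `n₂₄, n₂₅, n₂₇ ∈ P`.  The structure `Ac` is in
`F4Q/S1D`; `o2P`, `Ac.one`, `Ac.fixV` and the parts of `Ac.two`, `Ac.three` are in `F4Q/S1a`–`S1g`. -/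

set_option autoImplicit false

namespace Cfsg.Agent.F4Q

open Cfsg.Lie Cfsg.Agent.Chev Subgroup Cfsg.Agent.PLocal.Amb
open Cfsg.Agent.F42S (lg ip ad gm sm sr Mo aw)
open Cfsg.Agent.FinS (Rt Rg Uf)
open scoped commutatorElement


variable {F : Type*} [Field F] [Finite F] [CharP F 2] {G : Type*} [Group G] [Finite G]
  {j : Γ F →* G} {t : G} {O : Subgroup G} {γ : Γ F ≃* Γ F} {θ : Γ F → Γ F}

theorem Ac.two (hq : Nat.card F ≠ 2) (h : Ac θ)
    (h1 : ∀ r, 33 ≤ r → r ≤ 40 → ∀ a, xx r a * θ (xx r a) ∈ UU F 41) :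
    ∃ q ∈ UU F 33, ∀ u ∈ UU F 33, θ u = q * u * q⁻¹ := h.two' h1 (h.fixV hq h1)

theorem s1_n30 : ww (xx (F := F)) [1, 2, 1] = nY xx 30 := by
  have s : ∀ r < 48, ∀ a : F, (xx r a)⁻¹ = xx r a := fun r hr a => relΓ.inv hr (ok_refl r a)
  have i : (nY (xx (F := F)) (sm 1))⁻¹ = nY xx (sm 1) := by
    rw [nY, mul_inv_rev, mul_inv_rev, s _ (by decide), s _ (by decide), mul_assoc]
  have a := xx_wn (F := F) (i := 1) (r := 25) (by omega) (by omega) 1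
  have b := xx_wn (F := F) (i := 1) (r := 22) (by omega) (by omega) 1
  rw [show sr 1 25 = 30 by decide +kernel] at a
  rw [show sr 1 22 = 17 by decide +kernel] at b
  rw [ww_cons, ww_cons, ww_cons, show ww (xx (F := F)) [] = 1 from rfl, mul_one, ← mul_assoc]
  nth_rw 2 [← i]
  change _ * (xx 25 1 * xx 22 1 * xx 25 1) * _ = xx 30 1 * xx 17 1 * xx 30 1
  rw [← a, ← b]
  group

/-- `threeT`, `threeL`, `threeS`; `e_s` is the same for all `s` (`n₂₄, n₂₅, n₃₀` are fixed by `θ`). -/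
theorem Ac.three (hq : Nat.card F ≠ 2) (h : Ac θ) (h1 : ∀ u ∈ UU F 33, θ u = u) :
    ∃ v ∈ UU F 41, ∃ e, ∀ s, 15 ≤ s → s ≤ 32 → ∀ c,
      θ (xx s c) = v * (xx s c * if lg s = true then 1 else xx (ad 44 s) (e * c)) * v⁻¹ := by
  obtain ⟨v, hv, h2⟩ := h.threeT hq h1
  have h' := h.cj (inv_mem (s1_VQ hv))
  have k1 : ∀ u ∈ UU F 33, v⁻¹ * θ u * v⁻¹⁻¹ = u := fun u hu => by
    rw [h1 u hu, (s1_cV (inv_mem hv) hu).eq, mul_inv_cancel_right]
  have k2 : ∀ k χ, Tor k χ → χ 44 = 1 → v⁻¹ * θ k * v⁻¹⁻¹ = k := fun k χ a b => by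
    rw [h2 k χ a b]
    group
  have bk : ∀ p, θ p = v * (v⁻¹ * θ p * v⁻¹⁻¹) * v⁻¹ := fun p => by group
  generalize hθ : (fun p => v⁻¹ * θ p * v⁻¹⁻¹) = θ' at h'
  have ev : ∀ p, v⁻¹ * θ p * v⁻¹⁻¹ = θ' p := fun p => congrFun hθ p
  simp only [ev] at k1 k2 bk
  have L := fun s s1 s2 s3 c => h'.threeL hq k1 k2 (s := s) s1 s2 s3 c
  obtain ⟨e, he⟩ := h'.threeS hq k1 k2 (s := 27) (by omega) (by omega) (by decide +kernel)
  have n : ∀ r, 15 ≤ r ∧ r ≤ 32 ∧ lg r = true ∧ lg (47 - r) = true → θ' (nY xx r) = nY xx r := fun r hr => by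
    have m1 : xx r (1 : F) ∈ UU F 15 := RZ.mU (by omega) _
    have m2 : xx (47 - r) (1 : F) ∈ UU F 15 := RZ.mU (by omega) _
    rw [nY, h'.mul _ (mul_mem m1 m2) _ m1, h'.mul _ m1 _ m2, L r hr.1 hr.2.1 hr.2.2.1,
      L (47 - r) (by omega) (by omega) hr.2.2.2]
  have tr : ∀ (w : List ℕ) (s s' : ℕ), θ' (ww xx w) = ww xx w → ((∀ i ∈ w, 1 ≤ i ∧ i < 4) ∧ 15 ≤ s ∧ s < 48 ∧
      ad 44 s < 48 ∧ aw w s = s' ∧ aw w (ad 44 s) = ad 44 s') →
      (∀ c, θ' (xx s c) = xx s c * xx (ad 44 s) (e * c)) →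
      ∀ c, θ' (xx s' c) = xx s' c * xx (ad 44 s') (e * c) := fun w s s' a b d c => by
    obtain ⟨b1, b2, b3, b4, rfl, b6⟩ := b
    have hw : ∀ i ∈ w, i < 4 := fun i hi => (b1 i hi).2
    rw [← b6, ← xx_ww hw b3, ← xx_ww hw b4, h'.map_conj (s1_ww b1) (RZ.mU ⟨b2, b3⟩ c), a, d, conj_mul]
  have w2 : θ' (ww xx [2]) = ww xx [2] := by
    rw [ww_cons, show ww (xx (F := F)) [] = 1 from rfl, mul_one]
    exact n _ (by decide +kernel)
  have w3 : θ' (ww xx [3]) = ww xx [3] := by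
    rw [ww_cons, show ww (xx (F := F)) [] = 1 from rfl, mul_one]
    exact n _ (by decide +kernel)
  have w1 : θ' (ww xx [1, 2, 1]) = ww xx [1, 2, 1] := by
    rw [s1_n30]
    exact n _ (by decide +kernel)
  have e28 := tr _ 27 28 w2 (by decide +kernel) he
  have e29 := tr _ 28 29 w3 (by decide +kernel) e28
  have e19 := tr _ 27 19 w1 (by decide +kernel) he
  have e20 := tr _ 19 20 w2 (by decide +kernel) e19
  have e18 := tr _ 19 18 w3 (by decide +kernel) e19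
  refine ⟨v, hv, e, fun s s1 s2 c => ?_⟩
  rw [bk]
  congr 2
  by_cases s3 : lg s = true
  · rw [if_pos s3, mul_one, L s s1 s2 s3]
  rw [if_neg s3]
  rcases (by decide +kernel : ∀ s < 33, 15 ≤ s → ¬ lg s = true →
    s = 27 ∨ s = 28 ∨ s = 29 ∨ s = 19 ∨ s = 20 ∨ s = 18) s (by omega) s1 s3 with
    rfl | rfl | rfl | rfl | rfl | rfl
  exacts [he c, e28 c, e29 c, e19 c, e20 c, e18 c]

/-- the torus element `h_λ` -/
structure Hl (k : Γ F) (χ : ℕ → F) (l : F) : Prop extends Tor k χ where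
  lev : ∀ r, 15 ≤ r → r ≤ 32 → χ r = 1
  mid : ∀ r, 33 ≤ r → r ≤ 40 → χ r = l
  top : ∀ r, 41 ≤ r → r < 48 → χ r = l ^ 2

theorem exists_hl {l : F} (hl : l ≠ 0) : ∃ k χ, Hl k χ l := by
  obtain ⟨k, χ, t, e1, e2, e3, e4⟩ := exists_tor 1 1 1 l one_ne_zero one_ne_zero one_ne_zero hl
  have e5 : χ 28 = 1 := by rw [t.ad 25 27 28 (by decide +kernel), e2, e3, mul_one]
  have e6 : χ 29 = 1 := by rw [t.ad 24 28 29 (by decide +kernel), e1, e5, mul_one]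
  have v := t.val
  simp only [e3, e4, e5, e6, mul_one, inv_one] at v
  have a34 := t.ad 33 27 34 (by decide +kernel)
  have a35 := t.ad 33 28 35 (by decide +kernel)
  have a36 := t.ad 33 29 36 (by decide +kernel)
  have a37 := t.ad 34 28 37 (by decide +kernel)
  have a38 := t.ad 34 29 38 (by decide +kernel)
  have a39 := t.ad 35 29 39 (by decide +kernel)
  have a40 := t.ad 37 29 40 (by decide +kernel)
  simp only [e3, e4, e5, e6, mul_one] at a34 a35 a36 a37 a38 a39 a40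
  refine ⟨k, χ, t, fun r h1 h2 => ?_, fun r h1 h2 => ?_, fun r h1 h2 => ?_⟩
  · interval_cases r <;> simp only [e3, e5, e6, v]
  · interval_cases r <;> simp only [e4, a34, a35, a36, a37, a38, a39, a40]
  · interval_cases r <;> simp only [v]

theorem Hl.ac {k : Γ F} {χ : ℕ → F} {l : F} (h : Hl k χ l) : Ac fun p => k * p * k⁻¹ := by
  refine ⟨fun a _ b _ => by group, fun p _ e => by simpa using e, fun p hp => ?_,
    fun v hv => PLocal.Amb.conj_mem_of_mem_normalizer (h.toTor.norm fun _ a => a.2) hv⟩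
  refine (YS_le (H := RZ.Hc (s1_nrm (.inl rfl)) k).2 (fun r hr c _ => ⟨RZ.mU hr c, ?_⟩) hp).2
  rw [commutatorElement_def, h.conj r hr.2]
  by_cases a : r ≤ 32
  · rw [h.lev r hr.1 a, one_mul, mul_inv_cancel]
    exact one_mem _
  · exact mul_mem (RZ.mU ⟨by omega, hr.2⟩ _) (inv_mem (RZ.mU ⟨by omega, hr.2⟩ _))

omit [Finite F] [CharP F 2] in
theorem Ac.comp {θ' : Γ F → Γ F} (h : Ac θ) (h' : Ac θ') : Ac fun p => θ' (θ p) := by
  refine ⟨fun a ha b hb => by rw [h.mul a ha b hb, h'.mul _ (h.mem ha) _ (h.mem hb)],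
    fun p hp e => h.inj p hp (h'.inj _ (h.mem hp) e), fun p hp => ?_, fun v hv => h'.V _ (h.V v hv)⟩
  have := mul_mem (h'.Q _ (h.mem hp)) (h.Q p hp)
  rwa [mul_assoc, inv_mul_cancel_left] at this

/-- conjugation by the `h_μ` -/
theorem Fr.yd_of (h : Fr j t) {y : G} {a₀ e : F} (ha : a₀ ≠ 0) (h1 : y * t * y⁻¹ = t * j (xx 44 a₀))
    (h2 : ∀ s < 48, Mo 44 s → ∀ c, Commute y (j (xx s c)))
    (h3 : ∀ s < 48, lg s = false → ip 44 s = 8 → ∀ c,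
      y * j (xx s c) * y⁻¹ = j (xx s c) * j (xx (ad 44 s) (e * c))) : Yd j t (e / a₀) := fun a => by
  have t1 : ∀ s < 48, lg s = false → ip 44 s = 8 → 15 ≤ s ∧ s ≤ 32 ∧ 41 ≤ ad 44 s ∧ ad 44 s < 48 := by
    decide +kernel
  by_cases a0 : a = 0
  · subst a0
    exact ⟨1, by simp [xx_zero], fun _ _ _ _ => Commute.one_left _, fun s _ _ _ d => by simp [xx_zero]⟩
  obtain ⟨m, hm⟩ := (bijective_frobenius F 2).2 (a / a₀)
  rw [frobenius_def] at hm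
  obtain ⟨k, χ, hk⟩ := exists_hl (l := m) fun z => div_ne_zero a0 ha (by rw [← hm, z, zero_pow two_ne_zero])
  have cj : ∀ r < 48, ∀ c, j k * j (xx r c) * (j k)⁻¹ = j (xx r (χ r * c)) := fun r hr c => by
    rw [← map_inv, ← map_mul, ← map_mul, hk.conj r hr]
  have ct : j k * t * (j k)⁻¹ = t := by rw [← (h.tj k).eq, mul_inv_cancel_right]
  refine ⟨j k * y * (j k)⁻¹, ?_, fun s hs ms c => ?_, fun s hs s1 s2 c => ?_⟩
  · nth_rw 1 [← ct]
    calc _ = j k * (y * t * y⁻¹) * (j k)⁻¹ := by group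
      _ = _ := by rw [h1, ← conj_mul, ct, cj 44 (by omega), hk.top 44 (by omega) (by omega), hm,
        div_mul_cancel₀ _ ha]
  · rw [← mul_inv_cancel_left₀ (hk.ne s hs) c, ← cj s hs]
    exact (h2 s hs ms _).map (MulAut.conj (j k))
  · obtain ⟨b1, b2, b3, b4⟩ := t1 s hs s1 s2
    have c1 := cj s hs c
    rw [hk.lev s b1 b2, one_mul] at c1
    nth_rw 1 [← c1]
    calc _ = j k * (y * j (xx s c) * y⁻¹) * (j k)⁻¹ := by group
      _ = _ := by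
        rw [h3 s hs s1 s2, ← conj_mul, c1, cj _ b4, hk.top _ b3 b4, hm]
        congr 3
        ring

omit [Finite F] [CharP F 2] [Finite G] in
theorem s1_fun {y : G} (hy : y ∈ 𝐍[(UU F 15).map j]) :
    ∃ φ : Γ F → Γ F, ∀ p ∈ UU F 15, φ p ∈ UU F 15 ∧ y * j p * y⁻¹ = j (φ p) := by
  have : ∀ p : Γ F, ∃ p', p ∈ UU F 15 → p' ∈ UU F 15 ∧ y * j p * y⁻¹ = j p' := fun p => by
    by_cases hp : p ∈ UU F 15
    · obtain ⟨p', a, b⟩ := PLocal.Amb.conj_mem_of_mem_normalizer hy (mem_map_of_mem j hp)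
      exact ⟨p', fun _ => ⟨a, b.symm⟩⟩
    · exact ⟨1, fun a => absurd a hp⟩
  choose φ hφ using this
  exact ⟨φ, hφ⟩

/-- the normalizer of `j P` normalizes `j Q` -/
theorem Fr.s1_Q (h : Fr j t) {y : G} (hy : y ∈ 𝐍[(UU F 15).map j]) {u : Γ F} (hu : u ∈ UU F 33) :
    ∃ u' ∈ UU F 33, y * j u * y⁻¹ = j u' := by
  obtain ⟨φ, hφ⟩ := s1_fun hy
  obtain ⟨ψ, hψ⟩ := s1_fun (inv_mem hy)
  have k := o2P (R := (cj(y, (UU F 33).map j)).comap j) (by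
      rintro x ⟨_, ⟨q, hq, rfl⟩, e⟩
      have := hφ q (s1_QP hq)
      exact h.inj (this.2.symm.trans e) ▸ this.1)
    (fun p hp => mem_normalizer_of_cj_le (cj_le_iff_forall.2 (by
      rintro x ⟨_, ⟨q, hq, rfl⟩, e⟩
      have := hψ p hp
      refine ⟨_, mem_map_of_mem j (s1_nQ this.1 hq), ?_⟩
      change y * j q * y⁻¹ = j x at e
      change y * j _ * y⁻¹ = j _
      rw [map_mul, map_mul, map_inv, map_mul, map_mul, map_inv, ← this.2, ← e]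
      group)))
    ((((relΓ.two_SK.to_le (SK_mono (by omega))).map j).map _).comap_of_injective j h.inj)
  have := hφ u (s1_QP hu)
  exact ⟨φ u, k (show j (φ u) ∈ cj(y, (UU F 33).map j) from this.2 ▸ conj_mem_cj y (mem_map_of_mem j hu)),
    this.2⟩

omit [Finite F] [CharP F 2] [Finite G] in
theorem Fr.s1_c (h : Fr j t) {y : G} {v v' u u' : Γ F} (e1 : y * j v * y⁻¹ = j v')
    (e2 : y⁻¹ * j u * y⁻¹⁻¹ = j u') (c : Commute v u') : Commute v' u := by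
  have := (c.map j).map (MulAut.conj y)
  rw [MulAut.conj_apply, MulAut.conj_apply, e1, ← e2, show y * (y⁻¹ * j u * y⁻¹⁻¹) * y⁻¹ = j u by group] at this
  exact h.inj (by rw [map_mul, map_mul, this.eq])

/-- `q = 2`: `yd_two`.  Otherwise `g` from `Sw` normalizes `j P` (`sw_norm`), `j Q` (`o2P`), `j V`, `j X₄₄ = Z(j P)`.
`h_λ`: torus element with `χ = 1` on `15..32`, `λ` on `33..40`, `λ²` on `41..47` (`exists_tor 1 1 1 λ`), `λ ≠ 0, 1`.
`k = g h_λ g⁻¹` centralizes `t x₄₄(1)` and moves `x₄₄(1)`, so `k t k⁻¹ = t x₄₄(a')`, `a' ≠ 0`, and induces an `Ac`.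
`y = v⁻¹ q⁻¹ h_s⁻¹ k` (`one, two, three`) works for one `a ≠ 0`; conjugate by the `h_μ`; `ε = e / a`. -/
theorem Fo.yd (h : Fo j t O) (hs : Sw j t) : ∃ ε, Yd j t ε := by
  by_cases hq : Nat.card F = 2
  · exact h.yd_two hq hs
  obtain ⟨g, a1, a2⟩ := hs
  have h := h.toFr
  have hg := (h.sw_norm a1 a2).1
  obtain ⟨φ, hφ⟩ := s1_fun hg
  obtain ⟨ψ, hψ⟩ := s1_fun (inv_mem hg)
  have nV : ∀ y ∈ 𝐍[(UU F 15).map j], ∀ v ∈ UU F 41, ∃ v' ∈ UU F 41, y * j v * y⁻¹ = j v' := fun y hy v hv => by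
    obtain ⟨v', -, e⟩ := h.s1_Q hy (s1_VQ hv)
    refine ⟨v', cQ fun s s1 s2 c => ?_, e⟩
    obtain ⟨u', hu, e'⟩ := h.s1_Q (inv_mem hy) (RZ.mU ⟨s1, s2⟩ c)
    exact h.s1_c e e' (s1_cV hv hu)
  obtain ⟨l, l0, l1⟩ := s1_three hq
  obtain ⟨k, χ, hk⟩ := exists_hl l0
  have ak := hk.ac
  have ind : ∀ p ∈ UU F 15, g * j k * g⁻¹ * j p * (g * j k * g⁻¹)⁻¹ = j (φ (k * ψ p * k⁻¹)) := fun p hp => by
    rw [← (hφ _ (ak.mem (hψ p hp).1)).2, map_mul, map_mul, map_inv, ← (hψ p hp).2]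
    group
  generalize hθ : (fun p => φ (k * ψ p * k⁻¹)) = θ
  have ev : ∀ p, φ (k * ψ p * k⁻¹) = θ p := fun p => congrFun hθ p
  simp only [ev] at ind
  have ac : Ac θ := by
    refine ⟨fun a ha b hb => h.inj ?_, fun p hp e => h.inj ?_, fun p hp => ?_, fun v hv => ?_⟩
    · rw [map_mul, ← ind _ (mul_mem ha hb), ← ind a ha, ← ind b hb, map_mul, conj_mul]
    · have := ind p hp
      rwa [e, map_one, conj_eq_one_iff, ← map_one j] at this
    · obtain ⟨u, hu, e⟩ := h.s1_Q hg (ak.Q _ (hψ p hp).1)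
      refine (h.inj ?_ : u = θ p * p⁻¹) ▸ hu
      rw [← e, map_mul, map_inv, map_mul, map_mul, map_inv, map_mul, map_inv, ← ind p hp, ← (hψ p hp).2]
      group
    · obtain ⟨u, hu, e⟩ := nV _ (inv_mem hg) v hv
      obtain ⟨u', hu', e'⟩ := nV _ hg _ (ak.V u hu)
      refine (h.inj ?_ : u' = θ v) ▸ hu'
      rw [← e', map_mul, map_mul, map_inv, ← ind v (s1_QP (s1_VQ hv)), ← e]
      group
  obtain ⟨a, a0, kt⟩ : ∃ a ≠ 0, g * j k * g⁻¹ * t * (g * j k * g⁻¹)⁻¹ = t * j (xx 44 a) := by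
    have m : ∀ c : F, xx 44 c ∈ UU F 15 := fun c => RZ.mU (by omega) c
    obtain ⟨b, hb⟩ := rg_1 (r := 44) (by simp) (l := φ (xx 44 (l ^ 2))) fun s hs ms c => by
      have ms' : xx s c ∈ UU F 15 :=
        RZ.mU ⟨(by decide +kernel : ∀ s < 48, Mo 44 s → 15 ≤ s) s hs ms, hs⟩ c
      exact h.s1_c (hφ _ (m _)).2 (hψ _ ms').2 (s1_c44 (hψ _ ms').1 _).symm
    have e1 := (hφ _ (m (l ^ 2))).2
    rw [hb] at e1
    have e2 : g * j (xx 44 1) * g⁻¹ = j (xx 44 1) := by rw [a2.eq, mul_inv_cancel_right]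
    have e3 : j k * j (xx 44 1) * (j k)⁻¹ = j (xx 44 (l ^ 2)) := by
      rw [← map_inv, ← map_mul, ← map_mul, hk.conj 44 (by omega), hk.top 44 (by omega) (by omega), mul_one]
    have e4 : t = g * (t * j (xx 44 1)) * g⁻¹ := by
      rw [← conj_mul, a1, e2, mul_assoc, Fr.frm_sq (by omega), mul_one]
    refine ⟨1 + b, fun z => l1 ?_, ?_⟩
    · have b1 : b = 1 := (relΓ (F := F)).eq_of_add (by rw [add_comm, z])
      rw [b1, ← e2, mul_left_inj, mul_right_inj] at e1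
      have := (relΓ (F := F)).eq (by omega) (ok_refl _ _) (ok_refl _ _) (h.inj e1)
      rwa [pow_two, mul_self_eq_one_iff, CharTwo.neg_eq, or_self] at this
    · nth_rw 1 [e4]
      calc _ = g * (j k * t * (j k)⁻¹ * (j k * j (xx 44 1) * (j k)⁻¹)) * g⁻¹ := by group
        _ = _ := by
          rw [e3, ← (h.tj k).eq, mul_inv_cancel_right, ← conj_mul, a1, e1, mul_assoc, ← map_mul,
            relΓ.add 44 (by omega) _ _ (ok_refl _ _) (ok_refl _ _)]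
  generalize g * j k * g⁻¹ = y at ind kt
  obtain ⟨s, s0, hs⟩ := ac.one
  obtain ⟨m, μ, hm⟩ := exists_hl (inv_ne_zero s0)
  have ac1 := ac.comp hm.ac
  obtain ⟨q, hq', e1⟩ := ac1.two hq fun r r1 r2 c => by
    have := hm.ac.V _ (hs r r1 r2 c)
    rwa [← conj_mul, hm.conj r (by omega), hm.mid r r1 r2, inv_mul_cancel_left₀ s0] at this
  have ac2 := ac1.cj (inv_mem hq')
  have e2 : ∀ u ∈ UU F 33, q⁻¹ * (m * θ u * m⁻¹) * q⁻¹⁻¹ = u := fun u hu => by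
    rw [e1 u hu]
    group
  obtain ⟨v, hv, e, e3⟩ := ac2.three hq e2
  have ind' : ∀ p ∈ UU F 15, j (v⁻¹ * q⁻¹ * m) * y * j p * (j (v⁻¹ * q⁻¹ * m) * y)⁻¹ =
      j (v⁻¹ * (q⁻¹ * (m * θ p * m⁻¹) * q⁻¹⁻¹) * v) := fun p hp => by
    simp only [map_mul, map_inv, ← ind p hp]
    group
  refine ⟨_, h.yd_of (y := j (v⁻¹ * q⁻¹ * m) * y) (a₀ := s⁻¹ ^ 2 * a) (e := e)
    (mul_ne_zero (pow_ne_zero 2 (inv_ne_zero s0)) a0) ?_ (fun r hr mr c => ?_) fun r hr r1 r2 c => ?_⟩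
  · have c1 := hm.conj 44 (by omega) a
    rw [hm.top 44 (by omega) (by omega)] at c1
    have c2 := (s1_c44 (mul_mem (inv_mem (s1_QP (s1_VQ hv))) (inv_mem (s1_QP hq'))) (s⁻¹ ^ 2 * a)).eq
    calc _ = j (v⁻¹ * q⁻¹ * m) * (y * t * y⁻¹) * (j (v⁻¹ * q⁻¹ * m))⁻¹ := by group
      _ = t * j (v⁻¹ * q⁻¹ * (m * xx 44 a * m⁻¹) * (v⁻¹ * q⁻¹)⁻¹) := by
        rw [kt, ← mul_assoc, ← (h.tj _).eq]
        simp only [map_mul, map_inv]
        group
      _ = _ := by rw [c1, c2, mul_inv_cancel_right]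
  · have b := (by decide +kernel : ∀ s < 48, Mo 44 s → 33 ≤ s ∨ 15 ≤ s ∧ s ≤ 32 ∧ lg s = true) r hr mr
    refine mul_inv_eq_iff_eq_mul.1 ((ind' _ (RZ.mU (by omega) c)).trans (congrArg j ?_))
    rcases b with b | b
    · have mq : xx r c ∈ UU F 33 := RZ.mU ⟨b, hr⟩ c
      rw [e2 _ mq, (s1_cV (inv_mem hv) mq).eq, inv_mul_cancel_right]
    · rw [e3 r b.1 b.2.1, if_pos b.2.2]
      group
  · have b := (by decide +kernel : ∀ s < 48, lg s = false → ip 44 s = 8 → 15 ≤ s ∧ s ≤ 32) r hr r1 r2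
    rw [ind' _ (RZ.mU (by omega) c), e3 r b.1 b.2, if_neg (by simp [r1]), ← map_mul]
    congr 1
    group

end Cfsg.Agent.F4Q
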